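import Cfsg.Agent.H17.BmC

/-! A subgroup of `Fi23`, its index and its double cosets with `O8+(3):2`. -/

set_option autoImplicit false
set_option Elab.async false
set_option maxRecDepth 100000
set_option exponentiation.threshold 400000

namespace Cfsg.Agent.H17.BmD1

open Cfsg Cfsg.Agent.H58 Cfsg.Agent.H17

def ws : List (List ℕ) := [[2, 4], [2, 5], [2, 8], [2, 9], [2, 10], [3, 5], [3, 8], [3, 9], [3, 10], [4, 9], [4, 10], [5, 8], [5, 9], [5, 10], [8, 10], [9, 10], [6, 5, 4, 8, 7, 6, 5, 4, 3, 4, 5, 6, 7, 8, 4, 5, 6, 3], [6, 5, 4, 8, 7, 6, 5, 4, 3, 4, 5, 6, 7, 8, 4, 5, 6, 4]]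
def As : List (List ℕ) := [[], [1], [1, 2, 3, 4, 8, 9, 5, 4, 8, 6, 5, 4, 3, 2, 1], [1, 2, 3, 4, 8, 9, 6, 5, 4, 8, 7, 6, 5, 4, 3, 2, 1], [1, 2, 3, 4, 5, 6, 7, 10, 8, 9, 4, 8, 5, 6, 3, 4, 5, 2, 3, 4, 8, 9, 6, 4, 5, 2, 3, 4, 8, 7, 6, 5, 4, 3, 2, 1], [1, 2, 3, 4, 5, 6, 7, 10, 8, 9, 4, 8, 5, 6, 3, 4, 5, 2, 3, 4, 8, 9, 6, 3, 4, 5, 2, 3, 4, 8, 7, 6, 5, 4, 3, 2, 1], [1, 2, 3, 4, 8, 9, 5, 4, 8, 6, 7, 5, 6, 3, 4, 5, 2, 3, 4, 8, 9, 6, 4, 5, 2, 3, 4, 8, 1, 2, 3, 4, 5, 6, 7, 10, 7, 6, 5, 4, 8, 9, 3, 4, 8, 5, 6, 2, 3, 4, 5, 1, 2, 3, 4, 8, 9, 6, 4, 5, 2, 3, 4, 8, 7, 6, 5, 4, 3, 2, 1], [1, 2, 3, 4, 8, 9, 5, 4, 8, 6, 7, 5, 6, 3, 4, 5, 2, 3, 4, 8, 9, 6, 3, 4, 5, 2, 3, 4, 8, 1, 2, 3, 4, 5, 6, 7, 10, 7, 6, 5, 4, 8, 9, 3, 4, 8, 5, 6, 2, 3, 4, 5, 1, 2, 3,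 4, 8, 9, 6, 4, 5, 2, 3, 4, 8, 7, 6, 5, 4, 3, 2, 1]]
def d0 : DRep := ⟨0, 0, [], 6, [], [], 7, []⟩
def d1 : DRep := ⟨1, 1, [0, 17, 8, 3, 17, 1, 6, 9, 11, 9, 7, 2], 4, [10, 4, 8, 5, 6, 4, 5, 3, 4, 8, 9, 7, 6, 5, 4, 8, 2, 3, 4, 5, 6, 7, 10, 7, 6, 5, 4, 8, 9, 8, 4, 5, 3, 4, 8, 5, 6, 7, 4, 5, 6, 3, 4, 5, 2, 3, 4, 8, 9, 8, 4, 5, 3, 4, 8, 6, 7, 5, 6, 3, 4, 5, 2, 3, 4, 8, 7, 5, 6, 4, 5, 2, 3, 4], [0, 16, 15, 2, 17, 1, 6, 9, 11, 10, 5, 2], 5, [4, 3, 2, 5, 7, 6, 8, 4, 3, 2, 5, 4, 3, 6, 5, 4, 7, 6, 5, 8, 4, 5, 9, 8, 4, 3, 2, 5, 4, 3, 6, 5, 7, 6, 8, 4, 3, 5, 9, 8, 10, 7, 6, 5, 4, 3, 8, 9]⟩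
def d2 : DRep := ⟨255, 2, [16, 0, 5, 0, 11, 15, 17, 9, 11, 0, 5, 4, 17], 2, [2, 3, 7, 6, 5, 8, 4, 3, 2, 5, 4, 3, 6, 5, 4, 7, 6, 5, 8, 4, 3, 2, 5, 4, 6, 5, 7, 6, 8, 4, 5, 10, 7, 6, 5, 4, 3, 2, 8, 4, 3, 5, 4, 6, 5, 7, 6, 8, 4, 3, 2, 5, 4, 3, 10, 7, 6, 5, 4], [17, 2, 5, 0, 6, 15, 16, 9, 2, 10, 5, 0, 16], 2, [4, 3, 5, 4, 3, 6, 7, 6, 8, 4, 3, 2, 5, 4, 3, 6, 5, 4, 7, 6, 5, 8, 4, 3, 2, 5, 4, 6, 5, 7, 6, 8, 4, 3, 5, 4, 10, 7, 6, 5, 4, 3, 2, 8, 4, 3, 5, 4, 6, 5, 7, 6, 8, 4, 3, 2, 5, 10, 7, 6]⟩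
def d3 : DRep := ⟨449, 3, [0, 2, 5, 10, 6, 3, 16, 3, 6, 0, 6, 1, 10], 3, [2], [10, 2, 5, 9, 6, 3, 16, 3, 6, 0, 7, 11, 10], 3, [2, 3, 2, 5, 4, 3, 8, 4, 3, 2, 5, 4, 3, 6, 5, 4, 7, 6, 5, 8, 4, 3, 5, 4, 6, 5, 7, 6, 8, 4, 5, 9, 8, 4, 3, 2, 5, 4, 3, 6, 5, 4, 7, 6, 5, 8, 4, 3, 9, 8, 4, 10, 7, 6, 5, 4, 3, 2, 8, 4, 3, 5, 6, 7, 9, 8, 4, 10]⟩
def reps : List DRep := [d0, d1, d2, d3]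
theorem ok : allA reps (repOK B137M.nets BmP.eqA ws As (mskL BmC.cl) BmC.r1 BmC.r2) = true := by
  decide +kernel
theorem bf : Nat.beq (bfs B137M.nets ws [0, 5, 8, 0, 2, 7, 1, 10, 6, 0, 7, 1, 9, 11, 9, 6, 0, 5, 17, 3, 2, 6, 10, 8, 2, 12, 5, 14, 9, 8, 1, 16, 15, 2, 6, 9, 6, 13, 9, 1, 6, 0, 5, 16, 4, 3, 2, 16, 3, 6] (repM reps)) (Nat.pred (Nat.pow 2 137632)) = true := by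
  decide +kernel
theorem cov (d : Spor.Fi23) : DCov Fi23P.el ws As BmC.cl d := BmC.dcov ok bf d

theorem vf0 : fixErr Fi23M.nets (subW ws [[0], [1], [3], [6], [9], [16], [14], [17], [7], [11], [5], [4], [13], [2]]) [] = 0 := by decide +kernel
theorem vo0 : orbErr Fi23M.nets (subW ws [[0], [1], [3], [6], [9], [16], [14], [17], [7], [11], [5], [4], [13], [2]]) [0, 1, 2, 3, 4, 5, 6, 2, 7, 8, 9, 0, 10, 7, 6, 2, 5, 11, 7, 3, 2, 12, 7, 9, 4, 13, 5, 2] 16 15 28431 = 0 := by decide +kernel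
theorem vf1 : fixErr Fi23M.nets (subW ws [[8], [16], [0, 2, 10], [1, 6, 0, 6, 1], [2, 16, 9, 14, 16, 15, 16, 0], [0, 5, 0]]) [16] = 0 := by decide +kernel
theorem vo1 : orbErr Fi23M.nets (subW ws [[8], [16], [0, 2, 10], [1, 6, 0, 6, 1], [2, 16, 9, 14, 16, 15, 16, 0], [0, 5, 0]]) [0, 1, 2, 3, 4, 0, 5, 1, 4, 3, 2, 5, 4, 1, 0, 4, 3, 2, 0] 182 15 13440 = 0 := by decide +kernel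
theorem vf2 : fixErr Fi23M.nets (subW ws [[0, 8, 0], [5, 10, 5], [9, 6, 9, 16, 1, 16, 9, 14, 9, 16, 1, 16, 9, 6, 9, 1]]) [182, 16] = 0 := by decide +kernel
theorem vo2 : orbErr Fi23M.nets (subW ws [[0, 8, 0], [5, 10, 5], [9, 6, 9, 16, 1, 16, 9, 14, 9, 16, 1, 16, 9, 6, 9, 1]]) [0, 1, 2, 2] 6 15 12 = 0 := by decide +kernel
theorem idx : (clW Fi23P.el ws).index ≤ 891855360 :=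
  index_le_of_card (M := Fi23P.M) Fi23P.card_eq (show 28431 * (13440 * (12 * (1))) ≤ _ from
    (Fi23P.M.lev_step (subW_mem _ _ _) vf0 vo0
    (Fi23P.M.lev_step (subW_mem _ _ _) vf1 vo1
    (Fi23P.M.lev_step (subW_mem _ _ _) vf2 vo2
    (Fi23P.M.chain_base _))))) (by norm_num)

end Cfsg.Agent.H17.BmD1
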