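import Cfsg.Agent.H17.BmC

/-! A subgroup of `Fi23`, its index and its double cosets with `O8+(3):2`. -/

set_option autoImplicit false
set_option Elab.async false
set_option maxRecDepth 100000
set_option exponentiation.threshold 400000

namespace Cfsg.Agent.H17.BmD2

open Cfsg Cfsg.Agent.H58 Cfsg.Agent.H17

def ws : List (List ℕ) := [[1], [2], [3], [4], [5], [6], [7], [8], [10]]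
def As : List (List ℕ) := [[], [9, 8, 4, 3, 2, 1], [9, 8, 4, 5, 3, 4, 8, 9, 6, 5, 2, 3, 4, 8, 7, 6, 5, 4, 3, 2, 1], [9, 8, 4, 5, 6, 7, 10, 3, 4, 8, 5, 6, 2, 3, 4, 5, 1, 2, 3, 4, 8, 9, 6, 4, 5, 2, 3, 4, 8, 7, 6, 5, 4, 3, 2, 1], [9, 8, 4, 5, 3, 4, 8, 9, 6, 5, 2, 3, 4, 8, 1, 2, 3, 4, 5, 6, 7, 10, 6, 5, 4, 8, 9, 3, 4, 8, 5, 6, 2, 3, 4, 5, 1, 2, 3, 4, 8, 9, 6, 4, 5, 2, 3, 4, 8, 7, 6, 5, 4, 3, 2, 1]]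
def d0 : DRep := ⟨0, 0, [0, 1, 2, 3, 4, 5, 6, 8, 7, 3, 2, 1, 4, 3, 5], 4, [], [1, 0, 1, 2, 3, 4, 5, 6, 8, 7, 3, 2, 1, 4, 3, 5], 4, [2, 3, 2, 5, 4, 3, 8, 4, 3, 2, 5, 4, 3, 6, 5, 4, 7, 6, 5, 8, 4, 3, 5, 4, 6, 5, 7, 6, 8, 4, 5, 9, 8, 4, 3, 2, 5, 4, 3, 6, 5, 4, 7, 6, 5, 8, 4, 3, 9, 8, 4, 10, 7, 6, 5, 4, 3, 2, 8, 4, 3, 5, 6, 7, 9, 8, 4, 10]⟩
def d1 : DRep := ⟨9, 1, [4, 5, 6, 8, 3, 2, 1, 4, 3, 5, 7, 3, 2, 1, 0, 4, 5, 6, 3, 2, 1, 4, 5, 7, 3, 4, 2, 3, 7], 3, [], [0, 4, 5, 6, 8, 3, 2, 1, 4, 3, 5, 7, 3, 2, 1, 0, 4, 5, 6, 3, 2, 1, 4, 5, 7, 3, 4, 2, 3, 7], 3, [2, 3, 2, 5, 4, 3, 8, 4, 3, 2, 5, 4, 3, 6, 5, 4, 7, 6, 5, 8, 4, 3, 5, 4, 6, 5, 7, 6, 8, 4, 5, 9, 8, 4, 3, 2, 5, 4, 3, 6, 5, 4, 7, 6, 5, 8, 4, 3, 9, 8, 4, 10, 7, 6, 5, 4, 3,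 2, 8, 4, 3, 5, 6, 7, 9, 8, 4, 10]⟩
def d2 : DRep := ⟨1375, 2, [8, 1, 0, 3, 2, 1, 5, 6, 4, 5, 3, 4, 2, 3, 7, 3, 2, 1, 0, 4, 3, 2, 1, 5, 4, 3, 6, 5, 8], 2, [], [8, 1, 0, 5, 6, 7, 3, 2, 1, 4, 5, 3, 4, 2, 3, 7, 3, 2, 1, 0, 4, 3, 2, 1, 5, 4, 3, 6, 5, 8], 2, [3, 4, 3, 5, 4, 6, 7, 6, 8, 4, 3, 2, 5, 4, 3, 6, 5, 4, 7, 6, 5, 8, 4, 3, 2, 5, 4, 6, 5, 7, 6, 8, 4, 3, 5, 4, 10, 7, 6, 5, 4, 3, 2, 8, 4, 3, 5, 4, 6, 5, 7, 6, 8, 4, 3, 2, 5, 10, 7, 6]⟩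
def reps : List DRep := [d0, d1, d2]
theorem ok : allA reps (repOK B137M.nets BmP.eqA ws As (mskL BmC.cl) BmC.r1 BmC.r2) = true := by
  decide +kernel
theorem bf : Nat.beq (bfs B137M.nets ws [0, 1, 3, 5, 8, 2, 4, 6, 0, 5, 3, 1, 7, 4, 2, 3, 0, 5, 6, 8, 2, 1, 7, 4, 5, 0, 3, 2, 4, 6, 5, 3, 1, 6, 8, 7, 4, 2, 3, 1, 5, 6, 0, 4, 2, 7, 5, 8, 3, 1, 6, 4, 7, 2, 0, 3, 5, 1, 2] (repM reps)) (Nat.pred (Nat.pow 2 137632)) = true := by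
  decide +kernel
theorem cov (d : Spor.Fi23) : DCov Fi23P.el ws As BmC.cl d := BmC.dcov ok bf d

theorem vf0 : fixErr Fi23M.nets (subW ws [[1], [2], [4], [5], [6], [7], [3], [0], [8]]) [] = 0 := by decide +kernel
theorem vo0 : orbErr Fi23M.nets (subW ws [[1], [2], [4], [5], [6], [7], [3], [0], [8]]) [0, 1, 2, 3, 4, 5, 6, 2, 7, 3, 8, 0, 2, 6, 5, 1, 0, 7, 6, 2, 6, 1, 5, 0, 7, 6, 4, 3, 1, 2, 0, 6] 3318 15 18360 = 0 := by decide +kernel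
theorem vf1 : fixErr Fi23M.nets (subW ws [[0], [2, 3, 2], [3, 4, 3], [3, 7, 3], [2, 4, 3, 7, 3, 4, 2], [2, 5, 6, 5, 4, 7, 3, 8, 4, 5, 6, 5, 4, 2], [3, 5, 4, 3, 6, 5, 7, 8, 6, 2, 3, 4, 5, 3], [1, 2, 1, 7, 3, 2, 0, 1], [8]]) [3318] = 0 := by decide +kernel
theorem vo1 : orbErr Fi23M.nets (subW ws [[0], [2, 3, 2], [3, 4, 3], [3, 7, 3], [2, 4, 3, 7, 3, 4, 2], [2, 5, 6, 5, 4, 7, 3, 8, 4, 5, 6, 5, 4, 2], [3, 5, 4, 3, 6, 5, 7, 8, 6, 2, 3, 4, 5, 3], [1, 2, 1, 7, 3, 2, 0, 1], [8]]) [0, 1, 2, 3, 4, 5, 6, 7, 5, 7, 6, 5, 7, 8, 6, 5, 7, 6, 0, 8] 34 15 7680 = 0 := by decide +kernel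
theorem vf2 : fixErr Fi23M.nets (subW ws [[8], [1, 0, 3, 2, 1, 4, 3, 7, 2, 3, 4, 2, 3, 0], [2, 6, 5, 7, 3, 2, 1, 4, 3, 2, 7, 3, 4, 5, 6, 8, 6, 5, 4, 3, 7, 2, 3, 4, 1, 2, 3, 7, 5, 6, 4, 1], [2, 5, 4, 3, 2, 1, 0, 7, 3, 2, 4, 3, 5, 7, 6, 5, 4, 3, 2, 7, 3, 4, 5, 6, 8, 6, 5, 4, 3, 2, 1, 0, 7, 3, 2, 1, 4, 3, 5, 4, 6]]) [34, 3318] = 0 := by decide +kernel
theorem vo2 : orbErr Fi23M.nets (subW ws [[8], [1, 0, 3, 2, 1, 4, 3, 7, 2, 3, 4, 2, 3, 0], [2, 6, 5, 7, 3, 2, 1, 4, 3, 2, 7, 3, 4, 5, 6, 8, 6, 5, 4, 3, 7, 2, 3, 4, 1, 2, 3, 7, 5, 6, 4, 1], [2, 5, 4, 3, 2, 1, 0, 7, 3, 2, 4, 3, 5, 7, 6, 5, 4, 3, 2, 7, 3, 4, 5, 6, 8, 6, 5, 4, 3, 2, 1, 0, 7, 3, 2, 1, 4, 3, 5, 4, 6]]) [0, 1, 2, 3, 1, 2, 3, 1, 2, 3, 2, 1, 1] 202 15 336 = 0 := by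 decide +kernel
theorem idx : (clW Fi23P.el ws).index ≤ 86316516 :=
  index_le_of_card (M := Fi23P.M) Fi23P.card_eq (show 18360 * (7680 * (336 * (1))) ≤ _ from
    (Fi23P.M.lev_step (subW_mem _ _ _) vf0 vo0
    (Fi23P.M.lev_step (subW_mem _ _ _) vf1 vo1
    (Fi23P.M.lev_step (subW_mem _ _ _) vf2 vo2
    (Fi23P.M.chain_base _))))) (by norm_num)

end Cfsg.Agent.H17.BmD2
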