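import Cfsg.Agent.H17.BmC

/-! A subgroup of `Fi23`, its index and its double cosets with `O8+(3):2`. -/

set_option autoImplicit false
set_option Elab.async false
set_option maxRecDepth 100000
set_option exponentiation.threshold 400000

namespace Cfsg.Agent.H17.BmD3

open Cfsg Cfsg.Agent.H58 Cfsg.Agent.H17

def ws : List (List ℕ) := [[9, 4], [8, 3], [4, 2], [3, 1], [9, 3], [9, 2], [8, 2], [8, 1], [4, 1], [9, 1], [6, 10], [1, 6], [2, 7], [3, 10], [4, 6], [8, 7], [9, 10], [4, 7], [5, 4, 8, 9, 3, 4, 8, 2, 3, 4, 5, 4, 3, 2, 8, 4, 3, 9, 8, 4, 5, 9], [5, 4, 8, 9, 3, 4, 8, 2, 3, 4, 5, 4, 3, 2, 8, 4, 3, 9, 8, 4, 5, 10], [5, 6, 7, 4, 5, 6, 3, 4, 5, 2, 3, 4, 8, 1, 2, 3, 4, 5, 6, 7, 10, 7, 6, 5, 4, 3, 2, 1, 8, 4, 3, 2, 5, 4, 3, 6, 5, 4, 7, 6, 5, 10], [5, 6, 7, 4,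 5, 6, 3, 4, 5, 2, 3, 4, 8, 1, 2, 3, 4, 5, 6, 7, 10, 7, 6, 5, 4, 3, 2, 1, 8, 4, 3, 2, 5, 4, 3, 6, 5, 4, 7, 6, 5, 1]]
def As : List (List ℕ) := [[], [5, 4, 8, 6, 5, 4, 3, 2, 1], [5, 4, 8, 9, 6, 5, 3, 4, 8, 7, 6, 5, 4, 3, 2, 1], [5, 6, 4, 5, 3, 4, 8, 9, 4, 5, 2, 3, 4, 8, 7, 6, 5, 4, 3, 2, 1], [5, 6, 7, 10, 4, 8, 5, 6, 3, 4, 5, 2, 3, 4, 8, 9, 6, 4, 5, 2, 3, 4, 8, 7, 6, 5, 4, 3, 2, 1], [5, 6, 7, 10, 4, 8, 5, 6, 3, 4, 5, 2, 3, 4, 8, 9, 6, 3, 4, 5, 2, 3, 4, 8, 7, 6, 5, 4, 3, 2, 1], [5, 6, 7, 10, 4, 8, 9, 5, 3, 4, 8, 3, 4, 5, 6, 2, 3, 4, 5, 1, 2, 3, 4, 8, 9, 6, 4, 5, 2, 3, 4, 8, 7, 6, 5, 4, 3, 2, 1], [5, 4, 8, 9, 6, 5, 3, 4, 8, 2, 3, 4, 5, 6, 7, 10, 6, 5, 4, 8, 9, 5, 3, 4, 8, 5, 6, 2, 3, 4, 5, 1, 2, 3, 4, 8, 9, 6, 4, 5, 2, 3, 4, 8, 7, 6, 5, 4, 3, 2, 1], [5, 4,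 8, 9, 6, 5, 3, 4, 8, 2, 3, 4, 5, 6, 7, 10, 6, 5, 4, 8, 9, 3, 4, 8, 7, 4, 5, 6, 2, 3, 4, 5, 1, 2, 3, 4, 8, 9, 6, 4, 5, 2, 3, 4, 8, 7, 6, 5, 4, 3, 2, 1]]
def d0 : DRep := ⟨0, 0, [3, 18, 2, 3, 2, 10, 15, 18, 13, 11], 8, [2, 4, 3, 5, 6, 5, 4, 7, 6, 8, 4, 3, 5, 9, 8, 4, 3, 2, 5, 4, 3, 6, 5, 7, 6, 8, 4, 3, 5, 4, 6, 8, 9, 8, 4, 3, 5, 10, 7, 6, 5, 4, 3, 2, 8, 4, 3, 5, 4, 6, 9, 8, 4, 3, 2, 5], [21, 18, 10, 12, 3], 7, [2, 4, 5, 4, 6, 5, 4, 7, 6, 8, 4, 3, 2, 5, 4, 3, 6, 5, 4, 7, 8, 4, 3, 5, 4, 9, 8, 4, 3, 2, 5, 4, 3, 6, 5, 4, 7, 6, 5, 8, 4, 3, 2, 5, 4, 6, 7, 9, 8, 4, 3, 2, 5, 4, 3, 8, 9, 10, 7, 6, 5, 4, 3, 2, 8, 4, 3, 5, 4, 6, 5, 7, 8, 4, 9, 8]⟩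
def d1 : DRep := ⟨24, 1, [18, 13, 12, 11, 19, 11, 12, 14, 3], 6, [3, 4, 3, 5, 4, 6, 5, 4, 3, 2, 7, 6, 8, 4, 3, 5, 4, 6, 5, 7, 6, 8, 4, 3, 2, 5, 4, 3, 8, 4, 5, 9, 8, 4, 3, 2, 5, 4, 3, 6, 5, 4, 7, 6, 5, 10, 7, 6, 5, 4, 3, 2, 8, 4, 3, 5, 4, 6, 5, 7, 6, 8, 4, 3], [4, 12, 19, 11, 17, 19, 11, 12, 1], 6, [2, 4, 5, 6, 5, 7, 6, 5, 8, 4, 3, 2, 5, 4, 3, 6, 5, 4, 7, 6, 5, 9, 8, 4, 3, 5, 4, 6, 5, 7, 8, 4, 3, 2, 10, 7, 6, 5, 4, 3, 2, 8, 4, 3, 5, 4, 6, 7, 8, 9, 8, 4, 3, 2, 5, 4]⟩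
def d2 : DRep := ⟨315, 2, [3, 6, 14, 19, 3, 12, 11, 19, 3, 5], 5, [7, 10, 5, 6, 4, 5, 3, 4, 8, 9, 7, 6, 5, 4, 8, 3, 4, 5, 6, 7, 10, 8, 9, 4, 8, 5, 6, 4, 5, 3, 4, 8, 9, 8, 4, 5, 3, 4, 8, 6, 7, 5, 6, 4, 5, 2, 3, 4, 8, 5, 6, 7, 4, 5, 6, 3, 4, 5, 2, 3, 4, 8, 5, 6, 7, 4, 5, 6, 3, 4, 5, 2, 3, 4, 8, 3, 4, 5, 6, 7, 3, 4, 5, 6, 5, 4, 3], [13, 6, 14, 18, 3, 12, 11, 19, 3, 12], 4, [4, 8, 9, 8, 5, 6, 4, 5, 3, 4, 8, 2, 3, 4, 5, 6, 7, 10, 4, 5, 3, 4, 8, 9, 2, 3, 4, 8, 5, 6, 7, 4, 5, 6, 3, 4, 5, 2, 3, 4, 8, 9, 4, 8, 6, 7, 5, 6, 4, 5, 3, 4, 8, 5, 6, 7, 4, 5, 6, 3, 4, 5, 2, 3, 4, 8, 6, 7, 3, 4, 2, 3, 2]⟩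
def d3 : DRep := ⟨1351, 3, [13, 12, 11, 18, 11, 12, 16], 3, [3, 4, 5, 4, 3, 6, 7, 8, 4, 3, 2, 5, 4, 3, 6, 5, 4, 7, 6, 5, 8, 4, 3, 2, 5, 4, 6, 5, 7, 6, 8, 4, 3, 5, 4, 10, 7, 6, 5, 4, 3, 2, 8, 4, 3, 5, 4, 6, 5, 7, 6, 8, 4, 3, 2, 5, 10, 7, 6], [16, 12, 11, 18, 11, 12, 13], 3, [2, 3, 2, 4, 3, 5, 4, 6, 7, 8, 4, 3, 2, 5, 4, 3, 6, 5, 4, 7, 6, 5, 9, 8, 4, 3, 5, 4, 6, 5, 7, 6, 10, 7, 6, 5, 4, 3, 2, 8, 4, 3, 5, 4, 6, 5, 9, 8, 4, 3, 2, 5, 4, 8]⟩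
def reps : List DRep := [d0, d1, d2, d3]
theorem ok : allA reps (repOK B137M.nets BmP.eqA ws As (mskL BmC.cl) BmC.r1 BmC.r2) = true := by
  decide +kernel
theorem bf : Nat.beq (bfs B137M.nets ws [3, 5, 1, 14, 17, 13, 15, 9, 2, 10, 3, 6, 8, 1, 0, 6, 4, 17, 19, 11, 8, 12, 3, 2, 1, 16, 10, 20, 0, 1, 0, 1, 2, 18, 11, 3, 12, 18] (repM reps)) (Nat.pred (Nat.pow 2 137632)) = true := by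
  decide +kernel
theorem cov (d : Spor.Fi23) : DCov Fi23P.el ws As BmC.cl d := BmC.dcov ok bf d

theorem vf0 : fixErr Fi23M.nets (subW ws [[0], [1], [20], [4], [2], [3], [18], [11], [12], [13], [19], [10]]) [] = 0 := by decide +kernel
theorem vo0 : orbErr Fi23M.nets (subW ws [[0], [1], [20], [4], [2], [3], [18], [11], [12], [13], [19], [10]]) [0, 1, 2, 0, 3, 4, 5, 6, 1, 0, 7, 8, 9, 4, 5, 10, 11, 7, 8] 501 15 66 = 0 := by decide +kernel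
theorem vf1 : fixErr Fi23M.nets (subW ws [[1], [20], [2], [3], [19], [10], [12]]) [501] = 0 := by decide +kernel
theorem vo1 : orbErr Fi23M.nets (subW ws [[1], [20], [2], [3], [19], [10], [12]]) [0, 1, 2, 0, 2, 3, 4, 5, 6, 5] 1020 15 20 = 0 := by decide +kernel
theorem vf2 : fixErr Fi23M.nets (subW ws [[10], [12], [19], [3], [2]]) [1020, 501] = 0 := by decide +kernel
theorem vo2 : orbErr Fi23M.nets (subW ws [[10], [12], [19], [3], [2]]) [0, 1, 0, 2, 3, 4, 3, 4] 0 15 9 = 0 := by decide +kernel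
theorem vf3 : fixErr Fi23M.nets (subW ws [[12], [11], [18, 0], [3], [2]]) [0, 1020, 501] = 0 := by decide +kernel
theorem vo3 : orbErr Fi23M.nets (subW ws [[12], [11], [18, 0], [3], [2]]) [0, 1, 2, 3, 4, 3, 4] 1 15 8 = 0 := by decide +kernel
theorem vf4 : fixErr Fi23M.nets (subW ws [[11], [18, 0], [3], [2]]) [1, 0, 1020, 501] = 0 := by decide +kernel
theorem vo4 : orbErr Fi23M.nets (subW ws [[11], [18, 0], [3], [2]]) [0, 1, 2, 3, 2, 3] 2 15 7 = 0 := by decide +kernel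
theorem vf5 : fixErr Fi23M.nets (subW ws [[18, 0], [3], [2]]) [2, 1, 0, 1020, 501] = 0 := by decide +kernel
theorem vo5 : orbErr Fi23M.nets (subW ws [[18, 0], [3], [2]]) [0, 1, 2, 1, 2] 3 15 6 = 0 := by decide +kernel
theorem vf6 : fixErr Fi23M.nets (subW ws [[3], [2]]) [3, 2, 1, 0, 1020, 501] = 0 := by decide +kernel
theorem vo6 : orbErr Fi23M.nets (subW ws [[3], [2]]) [0, 1, 0, 1] 1889 15 5 = 0 := by decide +kernel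
theorem vf7 : fixErr Fi23M.nets (subW ws [[2], [4, 0]]) [1889, 3, 2, 1, 0, 1020, 501] = 0 := by decide +kernel
theorem vo7 : orbErr Fi23M.nets (subW ws [[2], [4, 0]]) [0, 1, 0] 2671 15 4 = 0 := by decide +kernel
theorem vf8 : fixErr Fi23M.nets (subW ws [[4, 0]]) [2671, 1889, 3, 2, 1, 0, 1020, 501] = 0 := by decide +kernel
theorem vo8 : orbErr Fi23M.nets (subW ws [[4, 0]]) [0, 0] 3291 15 3 = 0 := by decide +kernel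
theorem idx : (clW Fi23P.el ws).index ≤ 17074976256 :=
  index_le_of_card (M := Fi23P.M) Fi23P.card_eq (show 66 * (20 * (9 * (8 * (7 * (6 * (5 * (4 * (3 * (1))))))))) ≤ _ from
    (Fi23P.M.lev_step (subW_mem _ _ _) vf0 vo0
    (Fi23P.M.lev_step (subW_mem _ _ _) vf1 vo1
    (Fi23P.M.lev_step (subW_mem _ _ _) vf2 vo2
    (Fi23P.M.lev_step (subW_mem _ _ _) vf3 vo3
    (Fi23P.M.lev_step (subW_mem _ _ _) vf4 vo4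
    (Fi23P.M.lev_step (subW_mem _ _ _) vf5 vo5
    (Fi23P.M.lev_step (subW_mem _ _ _) vf6 vo6
    (Fi23P.M.lev_step (subW_mem _ _ _) vf7 vo7
    (Fi23P.M.lev_step (subW_mem _ _ _) vf8 vo8
    (Fi23P.M.chain_base _))))))))))) (by norm_num)

end Cfsg.Agent.H17.BmD3
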