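import Cfsg.Agent.H17.BmF0
import Cfsg.Agent.H17.BmF1
import Cfsg.Agent.H17.BmF2
import Cfsg.Agent.H17.BmD0
import Cfsg.Agent.H17.BmD1
import Cfsg.Agent.H17.BmD2
import Cfsg.Agent.H17.BmD3
import Cfsg.Agent.H17.BmD4

/-! The upper bound for the order of the Baby Monster. -/

set_option autoImplicit false
set_option Elab.async false
set_option maxRecDepth 100000
set_option exponentiation.threshold 400000

namespace Cfsg.Agent.H17.BmU

open Cfsg Cfsg.Agent.H58 Cfsg.Agent.H17

open BmF BmP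

theorem call : ∀ i < 603, chk i = true := (range_cons 603 (range_cons 602 (range_cons 591 (range_cons 580 (range_cons 568 (range_cons 555 (range_cons 541 (range_cons 530 (range_cons 519 (range_cons 486 (range_cons 449 (range_cons 419 (range_cons 381 (range_cons 353 (range_cons 313 (range_cons 264 (range_cons 226 (range_cons 203 (range_cons 192 (range_cons 175 (range_cons 165 (range_cons 152 (range_cons 139 (range_cons 120 (range_cons 100 (range_cons 86 (range_cons 71 (range_cons 55 (range_nil chk) c0) c1) c2) c3) c4) c5) c6) c7) c8) c9) c10) c11) c12) c13) c14) c15) c16) c17) c18) c19) c20) c21) c22) c23) c24) c25) c26) c27)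

def La : List ℕ := [0, 22, 23, 26, 27, 29, 31, 34]
def Lb : List ℕ := [1, 21, 24, 25, 28, 30, 32, 33]
def a0 : Sd := ⟨0, [0, 1, 2, 3, 4, 5, 6, 7, 8], [505, 506, 507]⟩
theorem ka0 : sdOK FT 603 tA BmD0.ws BmD0.As (mskL gB) Lb a0 = true := by decide +kernel
def a1 : Sd := ⟨22, [272, 269, 267, 270, 271, 265, 264, 268, 266], [516, 517, 520, 518, 519]⟩
theorem ka1 : sdOK FT 603 tA BmD2.ws BmD2.As (mskL gB) Lb a1 = true := by decide +kernel
def a2 : Sd := ⟨23, [280, 284, 288, 286, 285, 290, 289, 282, 283, 281, 297, 292, 287, 295, 291, 278, 294, 279, 293, 296, 299, 298], [525, 529, 524, 522, 528, 527, 523, 521, 526]⟩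
theorem ka2 : sdOK FT 603 tA BmD3.ws BmD3.As (mskL gB) Lb a2 = true := by decide +kernel
def a3 : Sd := ⟨26, [355, 350, 354, 352, 353, 357, 358, 356, 351], [546, 544, 547, 545, 548]⟩
theorem ka3 : sdOK FT 603 tA BmD2.ws BmD2.As (mskL gB) Lb a3 = true := by decide +kernel
def a4 : Sd := ⟨27, [369, 370, 368, 365, 366, 372, 371, 364, 367], [550, 549, 551]⟩
theorem ka4 : sdOK FT 603 tA BmD0.ws BmD0.As (mskL gB) Lb a4 = true := by decide +kernel
def a5 : Sd := ⟨29, [395, 397, 398, 396, 399, 402, 403, 401, 404, 400], [557, 555, 560, 558, 561, 556, 562, 559]⟩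
theorem ka5 : sdOK FT 603 tA BmD4.ws BmD4.As (mskL gB) Lb a5 = true := by decide +kernel
def a6 : Sd := ⟨31, [430, 432, 434, 433, 431, 437, 436, 438, 435, 439], [575, 571, 573, 576, 574, 572, 578, 577]⟩
theorem ka6 : sdOK FT 603 tA BmD4.ws BmD4.As (mskL gB) Lb a6 = true := by decide +kernel
def a7 : Sd := ⟨34, [498, 489, 494, 499, 491, 492, 495, 501, 490, 502, 497, 504, 503, 493, 487, 500, 496, 488], [602, 598, 596, 599, 595, 597, 600, 601]⟩
theorem ka7 : sdOK FT 603 tA BmD1.ws BmD1.As (mskL gB) Lb a7 = true := by decide +kernel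
def b0 : Sd := ⟨1, [18, 17, 16, 12, 13, 14, 15, 11, 10], [508, 509, 510]⟩
theorem kb0 : sdOK FT 603 tB BmD0.ws BmD0.As (mskL gA) La b0 = true := by decide +kernel
def b1 : Sd := ⟨21, [253, 252, 249, 247, 251, 250, 245, 246, 248], [511, 512, 514, 513, 515]⟩
theorem kb1 : sdOK FT 603 tB BmD2.ws BmD2.As (mskL gA) La b1 = true := by decide +kernel
def b2 : Sd := ⟨24, [318, 313, 308, 309, 317, 316, 312, 311, 310, 315, 307, 322, 328, 321, 323, 326, 320, 327, 325, 324, 319, 314], [534, 538, 533, 531, 537, 536, 532, 530, 535]⟩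
theorem kb2 : sdOK FT 603 tB BmD3.ws BmD3.As (mskL gA) La b2 = true := by decide +kernel
def b3 : Sd := ⟨25, [338, 335, 337, 339, 341, 336, 342, 340, 343], [542, 541, 543, 540, 539]⟩
theorem kb3 : sdOK FT 603 tB BmD2.ws BmD2.As (mskL gA) La b3 = true := by decide +kernel
def b4 : Sd := ⟨28, [381, 380, 382, 386, 383, 384, 385, 387, 379], [552, 553, 554]⟩
theorem kb4 : sdOK FT 603 tB BmD0.ws BmD0.As (mskL gA) La b4 = true := by decide +kernel
def b5 : Sd := ⟨30, [414, 413, 417, 415, 416, 419, 420, 422, 421, 418], [563, 566, 568, 564, 569, 565, 570, 567]⟩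
theorem kb5 : sdOK FT 603 tB BmD4.ws BmD4.As (mskL gA) La b5 = true := by decide +kernel
def b6 : Sd := ⟨32, [447, 450, 449, 448, 446, 453, 452, 451, 455, 454], [579, 583, 582, 581, 584, 580, 586, 585]⟩
theorem kb6 : sdOK FT 603 tB BmD4.ws BmD4.As (mskL gA) La b6 = true := by decide +kernel
def b7 : Sd := ⟨33, [474, 468, 473, 472, 475, 471, 464, 463, 476, 466, 477, 470, 469, 480, 478, 479, 467, 465], [594, 590, 588, 591, 587, 589, 592, 593]⟩
theorem kb7 : sdOK FT 603 tB BmD1.ws BmD1.As (mskL gA) La b7 = true := by decide +kernel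

/-- the stabilisers -/
noncomputable def S : Fin 8 → Subgroup Spor.Fi23 := fun i => clW Fi23P.el ([BmD0.ws, BmD2.ws, BmD3.ws, BmD2.ws, BmD0.ws, BmD4.ws, BmD4.ws, BmD1.ws].getD i [])

def n : Fin 8 → ℕ := fun i => [31671, 86316516, 17074976256, 86316516, 31671, 4502191005, 4502191005, 891855360].getD i 0

theorem hn : ∀ i, (S i).index ≤ n i := by
  intro i
  fin_cases i
  exacts [BmD0.idx, BmD2.idx, BmD3.idx, BmD2.idx, BmD0.idx, BmD4.idx, BmD4.idx, BmD1.idx]

theorem sum_n : ∑ i, n i = 27143910000 := by decide +kernel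

section
variable {G : Type*} [Group G] {e : ℕ → G} (Q : RuleOK e rels0 iv)

include Q in
theorem facts : ∀ k < 603, Holds (clL e BmE.ga) e (lab e LW) (FT k) :=
  facts_hold (RuleOK_sub (rels' := [[1, 11, 1, 11]]) Q (by decide +kernel)) (el_mem_closure e BmE.ga)
    (selE_sound (l := [eqA, eqB]) (forall_cons (tabA Q).sound (forall_cons (tabB Q).sound
      (forall_nil' _)))) call

theorem gen : clL Fi23P.el gA = ⊤ := Fi23P.eq_top _ (el_mem_closure _ _)

theorem rgA : (hom Q rlA).range = clL e gA := (range_mapL (hom_el Q rlA rfl) gen).trans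
  (congrArg (clL e) (show mapL tA gA = gA by decide))

theorem rgB : (hom Q rlB).range = clL e gB := (range_mapL (hom_el Q rlB rfl) gen).trans
  (le_antisymm (clL_mono _ _ _ (by decide)) (clL_mono _ _ _ (by decide)))

include Q in
theorem clA : ∀ j ∈ La, ∀ c ∈ clL e gA, lab e LW j * c ∈ Cov (clL e BmE.ga) (clL e gB) (lab e LW) Lb := by
  intro j hj c hc
  rw [← rgA Q] at hc
  obtain ⟨d, rfl⟩ := hc
  simp only [La, List.mem_cons, List.not_mem_nil, or_false] at hj
  rcases hj with rfl | rfl | rfl | rfl | rfl | rfl | rfl | rfl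
  exacts [sd_closed (hom_el Q rlA rfl) (facts Q) (by decide) ka0 (BmD0.cov d),
    sd_closed (hom_el Q rlA rfl) (facts Q) (by decide) ka1 (BmD2.cov d),
    sd_closed (hom_el Q rlA rfl) (facts Q) (by decide) ka2 (BmD3.cov d),
    sd_closed (hom_el Q rlA rfl) (facts Q) (by decide) ka3 (BmD2.cov d),
    sd_closed (hom_el Q rlA rfl) (facts Q) (by decide) ka4 (BmD0.cov d),
    sd_closed (hom_el Q rlA rfl) (facts Q) (by decide) ka5 (BmD4.cov d),
    sd_closed (hom_el Q rlA rfl) (facts Q) (by decide) ka6 (BmD4.cov d),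
    sd_closed (hom_el Q rlA rfl) (facts Q) (by decide) ka7 (BmD1.cov d)]

include Q in
theorem clB : ∀ j ∈ Lb, ∀ c ∈ clL e gB, lab e LW j * c ∈ Cov (clL e BmE.ga) (clL e gA) (lab e LW) La := by
  intro j hj c hc
  rw [← rgB Q] at hc
  obtain ⟨d, rfl⟩ := hc
  simp only [Lb, List.mem_cons, List.not_mem_nil, or_false] at hj
  rcases hj with rfl | rfl | rfl | rfl | rfl | rfl | rfl | rfl
  exacts [sd_closed (hom_el Q rlB rfl) (facts Q) (by decide) kb0 (BmD0.cov d),
    sd_closed (hom_el Q rlB rfl) (facts Q) (by decide) kb1 (BmD2.cov d),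
    sd_closed (hom_el Q rlB rfl) (facts Q) (by decide) kb2 (BmD3.cov d),
    sd_closed (hom_el Q rlB rfl) (facts Q) (by decide) kb3 (BmD2.cov d),
    sd_closed (hom_el Q rlB rfl) (facts Q) (by decide) kb4 (BmD0.cov d),
    sd_closed (hom_el Q rlB rfl) (facts Q) (by decide) kb5 (BmD4.cov d),
    sd_closed (hom_el Q rlB rfl) (facts Q) (by decide) kb6 (BmD4.cov d),
    sd_closed (hom_el Q rlB rfl) (facts Q) (by decide) kb7 (BmD1.cov d)]

/-- the letters -/
def gg : List ℕ := [1, 2, 3, 4, 5, 6, 7, 8, 9, 10, 11]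

/-- the eight orbits of `Fi23` on the cosets of the subgroup `Y333` -/
theorem dcs (hg : clL e gg = ⊤) : DCS (clL e BmE.ga) (hom Q rlA) (fun i : Fin 8 => lab e LW (La.getD i 0)) S := by
  refine ⟨fun i => ?_, fun g => ?_⟩
  · fin_cases i
    exacts [sd_stab (hom_el Q rlA rfl) (facts Q) ka0,
      sd_stab (hom_el Q rlA rfl) (facts Q) ka1,
      sd_stab (hom_el Q rlA rfl) (facts Q) ka2,
      sd_stab (hom_el Q rlA rfl) (facts Q) ka3,
      sd_stab (hom_el Q rlA rfl) (facts Q) ka4,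
      sd_stab (hom_el Q rlA rfl) (facts Q) ka5,
      sd_stab (hom_el Q rlA rfl) (facts Q) ka6,
      sd_stab (hom_el Q rlA rfl) (facts Q) ka7]
  · obtain ⟨j, hj, c, hc, h⟩ := cov_univ (H := clL e BmE.ga) (u := lab e LW) (La := La) (Lb := Lb)
      (by decide) rfl (eq_top_iff.2 (hg ▸ clL_le fun x hx => by
        rcases (show x ∈ gA ∨ x ∈ gB by revert x; decide) with h | h
        exacts [Subgroup.mem_sup_left (el_mem_closure e _ x h),
          Subgroup.mem_sup_right (el_mem_closure e _ x h)])) (clA Q) (clB Q) g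
    rw [← rgA Q] at hc
    obtain ⟨d, rfl⟩ := hc
    obtain ⟨i, rfl⟩ := (show ∀ j ∈ La, ∃ i : Fin 8, La.getD i 0 = j by decide) j hj
    exact ⟨i, d, h⟩

include Q in
theorem index_le (hg : clL e gg = ⊤) :
    (clL e BmE.ga).index ≠ 0 ∧ (clL e BmE.ga).index ≤ 27143910000 :=
  sum_n ▸ (dcs Q hg).index_le' hn

include Q in
theorem card_le' (hg : clL e gg = ⊤) : Finite G ∧ Nat.card G ≤ 4154781481226426191177580544000000 :=
  card_top_le rfl (card_step (card_H Q) (by rw [Subgroup.relIndex_top_right]; exact index_le Q hg))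

end

theorem card_le : Finite Spor.BabyMonster ∧
    Nat.card Spor.BabyMonster ≤ 4154781481226426191177580544000000 :=
  card_le' R0 (eq_top _ (el_mem_closure _ _))

end Cfsg.Agent.H17.BmU
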