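import Cfsg.Agent.H17.BmT

/-! The group of the diagram `Y333`: double coset enumeration over `Fi22`. -/

set_option autoImplicit false
set_option Elab.async false
set_option maxRecDepth 100000
set_option exponentiation.threshold 400000

namespace Cfsg.Agent.H17.BmE

open Cfsg Cfsg.Agent.H58 Cfsg.Agent.H17

open Cfsg.Agent.H52.Fi

def iv : ℕ := 823350366879766814784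

def rels : List (List ℕ) := [[1, 2, 1, 2, 1, 2],
  [1, 3, 1, 3],
  [1, 4, 1, 4],
  [1, 5, 1, 5],
  [1, 6, 1, 6],
  [1, 7, 1, 7],
  [1, 8, 1, 8],
  [1, 9, 1, 9],
  [1, 11, 1, 11],
  [2, 3, 2, 3, 2, 3],
  [2, 4, 2, 4],
  [2, 5, 2, 5],
  [2, 6, 2, 6],
  [2, 7, 2, 7],
  [2, 8, 2, 8],
  [2, 9, 2, 9],
  [2, 11, 2, 11],
  [3, 4, 3, 4, 3, 4],
  [3, 5, 3, 5],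
  [3, 6, 3, 6],
  [3, 7, 3, 7],
  [3, 8, 3, 8],
  [3, 9, 3, 9],
  [3, 11, 3, 11],
  [4, 5, 4, 5, 4, 5],
  [4, 6, 4, 6],
  [4, 7, 4, 7],
  [4, 8, 4, 8, 4, 8],
  [4, 9, 4, 9],
  [4, 11, 4, 11],
  [5, 6, 5, 6, 5, 6],
  [5, 7, 5, 7],
  [5, 8, 5, 8],
  [5, 9, 5, 9],
  [5, 11, 5, 11],
  [6, 7, 6, 7, 6, 7],
  [6, 8, 6, 8],
  [6, 9, 6, 9],
  [6, 11, 6, 11],
  [7, 8, 7, 8],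
  [7, 9, 7, 9],
  [7, 11, 7, 11],
  [8, 9, 8, 9, 8, 9],
  [8, 11, 8, 11],
  [9, 11, 9, 11, 9, 11],
  [4, 3, 2, 4, 5, 6, 4, 8, 9, 4, 3, 2, 4, 5, 6, 4, 8, 9, 4, 3, 2, 4, 5, 6, 4, 8, 9, 4, 3, 2, 4, 5, 6, 4, 8, 9, 4, 3, 2, 4, 5, 6, 4, 8, 9, 4, 3, 2, 4, 5, 6, 4, 8, 9, 4, 3, 2, 4, 5, 6, 4, 8, 9, 4, 3, 2, 4, 5, 6, 4, 8, 9, 4, 3, 2, 4, 5, 6, 4, 8, 9, 4, 3, 2, 4, 5, 6, 4, 8, 9],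
  [1, 2, 3, 4, 5, 6, 8, 1, 2, 3, 4, 5, 6, 8, 1, 2, 3, 4, 5, 6, 8, 1, 2, 3, 4, 5, 6, 8, 1, 2, 3, 4, 5, 6, 8, 1, 2, 3, 4, 5, 6, 8, 1, 2, 3, 4, 5, 6, 8, 1, 2, 3, 4, 5, 6, 8, 1, 2, 3, 4, 5, 6, 8],
  [2, 3, 4, 5, 6, 7, 8, 2, 3, 4, 5, 6, 7, 8, 2, 3, 4, 5, 6, 7, 8, 2, 3, 4, 5, 6, 7, 8, 2, 3, 4, 5, 6, 7, 8, 2, 3, 4, 5, 6, 7, 8, 2, 3, 4, 5, 6, 7, 8, 2, 3, 4, 5, 6, 7, 8, 2, 3, 4, 5, 6, 7, 8],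
  [4, 8, 9, 4, 5, 6, 4, 3, 2, 4, 8, 9, 4, 5, 6, 4, 3, 2, 4, 8, 9, 4, 5, 6, 4, 3, 2, 4, 8, 9, 4, 5, 6, 4, 3, 2, 4, 8, 9, 4, 5, 6, 4, 3, 2, 4, 8, 9, 4, 5, 6, 4, 3, 2, 4, 8, 9, 4, 5, 6, 4, 3, 2, 4, 8, 9, 4, 5, 6, 4, 3, 2, 4, 8, 9, 4, 5, 6, 4, 3, 2, 4, 8, 9, 4, 5, 6, 4, 3, 2],
  [11, 9, 8, 4, 5, 6, 3, 11, 9, 8, 4, 5, 6, 3, 11, 9, 8, 4, 5, 6, 3, 11, 9, 8, 4, 5, 6, 3, 11, 9, 8, 4, 5, 6, 3, 11, 9, 8, 4, 5, 6, 3, 11, 9, 8, 4, 5, 6, 3, 11, 9, 8, 4, 5, 6, 3, 11, 9, 8, 4, 5, 6, 3],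
  [9, 8, 4, 5, 6, 7, 3, 9, 8, 4, 5, 6, 7, 3, 9, 8, 4, 5, 6, 7, 3, 9, 8, 4, 5, 6, 7, 3, 9, 8, 4, 5, 6, 7, 3, 9, 8, 4, 5, 6, 7, 3, 9, 8, 4, 5, 6, 7, 3, 9, 8, 4, 5, 6, 7, 3, 9, 8, 4, 5, 6, 7, 3],
  [1, 2, 3, 4, 8, 9, 5, 1, 2, 3, 4, 8, 9, 5, 1, 2, 3, 4, 8, 9, 5, 1, 2, 3, 4, 8, 9, 5, 1, 2, 3, 4, 8, 9, 5, 1, 2, 3, 4, 8, 9, 5, 1, 2, 3, 4, 8, 9, 5, 1, 2, 3, 4, 8, 9, 5, 1, 2, 3, 4, 8, 9, 5],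
  [2, 3, 4, 8, 9, 11, 5, 2, 3, 4, 8, 9, 11, 5, 2, 3, 4, 8, 9, 11, 5, 2, 3, 4, 8, 9, 11, 5, 2, 3, 4, 8, 9, 11, 5, 2, 3, 4, 8, 9, 11, 5, 2, 3, 4, 8, 9, 11, 5, 2, 3, 4, 8, 9, 11, 5, 2, 3, 4, 8, 9, 11, 5]]

def g0 : List ℕ := [1, 2, 3, 4, 5, 6, 7, 8, 9]
def t0 : List ℕ := [0, 1, 2, 3, 4, 5, 6, 7, 8, 9]
def u0 : List ℕ := [0, 1, 2, 3, 4, 5, 6, 7, 8, 9, 0, 0]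
def tb0 : List Tb := [.lf 0, BmT.t1, BmT.t2, BmT.t3, BmT.t4, BmT.t5, BmT.t6, BmT.t7, BmT.t8, BmT.t9, .lf 0, .lf 0]
theorem rl0 : relabelOK rels iv t0 Fi22M.rels Fi22M.iv [(1, 0), (3, 0), (5, 0), (7, 0), (9, 0), (11, 0), (13, 0), (15, 0), (19, 0), (21, 0), (23, 0), (25, 0), (27, 0), (29, 0), (31, 0), (35, 0), (37, 0), (39, 0), (41, 0), (43, 0), (45, 0), (49, 0), (51, 0), (53, 0), (55, 0), (57, 0), (61, 0), (63, 0), (65, 0), (67, 0), (71, 0), (73, 0), (75, 0), (79, 0), (81, 0), (85, 0), (91, 0), (93, 0), (95, 0)] = true := by decide +kernel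
def g1 : List ℕ := [2, 3, 4, 5, 6, 7, 8, 9, 11]
def t1 : List ℕ := [0, 11, 9, 8, 4, 5, 6, 7, 3, 2]
def u1 : List ℕ := [0, 0, 9, 8, 4, 5, 6, 7, 3, 2, 0, 1]
def tb1 : List Tb := [.lf 0, .lf 0, BmT.t9, BmT.t8, BmT.t4, BmT.t5, BmT.t6, BmT.t7, BmT.t3, BmT.t2, .lf 0, BmT.t1]
theorem rl1 : relabelOK rels iv t1 Fi22M.rels Fi22M.iv [(89, 1), (87, 1), (59, 1), (69, 1), (77, 1), (83, 1), (47, 1), (33, 1), (85, 1), (57, 1), (67, 1), (75, 1), (81, 1), (45, 1), (31, 1), (55, 1), (65, 1), (73, 1), (79, 1), (43, 1), (29, 1), (49, 0), (51, 0), (53, 0), (35, 1), (21, 1), (61, 0), (63, 0), (37, 1), (23, 1), (71, 0), (39, 1), (25, 1), (41, 1), (27, 1), (19, 1), (97, 0), (99, 0), (101, 0)] = true := by decide +kernel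
def g2 : List ℕ := [1, 2, 3, 4, 5, 6, 8, 9, 11]
def t2 : List ℕ := [0, 1, 2, 3, 4, 8, 9, 11, 5, 6]
def u2 : List ℕ := [0, 1, 2, 3, 4, 8, 9, 0, 5, 6, 0, 7]
def tb2 : List Tb := [.lf 0, BmT.t1, BmT.t2, BmT.t3, BmT.t4, BmT.t8, BmT.t9, .lf 0, BmT.t5, BmT.t6, .lf 0, BmT.t7]
theorem rl2 : relabelOK rels iv t2 Fi22M.rels Fi22M.iv [(1, 0), (3, 0), (5, 0), (13, 0), (15, 0), (17, 0), (7, 0), (9, 0), (19, 0), (21, 0), (29, 0), (31, 0), (33, 0), (23, 0), (25, 0), (35, 0), (43, 0), (45, 0), (47, 0), (37, 0), (39, 0), (55, 0), (57, 0), (59, 0), (49, 0), (51, 0), (85, 0), (87, 0), (65, 1), (73, 1), (89, 0), (67, 1), (75, 1), (69, 1), (77, 1), (61, 0), (97, 6), (103, 0), (105, 0)] = true := by decide +kernel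
def LW : List (List ℕ) := [[], [], [], [11, 9, 8, 4, 5, 6, 7, 3, 4, 8, 9, 5, 4, 6, 2, 3, 4, 8, 9, 11, 5, 4, 8, 9, 6, 5, 3, 4, 8, 2, 3, 4, 5, 6, 7], [11], [11, 9, 8, 4, 5, 6, 3, 4, 5, 2, 3, 4, 8, 9, 11], [11, 9, 8, 4, 5, 6, 7], [11, 9, 8, 4, 3, 2, 1], [11, 9, 8, 4, 5, 6, 3, 4, 5, 2, 3, 4, 8, 9, 11, 1, 2, 4, 3, 2, 5, 4, 8, 4, 3, 5, 4, 6, 5, 9, 8, 4, 3, 2, 1], [11, 9, 8, 4, 3, 2, 5, 4, 3, 6, 5, 7, 6, 8, 4, 5, 9, 8, 4, 3, 2, 1], [11, 9, 8, 4, 5, 6, 3, 4, 5, 2, 3, 4, 8, 9, 11, 4, 3, 5, 7, 8, 4, 1, 2, 3, 4, 5, 6, 8, 4, 5, 9, 8, 4, 3, 2, 1], [11, 9, 8, 4, 3, 2, 5, 4, 3, 6, 5, 7, 6, 8, 4, 5, 9, 8, 4, 3, 2, 1, 2, 3, 4, 8, 9, 5, 4, 8, 6, 5, 7, 6, 3, 4, 5, 2, 3, 4, 8, 9, 11], [11, 9, 8, 4, 5, 6, 3, 4, 5, 2,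 3, 4, 8, 9, 11, 1, 2, 4, 3, 2, 5, 4, 8, 4, 3, 5, 4, 6, 5, 9, 8, 4, 3, 2, 1, 7, 6, 5, 4, 8, 9, 3, 4, 8, 5, 4, 6, 2, 3, 4, 8, 5, 4, 6, 7, 11, 9, 8, 4, 5, 6, 3, 4, 5, 2, 3, 4, 8, 9, 11], [11, 9, 8, 4, 5, 6, 3, 4, 5, 2, 3, 4, 8, 9, 11, 1, 2, 4, 3, 2, 5, 4, 8, 4, 3, 5, 4, 6, 5, 9, 8, 4, 3, 2, 1, 7, 6, 5, 4, 8, 9, 3, 4, 8, 9, 5, 4, 6, 2, 3, 4, 8, 5, 4, 6, 7, 11, 9, 8, 4, 5, 6, 3, 4, 5, 2, 3, 4, 8, 9, 11], [11, 9, 8, 4, 3, 2, 1, 5, 4, 8, 9, 6, 5, 4, 7, 6, 3, 4, 8, 9, 5, 4, 8, 6, 5, 3, 4, 2, 3, 11, 9, 8, 4, 5, 6, 7], [11, 9, 8, 4, 5, 6, 3, 4, 5, 2, 3, 4, 8, 9, 11, 1, 2, 4, 3, 2, 5, 4, 8, 4, 3, 5, 4, 6, 5, 9, 8, 4, 3, 2, 1, 7], [11, 9, 8, 4, 3, 2, 1, 5, 4, 8, 9, 6, 5, 4, 7, 3, 4, 8, 5, 4, 6, 5, 2, 3, 4, 8,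 9, 11], [11, 9, 8, 4, 3, 2, 1, 5, 4, 8, 6, 5, 7, 6, 3, 4, 5, 2, 3, 4, 8, 9, 11], [11, 9, 8, 4, 3, 2, 5, 4, 3, 6, 5, 7, 6, 8, 4, 5, 9, 8, 4, 3, 2, 1, 2, 3, 4, 8, 9, 5, 4, 8, 6, 5, 7, 6, 3, 4, 5, 2, 3, 4, 8, 9, 11, 4, 6, 5, 9, 8, 4, 3, 2, 1]]

noncomputable def FT0 : ℕ → Fct := (ndA (nat_lit 8) (ndA (nat_lit 4) (ndA (nat_lit 2) (ndA (nat_lit 1) (lfA (⟨0, [1], 0, []⟩ : Fct)) (lfA (⟨0, [2], 0, []⟩ : Fct))) (ndA (nat_lit 3) (lfA (⟨0, [3], 0, []⟩ : Fct)) (lfA (⟨0, [4], 0, []⟩ : Fct)))) (ndA (nat_lit 6) (ndA (nat_lit 5) (lfA (⟨0, [5], 0, []⟩ : Fct)) (lfA (⟨0, [6], 0, []⟩ : Fct))) (ndA (nat_lit 7) (lfA (⟨0, [7], 0, []⟩ : Fct)) (lfA (⟨0, [8], 0, []⟩ : Fct))))) (ndA (nat_lit 12) (ndA (nat_lit 10) (ndA (nat_lit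 9) (lfA (⟨0, [9], 0, []⟩ : Fct)) (lfA (⟨0, [], 1, []⟩ : Fct))) (ndA (nat_lit 11) (lfA (⟨1, [2], 1, []⟩ : Fct)) (lfA (⟨1, [3], 1, []⟩ : Fct)))) (ndA (nat_lit 14) (ndA (nat_lit 13) (lfA (⟨1, [4], 1, []⟩ : Fct)) (lfA (⟨1, [5], 1, []⟩ : Fct))) (ndA (nat_lit 15) (lfA (⟨1, [6], 1, []⟩ : Fct)) (lfA (⟨1, [7], 1, []⟩ : Fct))))))
noncomputable def FT1 : ℕ → Fct := (ndA (nat_lit 24) (ndA (nat_lit 20) (ndA (nat_lit 18) (ndA (nat_lit 17) (lfA (⟨1, [8], 1, []⟩ : Fct)) (lfA (⟨1, [9], 1, []⟩ : Fct))) (ndA (nat_lit 19) (lfA (⟨1, [], 2, []⟩ : Fct)) (lfA (⟨2, [2], 2, []⟩ : Fct)))) (ndA (nat_lit 22) (ndA (nat_lit 21) (lfA (⟨2, [3], 2, []⟩ : Fct)) (lfA (⟨2, [4], 2, []⟩ : Fct))) (ndA (nat_lit 23) (lfA (⟨2, [5], 2, []⟩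 : Fct)) (lfA (⟨2, [6], 2, []⟩ : Fct))))) (ndA (nat_lit 28) (ndA (nat_lit 26) (ndA (nat_lit 25) (lfA (⟨2, [8], 2, []⟩ : Fct)) (lfA (⟨2, [9], 2, []⟩ : Fct))) (ndA (nat_lit 27) (lfA (⟨2, [], 0, []⟩ : Fct)) (lfA (⟨2, [1], 2, []⟩ : Fct)))) (ndA (nat_lit 30) (ndA (nat_lit 29) (lfA (⟨1, [11, 9, 8, 4, 5, 6, 7, 3, 4, 8, 9, 5, 4, 6, 2, 3, 4, 8, 9, 11, 5, 4, 8, 9, 6, 5, 3, 4, 8, 2, 3, 4, 5, 6, 7], 3, []⟩ : Fct)) (lfA (⟨3, [1, 2, 3, 4, 8, 9, 5, 4, 3, 2, 1, 8, 4, 3, 2, 5, 4, 3, 8, 4, 9, 8, 5, 4, 3, 2, 1, 6, 5, 4, 3, 2, 8, 4, 3, 5, 4, 8, 6, 5, 4, 3, 2], 3, []⟩ : Fct))) (ndA (nat_lit 31) (lfA (⟨3, [2, 3, 2, 4, 3, 2, 8, 4, 3, 2, 5, 4, 3, 2, 8, 4, 3, 5, 4, 8, 6, 5, 4, 3, 2, 8, 4, 3, 5, 4, 8, 6, 5, 4, 3, 2], 3, []⟩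 : Fct)) (lfA (⟨3, [2, 3, 2, 4, 3, 2, 8, 4, 3, 2, 9, 8, 4, 3, 2, 11, 9, 8, 4, 3, 2], 3, []⟩ : Fct))))))
noncomputable def FT2 : ℕ → Fct := (ndA (nat_lit 40) (ndA (nat_lit 36) (ndA (nat_lit 34) (ndA (nat_lit 33) (lfA (⟨1, [11], 4, []⟩ : Fct)) (lfA (⟨4, [2], 4, []⟩ : Fct))) (ndA (nat_lit 35) (lfA (⟨4, [3], 4, []⟩ : Fct)) (lfA (⟨4, [4], 4, []⟩ : Fct)))) (ndA (nat_lit 38) (ndA (nat_lit 37) (lfA (⟨4, [5], 4, []⟩ : Fct)) (lfA (⟨4, [6], 4, []⟩ : Fct))) (ndA (nat_lit 39) (lfA (⟨4, [7], 4, []⟩ : Fct)) (lfA (⟨4, [8], 4, []⟩ : Fct))))) (ndA (nat_lit 44) (ndA (nat_lit 42) (ndA (nat_lit 41) (lfA (⟨4, [], 2, [11]⟩ : Fct)) (lfA (⟨4, [1], 4, []⟩ : Fct))) (ndA (nat_lit 43) (lfA (⟨1, [11, 9, 8, 4, 5, 6, 3, 4, 5, 2,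 3, 4, 8, 9, 11], 5, []⟩ : Fct)) (lfA (⟨5, [5], 5, []⟩ : Fct)))) (ndA (nat_lit 46) (ndA (nat_lit 45) (lfA (⟨5, [6], 5, []⟩ : Fct)) (lfA (⟨5, [2], 5, []⟩ : Fct))) (ndA (nat_lit 47) (lfA (⟨5, [3], 5, []⟩ : Fct)) (lfA (⟨5, [8], 5, []⟩ : Fct))))))
noncomputable def FT3 : ℕ → Fct := (ndA (nat_lit 56) (ndA (nat_lit 52) (ndA (nat_lit 50) (ndA (nat_lit 49) (lfA (⟨5, [9], 5, []⟩ : Fct)) (lfA (⟨5, [1, 2, 3, 4, 5, 6, 8, 4, 3, 2, 1, 5, 4, 3, 2, 8, 4, 3, 5, 4, 6, 5, 8, 4, 3, 2, 1, 9, 8, 4, 3, 2, 5, 4, 3, 8, 4, 5, 9, 8, 4, 3, 2], 5, []⟩ : Fct))) (ndA (nat_lit 51) (lfA (⟨5, [2, 3, 2, 4, 3, 2, 5, 4, 3, 2, 8, 4, 3, 2, 5, 4, 3, 8, 4, 5, 9, 8, 4, 3, 2, 5, 4, 3, 8, 4, 5, 9, 8, 4, 3, 2], 5, []⟩ : Fct)) (lfA (⟨5, [2, 3,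 4, 5, 6, 7, 8, 4, 3, 2, 5, 4, 3, 6, 5, 4, 8, 4, 3, 2, 5, 4, 3, 6, 5, 4, 8, 9, 8, 4, 3, 5, 4, 6, 5, 7, 6, 8, 4, 3, 5, 4, 9], 5, []⟩ : Fct)))) (ndA (nat_lit 54) (ndA (nat_lit 53) (lfA (⟨5, [], 2, [11, 9, 8, 4, 3, 2, 5, 4, 3, 6, 5, 4, 8, 9, 11]⟩ : Fct)) (lfA (⟨5, [4, 3, 5, 7, 6, 5, 4, 8, 4, 3, 2, 5, 4, 3, 9, 8, 4, 5, 6, 7], 3, []⟩ : Fct))) (ndA (nat_lit 55) (lfA (⟨5, [1, 2, 1, 3, 4, 5, 6, 8, 4, 3, 5, 4, 8, 9, 8, 4, 3, 2, 1, 5, 4, 3, 2, 8, 4, 3, 5, 4, 9], 5, []⟩ : Fct)) (lfA (⟨1, [11, 9, 8, 4, 5, 6, 7], 6, []⟩ : Fct))))) (ndA (nat_lit 60) (ndA (nat_lit 58) (ndA (nat_lit 57) (lfA (⟨6, [2], 6, []⟩ : Fct)) (lfA (⟨6, [8], 6, []⟩ : Fct))) (ndA (nat_lit 59) (lfA (⟨6, [4], 6, []⟩ : Fct)) (lfA (⟨6, [5], 6, []⟩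 : Fct)))) (ndA (nat_lit 62) (ndA (nat_lit 61) (lfA (⟨6, [6], 6, []⟩ : Fct)) (lfA (⟨6, [9], 6, []⟩ : Fct))) (ndA (nat_lit 63) (lfA (⟨6, [11], 6, []⟩ : Fct)) (lfA (⟨6, [1, 2, 3, 4, 8, 9, 5, 4, 3, 2, 1, 8, 4, 3, 2, 5, 4, 3, 8, 4, 9, 8, 5, 4, 3, 2, 1, 6, 5, 4, 3, 2, 8, 4, 3, 5, 4, 8, 6, 5, 4, 3, 2], 6, []⟩ : Fct))))))
noncomputable def FT4 : ℕ → Fct := (ndA (nat_lit 72) (ndA (nat_lit 68) (ndA (nat_lit 66) (ndA (nat_lit 65) (lfA (⟨6, [], 4, [9, 8, 4, 5, 6, 7]⟩ : Fct)) (lfA (⟨6, [3, 2, 4, 3, 5, 4, 8, 9, 11], 5, [7]⟩ : Fct))) (ndA (nat_lit 67) (lfA (⟨6, [1], 6, []⟩ : Fct)) (lfA (⟨4, [9, 8, 4, 3, 2, 1], 7, []⟩ : Fct)))) (ndA (nat_lit 70) (ndA (nat_lit 69) (lfA (⟨7, [3], 7, []⟩ : Fct)) (lfA (⟨7, [4], 7, []⟩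 : Fct))) (ndA (nat_lit 71) (lfA (⟨7, [8], 7, []⟩ : Fct)) (lfA (⟨7, [6], 7, []⟩ : Fct))))) (ndA (nat_lit 76) (ndA (nat_lit 74) (ndA (nat_lit 73) (lfA (⟨7, [7], 7, []⟩ : Fct)) (lfA (⟨7, [9], 7, []⟩ : Fct))) (ndA (nat_lit 75) (lfA (⟨7, [2], 7, []⟩ : Fct)) (lfA (⟨7, [9, 8, 9, 4, 8, 9, 5, 4, 8, 9, 3, 4, 8, 9, 5, 4, 8, 3, 4, 5, 2, 3, 4, 8, 9, 5, 4, 8, 3, 4, 5, 2, 3, 4, 8, 9], 7, []⟩ : Fct)))) (ndA (nat_lit 78) (ndA (nat_lit 77) (lfA (⟨7, [], 2, [11, 9, 8, 4, 3, 2, 1]⟩ : Fct)) (lfA (⟨7, [5, 6, 7], 6, [3, 2, 1]⟩ : Fct))) (ndA (nat_lit 79) (lfA (⟨7, [8, 4, 8, 5, 4, 8, 9, 11, 3, 4, 8, 9, 11, 5, 4, 8, 9, 3, 4, 8, 5, 6], 7, []⟩ : Fct)) (lfA (⟨7, [5, 4, 6, 5, 3, 4, 8, 9, 11], 5, [1]⟩ : Fct))))))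
noncomputable def FT5 : ℕ → Fct := (ndA (nat_lit 88) (ndA (nat_lit 84) (ndA (nat_lit 82) (ndA (nat_lit 81) (lfA (⟨5, [1, 2, 4, 3, 2, 5, 4, 8, 4, 3, 5, 4, 6, 5, 9, 8, 4, 3, 2, 1], 8, []⟩ : Fct)) (lfA (⟨8, [4, 5, 6, 3, 4, 5, 2, 3, 4], 8, []⟩ : Fct))) (ndA (nat_lit 83) (lfA (⟨8, [8, 5, 6, 5, 4, 8, 3, 4, 8, 5, 4, 3, 2, 3, 4, 8, 5, 4, 6, 5, 3, 4, 8, 2, 3, 4, 5], 8, []⟩ : Fct)) (lfA (⟨8, [9, 8, 9, 4, 8, 9, 5, 4, 8, 9, 3, 4, 8, 9, 5, 4, 8, 3, 4, 5, 2, 3, 4, 8, 9, 5, 4, 8, 3, 4, 5, 2, 3, 4, 8, 9], 8, []⟩ : Fct)))) (ndA (nat_lit 86) (ndA (nat_lit 85) (lfA (⟨8, [], 2, [11, 9, 8, 4, 3, 2, 5, 4, 3, 8, 4, 9, 6, 5, 4, 3, 8, 4, 9, 11, 1, 2, 3, 4, 8, 9, 5, 4, 8, 6, 5, 4, 3, 2, 1]⟩ : Fct)) (lfA (⟨8, [7, 6, 5, 4,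 8, 9, 3, 4, 8, 2, 3, 4, 5, 6, 7], 3, [1, 2, 1, 3, 2, 4, 3, 8, 4, 9, 8, 4, 3, 2, 1, 5, 4, 3, 2, 1, 8, 4, 3, 2, 9, 8, 4, 3, 5, 6, 5, 4, 3, 2, 1, 8, 4, 3, 2, 9, 8, 4, 3, 5, 4, 6, 5]⟩ : Fct))) (ndA (nat_lit 87) (lfA (⟨8, [11, 9, 11, 8, 9, 11, 4, 8, 9, 11, 5, 4, 8, 9, 11, 6, 5, 4, 8, 9, 11], 8, []⟩ : Fct)) (lfA (⟨4, [9, 8, 4, 3, 2, 5, 4, 3, 6, 5, 7, 6, 8, 4, 5, 9, 8, 4, 3, 2, 1], 9, []⟩ : Fct))))) (ndA (nat_lit 92) (ndA (nat_lit 90) (ndA (nat_lit 89) (lfA (⟨9, [7], 9, []⟩ : Fct)) (lfA (⟨9, [3], 9, []⟩ : Fct))) (ndA (nat_lit 91) (lfA (⟨9, [8], 9, []⟩ : Fct)) (lfA (⟨9, [5], 9, []⟩ : Fct)))) (ndA (nat_lit 94) (ndA (nat_lit 93) (lfA (⟨9, [11, 9, 8, 4, 5, 6, 3, 4, 8, 9, 11, 5, 4, 8, 9, 3, 4, 8, 5, 4, 6, 5,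 3, 4, 8, 9, 11, 2, 3, 4, 8, 9, 5, 4, 8, 3, 4, 5, 2, 3, 4, 8, 9], 9, []⟩ : Fct)) (lfA (⟨9, [9, 8, 9, 4, 8, 9, 5, 4, 8, 9, 3, 4, 8, 9, 5, 4, 8, 3, 4, 5, 2, 3, 4, 8, 9, 5, 4, 8, 3, 4, 5, 2, 3, 4, 8, 9], 9, []⟩ : Fct))) (ndA (nat_lit 95) (lfA (⟨9, [9, 8, 4, 5, 6, 7, 3, 4, 8, 9, 5, 4, 8, 6, 5, 4], 9, []⟩ : Fct)) (lfA (⟨9, [], 6, [3, 2, 4, 3, 8, 9, 5, 4, 8, 6, 5, 4, 3, 2, 1]⟩ : Fct))))))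
noncomputable def FT6 : ℕ → Fct := (ndA (nat_lit 104) (ndA (nat_lit 100) (ndA (nat_lit 98) (ndA (nat_lit 97) (lfA (⟨9, [9, 8, 4, 8, 9, 5, 3, 4, 8, 9, 11, 5, 4, 2, 3, 4, 8, 9, 5, 4, 8, 3, 4, 5, 2, 3, 4, 8, 9], 9, []⟩ : Fct)) (lfA (⟨9, [9, 11], 5, [4, 7, 6, 5, 8, 4, 3, 2, 1]⟩ : Fct))) (ndA (nat_lit 99) (lfA (⟨5, [4, 3, 5, 7, 8, 4, 1, 2, 3, 4, 5, 6, 8, 4, 5, 9, 8, 4, 3, 2, 1], 10, []⟩ : Fct)) (lfA (⟨10, [4, 5, 6, 3, 4, 5, 2, 3, 4], 10, []⟩ : Fct)))) (ndA (nat_lit 102) (ndA (nat_lit 101) (lfA (⟨10, [11, 9, 8, 4, 5, 6, 3, 4, 8, 9, 11, 5, 4, 8, 9, 3, 4, 8, 5, 4, 6, 5, 3, 4, 8, 9, 11, 2, 3, 4, 8, 9, 5, 4, 8, 3, 4, 5, 2, 3, 4, 8, 9], 10, []⟩ : Fct)) (lfA (⟨10, [4, 5, 6, 5, 4, 8, 7, 6, 5, 3, 4, 8, 5, 4, 6,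 7, 2, 3, 4, 8, 5, 4, 6, 5, 3, 4, 8], 10, []⟩ : Fct))) (ndA (nat_lit 103) (lfA (⟨10, [9, 5, 2], 10, []⟩ : Fct)) (lfA (⟨10, [5, 4, 3, 2, 5, 8, 4, 3, 4, 5, 6, 8, 4, 5, 9, 8, 4, 3, 2, 4, 5, 9, 8, 4, 3, 7, 4, 5, 6, 8, 4, 5, 9, 8, 4, 3, 8, 4, 5, 6, 8], 10, []⟩ : Fct))))) (ndA (nat_lit 108) (ndA (nat_lit 106) (ndA (nat_lit 105) (lfA (⟨10, [], 6, [3, 2, 4, 3, 8, 4, 9, 5, 4, 3, 8, 4, 9, 11, 1, 2, 3, 4, 8, 9, 5, 4, 8, 6, 5, 4, 3, 2, 1]⟩ : Fct)) (lfA (⟨10, [7, 6, 5, 4, 8, 9, 3, 4, 8, 2, 3, 4, 5, 6, 7], 3, [9, 2, 3, 4, 8, 1, 2, 3, 4, 5, 6, 5, 4, 8, 2, 3, 4, 5, 9, 8, 4, 3, 2, 1, 3, 4, 8, 2, 3, 4, 5, 6, 4, 8, 3, 4, 5, 9, 8, 2, 3, 4, 2]⟩ : Fct))) (ndA (nat_lit 107) (lfA (⟨10, [11, 9, 11, 8, 9, 4, 8, 9, 6, 5, 4,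 8, 9, 11, 2, 3, 4, 8, 9, 11, 5, 4, 8, 9, 3, 4, 5, 6, 2], 10, []⟩ : Fct)) (lfA (⟨9, [2, 3, 4, 8, 9, 5, 4, 8, 6, 5, 7, 6, 3, 4, 5, 2, 3, 4, 8, 9, 11], 11, []⟩ : Fct)))) (ndA (nat_lit 110) (ndA (nat_lit 109) (lfA (⟨11, [3], 11, []⟩ : Fct)) (lfA (⟨11, [5], 11, []⟩ : Fct))) (ndA (nat_lit 111) (lfA (⟨11, [7], 11, []⟩ : Fct)) (lfA (⟨11, [8], 11, []⟩ : Fct))))))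
noncomputable def FT7 : ℕ → Fct := (ndA (nat_lit 120) (ndA (nat_lit 116) (ndA (nat_lit 114) (ndA (nat_lit 113) (lfA (⟨11, [3, 4, 5, 6, 5, 4, 3, 7, 6, 5, 4, 8, 4, 3, 5, 4, 6, 5, 7, 6, 8, 4, 3], 11, []⟩ : Fct)) (lfA (⟨11, [3, 4, 3, 5, 4, 6, 5, 7, 6, 8, 4, 3, 5, 4, 6, 5, 7, 6, 8, 4, 3, 5, 4], 11, []⟩ : Fct))) (ndA (nat_lit 115) (lfA (⟨11, [4, 3, 2, 5, 4, 3, 6, 5, 4, 7, 6, 5, 8, 4, 3, 2], 11, []⟩ : Fct)) (lfA (⟨11, [3, 6, 5, 8, 4, 3, 5, 4, 6, 5, 9, 8, 4, 3, 5, 4, 6, 5, 8, 4, 7, 6, 5, 4, 3, 8, 4, 5, 6, 9, 8], 11, []⟩ : Fct)))) (ndA (nat_lit 118) (ndA (nat_lit 117) (lfA (⟨8, [7, 6, 5, 4, 8, 9, 3, 4, 8, 5, 4, 6, 2, 3, 4, 8, 5, 4, 6, 7, 11, 9, 8, 4, 5, 6, 3, 4, 5, 2, 3, 4, 8, 9, 11], 12, []⟩ : Fct)) (lfA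 (⟨12, [4, 3, 2, 8, 4, 3, 9, 8, 4], 12, []⟩ : Fct))) (ndA (nat_lit 119) (lfA (⟨12, [4, 3, 5, 4, 6, 5, 4, 7, 6, 8, 4, 3, 5, 4, 8, 9, 8, 4, 3, 2, 5, 4, 3, 8, 4, 5, 6, 7], 12, []⟩ : Fct)) (lfA (⟨12, [2, 4, 3, 5, 4, 6, 5, 7, 6, 8, 4, 3, 2, 5, 4, 3, 6, 5, 7, 6, 8, 4, 3, 2, 5, 4, 3, 6, 7, 8, 9, 8, 4, 3, 5, 4, 6, 5, 7, 8, 4, 3, 2, 9, 8, 4], 12, []⟩ : Fct))))) (ndA (nat_lit 124) (ndA (nat_lit 122) (ndA (nat_lit 121) (lfA (⟨12, [3, 5, 4, 3, 2, 6, 5, 4, 3, 7, 6, 5, 4, 8, 4, 3, 2, 5, 4, 3, 8, 9, 8, 4, 3, 2, 5, 4, 3, 6, 5, 4, 7, 8, 4, 5], 12, []⟩ : Fct)) (lfA (⟨12, [5, 4, 3, 6, 5, 4, 3, 2, 8, 4, 3, 2, 5, 4, 6, 5, 7, 6, 8, 4, 3, 9, 8, 4, 3, 2, 5, 4, 3, 6, 8, 4, 5, 6], 12, []⟩ : Fct))) (ndA (nat_lit 123) (lfA (⟨12,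 [], 3, [9, 2, 3, 4, 8, 1, 2, 3, 4, 5, 6, 3, 4, 8, 2, 3, 4, 5, 9, 8, 4, 3, 2, 1, 9, 11, 8, 9, 4, 8, 3, 4, 5, 11, 4, 8, 9, 3, 4, 8, 2, 3, 4, 5, 6, 11, 9, 8, 3, 4, 5, 4, 8, 9, 11, 4, 8, 9, 8, 4, 2, 3]⟩ : Fct)) (lfA (⟨12, [1, 4, 3, 6, 5, 4, 3, 8, 4, 3, 2, 5, 4, 3, 6, 5, 4, 8, 4, 3, 2, 5, 4, 9, 8, 4, 3, 2, 1, 5, 4, 3, 6, 5, 4, 8, 4, 3, 5, 4, 9, 8, 4], 12, []⟩ : Fct)))) (ndA (nat_lit 126) (ndA (nat_lit 125) (lfA (⟨12, [2, 1], 10, [7, 6, 5, 4, 3, 2, 8, 4, 3, 8, 4, 5, 6, 9, 8, 4, 5, 11, 9, 8, 4, 3, 2, 6, 4, 5, 11, 9, 8, 4, 3, 7, 6, 5, 4, 8, 9, 11, 5, 4, 3, 2, 8, 4, 5, 9, 8, 4, 3, 8, 4, 5, 6, 9, 8, 4, 5, 4, 9]⟩ : Fct)) (lfA (⟨8, [7, 6, 5, 4, 8, 9, 3, 4, 8, 9, 5, 4, 6, 2, 3, 4, 8, 5, 4, 6, 7, 11, 9, 8, 4,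 5, 6, 3, 4, 5, 2, 3, 4, 8, 9, 11], 13, []⟩ : Fct))) (ndA (nat_lit 127) (lfA (⟨13, [3, 4, 3, 5, 4, 3, 6, 5, 4, 3, 2, 8, 4, 3, 5, 9, 8, 4, 3, 2, 5, 4, 3, 6, 5, 4, 7, 8, 4, 3, 5, 4, 6, 5, 9, 8, 4, 3, 5, 4, 6, 5], 13, []⟩ : Fct)) (lfA (⟨13, [1, 2, 3, 4, 5, 6, 8, 4, 3, 2, 1, 5, 4, 3, 2, 8, 4, 3, 5, 4, 6, 5, 8, 4, 3, 2, 1, 9, 8, 4, 3, 2, 5, 4, 3, 8, 4, 5, 9, 8, 4, 3, 2], 13, []⟩ : Fct))))))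
noncomputable def FT8 : ℕ → Fct := (ndA (nat_lit 136) (ndA (nat_lit 132) (ndA (nat_lit 130) (ndA (nat_lit 129) (lfA (⟨13, [], 3, [1, 2, 1, 3, 2, 4, 3, 8, 4, 9, 8, 4, 3, 2, 1, 5, 4, 3, 2, 1, 8, 4, 3, 2, 9, 8, 4, 6, 5, 4, 3, 2, 1, 8, 4, 3, 2, 9, 8, 4, 3, 5, 4, 3, 8, 4, 6, 11, 9, 8, 4, 3, 2, 5, 4, 3, 6, 5, 4, 8, 9, 11]⟩ : Fct)) (lfA (⟨13, [8, 9, 5, 1, 2, 3, 4, 8, 4, 5, 6, 3, 4, 5, 2, 3, 4, 8, 9, 8, 6, 3, 4, 5, 2, 3, 4, 8, 6, 2, 3, 4, 5, 2, 3, 4, 2, 3, 2, 1], 13, []⟩ : Fct))) (ndA (nat_lit 131) (lfA (⟨13, [2, 1], 10, [4, 5, 3, 4, 8, 9, 5, 4, 8, 6, 5, 4, 3, 4, 8, 5, 4, 6, 5, 2, 3, 4, 8, 9, 5, 4, 8, 6, 5, 3, 7, 6, 5, 4, 8, 9, 11, 3, 4, 8, 9, 5, 4, 6, 2, 3, 4, 8, 9, 5, 4, 8, 6, 5, 7, 6, 3, 4, 8, 5, 6, 2,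 3, 4, 8, 9, 11, 5]⟩ : Fct)) (lfA (⟨7, [5, 4, 8, 9, 6, 5, 4, 7, 6, 3, 4, 8, 9, 5, 4, 8, 6, 5, 3, 4, 2, 3, 11, 9, 8, 4, 5, 6, 7], 14, []⟩ : Fct)))) (ndA (nat_lit 134) (ndA (nat_lit 133) (lfA (⟨14, [2, 3, 4, 3, 2, 11, 9, 6, 5, 4, 3, 2], 14, []⟩ : Fct)) (lfA (⟨14, [2, 3, 2, 4, 9, 8, 4, 3, 2, 11, 5, 4, 3, 2, 8, 4, 5, 6, 5, 4, 3, 2, 8, 4, 3, 5, 4, 8, 9, 11, 6, 5], 14, []⟩ : Fct))) (ndA (nat_lit 135) (lfA (⟨14, [9, 4, 8, 2, 3, 4, 5, 6, 9, 8, 3, 4, 5, 9, 11, 4, 8, 9, 3, 4, 8, 2, 3, 4, 5, 6, 8, 4, 5, 2, 3, 4, 8, 9, 3, 4, 2], 14, []⟩ : Fct)) (lfA (⟨14, [], 5, [4, 3, 5, 7, 6, 5, 4, 8, 4, 3, 5, 4, 9, 8, 1, 2, 3, 4, 5, 6, 7]⟩ : Fct))))) (ndA (nat_lit 140) (ndA (nat_lit 138) (ndA (nat_lit 137) (lfA (⟨14, [4, 8,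 9, 8, 5, 4, 3, 2, 1, 8, 4, 3, 9, 8, 4, 5, 4, 3, 2, 8, 4, 6, 5, 4, 3, 2, 8, 4, 3, 9, 8, 5, 4, 6, 5], 14, []⟩ : Fct)) (lfA (⟨14, [1], 9, [9, 4, 8, 6, 5, 4, 2, 3, 11, 9, 8, 4, 5, 6, 7]⟩ : Fct))) (ndA (nat_lit 139) (lfA (⟨14, [8, 4, 9, 8, 6, 5, 4, 3, 2, 1], 10, [2, 6, 5, 4, 3, 5, 6, 8, 4, 5, 9, 8, 4, 3, 2, 7, 5, 6, 4, 5, 9, 8, 4, 3, 7, 4, 5, 6, 8, 4, 5, 9, 8, 4, 3, 4, 5, 6, 7, 4, 5, 9]⟩ : Fct)) (lfA (⟨14, [4, 3, 8, 4, 9, 8, 5, 4, 3, 2, 1], 10, [5, 6, 3, 4, 8, 9, 5, 4, 8, 6, 5, 4, 3, 4, 8, 9, 5, 4, 8, 6, 5, 4, 7, 3]⟩ : Fct)))) (ndA (nat_lit 142) (ndA (nat_lit 141) (lfA (⟨14, [8, 4, 9, 8, 4, 3, 5, 4, 6, 5, 4, 3, 2, 1, 2, 3, 4, 8, 9, 11], 13, [1, 2, 1, 3, 4, 3, 2, 5, 6, 5, 4, 3, 2, 8, 4, 3, 9, 8, 4, 3,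 2, 5, 4, 6, 5, 8, 4, 3, 2, 9, 8, 7, 6, 5, 4, 3, 2, 8, 4, 3, 5, 6, 9, 8, 4, 5, 6]⟩ : Fct)) (lfA (⟨10, [5, 6, 3, 4, 8, 9, 5, 4, 8, 6, 5, 4, 7, 3, 4, 8, 9, 5, 4, 8, 6, 5, 7, 6, 2, 3, 4, 8, 9, 11], 13, [1, 2, 1, 3, 4, 3, 6, 5, 4, 3, 2, 8, 4, 3, 5, 4, 6, 5, 8, 9, 8, 4, 3, 2, 1, 5, 4, 3, 6, 5, 4, 8, 4, 3, 9, 8, 4, 5, 7, 6, 5, 4, 3, 2, 1, 8, 4, 3, 2, 5, 4, 3, 6, 5, 9, 8, 4, 3, 2, 5, 4, 3, 6, 8, 4, 5, 6, 9]⟩ : Fct))) (ndA (nat_lit 143) (lfA (⟨13, [1, 2, 1, 3, 4, 3, 2, 5, 6, 5, 4, 3, 2, 8, 4, 3, 9, 8, 4, 3, 2, 5, 4, 6, 5, 8, 4, 3, 2, 9, 8, 7, 6, 5, 4, 3, 2, 1, 8, 4, 3, 5, 6, 9, 8, 4, 5, 6], 9, [9, 4, 8, 6, 5, 4, 8, 7, 2, 3, 4, 8, 5, 4, 6, 5, 7, 11, 9, 8, 4, 5, 6, 7, 3, 4, 5, 2, 3, 4, 8, 9, 11]⟩ : Fct)) (lfA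 (⟨8, [7], 15, []⟩ : Fct))))))
noncomputable def FT9 : ℕ → Fct := (ndA (nat_lit 152) (ndA (nat_lit 148) (ndA (nat_lit 146) (ndA (nat_lit 145) (lfA (⟨15, [1, 2, 3, 4, 8, 9, 5, 4, 3, 2, 1, 8, 4, 3, 2, 5, 4, 3, 8, 4, 9, 8, 5, 4, 3, 2, 1], 15, []⟩ : Fct)) (lfA (⟨15, [2, 3, 2, 4, 3, 2, 9, 11, 9, 5, 4, 3, 8, 4, 9, 8, 11, 9, 5, 4, 3, 2, 8, 4, 3, 5, 4], 15, []⟩ : Fct))) (ndA (nat_lit 147) (lfA (⟨15, [3, 8, 5], 15, []⟩ : Fct)) (lfA (⟨15, [1, 2, 1, 3, 4, 8, 9, 8, 5, 4, 3, 2, 1, 8, 4, 3, 2, 9, 5, 4, 3, 8, 4, 9, 8, 5, 4, 3, 2, 1], 15, []⟩ : Fct)))) (ndA (nat_lit 150) (ndA (nat_lit 149) (lfA (⟨15, [3, 4, 3, 2, 8, 11, 9, 5, 4, 3, 2, 8, 4, 3, 9, 8, 4, 11, 5, 4, 3], 15, []⟩ : Fct)) (lfA (⟨15, [3, 4, 3, 8, 4, 3, 9,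 8, 4, 3, 11, 9, 5, 4, 3, 2, 8, 4, 3, 9, 8, 4, 11, 5, 4, 3, 8, 9, 11], 15, []⟩ : Fct))) (ndA (nat_lit 151) (lfA (⟨15, [], 5, [4, 3, 5, 8, 4, 1, 2, 3, 4, 5, 6, 7, 8, 4, 5, 9, 8, 4, 3, 2, 1]⟩ : Fct)) (lfA (⟨15, [1, 2, 8, 4, 3, 9, 8, 4, 5, 4, 3, 2, 1, 8, 4, 9, 8], 15, []⟩ : Fct))))) (ndA (nat_lit 156) (ndA (nat_lit 154) (ndA (nat_lit 153) (lfA (⟨15, [1], 7, [5, 4, 8, 9, 6, 5, 4, 3, 4, 8, 9, 5, 4, 2, 3, 4, 8, 5, 4, 6, 5, 7, 11, 9, 8, 4, 3, 2]⟩ : Fct)) (lfA (⟨15, [6, 5, 4, 3, 2, 1], 10, [7, 6, 5, 4, 3, 2]⟩ : Fct))) (ndA (nat_lit 155) (lfA (⟨15, [1, 2, 3, 4, 8, 9, 5, 4, 8, 6, 5, 4, 3, 2, 1], 9, [9, 4, 6, 5, 2, 3, 4, 5, 6, 7, 11]⟩ : Fct)) (lfA (⟨15, [9, 8, 1, 2, 3, 4, 5, 6, 9, 8, 2, 3, 4, 5, 1, 2, 3, 4,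 8, 9, 11, 6, 5, 8, 9, 4, 8, 2, 3, 4, 5, 6, 4, 8, 2, 3, 4, 5, 4, 8, 9, 1, 2, 3, 4, 8, 2, 3, 4, 2, 3, 2, 1], 15, []⟩ : Fct)))) (ndA (nat_lit 158) (ndA (nat_lit 157) (lfA (⟨15, [6, 5, 4, 3, 2, 8, 4, 3, 9, 1, 2, 3, 4, 8, 5, 4, 3, 6, 5, 4, 8, 9, 11], 13, [2, 3, 6, 5, 4, 7, 6, 5, 4, 3, 8, 4, 3, 5, 4, 6, 5, 7, 6, 8, 4, 9, 8, 4, 3, 5, 6, 7, 1, 2, 3, 4, 5, 6, 7, 8, 4, 3, 2, 5, 4, 6, 5, 8, 9, 8, 4, 3, 5, 4, 6, 5, 7, 8, 9]⟩ : Fct)) (lfA (⟨15, [1, 2, 3, 4, 8, 9, 11, 5, 4, 3, 2, 8, 4, 9, 6, 5, 4, 3, 2, 1, 8, 4, 3, 2, 9, 8, 5, 4, 3, 6, 5, 4, 8, 9, 11], 11, []⟩ : Fct))) (ndA (nat_lit 159) (lfA (⟨11, [1, 4, 3, 5, 4, 3, 8, 4, 3, 5, 4, 8], 11, []⟩ : Fct)) (lfA (⟨11, [1, 2, 1, 3, 2, 1, 5, 4, 3, 2, 1, 6, 5, 4, 8, 4,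 3, 2, 1, 5, 4, 3, 2, 6, 8, 4, 3, 5, 6, 9, 8, 4, 3, 2, 1, 5, 4, 3, 2, 6, 5, 8, 4, 3, 2, 1, 5, 4, 6, 5, 9, 8, 4, 3, 2, 5, 6], 11, []⟩ : Fct))))))
noncomputable def FT10 : ℕ → Fct := (ndA (nat_lit 168) (ndA (nat_lit 164) (ndA (nat_lit 162) (ndA (nat_lit 161) (lfA (⟨7, [5, 4, 8, 9, 6, 5, 4, 7, 3, 4, 8, 5, 4, 6, 5, 2, 3, 4, 8, 9, 11], 16, []⟩ : Fct)) (lfA (⟨16, [4], 16, []⟩ : Fct))) (ndA (nat_lit 163) (lfA (⟨16, [2, 3, 4, 5, 6, 8, 4, 3, 2, 5, 4, 3, 8, 4, 5, 6], 16, []⟩ : Fct)) (lfA (⟨16, [2, 3, 2, 4, 3, 5, 4, 3, 2, 8, 4, 3, 2, 5, 4, 3, 8, 4, 5, 9, 8, 4, 3, 2, 5, 4, 3, 8, 4, 5, 9, 8, 4, 3, 2], 16, []⟩ : Fct)))) (ndA (nat_lit 166) (ndA (nat_lit 165) (lfA (⟨16, [2, 6, 5, 4, 3, 8, 4, 5, 6, 9, 8, 4, 3, 5,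 4, 6, 8, 9, 7, 6, 5, 4, 3, 2, 8, 4, 5, 6, 9], 16, []⟩ : Fct)) (lfA (⟨16, [], 6, [3, 2, 4, 3, 8, 4, 9, 5, 4, 3, 8, 4, 6, 5, 1, 2, 3, 4, 8, 9, 11]⟩ : Fct))) (ndA (nat_lit 167) (lfA (⟨16, [5, 6, 7], 15, [6, 5, 1, 2, 3, 4, 8, 9, 11, 5, 4, 8, 9, 6, 5, 4, 8]⟩ : Fct)) (lfA (⟨16, [8, 4, 5, 6, 7], 15, [8, 9, 11, 9, 8, 5, 4, 3, 8, 4, 9, 11, 1, 2, 3, 4, 8, 9, 11, 5, 4, 3, 2, 8, 4, 3, 9, 6, 5, 4, 8, 9, 11]⟩ : Fct))))) (ndA (nat_lit 172) (ndA (nat_lit 170) (ndA (nat_lit 169) (lfA (⟨16, [8, 4, 3, 9, 8, 4, 5, 6, 7], 15, [8, 4, 3, 9, 8, 11, 9, 8, 5, 4, 3, 8, 4, 9, 8, 5, 6, 5, 4, 8, 9, 1, 2, 3, 4, 8, 9, 11, 5, 4, 3, 8, 6, 5, 4, 3, 8, 9]⟩ : Fct)) (lfA (⟨16, [3, 2, 8, 4, 3, 9, 8, 4, 5, 6, 7], 14, [8, 9, 11]⟩ : Fct)))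 (ndA (nat_lit 171) (lfA (⟨16, [2, 5, 4, 3, 2, 7, 6, 5, 4, 3, 2, 8, 4, 3, 2, 5, 4, 3, 6, 5, 4, 7, 6, 5, 8, 4, 3, 2, 5, 4, 3, 9, 8, 4, 3, 5, 4, 6, 7, 8, 9, 1, 2, 3, 4, 5, 8, 4, 3, 2, 9, 8, 4, 3], 16, []⟩ : Fct)) (lfA (⟨16, [3, 2, 1], 9, [4, 6, 5, 2, 3, 4, 8, 9, 11]⟩ : Fct)))) (ndA (nat_lit 174) (ndA (nat_lit 173) (lfA (⟨16, [8, 4, 3, 2, 1], 9, [9, 8, 9, 4, 8, 9, 5, 4, 8, 9, 6, 5, 4, 8, 3, 4, 8, 9, 5, 4, 8, 6, 5, 4, 2, 3, 4, 8, 9, 11]⟩ : Fct)) (lfA (⟨16, [8, 4, 5, 9, 8, 4, 3, 2, 1], 9, [8, 9, 4, 8, 9, 6, 3, 4, 8, 5, 4, 6, 5, 3, 4, 2, 3, 4, 5, 6, 11, 9, 8, 4, 5, 6, 3, 4, 8, 5, 4, 3, 2, 3, 4, 8, 9, 11, 5, 4, 6, 5, 3, 4]⟩ : Fct))) (ndA (nat_lit 175) (lfA (⟨16, [5, 6, 8, 4, 5, 9, 8, 4, 3, 2, 1], 10, [8,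 9, 11]⟩ : Fct)) (lfA (⟨16, [5, 6, 7, 8, 4, 3, 5, 4, 6, 5, 9, 8, 4, 3, 2, 1], 10, [9, 8, 5, 4, 8, 7, 6, 5, 3, 4, 8, 9, 2, 3, 4, 8, 9, 5, 4, 8, 3, 2, 11, 9, 8, 4, 5, 3, 4, 8, 9]⟩ : Fct))))))
noncomputable def FT11 : ℕ → Fct := (ndA (nat_lit 184) (ndA (nat_lit 180) (ndA (nat_lit 178) (ndA (nat_lit 177) (lfA (⟨16, [5, 4, 3, 6, 7, 8, 4, 5, 9, 8, 4, 1, 2, 3, 4, 5, 6, 8, 4, 5, 9, 8, 4, 3, 2, 1], 8, [9, 8, 4, 8, 9, 5, 4, 8, 7, 3, 4, 8, 5, 2, 3, 4, 8, 9, 5, 4, 8, 6, 3, 11, 9, 8, 4, 5, 6, 3, 4, 8, 9, 11, 5, 2]⟩ : Fct)) (lfA (⟨7, [5, 4, 8, 6, 5, 7, 6, 3, 4, 5, 2, 3, 4, 8, 9, 11], 17, []⟩ : Fct))) (ndA (nat_lit 179) (lfA (⟨17, [7], 17, []⟩ : Fct)) (lfA (⟨17, [3], 17, []⟩ : Fct)))) (ndA (nat_lit 182) (ndA (nat_lit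 181) (lfA (⟨17, [5], 17, []⟩ : Fct)) (lfA (⟨17, [9], 17, []⟩ : Fct))) (ndA (nat_lit 183) (lfA (⟨17, [6, 5, 7, 6, 5, 4, 3, 8, 4, 5, 6, 7, 9, 8, 4, 3, 5, 4, 6, 5, 7, 8, 4, 3, 9, 8, 4, 5], 17, []⟩ : Fct)) (lfA (⟨17, [3, 4, 3, 2, 5, 4, 3, 2, 8, 4, 3, 2, 5, 4, 3, 9, 8, 4, 3, 2, 5, 4, 3, 6, 7, 8, 4, 5, 6, 7, 9, 8], 17, []⟩ : Fct))))) (ndA (nat_lit 188) (ndA (nat_lit 186) (ndA (nat_lit 185) (lfA (⟨17, [], 6, [3, 2, 4, 3, 8, 5, 4, 6, 5, 1, 2, 3, 4, 8, 9, 11]⟩ : Fct)) (lfA (⟨17, [4, 5, 4, 3, 6, 5, 4, 3, 7, 6, 5, 4, 3, 8, 4, 3, 2, 5, 4, 9, 8, 4, 3, 2, 5, 4, 3, 8, 9, 1, 2, 3, 4, 5, 6, 8], 17, []⟩ : Fct))) (ndA (nat_lit 187) (lfA (⟨17, [8, 4, 5, 6, 7], 15, [1, 2, 3, 4, 8, 9, 11, 5, 4, 3, 2, 8, 4, 9, 6, 5, 4,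 8, 9, 11]⟩ : Fct)) (lfA (⟨17, [8, 4, 3, 2, 1], 9, [2, 3, 4, 8, 9, 11]⟩ : Fct)))) (ndA (nat_lit 190) (ndA (nat_lit 189) (lfA (⟨17, [4, 6, 5, 8, 4, 3, 2, 1], 9, [3, 2, 4, 3, 5, 6, 8, 4, 5, 9, 8, 4, 3, 2, 6, 4, 5, 8, 4, 3, 8, 4, 5, 6, 5, 4, 9, 11]⟩ : Fct)) (lfA (⟨17, [2, 4, 8, 4, 3, 5, 4, 6, 5, 9, 8, 4, 3, 2, 1], 10, [11, 9, 8, 4, 5, 3, 4, 8, 9, 11, 2, 3, 4, 8, 9, 5, 4, 8, 3, 4, 5, 2, 3, 4, 8, 9]⟩ : Fct))) (ndA (nat_lit 191) (lfA (⟨11, [4, 6, 5, 9, 8, 4, 3, 2, 1], 18, []⟩ : Fct)) (lfA (⟨18, [8, 9, 7, 6], 18, []⟩ : Fct))))))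
noncomputable def FT12 : ℕ → Fct := (ndA (nat_lit 197) (ndA (nat_lit 194) (ndA (nat_lit 193) (lfA (⟨18, [8, 4, 8, 5, 4, 6, 5, 4, 8, 7, 6, 5, 4, 8], 18, []⟩ : Fct)) (lfA (⟨18, [2], 18, []⟩ : Fct))) (ndA (nat_lit 195) (lfA (⟨18, [9, 4], 18, []⟩ : Fct)) (ndA (nat_lit 196) (lfA (⟨18, [8, 4, 8, 5, 4, 6, 5, 7, 3, 4, 8, 9, 5, 6, 2, 3, 4, 8, 9, 5, 4, 8, 6, 5, 4, 7, 6, 3, 4, 5, 6, 2, 3, 4, 8, 5, 4], 18, []⟩ : Fct)) (lfA (⟨18, [], 15, [1, 2, 3, 4, 5, 6, 8, 4, 5, 9, 11, 8, 9, 3, 4, 8, 2, 3, 4, 5, 6, 9, 4, 8, 2, 3, 4, 5, 1, 2, 3, 4, 8, 9, 11, 6, 4, 5, 9, 8, 4, 3, 2, 1]⟩ : Fct))))) (ndA (nat_lit 199) (ndA (nat_lit 198) (lfA (⟨18, [11], 17, [8, 4, 3, 2, 5, 4, 3, 6, 5, 4, 7, 6, 8, 4, 5, 6, 9, 1, 2, 3, 4, 5, 8,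 4, 3, 2, 1, 9]⟩ : Fct)) (lfA (⟨18, [3, 4, 8, 9, 11], 13, [8, 9, 6, 5, 4, 8, 5, 6, 2, 3, 4, 5, 1, 2, 3, 4, 8, 9, 5, 6, 3, 4, 5, 2, 3, 4, 8, 7, 6, 5, 4, 3, 2, 1, 8, 6, 4, 5, 3, 4, 8, 9, 8, 6, 4, 5, 2, 3, 4, 8, 6, 7, 4, 5, 6, 3, 4, 5, 2, 3, 4, 8, 9, 5, 6, 4, 5, 3, 4, 8, 5, 6, 5, 3, 4, 2]⟩ : Fct))) (ndA (nat_lit 200) (lfA (⟨18, [5, 3, 4, 8, 9, 11], 16, [5, 4, 8, 4, 3, 2, 5, 4, 3, 6, 5, 4, 7, 6, 5, 8, 4, 3, 2, 5, 4, 3, 6, 5, 4, 9, 8, 4, 3, 2, 5, 6, 1, 2, 3, 4, 5, 8, 4, 3, 2, 9, 8]⟩ : Fct)) (ndA (nat_lit 201) (lfA (⟨18, [3, 4, 5, 2, 3, 4, 8, 9, 11], 16, [5, 4, 8, 4, 3, 2, 5, 4, 3, 6, 5, 4, 7, 6, 5, 8, 4, 3, 2, 5, 4, 3, 6, 8, 4, 9, 8, 4, 3, 2, 5, 4, 8, 9, 1, 2, 3, 4, 5, 8, 4, 3, 9, 8]⟩ : Fct)) (lfA (⟨18,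 [9, 11, 8, 5, 4, 8, 9, 11, 6, 3, 4, 8, 5, 4, 6, 2, 3, 4, 8, 9, 5, 4, 8, 6, 5, 3, 4, 5, 2, 7, 6, 5, 4, 8, 9, 11, 3, 4, 8, 9, 5, 6, 2, 3, 4], 18, []⟩ : Fct))))))
noncomputable def FT : ℕ → Fct := (ndA (nat_lit 96) (ndA (nat_lit 48) (ndA (nat_lit 16) FT0 (ndA (nat_lit 32) FT1 FT2)) (ndA (nat_lit 64) FT3 (ndA (nat_lit 80) FT4 FT5))) (ndA (nat_lit 144) (ndA (nat_lit 112) FT6 (ndA (nat_lit 128) FT7 FT8)) (ndA (nat_lit 176) (ndA (nat_lit 160) FT9 FT10) (ndA (nat_lit 192) FT11 FT12))))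

noncomputable def DT0 : ℕ → Der := (ndA (nat_lit 8) (ndA (nat_lit 4) (ndA (nat_lit 2) (ndA (nat_lit 1) (lfA (⟨1, 0, 0, [], [], 0⟩ : Der)) (lfA (⟨1, 0, 0, [], [], 0⟩ : Der))) (ndA (nat_lit 3) (lfA (⟨1, 0, 0, [], [], 0⟩ : Der)) (lfA (⟨1, 0, 0, [], [], 0⟩ : Der)))) (ndA (nat_lit 6) (ndA (nat_lit 5) (lfA (⟨1, 0, 0, [], [], 0⟩ : Der)) (lfA (⟨1, 0, 0, [], [], 0⟩ : Der))) (ndA (nat_lit 7) (lfA (⟨1, 0, 0, [], [], 0⟩ : Der)) (lfA (⟨1, 0, 0, [], [], 0⟩ : Der))))) (ndA (nat_lit 12) (ndA (nat_lit 10) (ndA (nat_lit 9) (lfA (⟨1, 0, 0, [], [], 0⟩ : Der)) (lfA (⟨0, 0, 0, [], [], 1⟩ : Der))) (ndA (nat_lit 11) (lfA (⟨2, 0, 0, [], [⟨0, [], 19, 1, [2]⟩, ⟨0, [2], 18, 0, []⟩], 1⟩ : Der)) (lfA (⟨2, 0, 0, [], [⟨0, [],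 19, 1, [3]⟩, ⟨0, [4], 18, 0, []⟩], 1⟩ : Der)))) (ndA (nat_lit 14) (ndA (nat_lit 13) (lfA (⟨2, 0, 0, [], [⟨0, [], 19, 1, [4]⟩, ⟨0, [6], 18, 0, []⟩], 1⟩ : Der)) (lfA (⟨2, 0, 0, [], [⟨0, [], 19, 1, [5]⟩, ⟨0, [8], 18, 0, []⟩], 1⟩ : Der))) (ndA (nat_lit 15) (lfA (⟨2, 0, 0, [], [⟨0, [], 19, 1, [6]⟩, ⟨0, [10], 18, 0, []⟩], 1⟩ : Der)) (lfA (⟨2, 0, 0, [], [⟨0, [], 19, 1, [7]⟩, ⟨0, [12], 18, 0, []⟩], 1⟩ : Der))))))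
noncomputable def DT1 : ℕ → Der := (ndA (nat_lit 24) (ndA (nat_lit 20) (ndA (nat_lit 18) (ndA (nat_lit 17) (lfA (⟨2, 0, 0, [], [⟨0, [], 19, 1, [8]⟩, ⟨0, [14], 18, 0, []⟩], 1⟩ : Der)) (lfA (⟨2, 0, 0, [], [⟨0, [], 19, 1, [9]⟩, ⟨0, [16], 18, 0, []⟩], 1⟩ : Der))) (ndA (nat_lit 19) (lfA (⟨0, 0, 0, [], [], 2⟩ : Der)) (lfA (⟨2, 0, 0, [], [⟨0, [], 37, 2, [2]⟩, ⟨0, [20], 36, 1, []⟩], 2⟩ : Der)))) (ndA (nat_lit 22) (ndA (nat_lit 21) (lfA (⟨2, 0, 0, [], [⟨0, [], 37, 2, [3]⟩, ⟨0, [22], 36, 1, []⟩], 2⟩ : Der)) (lfA (⟨2, 0, 0, [], [⟨0, [], 37, 2, [4]⟩, ⟨0, [24], 36, 1, []⟩], 2⟩ : Der))) (ndA (nat_lit 23) (lfA (⟨2, 0, 0, [], [⟨0, [], 37, 2, [5]⟩, ⟨0, [26], 36, 1, []⟩], 2⟩ : Der)) (lfA (⟨2, 0, 0, [], [⟨0, [], 37,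 2, [6]⟩, ⟨0, [28], 36, 1, []⟩], 2⟩ : Der))))) (ndA (nat_lit 28) (ndA (nat_lit 26) (ndA (nat_lit 25) (lfA (⟨2, 0, 0, [], [⟨0, [], 37, 2, [8]⟩, ⟨0, [32], 36, 1, []⟩], 2⟩ : Der)) (lfA (⟨2, 0, 0, [], [⟨0, [], 37, 2, [9]⟩, ⟨0, [34], 36, 1, []⟩], 2⟩ : Der))) (ndA (nat_lit 27) (lfA (⟨2, 0, 0, [], [⟨0, [], 37, 2, []⟩, ⟨0, [], 19, 1, []⟩], 0⟩ : Der)) (lfA (⟨2, 0, 0, [], [⟨0, [], 52, 2, [1]⟩, ⟨0, [0], 53, 0, []⟩], 2⟩ : Der)))) (ndA (nat_lit 30) (ndA (nat_lit 29) (lfA (⟨0, 0, 0, [], [], 2⟩ : Der)) (lfA (⟨2, 0, 0, [], [⟨0, [], 57, 2, [11, 9, 8, 4, 3, 2, 5, 4, 3, 8, 4, 9, 8, 11, 9, 5, 4, 3, 2, 8, 4, 3, 5, 4, 8, 9, 11, 6, 5, 4, 3, 2, 8, 4, 3, 5, 4, 8, 6, 5, 4, 3, 2]⟩, ⟨0, [22, 26, 33], 56, 1, []⟩], 2⟩ : Der)))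 (ndA (nat_lit 31) (lfA (⟨2, 0, 0, [], [⟨0, [], 57, 2, [2, 3, 2, 4, 3, 2, 8, 4, 3, 2, 5, 4, 3, 2, 8, 4, 3, 5, 4, 8, 6, 5, 4, 3, 2, 8, 4, 3, 5, 4, 8, 6, 5, 4, 3, 2]⟩, ⟨0, [22, 28, 35], 56, 1, []⟩], 2⟩ : Der)) (lfA (⟨2, 0, 0, [], [⟨0, [], 57, 2, [2, 3, 2, 4, 3, 2, 8, 4, 3, 2, 9, 8, 4, 3, 2, 11, 9, 8, 4, 3, 2]⟩, ⟨0, [24, 26, 24, 35, 31, 21], 56, 1, []⟩], 2⟩ : Der))))))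
noncomputable def DT2 : ℕ → Der := (ndA (nat_lit 40) (ndA (nat_lit 36) (ndA (nat_lit 34) (ndA (nat_lit 33) (lfA (⟨0, 0, 0, [], [], 0⟩ : Der)) (lfA (⟨2, 0, 0, [], [⟨0, [], 65, 0, [2]⟩, ⟨0, [20], 64, 1, []⟩], 0⟩ : Der))) (ndA (nat_lit 35) (lfA (⟨2, 0, 0, [], [⟨0, [], 65, 0, [3]⟩, ⟨0, [22], 64, 1, []⟩], 0⟩ : Der)) (lfA (⟨2, 0, 0, [], [⟨0, [], 65, 0, [4]⟩, ⟨0, [24], 64, 1, []⟩], 0⟩ : Der)))) (ndA (nat_lit 38) (ndA (nat_lit 37) (lfA (⟨2, 0, 0, [], [⟨0, [], 65, 0, [5]⟩, ⟨0, [26], 64, 1, []⟩], 0⟩ : Der)) (lfA (⟨2, 0, 0, [], [⟨0, [], 65, 0, [6]⟩, ⟨0, [28], 64, 1, []⟩], 0⟩ : Der))) (ndA (nat_lit 39) (lfA (⟨2, 0, 0, [], [⟨0, [], 65, 0, [7]⟩, ⟨0, [30], 64, 1, []⟩], 0⟩ : Der)) (lfA (⟨2, 0, 0, [], [⟨0, [], 65,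 0, [8]⟩, ⟨0, [32], 64, 1, []⟩], 0⟩ : Der))))) (ndA (nat_lit 44) (ndA (nat_lit 42) (ndA (nat_lit 41) (lfA (⟨2, 0, 0, [], [⟨0, [], 65, 0, []⟩, ⟨0, [], 36, 1, [11]⟩], 2⟩ : Der)) (lfA (⟨2, 0, 0, [], [⟨0, [], 80, 0, [1]⟩, ⟨0, [54], 81, 2, []⟩], 0⟩ : Der))) (ndA (nat_lit 43) (lfA (⟨0, 0, 0, [], [], 0⟩ : Der)) (lfA (⟨2, 0, 0, [], [⟨0, [], 85, 0, [5]⟩, ⟨0, [20], 84, 1, []⟩], 0⟩ : Der)))) (ndA (nat_lit 46) (ndA (nat_lit 45) (lfA (⟨2, 0, 0, [], [⟨0, [], 85, 0, [6]⟩, ⟨0, [22], 84, 1, []⟩], 0⟩ : Der)) (lfA (⟨2, 0, 0, [], [⟨0, [], 85, 0, [2]⟩, ⟨0, [26], 84, 1, []⟩], 0⟩ : Der))) (ndA (nat_lit 47) (lfA (⟨2, 0, 0, [], [⟨0, [], 85, 0, [3]⟩, ⟨0, [28], 84, 1, []⟩], 0⟩ : Der)) (lfA (⟨2, 0, 0, [], [⟨0, [], 85, 0, [8]⟩,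 ⟨0, [32], 84, 1, []⟩], 0⟩ : Der))))))
noncomputable def DT3 : ℕ → Der := (ndA (nat_lit 56) (ndA (nat_lit 52) (ndA (nat_lit 50) (ndA (nat_lit 49) (lfA (⟨2, 0, 0, [], [⟨0, [], 85, 0, [9]⟩, ⟨0, [34], 84, 1, []⟩], 0⟩ : Der)) (lfA (⟨2, 0, 0, [], [⟨0, [], 85, 0, [7, 6, 5, 4, 3, 2, 8, 4, 3, 5, 4, 6, 5, 7, 6, 8, 4, 3, 2, 5, 4, 3, 8, 4, 5, 6, 7, 9, 8, 4, 3, 2, 5, 4, 3, 8, 4, 5, 9, 8, 4, 3, 2]⟩, ⟨0, [24, 22, 20, 32, 24, 35, 33, 23, 25], 84, 1, []⟩], 0⟩ : Der))) (ndA (nat_lit 51) (lfA (⟨2, 0, 0, [], [⟨0, [], 85, 0, [2, 3, 2, 4, 3, 2, 5, 4, 3, 2, 8, 4, 3, 2, 5, 4, 3, 8, 4, 5, 9, 8, 4, 3, 2, 5, 4, 3, 8, 4, 5, 9, 8, 4, 3, 2]⟩, ⟨0, [24, 26, 28, 32, 24, 35, 33, 27, 25], 84, 1, []⟩], 0⟩ : Der)) (lfA (⟨2, 0, 0, [],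 [⟨0, [], 85, 0, [2, 3, 4, 5, 6, 7, 8, 4, 3, 2, 5, 4, 3, 6, 5, 4, 8, 4, 3, 2, 5, 4, 3, 6, 5, 4, 8, 9, 8, 4, 3, 5, 4, 6, 5, 7, 6, 8, 4, 3, 5, 4, 9]⟩, ⟨0, [24, 22, 20, 26, 24, 22, 30, 28, 26, 24, 32, 24, 26, 28, 35, 33, 25, 27, 23, 25, 33, 21, 23, 25, 27, 29, 31], 84, 1, []⟩], 0⟩ : Der)))) (ndA (nat_lit 54) (ndA (nat_lit 53) (lfA (⟨2, 0, 0, [], [⟨0, [], 85, 0, []⟩, ⟨0, [], 36, 1, [11, 9, 8, 4, 5, 6, 3, 4, 5, 2, 3, 4, 8, 9, 11]⟩], 2⟩ : Der)) (lfA (⟨2, 0, 0, [], [⟨0, [], 85, 0, [4, 3, 5, 7, 6, 5, 4, 8, 4, 3, 2, 5, 4, 3, 9, 8, 4, 5, 6, 7]⟩, ⟨0, [], 56, 1, []⟩], 2⟩ : Der))) (ndA (nat_lit 55) (lfA (⟨2, 0, 0, [], [⟨0, [], 104, 0, [1, 2, 1, 3, 4, 5, 6, 8, 4, 3, 5, 4, 8, 9, 8, 4, 3, 2, 1, 5, 4, 3, 2, 8, 4,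 3, 5, 4, 9]⟩, ⟨0, [42, 40, 38, 44, 42, 40, 48, 42, 44, 50, 48, 42, 54, 38, 41, 43, 49, 51, 45, 43, 49, 47, 45, 43, 41, 39, 55], 105, 2, []⟩], 0⟩ : Der)) (lfA (⟨0, 0, 0, [], [], 2⟩ : Der))))) (ndA (nat_lit 60) (ndA (nat_lit 58) (ndA (nat_lit 57) (lfA (⟨2, 0, 0, [], [⟨0, [], 111, 2, [2]⟩, ⟨0, [20], 110, 1, []⟩], 2⟩ : Der)) (lfA (⟨2, 0, 0, [], [⟨0, [], 111, 2, [8]⟩, ⟨0, [24], 110, 1, []⟩], 2⟩ : Der))) (ndA (nat_lit 59) (lfA (⟨2, 0, 0, [], [⟨0, [], 111, 2, [4]⟩, ⟨0, [26], 110, 1, []⟩], 2⟩ : Der)) (lfA (⟨2, 0, 0, [], [⟨0, [], 111, 2, [5]⟩, ⟨0, [28], 110, 1, []⟩], 2⟩ : Der)))) (ndA (nat_lit 62) (ndA (nat_lit 61) (lfA (⟨2, 0, 0, [], [⟨0, [], 111, 2, [6]⟩, ⟨0, [30], 110, 1, []⟩], 2⟩ : Der)) (lfA (⟨2, 0,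 0, [], [⟨0, [], 111, 2, [9]⟩, ⟨0, [32], 110, 1, []⟩], 2⟩ : Der))) (ndA (nat_lit 63) (lfA (⟨2, 0, 0, [], [⟨0, [], 111, 2, [11]⟩, ⟨0, [34], 110, 1, []⟩], 2⟩ : Der)) (lfA (⟨2, 0, 0, [], [⟨0, [], 111, 2, [11, 9, 8, 4, 3, 2, 5, 4, 3, 8, 4, 9, 8, 11, 9, 5, 4, 3, 2, 8, 4, 3, 5, 4, 8, 9, 11, 6, 5, 4, 3, 2, 8, 4, 3, 5, 4, 8, 6, 5, 4, 3, 2]⟩, ⟨0, [22, 24, 26, 28, 30, 32, 24, 22, 27, 25, 33, 29, 27, 25, 23], 110, 1, []⟩], 2⟩ : Der))))))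
noncomputable def DT4 : ℕ → Der := (ndA (nat_lit 72) (ndA (nat_lit 68) (ndA (nat_lit 66) (ndA (nat_lit 65) (lfA (⟨2, 0, 0, [], [⟨0, [], 111, 2, []⟩, ⟨0, [], 64, 1, [9, 8, 4, 5, 6, 7]⟩], 0⟩ : Der)) (lfA (⟨2, 0, 0, [], [⟨0, [], 111, 2, [3, 2, 4, 3, 5, 4, 8, 9, 11]⟩, ⟨0, [], 84, 1, [7]⟩], 0⟩ : Der))) (ndA (nat_lit 67) (lfA (⟨2, 0, 0, [], [⟨0, [], 128, 2, [1]⟩, ⟨0, [82], 129, 0, []⟩], 2⟩ : Der)) (lfA (⟨0, 0, 0, [], [], 1⟩ : Der)))) (ndA (nat_lit 70) (ndA (nat_lit 69) (lfA (⟨2, 0, 0, [], [⟨0, [], 135, 1, [3]⟩, ⟨0, [66], 134, 0, []⟩], 1⟩ : Der)) (lfA (⟨2, 0, 0, [], [⟨0, [], 135, 1, [4]⟩, ⟨0, [68], 134, 0, []⟩], 1⟩ : Der))) (ndA (nat_lit 71) (lfA (⟨2, 0, 0, [], [⟨0, [], 135, 1, [8]⟩, ⟨0, [70], 134, 0, []⟩],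 1⟩ : Der)) (lfA (⟨2, 0, 0, [], [⟨0, [], 135, 1, [6]⟩, ⟨0, [74], 134, 0, []⟩], 1⟩ : Der))))) (ndA (nat_lit 76) (ndA (nat_lit 74) (ndA (nat_lit 73) (lfA (⟨2, 0, 0, [], [⟨0, [], 135, 1, [7]⟩, ⟨0, [76], 134, 0, []⟩], 1⟩ : Der)) (lfA (⟨2, 0, 0, [], [⟨0, [], 135, 1, [9]⟩, ⟨0, [78], 134, 0, []⟩], 1⟩ : Der))) (ndA (nat_lit 75) (lfA (⟨2, 0, 0, [], [⟨0, [], 135, 1, [2]⟩, ⟨0, [82], 134, 0, []⟩], 1⟩ : Der)) (lfA (⟨2, 0, 0, [], [⟨0, [], 135, 1, [9, 8, 9, 4, 8, 9, 5, 4, 8, 9, 3, 4, 8, 9, 5, 4, 8, 3, 4, 5, 2, 3, 4, 8, 9, 5, 4, 8, 3, 4, 5, 2, 3, 4, 8, 9]⟩, ⟨0, [72, 70, 68, 66, 78, 70, 68, 72, 83, 71, 79, 67, 69, 71, 73], 134, 0, []⟩], 1⟩ : Der)))) (ndA (nat_lit 78) (ndA (nat_lit 77) (lfA (⟨2, 0, 0, [], [⟨0, [],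 135, 1, []⟩, ⟨0, [], 80, 0, [9, 8, 4, 3, 2, 1]⟩], 2⟩ : Der)) (lfA (⟨2, 0, 0, [], [⟨0, [], 135, 1, [5, 6, 7]⟩, ⟨0, [], 129, 0, [3, 2, 1]⟩], 2⟩ : Der))) (ndA (nat_lit 79) (lfA (⟨2, 0, 0, [9, 8, 9, 5, 6, 5, 4, 8, 9, 7, 3, 4, 8, 11, 9, 8, 4, 3], [⟨0, [], 135, 1, [5, 4, 8, 3, 4, 5, 6, 7]⟩, ⟨0, [75, 77, 73, 75, 71, 73, 69, 71, 67, 69], 129, 0, [1, 2, 3, 4, 5, 6, 8, 4, 3, 2, 1, 5, 4, 3, 2, 8, 4, 3, 5, 4, 6, 5, 8, 4, 3, 2]⟩, ⟨0, [127, 113, 127, 125, 127, 123, 125, 115, 123, 117, 119, 115, 117], 155, 2, [8, 9, 8, 11, 9, 8, 5, 4, 3, 8, 4, 9, 8, 11, 9]⟩], 1⟩ : Der)) (lfA (⟨2, 0, 0, [], [⟨0, [], 152, 1, [5, 4, 6, 5, 3, 4, 8, 9, 11]⟩, ⟨0, [], 105, 2, [1]⟩], 0⟩ : Der))))))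
noncomputable def DT5 : ℕ → Der := (ndA (nat_lit 88) (ndA (nat_lit 84) (ndA (nat_lit 82) (ndA (nat_lit 81) (lfA (⟨0, 0, 0, [], [], 1⟩ : Der)) (lfA (⟨2, 0, 0, [], [⟨0, [], 161, 1, [4, 5, 6, 3, 4, 5, 2, 3, 4]⟩, ⟨0, [100], 160, 0, []⟩], 1⟩ : Der))) (ndA (nat_lit 83) (lfA (⟨2, 0, 0, [], [⟨0, [], 161, 1, [8, 5, 6, 5, 4, 8, 3, 4, 8, 5, 4, 3, 2, 3, 4, 8, 5, 4, 6, 5, 3, 4, 8, 2, 3, 4, 5]⟩, ⟨0, [108, 91], 160, 0, []⟩], 1⟩ : Der)) (lfA (⟨2, 0, 0, [], [⟨0, [], 161, 1, [9, 8, 9, 4, 8, 9, 5, 4, 8, 9, 3, 4, 8, 9, 5, 4, 8, 3, 4, 5, 2, 3, 4, 8, 9, 5, 4, 8, 3, 4, 5, 2, 3, 4, 8, 9]⟩, ⟨0, [88, 90, 95], 160, 0, []⟩], 1⟩ : Der)))) (ndA (nat_lit 86) (ndA (nat_lit 85) (lfA (⟨2, 0, 0, [], [⟨0, [], 161, 1, []⟩, ⟨0, [], 104,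 0, [1, 2, 4, 3, 2, 5, 4, 8, 4, 3, 5, 4, 6, 5, 9, 8, 4, 3, 2, 1]⟩], 2⟩ : Der)) (lfA (⟨2, 0, 0, [], [⟨0, [], 161, 1, [7, 6, 5, 4, 8, 9, 3, 4, 8, 2, 3, 4, 5, 6, 7]⟩, ⟨0, [102, 89], 106, 0, [1, 2, 1, 3, 2, 4, 3, 5, 4, 6, 5, 4, 3, 2, 1, 8, 4, 3, 2, 1, 5, 4, 3, 2, 6, 5, 4, 3, 8, 9, 8, 4, 3, 2, 1, 5, 4, 3, 2, 6, 5, 4, 3, 8, 4, 9, 8]⟩], 2⟩ : Der))) (ndA (nat_lit 87) (lfA (⟨2, 0, 0, [], [⟨0, [], 168, 1, [11, 9, 11, 8, 9, 11, 4, 8, 9, 11, 5, 4, 8, 9, 11, 6, 5, 4, 8, 9, 11]⟩, ⟨0, [40, 46, 50, 55, 43, 41], 169, 2, []⟩], 1⟩ : Der)) (lfA (⟨0, 0, 0, [], [], 1⟩ : Der))))) (ndA (nat_lit 92) (ndA (nat_lit 90) (ndA (nat_lit 89) (lfA (⟨2, 0, 0, [], [⟨0, [], 175, 1, [7]⟩, ⟨0, [68], 174, 0, []⟩], 1⟩ : Der)) (lfA (⟨2,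 0, 0, [], [⟨0, [], 175, 1, [3]⟩, ⟨0, [72], 174, 0, []⟩], 1⟩ : Der))) (ndA (nat_lit 91) (lfA (⟨2, 0, 0, [], [⟨0, [], 175, 1, [8]⟩, ⟨0, [76], 174, 0, []⟩], 1⟩ : Der)) (lfA (⟨2, 0, 0, [], [⟨0, [], 175, 1, [5]⟩, ⟨0, [78], 174, 0, []⟩], 1⟩ : Der)))) (ndA (nat_lit 94) (ndA (nat_lit 93) (lfA (⟨2, 0, 0, [], [⟨0, [], 175, 1, [7, 6, 5, 4, 8, 9, 3, 4, 8, 5, 4, 6, 5, 7, 6, 3, 4, 8, 9, 5, 4, 8, 3, 4, 5, 6, 7, 2, 3, 4, 8, 9, 5, 4, 8, 3, 4, 5, 2, 3, 4, 8, 9]⟩, ⟨0, [70, 72, 78, 83, 71], 174, 0, []⟩], 1⟩ : Der)) (lfA (⟨2, 0, 0, [], [⟨0, [], 175, 1, [9, 8, 9, 4, 8, 9, 5, 4, 8, 9, 3, 4, 8, 9, 5, 4, 8, 3, 4, 5, 2, 3, 4, 8, 9, 5, 4, 8, 3, 4, 5, 2, 3, 4, 8, 9]⟩, ⟨0, [74, 72, 76, 83, 75], 174, 0, []⟩], 1⟩ : Der))) (ndA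 (nat_lit 95) (lfA (⟨2, 0, 0, [], [⟨0, [], 175, 1, [9, 8, 4, 5, 6, 7, 3, 4, 8, 9, 5, 4, 8, 6, 5, 4]⟩, ⟨0, [70, 68, 66, 72, 70, 68, 74, 72, 71, 79, 77, 75, 73, 71, 69, 67], 174, 0, []⟩], 1⟩ : Der)) (lfA (⟨2, 0, 0, [], [⟨0, [], 175, 1, []⟩, ⟨0, [], 129, 0, [3, 2, 4, 3, 5, 6, 8, 4, 5, 9, 8, 4, 3, 2, 1]⟩], 2⟩ : Der))))))
noncomputable def DT6 : ℕ → Der := (ndA (nat_lit 104) (ndA (nat_lit 100) (ndA (nat_lit 98) (ndA (nat_lit 97) (lfA (⟨2, 0, 0, [], [⟨0, [], 190, 1, [9, 8, 4, 8, 9, 5, 3, 4, 8, 9, 11, 5, 4, 2, 3, 4, 8, 9, 5, 4, 8, 3, 4, 5, 2, 3, 4, 8, 9]⟩, ⟨0, [112, 124, 122, 126, 112, 127, 113, 133, 125], 191, 2, []⟩], 1⟩ : Der)) (lfA (⟨2, 0, 0, [], [⟨0, [], 190, 1, [9, 11]⟩, ⟨0, [], 130, 2, [4, 8, 6, 5,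 4, 3, 2, 1]⟩], 0⟩ : Der))) (ndA (nat_lit 99) (lfA (⟨0, 0, 0, [], [], 1⟩ : Der)) (lfA (⟨2, 0, 0, [], [⟨0, [], 197, 1, [4, 5, 6, 3, 4, 5, 2, 3, 4]⟩, ⟨0, [100], 196, 0, []⟩], 1⟩ : Der)))) (ndA (nat_lit 102) (ndA (nat_lit 101) (lfA (⟨2, 0, 0, [], [⟨0, [], 197, 1, [7, 6, 5, 4, 8, 9, 3, 4, 8, 5, 4, 6, 5, 7, 6, 3, 4, 8, 9, 5, 4, 8, 3, 4, 5, 6, 7, 2, 3, 4, 8, 9, 5, 4, 8, 3, 4, 5, 2, 3, 4, 8, 9]⟩, ⟨0, [86, 90, 97], 196, 0, []⟩], 1⟩ : Der)) (lfA (⟨2, 0, 0, [], [⟨0, [], 197, 1, [4, 5, 6, 5, 4, 8, 7, 6, 5, 3, 4, 8, 5, 4, 6, 7, 2, 3, 4, 8, 5, 4, 6, 5, 3, 4, 8]⟩, ⟨0, [86, 108, 108], 196, 0, []⟩], 1⟩ : Der))) (ndA (nat_lit 103) (lfA (⟨2, 0, 0, [], [⟨0, [], 197, 1, [9, 5, 2]⟩, ⟨0, [103, 100, 102], 196, 0, []⟩],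 1⟩ : Der)) (lfA (⟨2, 0, 0, [], [⟨0, [], 197, 1, [5, 4, 3, 2, 5, 8, 4, 3, 4, 5, 6, 8, 4, 5, 9, 8, 4, 3, 2, 4, 5, 9, 8, 4, 3, 7, 4, 5, 6, 8, 4, 5, 9, 8, 4, 3, 8, 4, 5, 6, 8]⟩, ⟨0, [90, 109, 98, 102, 108, 89], 196, 0, []⟩], 1⟩ : Der))))) (ndA (nat_lit 108) (ndA (nat_lit 106) (ndA (nat_lit 105) (lfA (⟨2, 0, 0, [], [⟨0, [], 197, 1, []⟩, ⟨0, [], 131, 0, [1, 2, 4, 3, 2, 5, 4, 8, 4, 3, 5, 4, 6, 5, 9, 8, 4, 3, 2, 1]⟩], 2⟩ : Der)) (lfA (⟨2, 0, 0, [], [⟨0, [], 197, 1, [7, 6, 5, 4, 8, 9, 3, 4, 8, 2, 3, 4, 5, 6, 7]⟩, ⟨0, [102, 89], 106, 0, [1, 2, 1, 3, 2, 1, 4, 3, 5, 4, 6, 5, 4, 3, 2, 1, 8, 4, 3, 2, 1, 5, 4, 3, 2, 6, 5, 4, 3, 8, 9, 8, 4, 3, 2, 1, 5, 4, 3, 2, 6, 5, 4, 3, 8, 4, 9, 8]⟩], 2⟩ : Der))) (ndA (nat_lit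 107) (lfA (⟨2, 0, 0, [], [⟨0, [], 208, 1, [11, 9, 11, 8, 9, 4, 8, 9, 6, 5, 4, 8, 9, 11, 2, 3, 4, 8, 9, 11, 5, 4, 8, 9, 3, 4, 5, 6, 2]⟩, ⟨0, [114, 118, 132, 112, 127, 113, 133, 113], 209, 2, []⟩], 1⟩ : Der)) (lfA (⟨0, 0, 0, [], [], 0⟩ : Der)))) (ndA (nat_lit 110) (ndA (nat_lit 109) (lfA (⟨2, 0, 0, [], [⟨0, [], 215, 0, [3]⟩, ⟨0, [176], 214, 1, []⟩], 0⟩ : Der)) (lfA (⟨2, 0, 0, [], [⟨0, [], 215, 0, [5]⟩, ⟨0, [178], 214, 1, []⟩], 0⟩ : Der))) (ndA (nat_lit 111) (lfA (⟨2, 0, 0, [], [⟨0, [], 215, 0, [7]⟩, ⟨0, [180], 214, 1, []⟩], 0⟩ : Der)) (lfA (⟨2, 0, 0, [], [⟨0, [], 215, 0, [8]⟩, ⟨0, [182], 214, 1, []⟩], 0⟩ : Der))))))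
noncomputable def DT7 : ℕ → Der := (ndA (nat_lit 120) (ndA (nat_lit 116) (ndA (nat_lit 114) (ndA (nat_lit 113) (lfA (⟨2, 0, 0, [], [⟨0, [], 215, 0, [3, 4, 5, 6, 5, 4, 3, 7, 6, 5, 4, 8, 4, 3, 5, 4, 6, 5, 7, 6, 8, 4, 3]⟩, ⟨0, [184], 214, 1, []⟩], 0⟩ : Der)) (lfA (⟨2, 0, 0, [], [⟨0, [], 215, 0, [3, 4, 3, 5, 4, 6, 5, 7, 6, 8, 4, 3, 5, 4, 6, 5, 7, 6, 8, 4, 3, 5, 4]⟩, ⟨0, [186], 214, 1, []⟩], 0⟩ : Der))) (ndA (nat_lit 115) (lfA (⟨2, 0, 0, [], [⟨0, [], 215, 0, [4, 3, 2, 5, 4, 3, 6, 5, 4, 7, 6, 5, 8, 4, 3, 2]⟩, ⟨0, [188], 214, 1, []⟩], 0⟩ : Der)) (lfA (⟨2, 0, 0, [], [⟨0, [], 215, 0, [4, 3, 5, 4, 3, 6, 5, 7, 6, 5, 8, 4, 3, 5, 4, 8, 9, 8, 4, 3, 5, 4, 6, 5, 7, 6, 8, 4, 3, 5, 4, 9]⟩, ⟨0, [192], 214, 1, []⟩],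 0⟩ : Der)))) (ndA (nat_lit 118) (ndA (nat_lit 117) (lfA (⟨0, 0, 0, [], [], 0⟩ : Der)) (lfA (⟨2, 0, 0, [], [⟨0, [], 233, 0, [4, 3, 2, 8, 4, 3, 9, 8, 4]⟩, ⟨0, [162], 232, 1, []⟩], 0⟩ : Der))) (ndA (nat_lit 119) (lfA (⟨2, 0, 0, [], [⟨0, [], 233, 0, [4, 3, 5, 4, 6, 5, 4, 7, 6, 8, 4, 3, 5, 4, 8, 9, 8, 4, 3, 2, 5, 4, 3, 8, 4, 5, 6, 7]⟩, ⟨0, [164], 232, 1, []⟩], 0⟩ : Der)) (lfA (⟨2, 0, 0, [], [⟨0, [], 233, 0, [2, 4, 3, 5, 4, 6, 5, 7, 6, 8, 4, 3, 2, 5, 4, 3, 6, 5, 7, 6, 8, 4, 3, 2, 5, 4, 3, 6, 7, 8, 9, 8, 4, 3, 5, 4, 6, 5, 7, 8, 4, 3, 2, 9, 8, 4]⟩, ⟨0, [166, 164, 163, 167], 232, 1, []⟩], 0⟩ : Der))))) (ndA (nat_lit 124) (ndA (nat_lit 122) (ndA (nat_lit 121) (lfA (⟨2, 0, 0, [], [⟨0, [], 233, 0, [3, 5, 4,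 3, 2, 6, 5, 4, 3, 7, 6, 5, 4, 8, 4, 3, 2, 5, 4, 3, 8, 9, 8, 4, 3, 2, 5, 4, 3, 6, 5, 4, 7, 8, 4, 5]⟩, ⟨0, [166, 172, 164, 162, 173, 163, 173, 167], 232, 1, []⟩], 0⟩ : Der)) (lfA (⟨2, 0, 0, [], [⟨0, [], 233, 0, [5, 4, 3, 6, 5, 4, 3, 2, 8, 4, 3, 2, 5, 4, 6, 5, 7, 6, 8, 4, 3, 9, 8, 4, 3, 2, 5, 4, 3, 6, 8, 4, 5, 6]⟩, ⟨0, [166, 165, 166, 172, 167, 164, 167], 232, 1, []⟩], 0⟩ : Der))) (ndA (nat_lit 123) (lfA (⟨2, 0, 0, [], [⟨0, [], 233, 0, []⟩, ⟨0, [], 170, 1, [11, 9, 4, 8, 9, 5, 4, 3, 4, 8, 5, 4, 6, 5, 2, 3, 4, 8, 9, 11]⟩], 2⟩ : Der)) (lfA (⟨2, 0, 0, [], [⟨0, [], 244, 0, [1, 4, 3, 6, 5, 4, 3, 8, 4, 3, 2, 5, 4, 3, 6, 5, 4, 8, 4, 3, 2, 5, 4, 9, 8, 4, 3, 2, 1, 5, 4, 3, 6, 5, 4, 8, 4, 3, 5, 4, 9, 8, 4]⟩, ⟨0,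 [62, 60, 63], 245, 2, []⟩], 0⟩ : Der)))) (ndA (nat_lit 126) (ndA (nat_lit 125) (lfA (⟨2, 0, 0, [], [⟨0, [], 244, 0, [2, 1]⟩, ⟨0, [59, 63, 59, 61, 63, 59, 63, 59, 61, 63, 61, 63, 59, 61, 63, 61], 211, 2, [8, 4, 9, 8, 4, 3, 2, 11, 9, 8, 4, 3, 2, 5, 4, 3, 2, 8, 4, 3, 9, 11, 6, 5, 4, 3, 2, 8, 4, 3, 9, 8, 4, 11, 9, 5, 4, 3, 8, 4, 9, 6, 5, 4]⟩], 1⟩ : Der)) (lfA (⟨0, 0, 0, [], [], 0⟩ : Der))) (ndA (nat_lit 127) (lfA (⟨2, 0, 0, [], [⟨0, [], 251, 0, [3, 4, 3, 5, 4, 3, 6, 5, 4, 3, 2, 8, 4, 3, 5, 9, 8, 4, 3, 2, 5, 4, 3, 6, 5, 4, 7, 8, 4, 3, 5, 4, 6, 5, 9, 8, 4, 3, 5, 4, 6, 5]⟩, ⟨0, [172, 165], 250, 1, []⟩], 0⟩ : Der)) (lfA (⟨2, 0, 0, [], [⟨0, [], 251, 0, [7, 6, 5, 4, 3, 2, 8, 4, 3, 5, 4, 6, 5, 7, 6, 8, 4, 3,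 2, 5, 4, 3, 8, 4, 5, 6, 7, 9, 8, 4, 3, 2, 5, 4, 3, 8, 4, 5, 9, 8, 4, 3, 2]⟩, ⟨0, [165, 162, 164], 250, 1, []⟩], 0⟩ : Der))))))
noncomputable def DT8 : ℕ → Der := (ndA (nat_lit 136) (ndA (nat_lit 132) (ndA (nat_lit 130) (ndA (nat_lit 129) (lfA (⟨2, 0, 0, [], [⟨0, [], 251, 0, []⟩, ⟨0, [], 170, 1, [11, 9, 11, 4, 8, 9, 5, 4, 3, 4, 8, 5, 4, 6, 5, 2, 3, 4, 8, 9, 11]⟩], 2⟩ : Der)) (lfA (⟨2, 0, 0, [], [⟨0, [], 256, 0, [8, 9, 5, 1, 2, 3, 4, 8, 4, 5, 6, 3, 4, 5, 2, 3, 4, 8, 9, 8, 6, 3, 4, 5, 2, 3, 4, 8, 6, 2, 3, 4, 5, 2, 3, 4, 2, 3, 2, 1]⟩, ⟨0, [62, 60, 63, 59], 257, 2, []⟩], 0⟩ : Der))) (ndA (nat_lit 131) (lfA (⟨2, 0, 0, [], [⟨0, [], 256, 0, [2, 1]⟩, ⟨0, [63, 61, 63, 59, 61, 63], 211, 2, [8, 2, 3, 4, 5, 6,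 8, 9, 3, 4, 8, 2, 3, 4, 5, 9, 11, 4, 8, 9, 3, 4, 8, 2, 3, 4, 5, 6, 8, 4, 5, 11, 9, 3, 4, 8, 2, 3, 4, 5, 2, 3, 4, 8, 9, 11, 4]⟩], 1⟩ : Der)) (lfA (⟨0, 0, 0, [], [], 2⟩ : Der)))) (ndA (nat_lit 134) (ndA (nat_lit 133) (lfA (⟨2, 0, 0, [], [⟨0, [], 263, 2, [2, 3, 4, 3, 2, 11, 9, 6, 5, 4, 3, 2]⟩, ⟨0, [144, 156, 145, 137], 262, 1, []⟩], 2⟩ : Der)) (lfA (⟨2, 0, 0, [], [⟨0, [], 263, 2, [2, 3, 2, 4, 9, 8, 4, 3, 2, 11, 5, 4, 3, 2, 8, 4, 5, 6, 5, 4, 3, 2, 8, 4, 3, 5, 4, 8, 9, 11, 6, 5]⟩, ⟨0, [136, 144, 146, 156, 137], 262, 1, []⟩], 2⟩ : Der))) (ndA (nat_lit 135) (lfA (⟨2, 0, 0, [], [⟨0, [], 263, 2, [9, 4, 8, 2, 3, 4, 5, 6, 9, 8, 3, 4, 5, 9, 11, 4, 8, 9, 3, 4, 8, 2, 3, 4, 5, 6, 8, 4, 5, 2, 3, 4, 8, 9, 3, 4, 2]⟩,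 ⟨0, [144, 142, 150, 157, 147], 262, 1, []⟩], 2⟩ : Der)) (lfA (⟨2, 0, 0, [], [⟨0, [], 263, 2, []⟩, ⟨0, [], 158, 1, [4, 8, 5, 7, 6, 5, 4, 3, 4, 8, 9, 5, 4, 8, 2, 3, 4, 5, 6, 7]⟩], 0⟩ : Der))))) (ndA (nat_lit 140) (ndA (nat_lit 138) (ndA (nat_lit 137) (lfA (⟨2, 0, 0, [], [⟨0, [], 270, 2, [4, 8, 9, 8, 5, 4, 3, 2, 1, 8, 4, 3, 9, 8, 4, 5, 4, 3, 2, 8, 4, 6, 5, 4, 3, 2, 8, 4, 3, 9, 8, 5, 4, 6, 5]⟩, ⟨0, [86, 92, 108, 103, 93, 87], 271, 0, []⟩], 2⟩ : Der)) (lfA (⟨2, 0, 0, [], [⟨0, [], 270, 2, [1]⟩, ⟨0, [], 195, 0, [2, 4, 6, 5, 8, 4, 3, 9, 8, 4, 5, 6, 7]⟩], 1⟩ : Der))) (ndA (nat_lit 139) (lfA (⟨2, 0, 0, [], [⟨0, [], 270, 2, [8, 4, 9, 8, 6, 5, 4, 3, 2, 1]⟩, ⟨0, [102, 108, 99, 87], 196, 0, [3, 2, 4, 3, 5, 4,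 6, 7, 6, 8, 4, 3, 2, 5, 4, 3, 6, 5, 7, 6, 8, 4, 3, 5, 4, 6, 7, 8, 9, 8, 4, 3, 2, 5, 4, 3, 6, 5, 4, 7, 6, 8, 4, 3, 2, 5, 4, 3, 8, 4, 9, 8, 4, 3, 5, 6]⟩], 1⟩ : Der)) (lfA (⟨2, 0, 0, [], [⟨0, [], 270, 2, [4, 3, 8, 4, 9, 8, 5, 4, 3, 2, 1]⟩, ⟨0, [95, 97, 93], 196, 0, [3, 4, 5, 4, 6, 5, 8, 4, 3, 5, 4, 8, 9, 8, 4, 3, 5, 4, 6, 5, 7, 8, 4, 3]⟩], 1⟩ : Der)))) (ndA (nat_lit 142) (ndA (nat_lit 141) (lfA (⟨2, 0, 0, [], [⟨0, [], 276, 2, [2, 5, 4, 3, 6, 5, 4, 8, 9, 11]⟩, ⟨0, [201, 205, 203, 205, 213, 207], 261, 1, [6, 5, 4, 3, 2, 3, 4, 5, 9, 8, 4, 3, 5, 6, 7, 4, 5, 6, 8, 4, 5, 9, 8, 4, 3, 2, 6, 5, 9, 8, 4, 3, 6, 7, 9, 8, 4, 5, 6, 9, 8, 4, 5, 4, 9]⟩], 0⟩ : Der)) (lfA (⟨2, 0, 0, [], [⟨0, [], 279, 1, [6, 3, 4, 5,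 2, 3, 4, 8, 9, 11]⟩, ⟨0, [268, 272, 268, 268], 280, 2, [8, 5, 4, 3, 2, 1, 8, 4, 3, 2, 9, 8, 4, 5, 4, 3, 2, 1, 8, 4, 3, 9, 8, 5, 4, 6, 5, 4, 3, 2, 1, 8, 4, 3, 5, 4, 8, 9, 6, 5, 4, 3]⟩], 0⟩ : Der))) (ndA (nat_lit 143) (lfA (⟨2, 0, 0, [], [⟨0, [], 281, 0, [1]⟩, ⟨0, [], 274, 2, [8, 4, 9, 8, 4, 3, 2, 5, 4, 3, 6, 5, 4, 3, 2, 8, 9, 11]⟩], 1⟩ : Der)) (lfA (⟨0, 0, 0, [], [], 2⟩ : Der))))))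
noncomputable def DT9 : ℕ → Der := (ndA (nat_lit 152) (ndA (nat_lit 148) (ndA (nat_lit 146) (ndA (nat_lit 145) (lfA (⟨2, 0, 0, [], [⟨0, [], 287, 2, [11, 9, 8, 4, 3, 2, 5, 4, 3, 8, 4, 9, 8, 11, 9, 5, 4, 3, 2, 8, 4, 3, 5, 4, 8, 9, 11]⟩, ⟨0, [166], 286, 1, []⟩], 2⟩ : Der)) (lfA (⟨2, 0, 0, [], [⟨0, [], 287, 2, [2, 3, 2, 4, 3, 2, 9, 11, 9, 5, 4, 3, 8, 4, 9, 8, 11, 9, 5, 4, 3, 2, 8, 4, 3, 5, 4]⟩, ⟨0, [162, 172, 163], 286, 1, []⟩], 2⟩ : Der))) (ndA (nat_lit 147) (lfA (⟨2, 0, 0, [], [⟨0, [], 287, 2, [3, 8, 5]⟩, ⟨0, [165, 162, 164], 286, 1, []⟩], 2⟩ : Der)) (lfA (⟨2, 0, 0, [], [⟨0, [], 287, 2, [2, 9, 11, 9, 8, 4, 3, 2, 5, 4, 3, 2, 8, 4, 9, 8, 11, 9, 5, 4, 3, 2, 8, 4, 3, 5, 4, 8, 9, 11]⟩, ⟨0, [162, 166, 162,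 167, 163], 286, 1, []⟩], 2⟩ : Der)))) (ndA (nat_lit 150) (ndA (nat_lit 149) (lfA (⟨2, 0, 0, [], [⟨0, [], 287, 2, [3, 4, 3, 2, 8, 11, 9, 5, 4, 3, 2, 8, 4, 3, 9, 8, 4, 11, 5, 4, 3]⟩, ⟨0, [162, 164, 166, 172, 167, 165, 163], 286, 1, []⟩], 2⟩ : Der)) (lfA (⟨2, 0, 0, [], [⟨0, [], 287, 2, [3, 4, 3, 8, 4, 3, 9, 8, 4, 3, 11, 9, 5, 4, 3, 2, 8, 4, 3, 9, 8, 4, 11, 5, 4, 3, 8, 9, 11]⟩, ⟨0, [162, 165, 172, 164, 173, 165, 163], 286, 1, []⟩], 2⟩ : Der))) (ndA (nat_lit 151) (lfA (⟨2, 0, 0, [], [⟨0, [], 287, 2, []⟩, ⟨0, [], 161, 1, [7]⟩], 0⟩ : Der)) (lfA (⟨2, 0, 0, [], [⟨0, [], 300, 2, [1, 2, 8, 4, 3, 9, 8, 4, 5, 4, 3, 2, 1, 8, 4, 9, 8]⟩, ⟨0, [88], 301, 0, []⟩], 2⟩ : Der))))) (ndA (nat_lit 156) (ndA (nat_lit 154)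 (ndA (nat_lit 153) (lfA (⟨2, 0, 0, [], [⟨0, [], 300, 2, [1]⟩, ⟨0, [], 159, 0, [2, 4, 3, 2, 5, 4, 8, 4, 3, 5, 4, 6, 5, 7, 9, 8, 4, 3, 2]⟩], 1⟩ : Der)) (lfA (⟨2, 0, 0, [], [⟨0, [], 300, 2, [6, 5, 4, 3, 2, 1]⟩, ⟨0, [], 196, 0, [7, 6, 5, 4, 3, 2]⟩], 1⟩ : Der))) (ndA (nat_lit 155) (lfA (⟨2, 0, 0, [], [⟨0, [], 300, 2, [1, 2, 3, 4, 8, 9, 5, 4, 8, 6, 5, 4, 3, 2, 1]⟩, ⟨0, [], 195, 0, [2, 3, 4, 3, 5, 6, 5, 4, 7]⟩], 1⟩ : Der)) (lfA (⟨2, 0, 0, [1, 11, 8, 9, 4, 8, 2, 3, 4, 5, 6, 8, 3, 4, 5, 9, 11, 4, 8, 9, 3, 4, 8, 2, 3, 4, 5, 2, 3, 4, 8, 9, 11, 2, 3, 4, 8, 3, 4, 2, 3, 2], [⟨0, [], 300, 2, [1, 2, 3, 4, 3, 8, 9, 5, 4, 8, 6, 5, 4, 3, 2, 1]⟩, ⟨0, [99, 101, 102], 159, 0, [9, 4, 5, 3, 4, 8, 6, 7, 5, 6, 4, 5, 3, 4,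 8, 9, 2, 3, 4, 8, 6, 7, 4, 5, 6, 3, 4, 5, 2, 3, 4, 8, 5, 6, 7, 3, 4, 2, 3]⟩, ⟨0, [156, 149, 145, 157, 143], 305, 1, [11, 8, 9, 4, 8, 9, 11, 5, 4, 6, 5, 3, 4, 5, 2, 3, 4, 8, 9, 11, 5, 4, 8, 9, 6, 5, 4, 8, 3, 4, 8, 9, 5, 4, 8, 2, 3, 4, 8, 9, 5, 4]⟩], 2⟩ : Der)))) (ndA (nat_lit 158) (ndA (nat_lit 157) (lfA (⟨2, 0, 0, [], [⟨0, [], 306, 2, [2, 3, 8, 4, 3, 2, 9, 8, 5, 4, 3, 6, 5, 4, 8, 9, 11]⟩, ⟨0, [199, 213, 203, 205, 213], 261, 1, [8, 6, 5, 4, 7, 6, 5, 4, 8, 3, 4, 8, 9, 5, 4, 8, 6, 5, 4, 7, 6, 3, 4, 8, 5, 6, 7, 2, 3, 4, 8, 9, 5, 4, 8, 6, 5, 7, 6, 3, 4, 8, 9, 5, 4, 6, 7, 2, 3, 4, 8, 9, 5]⟩], 0⟩ : Der)) (lfA (⟨2, 0, 0, [], [⟨0, [], 308, 2, [4, 3, 8, 11, 9, 8, 4, 5, 4, 3, 2, 8, 4, 3, 6, 5, 4, 8, 9, 11]⟩,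 ⟨0, [], 214, 1, []⟩], 0⟩ : Der))) (ndA (nat_lit 159) (lfA (⟨2, 0, 0, [], [⟨0, [], 315, 0, [1, 4, 3, 5, 4, 3, 8, 4, 3, 5, 4, 8]⟩, ⟨0, [290], 314, 2, []⟩], 0⟩ : Der)) (lfA (⟨2, 0, 0, [], [⟨0, [], 315, 0, [1, 2, 1, 3, 2, 1, 5, 4, 3, 2, 1, 6, 5, 4, 8, 4, 3, 2, 1, 5, 4, 3, 2, 6, 8, 4, 3, 5, 6, 9, 8, 4, 3, 2, 1, 5, 4, 3, 2, 6, 5, 8, 4, 3, 2, 1, 5, 4, 6, 5, 9, 8, 4, 3, 2, 5, 6]⟩, ⟨0, [296], 314, 2, []⟩], 0⟩ : Der))))))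
noncomputable def DT10 : ℕ → Der := (ndA (nat_lit 168) (ndA (nat_lit 164) (ndA (nat_lit 162) (ndA (nat_lit 161) (lfA (⟨0, 0, 0, [], [], 0⟩ : Der)) (lfA (⟨2, 0, 0, [], [⟨0, [], 321, 0, [4]⟩, ⟨0, [140], 320, 1, []⟩], 0⟩ : Der))) (ndA (nat_lit 163) (lfA (⟨2, 0, 0, [], [⟨0, [], 321, 0, [2, 3, 4, 5, 6, 8, 4, 3, 2, 5, 4, 3, 8, 4, 5, 6]⟩, ⟨0, [142, 144, 149, 137], 320, 1, []⟩], 0⟩ : Der)) (lfA (⟨2, 0, 0, [], [⟨0, [], 321, 0, [2, 3, 2, 4, 3, 5, 4, 3, 2, 8, 4, 3, 2, 5, 4, 3, 8, 4, 5, 9, 8, 4, 3, 2, 5, 4, 3, 8, 4, 5, 9, 8, 4, 3, 2]⟩, ⟨0, [156, 156, 156, 145], 320, 1, []⟩], 0⟩ : Der)))) (ndA (nat_lit 166) (ndA (nat_lit 165) (lfA (⟨2, 0, 0, [], [⟨0, [], 321, 0, [2, 6, 5, 4, 3, 2, 7, 8, 4, 3, 5, 4, 6, 5, 7, 6,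 8, 4, 3, 2, 5, 4, 3, 8, 4, 5, 6, 7, 9, 8, 4, 3, 2, 5, 4, 3, 8, 4, 5, 6, 7, 9, 8, 4, 3]⟩, ⟨0, [136, 156, 142, 149, 157], 320, 1, []⟩], 0⟩ : Der)) (lfA (⟨2, 0, 0, [], [⟨0, [], 321, 0, []⟩, ⟨0, [], 154, 1, [4, 8, 9, 5, 4, 3, 4, 8, 5, 4, 6, 5, 2, 3, 4, 8, 9, 11]⟩], 2⟩ : Der))) (ndA (nat_lit 167) (lfA (⟨2, 0, 0, [], [⟨0, [], 321, 0, [5, 6, 7]⟩, ⟨0, [], 305, 1, [6, 5, 2, 3, 4, 8, 9, 11, 5, 4, 8, 9, 6, 5, 4, 8]⟩], 2⟩ : Der)) (lfA (⟨2, 0, 0, [], [⟨0, [], 321, 0, [8, 4, 5, 6, 7]⟩, ⟨0, [151, 149, 156, 156, 139, 137], 305, 1, [11, 9, 8, 9, 11, 5, 4, 8, 9, 11, 3, 4, 2, 3, 4, 8, 9, 11, 5, 4, 8, 9, 6, 3, 4, 5, 2, 3, 4, 8, 9, 11]⟩], 2⟩ : Der))))) (ndA (nat_lit 172) (ndA (nat_lit 170) (ndA (nat_lit 169) (lfA (⟨2,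 0, 0, [], [⟨0, [], 321, 0, [8, 4, 3, 9, 8, 4, 5, 6, 7]⟩, ⟨0, [157, 151, 147, 156, 139, 141], 305, 1, [11, 8, 9, 11, 4, 8, 9, 5, 4, 8, 9, 6, 5, 3, 4, 8, 9, 5, 4, 8, 6, 2, 3, 4, 8, 9, 11, 5, 4, 8, 6, 5, 4, 3, 4, 8, 9]⟩], 2⟩ : Der)) (lfA (⟨2, 0, 0, [], [⟨0, [], 321, 0, [3, 2, 8, 4, 3, 9, 8, 4, 5, 6, 7]⟩, ⟨0, [], 262, 1, [8, 9, 11]⟩], 2⟩ : Der))) (ndA (nat_lit 171) (lfA (⟨2, 0, 0, [3, 2, 4, 3, 8, 4, 3, 5, 6, 9, 8, 4, 3, 2, 5, 4, 3, 6, 5, 4, 7, 6, 5, 8, 4, 3, 5, 4, 6, 5, 9, 8, 4, 3, 5, 6, 1, 2], [⟨0, [], 321, 0, [3, 2, 4, 6, 5, 8, 4, 3, 9, 8, 4, 5, 6, 7]⟩, ⟨0, [145, 139], 262, 1, [9, 8, 4, 5, 6, 5, 3, 4, 8, 9, 11, 5, 4, 8, 9, 3, 4, 8, 5, 4, 6, 5, 3, 4, 8, 9]⟩, ⟨0, [267, 264, 273, 265, 269, 265], 339,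 2, [3, 2, 4, 3, 9, 8, 4, 3, 2, 1, 5, 4, 3, 8, 4, 9, 8, 5, 6, 5, 4, 3, 2, 8, 4, 5, 6]⟩], 0⟩ : Der)) (lfA (⟨2, 0, 0, [], [⟨0, [], 330, 0, [3, 2, 1]⟩, ⟨0, [], 191, 2, [2, 4, 3, 6, 5, 4, 8, 9, 11]⟩], 1⟩ : Der)))) (ndA (nat_lit 174) (ndA (nat_lit 173) (lfA (⟨2, 0, 0, [], [⟨0, [], 330, 0, [8, 4, 3, 2, 1]⟩, ⟨0, [127, 123, 121, 119, 115, 113], 191, 2, [4, 8, 4, 9, 8, 4, 5, 4, 3, 8, 4, 9, 5, 6, 5, 4, 3, 2, 8, 4, 3, 9, 8, 5, 4, 3, 8, 9, 11, 6]⟩], 1⟩ : Der)) (lfA (⟨2, 0, 0, [], [⟨0, [], 330, 0, [8, 4, 5, 9, 8, 4, 3, 2, 1]⟩, ⟨0, [117, 115, 123, 125, 127, 113], 191, 2, [3, 2, 4, 8, 9, 8, 11, 9, 5, 4, 3, 8, 4, 9, 8, 11, 9, 5, 4, 3, 2, 8, 4, 3, 5, 4, 8, 9, 11, 6, 5, 4, 3, 8, 4, 9, 8, 11, 5, 4, 3, 6, 5, 4, 8]⟩],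 1⟩ : Der))) (ndA (nat_lit 175) (lfA (⟨2, 0, 0, [], [⟨0, [], 330, 0, [5, 6, 8, 4, 5, 9, 8, 4, 3, 2, 1]⟩, ⟨0, [], 209, 2, [8, 9, 11]⟩], 1⟩ : Der)) (lfA (⟨2, 0, 0, [], [⟨0, [], 332, 0, [8, 4, 3, 5, 4, 6, 5, 9, 8, 4, 3, 2, 1]⟩, ⟨0, [298, 297, 291, 289], 306, 2, [4, 3, 8, 4, 3, 2, 11, 9, 8, 4, 3, 2, 6, 5, 4, 3, 2, 8, 4, 3, 9, 8, 4, 5, 4, 3, 2, 8, 4, 3, 9, 11]⟩], 1⟩ : Der))))))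
noncomputable def DT11 : ℕ → Der := (ndA (nat_lit 184) (ndA (nat_lit 180) (ndA (nat_lit 178) (ndA (nat_lit 177) (lfA (⟨2, 0, 0, [], [⟨0, [], 332, 0, [1, 4, 3, 2, 8, 4, 3, 5, 4, 8, 9, 8, 4, 3, 5, 4, 6, 5, 8, 4, 3, 2, 1]⟩, ⟨0, [299, 289, 310, 303], 287, 2, [2, 4, 3, 8, 9, 8, 4, 3, 2, 11, 5, 4, 3, 2, 8, 4, 3, 9, 8, 4, 11, 5, 4, 3, 2, 8, 4, 9, 11, 6, 5, 4, 8, 9, 11]⟩], 1⟩ : Der)) (lfA (⟨0, 0, 0, [], [], 0⟩ : Der))) (ndA (nat_lit 179) (lfA (⟨2, 0, 0, [], [⟨0, [], 355, 0, [7]⟩, ⟨0, [138], 354, 1, []⟩], 0⟩ : Der)) (lfA (⟨2, 0, 0, [], [⟨0, [], 355, 0, [3]⟩, ⟨0, [144], 354, 1, []⟩], 0⟩ : Der)))) (ndA (nat_lit 182) (ndA (nat_lit 181) (lfA (⟨2, 0, 0, [], [⟨0, [], 355, 0, [5]⟩, ⟨0, [148], 354, 1, []⟩], 0⟩ :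 Der)) (lfA (⟨2, 0, 0, [], [⟨0, [], 355, 0, [9]⟩, ⟨0, [156, 136, 157], 354, 1, []⟩], 0⟩ : Der))) (ndA (nat_lit 183) (lfA (⟨2, 0, 0, [], [⟨0, [], 355, 0, [6, 5, 7, 6, 5, 4, 3, 8, 4, 5, 6, 7, 9, 8, 4, 3, 5, 4, 6, 5, 7, 8, 4, 3, 9, 8, 4, 5]⟩, ⟨0, [136, 140, 142, 146, 149, 157, 141], 354, 1, []⟩], 0⟩ : Der)) (lfA (⟨2, 0, 0, [], [⟨0, [], 355, 0, [3, 4, 3, 2, 5, 4, 3, 2, 8, 4, 3, 2, 5, 4, 3, 9, 8, 4, 3, 2, 5, 4, 3, 6, 7, 8, 4, 5, 6, 7, 9, 8]⟩, ⟨0, [136, 156, 144, 156, 151, 143, 139, 137], 354, 1, []⟩], 0⟩ : Der))))) (ndA (nat_lit 188) (ndA (nat_lit 186) (ndA (nat_lit 185) (lfA (⟨2, 0, 0, [], [⟨0, [], 355, 0, []⟩, ⟨0, [], 154, 1, [4, 8, 5, 6, 3, 4, 5, 2, 3, 4, 8, 9, 11]⟩], 2⟩ : Der)) (lfA (⟨2, 0, 0, [8,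 9, 6, 5, 4, 8, 2, 3, 4, 5, 1, 2, 3, 4, 8, 9, 4, 5, 1, 2, 3, 4, 8, 3, 4, 5, 6, 3, 4, 5, 3, 4], [⟨0, [], 355, 0, [4, 5, 6, 7]⟩, ⟨0, [151, 143, 156, 139], 154, 1, [8, 9, 11, 4, 8, 9, 11, 5, 4, 8, 9, 11, 3, 4, 8, 5, 4, 2, 3, 4, 8, 5, 4, 6, 5, 3, 4, 8, 9, 11, 2]⟩, ⟨0, [133, 113, 127, 117, 119, 121, 115, 117, 119], 369, 2, [6, 5, 8, 9, 4, 8, 1, 2, 3, 4, 5, 8, 9, 2, 3, 4, 8, 1, 2, 3, 4, 5, 6, 8, 9, 4, 8, 3, 4, 5, 3, 4]⟩], 0⟩ : Der))) (ndA (nat_lit 187) (lfA (⟨2, 0, 0, [], [⟨0, [], 355, 0, [8, 4, 5, 6, 7]⟩, ⟨0, [], 305, 1, [2, 3, 4, 8, 9, 11, 5, 4, 8, 9, 6, 5, 3, 4, 8, 9, 11, 5, 2]⟩], 2⟩ : Der)) (lfA (⟨2, 0, 0, [], [⟨0, [], 368, 0, [8, 4, 3, 2, 1]⟩, ⟨0, [], 191, 2, [2, 3, 4, 8, 9, 11]⟩], 1⟩ : Der)))) (ndA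 (nat_lit 190) (ndA (nat_lit 189) (lfA (⟨2, 0, 0, [], [⟨0, [], 368, 0, [4, 6, 5, 8, 4, 3, 2, 1]⟩, ⟨0, [127, 119, 121, 117, 119, 115, 113], 191, 2, [3, 2, 4, 3, 8, 4, 9, 8, 5, 4, 3, 2, 8, 4, 5, 6, 5, 4, 3, 2, 8, 4, 3, 9, 11, 5, 4, 6]⟩], 1⟩ : Der)) (lfA (⟨2, 0, 0, [], [⟨0, [], 368, 0, [2, 4, 8, 4, 3, 5, 4, 6, 5, 9, 8, 4, 3, 2, 1]⟩, ⟨0, [123, 117], 209, 2, [11, 9, 8, 4, 3, 2, 5, 4, 3, 8, 4, 9, 8, 11, 9, 5, 4, 3, 2, 8, 4, 3, 5, 4, 8, 9]⟩], 1⟩ : Der))) (ndA (nat_lit 191) (lfA (⟨0, 0, 0, [], [], 1⟩ : Der)) (lfA (⟨2, 0, 0, [], [⟨0, [], 381, 1, [8, 9, 7, 6]⟩, ⟨0, [226, 225], 380, 0, []⟩], 1⟩ : Der))))))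
noncomputable def DT12 : ℕ → Der := (ndA (nat_lit 197) (ndA (nat_lit 194) (ndA (nat_lit 193) (lfA (⟨2, 0, 0, [], [⟨0, [], 381, 1, [8, 4, 8, 5, 4, 6, 5, 4, 8, 7, 6, 5, 4, 8]⟩, ⟨0, [222, 230, 223, 217], 380, 0, []⟩], 1⟩ : Der)) (lfA (⟨2, 0, 0, [], [⟨0, [], 381, 1, [2]⟩, ⟨0, [318, 218, 319], 380, 0, []⟩], 1⟩ : Der))) (ndA (nat_lit 195) (lfA (⟨2, 0, 0, [], [⟨0, [], 381, 1, [9, 4]⟩, ⟨0, [218, 229, 226, 228, 221, 219], 380, 0, []⟩], 1⟩ : Der)) (ndA (nat_lit 196) (lfA (⟨2, 0, 0, [], [⟨0, [], 381, 1, [8, 4, 8, 5, 4, 6, 5, 7, 3, 4, 8, 9, 5, 6, 2, 3, 4, 8, 9, 5, 4, 8, 6, 5, 4, 7, 6, 3, 4, 5, 6, 2, 3, 4, 8, 5, 4]⟩, ⟨0, [229, 318, 230, 221, 319, 228], 380, 0, []⟩], 1⟩ : Der)) (lfA (⟨2, 0, 0, [], [⟨0, [], 381,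 1, []⟩, ⟨0, [], 315, 0, [4, 6, 5, 9, 8, 4, 3, 2, 1]⟩], 2⟩ : Der))))) (ndA (nat_lit 199) (ndA (nat_lit 198) (lfA (⟨2, 0, 0, [], [⟨0, [], 392, 1, [11]⟩, ⟨0, [], 373, 2, [3, 2, 1, 4, 3, 2, 8, 4, 5, 4, 3, 8, 4, 9, 8, 6, 5, 4, 3, 2, 1, 8, 9]⟩], 0⟩ : Der)) (lfA (⟨2, 0, 0, [], [⟨0, [], 392, 1, [3, 4, 8, 9, 11]⟩, ⟨0, [293, 311, 311, 295], 312, 2, [8, 2, 3, 4, 5, 6, 5, 9, 4, 8, 1, 2, 3, 4, 5, 8, 9, 2, 3, 4, 8, 1, 2, 3, 4, 5, 6, 3, 4, 8, 2, 3, 4, 5, 4, 8, 9, 2, 1]⟩], 0⟩ : Der))) (ndA (nat_lit 200) (lfA (⟨2, 0, 0, [], [⟨0, [], 392, 1, [5, 3, 4, 8, 9, 11]⟩, ⟨0, [311, 297, 295, 297], 335, 2, [5, 6, 9, 8, 3, 4, 5, 8, 9, 3, 4, 8, 2, 3, 4, 5, 6, 8, 9, 4, 8, 3, 4, 5, 3, 4, 8, 9, 2, 3, 4, 8, 1, 2, 3, 4, 5, 4, 8, 9,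 3, 4, 8, 3, 1, 2]⟩], 0⟩ : Der)) (ndA (nat_lit 201) (lfA (⟨2, 0, 0, [], [⟨0, [], 392, 1, [3, 4, 5, 2, 3, 4, 8, 9, 11]⟩, ⟨0, [311, 293], 335, 2, [3, 4, 8, 2, 3, 4, 5, 6, 2, 3, 4, 5, 8, 9, 4, 8, 3, 4, 5, 8, 9, 2, 3, 4, 8, 1, 2, 3, 4, 5, 4, 8, 9, 3, 4, 8, 4, 3, 1]⟩], 0⟩ : Der)) (lfA (⟨2, 0, 0, [9, 4, 5, 7, 3, 4, 8, 5, 4, 6, 2, 3, 4, 8, 9, 5, 4, 8, 6, 5, 7, 6, 3, 4, 5, 6, 11, 9, 8, 4, 5, 6, 7, 3, 4, 8, 9, 5, 2, 3, 4, 8, 9, 5, 4, 3], [⟨0, [], 392, 1, [11, 9, 8, 4, 5, 6, 3, 4, 5, 2, 3, 4, 8, 9, 11]⟩, ⟨0, [303, 311, 297, 295], 337, 2, [1, 3, 8, 9, 5, 4, 3, 2, 1, 8, 4, 3, 2, 9, 8, 4, 5, 4, 3, 2, 1, 8, 4, 9, 5, 6, 5, 4, 3, 2, 1, 8, 4, 3, 2, 9, 8, 4, 3, 5, 4, 8, 9, 6, 5, 4, 3]⟩, ⟨0, [327, 325], 401, 0, [2,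 3, 7, 6, 5, 4, 8, 4, 3, 5, 4, 6, 5, 7, 6, 8, 4, 5, 9, 8, 4, 3, 2, 5, 4, 3, 6, 5, 4, 7, 8, 4, 5, 9, 8, 4, 3]⟩], 1⟩ : Der))))))
noncomputable def DT : ℕ → Der := (ndA (nat_lit 96) (ndA (nat_lit 48) (ndA (nat_lit 16) DT0 (ndA (nat_lit 32) DT1 DT2)) (ndA (nat_lit 64) DT3 (ndA (nat_lit 80) DT4 DT5))) (ndA (nat_lit 144) (ndA (nat_lit 112) DT6 (ndA (nat_lit 128) DT7 DT8)) (ndA (nat_lit 176) (ndA (nat_lit 160) DT9 DT10) (ndA (nat_lit 192) DT11 DT12))))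

noncomputable def eqs : List (List ℕ → List ℕ → Bool) := [eqvT tb0 (mskL g0) [0, 1, 190, 67, 8], eqvT tb1 (mskL g1) [0, 1, 190, 67, 8], eqvT tb2 (mskL g2) [0, 1, 190, 67, 8]]
noncomputable def chk : ℕ → Bool := chkF FT DT LW [] iv g0 (selE eqs)
theorem c0 : rangeB chk 0 113 = true := by decide +kernel
theorem c1 : rangeB chk 113 46 = true := by decide +kernel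
theorem c2 : rangeB chk 159 43 = true := by decide +kernel
theorem call : ∀ i < 202, chk i = true := (range_cons 202 (range_cons 159 (range_cons 113 (range_nil chk) c0) c1) c2)

def s0_0 : Sid := ⟨0, [0, 1, 2, 3, 4, 5, 6, 7, 8, 9, 10, 11, 12, 13, 14, 15, 16, 17], [(18, 0)], [0, 2, 4, 6, 8, 14, 10, 16, 6, 12, 4, 8, 2, 14, 6, 0, 4, 10, 8, 14, 2, 6, 10, 16, 0, 12, 4, 14, 8, 2, 6, 16, 8, 10, 14, 4, 0, 6, 12, 8, 14, 16, 4, 10, 2, 12, 6, 4, 6, 8, 10, 2]⟩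
def s0_1 : Sid := ⟨4, [66, 67, 68, 69, 70, 71, 72, 73, 74, 75, 76, 77, 78, 79, 82, 83], [(65, 0), (134, 9), (174, 780)], [14, 0, 4, 8, 2, 6, 4, 14, 12, 0, 6, 8, 10, 2, 14, 4, 6, 8, 0, 2, 12, 4, 0, 14, 10, 2, 6, 0, 12, 4, 14, 2, 6, 8, 12, 0, 4, 10, 14, 6, 12, 2, 8, 4, 10, 12, 0, 6, 4]⟩
def s0_2 : Sid := ⟨5, [86, 87, 88, 89, 90, 91, 92, 93, 94, 95, 96, 97, 98, 99, 100, 101, 102, 103, 108, 109], [(85, 0), (159, 1), (195, 19), (160, 676), (196, 761)], [18, 16, 12, 14, 2, 16, 18, 12, 14, 16, 18, 12, 16, 14, 18, 16, 4, 0]⟩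
def s0_3 : Sid := ⟨11, [216, 217, 218, 219, 220, 221, 222, 223, 224, 225, 226, 227, 228, 229, 230, 231, 316, 317, 318, 319], [(215, 0), (380, 23)], [16, 18, 12, 10, 14, 8, 12, 18, 16, 10, 12, 14, 8, 18, 12, 10, 16, 0]⟩
def s0_4 : Sid := ⟨12, [234, 235, 236, 237, 238, 239, 240, 241, 242, 243, 246, 247], [(233, 0), (248, 2)], [10, 0, 2, 4, 6, 8, 10, 2, 0, 6, 8, 10, 4, 2, 6, 10, 8, 2]⟩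
def s0_5 : Sid := ⟨13, [252, 253, 254, 255, 258, 259], [(251, 0), (260, 2), (283, 8490), (284, 4667), (397, 8736)], [4, 0, 2, 4, 0, 4, 0, 2, 4, 0, 4, 0, 2, 4, 0, 4, 0, 2, 0, 0]⟩
def s0_6 : Sid := ⟨16, [322, 323, 324, 325, 326, 327, 328, 329, 340, 341], [(321, 0), (342, 3), (344, 6), (346, 26), (348, 50), (350, 215), (352, 2604), (399, 2004), (401, 929)], [8, 2, 4, 6, 8, 2, 4, 8, 6, 2, 8, 4, 0, 6, 8, 2, 8]⟩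
def s0_7 : Sid := ⟨17, [356, 357, 358, 359, 360, 361, 362, 363, 364, 365, 366, 367, 370, 371], [(355, 0), (374, 6), (376, 15), (378, 179), (395, 2222)], [12, 8, 10, 12, 4, 8, 10, 12, 8, 10, 12, 8, 10, 12, 8, 10, 12, 0]⟩
def SS0 : List Sid := [s0_0, s0_1, s0_2, s0_3, s0_4, s0_5, s0_6, s0_7]
def s1_0 : Sid := ⟨1, [20, 21, 22, 23, 24, 25, 26, 27, 28, 29, 30, 31, 32, 33, 34, 35], [(19, 0), (64, 1), (84, 191)], [4, 10, 2, 6, 12, 8, 4, 0, 6, 10, 12, 14, 4, 2, 12, 4, 0, 14, 6, 8, 12, 2, 4, 10, 6, 12, 14, 2, 0, 8, 10, 12, 4, 2, 6, 8, 4, 12, 0, 6, 8, 4, 14, 10, 2, 6, 12, 4, 0, 8, 6, 2, 12, 8, 10, 4, 12, 8]⟩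
def s1_1 : Sid := ⟨7, [136, 137, 138, 139, 140, 141, 142, 143, 144, 145, 146, 147, 148, 149, 150, 151, 156, 157], [(135, 0), (158, 22), (354, 222), (320, 767)], [16, 14, 8, 16, 2, 12, 16, 14, 6, 16, 0, 14, 8, 16, 2, 16, 4, 14, 0]⟩
def s1_2 : Sid := ⟨8, [162, 163, 164, 165, 166, 167, 172, 173], [(161, 0), (353, 210), (232, 9918), (250, 10097)], [6, 4, 0, 2, 6, 4, 2, 0, 6, 4, 2, 0, 6, 2, 4, 0, 6, 2, 6, 0]⟩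
def s1_3 : Sid := ⟨9, [176, 177, 178, 179, 180, 181, 182, 183, 184, 185, 186, 187, 188, 189, 192, 193], [(175, 0), (194, 2), (375, 9), (343, 23), (377, 129), (345, 1410), (214, 780), (347, 2174), (285, 5073)], [14, 12, 8, 10, 12, 14, 2, 8, 12, 10, 12, 14, 8, 12, 2, 0, 10, 6]⟩
def s1_4 : Sid := ⟨10, [198, 199, 200, 201, 202, 203, 204, 205, 206, 207, 212, 213], [(197, 0), (349, 3), (379, 35), (351, 80), (261, 10542), (282, 2004), (249, 11253)], [10, 8, 2, 4, 0, 10, 6, 8, 10, 4, 8, 6, 2, 10, 8, 6, 4, 0]⟩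
def s1_5 : Sid := ⟨18, [382, 383, 384, 385, 386, 387, 388, 389, 390, 391, 402, 403], [(381, 0), (394, 1), (396, 6), (398, 8), (400, 26)], [10, 8, 0, 2, 10, 6, 0, 8, 10, 2, 0, 4, 10, 8, 6, 0, 2, 0]⟩
def SS1 : List Sid := [s1_0, s1_1, s1_2, s1_3, s1_4, s1_5]
theorem k0_0 : sideOK FT iv 202 B14M.nets (mskL g0) (mskL g1) (SS1.map Sid.j) 0 (Nat.pred (Nat.pow 2 14080)) s0_0 = true := by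
  decide +kernel
theorem k0_1 : sideOK FT iv 202 B14M.nets (mskL g0) (mskL g1) (SS1.map Sid.j) 0 (Nat.pred (Nat.pow 2 14080)) s0_1 = true := by
  decide +kernel
theorem k0_2 : sideOK FT iv 202 B14M.nets (mskL g0) (mskL g1) (SS1.map Sid.j) 0 (Nat.pred (Nat.pow 2 14080)) s0_2 = true := by
  decide +kernel
theorem k0_3 : sideOK FT iv 202 B14M.nets (mskL g0) (mskL g1) (SS1.map Sid.j) 0 (Nat.pred (Nat.pow 2 14080)) s0_3 = true := by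
  decide +kernel
theorem k0_4 : sideOK FT iv 202 B14M.nets (mskL g0) (mskL g1) (SS1.map Sid.j) 0 (Nat.pred (Nat.pow 2 14080)) s0_4 = true := by
  decide +kernel
theorem k0_5 : sideOK FT iv 202 B14M.nets (mskL g0) (mskL g1) (SS1.map Sid.j) 0 (Nat.pred (Nat.pow 2 14080)) s0_5 = true := by
  decide +kernel
theorem k0_6 : sideOK FT iv 202 B14M.nets (mskL g0) (mskL g1) (SS1.map Sid.j) 0 (Nat.pred (Nat.pow 2 14080)) s0_6 = true := by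
  decide +kernel
theorem k0_7 : sideOK FT iv 202 B14M.nets (mskL g0) (mskL g1) (SS1.map Sid.j) 0 (Nat.pred (Nat.pow 2 14080)) s0_7 = true := by
  decide +kernel
theorem sd0 : ∀ s ∈ SS0, sideOK FT iv 202 B14M.nets (mskL g0) (mskL g1) (SS1.map Sid.j) 0 (Nat.pred (Nat.pow 2 14080)) s = true := (forall_cons k0_0 (forall_cons k0_1 (forall_cons k0_2 (forall_cons k0_3 (forall_cons k0_4 (forall_cons k0_5 (forall_cons k0_6 (forall_cons k0_7 (forall_nil' _)))))))))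
theorem kp0 : keepErr B14M.nets (g0.map fun x => [x]) (Nat.pred (Nat.pow 2 14080)) = 0 := by decide +kernel
theorem k1_0 : sideOK FT iv 202 (u1.map (getNet B14M.nets)) (mskL g1) (mskL g0) (SS0.map Sid.j) 0 (Nat.pred (Nat.pow 2 14080)) s1_0 = true := by
  decide +kernel
theorem k1_1 : sideOK FT iv 202 (u1.map (getNet B14M.nets)) (mskL g1) (mskL g0) (SS0.map Sid.j) 0 (Nat.pred (Nat.pow 2 14080)) s1_1 = true := by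
  decide +kernel
theorem k1_2 : sideOK FT iv 202 (u1.map (getNet B14M.nets)) (mskL g1) (mskL g0) (SS0.map Sid.j) 0 (Nat.pred (Nat.pow 2 14080)) s1_2 = true := by
  decide +kernel
theorem k1_3 : sideOK FT iv 202 (u1.map (getNet B14M.nets)) (mskL g1) (mskL g0) (SS0.map Sid.j) 0 (Nat.pred (Nat.pow 2 14080)) s1_3 = true := by
  decide +kernel
theorem k1_4 : sideOK FT iv 202 (u1.map (getNet B14M.nets)) (mskL g1) (mskL g0) (SS0.map Sid.j) 0 (Nat.pred (Nat.pow 2 14080)) s1_4 = true := by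
  decide +kernel
theorem k1_5 : sideOK FT iv 202 (u1.map (getNet B14M.nets)) (mskL g1) (mskL g0) (SS0.map Sid.j) 0 (Nat.pred (Nat.pow 2 14080)) s1_5 = true := by
  decide +kernel
theorem sd1 : ∀ s ∈ SS1, sideOK FT iv 202 (u1.map (getNet B14M.nets)) (mskL g1) (mskL g0) (SS0.map Sid.j) 0 (Nat.pred (Nat.pow 2 14080)) s = true := (forall_cons k1_0 (forall_cons k1_1 (forall_cons k1_2 (forall_cons k1_3 (forall_cons k1_4 (forall_cons k1_5 (forall_nil' _)))))))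
theorem kp1 : keepErr (u1.map (getNet B14M.nets)) (g1.map fun x => [x]) (Nat.pred (Nat.pow 2 14080)) = 0 := by decide +kernel
theorem v1f0 : fixErr Fi22M.nets (subW (stabWs FT iv s0_1) [[2], [6], [0], [4], [8], [10], [12], [14]]) [] = 0 := by decide +kernel
theorem v1o0 : orbErr Fi22M.nets (subW (stabWs FT iv s0_1) [[2], [6], [0], [4], [8], [10], [12], [14]]) [0, 1, 2, 3, 4, 5, 6, 7, 0, 1, 3, 2, 4, 0, 1, 6, 2, 4, 3, 5, 7, 6, 0, 1, 2, 3, 4, 0, 1, 5, 7, 6, 3, 2] 20 12 2304 = 0 := by decide +kernel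
theorem v1f1 : fixErr Fi22M.nets (subW (stabWs FT iv s0_1) [[10], [12], [14], [0], [2, 4, 3], [4, 6, 5], [8]]) [20] = 0 := by decide +kernel
theorem v1o1 : orbErr Fi22M.nets (subW (stabWs FT iv s0_1) [[10], [12], [14], [0], [2, 4, 3], [4, 6, 5], [8]]) [0, 1, 2, 3, 4, 5, 6, 3, 1, 5, 2, 0, 4, 1, 6, 4, 3, 0, 2, 4, 5, 1] 118 12 1120 = 0 := by decide +kernel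
theorem v1f2 : fixErr Fi22M.nets (subW (stabWs FT iv s0_1) [[0], [8], [2, 4, 3], [4, 6, 5]]) [118, 20] = 0 := by decide +kernel
theorem v1o2 : orbErr Fi22M.nets (subW (stabWs FT iv s0_1) [[0], [8], [2, 4, 3], [4, 6, 5]]) [0, 1, 2, 3, 0, 1] 208 12 36 = 0 := by decide +kernel
theorem v2f0 : fixErr Fi22M.nets (subW (stabWs FT iv s0_2) [[0], [6], [10], [12], [14], [16], [18]]) [] = 0 := by decide +kernel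
theorem v2o0 : orbErr Fi22M.nets (subW (stabWs FT iv s0_2) [[0], [6], [10], [12], [14], [16], [18]]) [0, 1, 2, 3, 4, 5, 6, 3, 5, 4, 6, 5, 3, 6, 5] 83 12 2187 = 0 := by decide +kernel
theorem v2f1 : fixErr Fi22M.nets (subW (stabWs FT iv s0_2) [[2], [4], [17, 14, 16], [19, 14, 18], [12, 18, 17, 13]]) [83] = 0 := by decide +kernel
theorem v2o1 : orbErr Fi22M.nets (subW (stabWs FT iv s0_2) [[2], [4], [17, 14, 16], [19, 14, 18], [12, 18, 17, 13]]) [0, 1, 2, 3, 4, 2, 4, 3, 2, 4, 4, 3] 25 12 384 = 0 := by decide +kernel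
theorem v2f2 : fixErr Fi22M.nets (subW (stabWs FT iv s0_2) [[8]]) [25, 83] = 0 := by decide +kernel
theorem v2o2 : orbErr Fi22M.nets (subW (stabWs FT iv s0_2) [[8]]) [0] 5 12 2 = 0 := by decide +kernel
theorem v3f0 : fixErr Fi22M.nets (subW (stabWs FT iv s0_3) [[0], [8], [12], [14], [18], [10], [16]]) [] = 0 := by decide +kernel
theorem v3o0 : orbErr Fi22M.nets (subW (stabWs FT iv s0_3) [[0], [8], [12], [14], [18], [10], [16]]) [0, 1, 2, 3, 4, 2, 5, 6, 2, 3, 1, 4, 2, 5, 1, 0] 1 12 2464 = 0 := by decide +kernel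
theorem v3f1 : fixErr Fi22M.nets (subW (stabWs FT iv s0_3) [[2], [6], [10, 9], [12, 18, 8, 5, 19, 13], [0, 10, 12, 17, 13], [0, 12, 2, 11, 13], [13, 6, 12, 9]]) [1] = 0 := by decide +kernel
theorem v3o1 : orbErr Fi22M.nets (subW (stabWs FT iv s0_3) [[2], [6], [10, 9], [12, 18, 8, 5, 19, 13], [0, 10, 12, 17, 13], [0, 12, 2, 11, 13], [13, 6, 12, 9]]) [0, 1, 2, 3, 2, 4, 5, 3, 2, 5, 4, 3, 6, 2, 3] 5 12 1440 = 0 := by decide +kernel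
theorem v3f2 : fixErr Fi22M.nets (subW (stabWs FT iv s0_3) [[0, 16, 18, 1, 19], [0, 12, 10, 13, 7, 1], [2, 13, 6, 12, 9, 3], [12, 14, 18, 8, 15, 19, 13], [16, 14, 18, 8, 15, 19, 17, 7], [13, 16, 14, 18, 8, 15, 19, 12, 17, 3]]) [5, 1] = 0 := by decide +kernel
theorem v3o2 : orbErr Fi22M.nets (subW (stabWs FT iv s0_3) [[0, 16, 18, 1, 19], [0, 12, 10, 13, 7, 1], [2, 13, 6, 12, 9, 3], [12, 14, 18, 8, 15, 19, 13], [16, 14, 18, 8, 15, 19, 17, 7], [13, 16, 14, 18, 8, 15, 19, 12, 17, 3]]) [0, 1, 2, 3, 4, 5] 20 12 64 = 0 := by decide +kernel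
theorem v3f3 : fixErr Fi22M.nets (subW (stabWs FT iv s0_3) [[4]]) [20, 5, 1] = 0 := by decide +kernel
theorem v3o3 : orbErr Fi22M.nets (subW (stabWs FT iv s0_3) [[4]]) [0] 21 12 2 = 0 := by decide +kernel
theorem v4f0 : fixErr Fi22M.nets (subW (stabWs FT iv s0_4) [[0], [2], [4], [6], [10], [8]]) [] = 0 := by decide +kernel
theorem v4o0 : orbErr Fi22M.nets (subW (stabWs FT iv s0_4) [[0], [2], [4], [6], [10], [8]]) [0, 1, 2, 3, 4, 1, 2, 3, 5, 4, 1, 0, 3, 2, 5, 0] 0 12 3510 = 0 := by decide +kernel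
theorem v4f1 : fixErr Fi22M.nets (subW (stabWs FT iv s0_4) [[3, 0, 2], [8, 10, 9], [3, 3, 3, 3], [4, 7, 2, 5], [6, 8, 10, 6, 9], [4, 3, 10, 5, 6, 1]]) [0] = 0 := by decide +kernel
theorem v4o1 : orbErr Fi22M.nets (subW (stabWs FT iv s0_4) [[3, 0, 2], [8, 10, 9], [3, 3, 3, 3], [4, 7, 2, 5], [6, 8, 10, 6, 9], [4, 3, 10, 5, 6, 1]]) [0, 1, 2, 3, 4, 5, 1, 2, 3, 4, 5, 1, 2] 10 12 640 = 0 := by decide +kernel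
theorem v4f2 : fixErr Fi22M.nets (subW (stabWs FT iv s0_4) [[6, 0, 7, 9, 6], [7, 10, 6, 3, 1, 2], [5, 7, 7, 10, 6, 6, 6, 1]]) [10, 0] = 0 := by decide +kernel
theorem v4o2 : orbErr Fi22M.nets (subW (stabWs FT iv s0_4) [[6, 0, 7, 9, 6], [7, 10, 6, 3, 1, 2], [5, 7, 7, 10, 6, 6, 6, 1]]) [0, 1, 2] 1 12 8 = 0 := by decide +kernel
theorem v5f0 : fixErr Fi22M.nets (subW (stabWs FT iv s0_5) [[0], [2], [4]]) [] = 0 := by decide +kernel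
theorem v5o0 : orbErr Fi22M.nets (subW (stabWs FT iv s0_5) [[0], [2], [4]]) [0, 1, 2, 0, 2, 0, 1, 2, 0, 2, 0, 1, 2, 0, 2, 0, 1] 1 12 2304 = 0 := by decide +kernel
theorem v5f1 : fixErr Fi22M.nets (subW (stabWs FT iv s0_5) [[1, 4, 0, 4, 0, 4, 4], [1, 5, 0, 0, 5, 1, 4]]) [1] = 0 := by decide +kernel
theorem v5o1 : orbErr Fi22M.nets (subW (stabWs FT iv s0_5) [[1, 4, 0, 4, 0, 4, 4], [1, 5, 0, 0, 5, 1, 4]]) [0, 1, 0, 1, 0, 1, 0, 1, 0, 1, 0, 1, 0, 1, 0] 15 12 168 = 0 := by decide +kernel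
theorem v6f0 : fixErr Fi22M.nets (subW (stabWs FT iv s0_6) [[0], [2], [4], [6], [8]]) [] = 0 := by decide +kernel
theorem v6o0 : orbErr Fi22M.nets (subW (stabWs FT iv s0_6) [[0], [2], [4], [6], [8]]) [0, 1, 2, 3, 4, 1, 2, 4, 3, 4, 1, 2, 4, 1, 3] 10 12 1344 = 0 := by decide +kernel
theorem v6f1 : fixErr Fi22M.nets (subW (stabWs FT iv s0_6) [[6, 2, 7, 2], [2, 4, 6, 3, 8]]) [10] = 0 := by decide +kernel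
theorem v6o1 : orbErr Fi22M.nets (subW (stabWs FT iv s0_6) [[6, 2, 7, 2], [2, 4, 6, 3, 8]]) [0, 1, 0, 1, 0, 1, 0, 1, 0, 0, 1, 0, 0, 1] 0 12 60 = 0 := by decide +kernel
theorem v7f0 : fixErr Fi22M.nets (subW (stabWs FT iv s0_7) [[2], [6], [8], [10], [12], [0]]) [] = 0 := by decide +kernel
theorem v7o0 : orbErr Fi22M.nets (subW (stabWs FT iv s0_7) [[2], [6], [8], [10], [12], [0]]) [0, 1, 2, 3, 4, 2, 3, 4, 2, 3, 4, 2, 3, 4, 5, 0] 26 12 1440 = 0 := by decide +kernel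
theorem v7f1 : fixErr Fi22M.nets (subW (stabWs FT iv s0_7) [[4], [6, 8, 8, 3], [9, 12, 8, 11, 11], [6, 10, 13, 8, 7, 3], [6, 11, 13, 11, 13, 3], [11, 12, 8, 1, 13, 10]]) [26] = 0 := by decide +kernel
theorem v7o1 : orbErr Fi22M.nets (subW (stabWs FT iv s0_7) [[4], [6, 8, 8, 3], [9, 12, 8, 11, 11], [6, 10, 13, 8, 7, 3], [6, 11, 13, 11, 13, 3], [11, 12, 8, 1, 13, 10]]) [0, 1, 2, 3, 4, 5, 1, 2] 5 12 128 = 0 := by decide +kernel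
theorem v7f2 : fixErr Fi22M.nets (subW (stabWs FT iv s0_7) [[0]]) [5, 26] = 0 := by decide +kernel
theorem v7o2 : orbErr Fi22M.nets (subW (stabWs FT iv s0_7) [[0]]) [0] 21 12 2 = 0 := by decide +kernel

end Cfsg.Agent.H17.BmE
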