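import Cfsg.Agent.H17.ThE
import Cfsg.Agent.H17.Mod.ThM3
import Cfsg.Agent.H17.Cert.ThT11
import Cfsg.Agent.H17.Cert.ThT12

set_option autoImplicit false
set_option Elab.async false
set_option maxRecDepth 100000
set_option exponentiation.threshold 400000

namespace Cfsg.Agent.H17.ThS

open Cfsg Cfsg.Agent.H58 Cfsg.Agent.H17

open ThP ThF ThU ThE

theorem af0 : fixErr ThM0.nets [[2], [1], [3], [12], [4], [6], [5], [8]] [] = 0 := by decide +kernel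
theorem ao0 : orbErr ThM0.nets [[2], [1], [3], [12], [4], [6], [5], [8]] [0, 1, 2, 3, 4, 0, 5, 3, 5, 4, 6, 3, 0, 2, 5, 7] 0 12 819 = 0 := by decide +kernel
theorem af1 : fixErr ThM0.nets [[1], [3], [4], [5], [6], [8]] [0] = 0 := by decide +kernel
theorem ao1 : orbErr ThM0.nets [[1], [3], [4], [5], [6], [8]] [0, 1, 2, 1, 3, 4, 2, 3, 5, 1, 2, 4, 3, 4, 1, 2, 3, 5, 4, 2, 1, 2, 1] 1 12 512 = 0 := by decide +kernel
theorem af2 : fixErr ThM0.nets [[4], [6], [5], [8]] [1, 0] = 0 := by decide +kernel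
theorem ao2 : orbErr ThM0.nets [[4], [6], [5], [8]] [0, 1, 0, 2, 3, 1, 0, 1, 2, 1, 0, 1, 0] 50 12 168 = 0 := by decide +kernel
theorem af3 : fixErr ThM0.nets [[8], [5, 4]] [50, 1, 0] = 0 := by decide +kernel
theorem ao3 : orbErr ThM0.nets [[8], [5, 4]] [0, 1, 0, 1] 26 12 9 = 0 := by decide +kernel
theorem bf0 : fixErr ThM3.nets [[1], [2], [3], [4], [5], [6]] [] = 0 := by decide +kernel
theorem bo0 : orbErr ThM3.nets [[1], [2], [3], [4], [5], [6]] [1, 0, 2, 3, 1, 2, 4, 1, 5, 3, 4, 0, 5, 3, 2, 1, 3, 4, 0, 5, 5, 2, 1] 0 10 819 = 0 := by decide +kernel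
theorem bf1 : fixErr ThM3.nets [[1], [3], [4], [5], [6]] [0] = 0 := by decide +kernel
theorem bo1 : orbErr ThM3.nets [[1], [3], [4], [5], [6]] [0, 1, 2, 1, 3, 4, 2, 3, 1, 2, 4, 3, 4, 2, 1, 3, 2, 4, 3, 1, 2, 4, 1] 1 10 512 = 0 := by decide +kernel
theorem bf2 : fixErr ThM3.nets [[4], [5], [6]] [1, 0] = 0 := by decide +kernel
theorem bo2 : orbErr ThM3.nets [[4], [5], [6]] [0, 2, 0, 1, 2, 0, 1, 2, 0, 1, 2, 0, 1] 50 10 168 = 0 := by decide +kernel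
theorem bf3 : fixErr ThM3.nets [[5, 4]] [50, 1, 0] = 0 := by decide +kernel
theorem bo3 : orbErr ThM3.nets [[5, 4]] [0, 0] 26 10 3 = 0 := by decide +kernel
def cl : List (List ℕ × ℕ × List ℕ × List ℕ) := [([2], 1, [0, 1, 2, 1, 3, 4, 2, 3, 5, 1, 2, 4, 3, 4, 1, 2, 3, 5, 4, 2, 1, 2, 1], [0, 1, 2, 3, 0, 2, 4, 0, 5, 3, 4, 6, 1, 2, 3, 0, 5, 6, 4, 1, 5, 3]),
  ([2, 3, 1, 2], 6, [2, 1, 3, 4, 2, 3, 2], [0, 3, 2, 4, 5, 3, 4, 0, 3, 2, 4, 5, 3, 6, 4, 0, 3, 2, 5, 3]),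
  ([2, 12, 1, 2], 80, [0, 1, 2, 4, 3, 4, 2, 3, 4, 5, 2, 1, 2], [0, 1, 2, 3, 5, 4, 5, 3, 4, 5, 6, 3, 0, 1, 2, 3, 0, 1])]
theorem c1 : genErr ThM0.nets [[1], [3], [4], [5], [6], [8]] 0 (Nat.pred (Nat.pow 2 819)) cl = 0 := by decide +kernel
theorem c2 : covM ThM0.nets [[1], [3], [4], [5], [6], [8]] 0 cl = (Nat.pred (Nat.pow 2 819)) := by decide +kernel
theorem c3 : appW ThM0.nets [2, 12, 1, 2] (Nat.pow 2 80) = Nat.pow 2 0 := by decide +kernel
theorem c4 : fixErr ThM0.nets [[1], [3], [4], [5], [6], [8]] [0] = 0 := by decide +kernel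
theorem c5 : bfs ThM0.nets [[1], [2], [3], [4], [5], [6], [7], [8], [9], [12]] [1, 0, 2, 9, 3, 1, 5, 9, 5, 3, 4, 9, 1, 2, 5, 7] (2 ^ 0) = (Nat.pred (Nat.pow 2 819)) := by decide +kernel
theorem c6 : keepErr ThM0.nets [[1], [2], [3], [4], [5], [6], [7], [8], [9], [12]] (Nat.pred (Nat.pow 2 819)) = 0 := by decide +kernel
def dl : List (List ℕ × ℕ × List ℕ × List ℕ) := [([2], 1, [0, 1, 2, 1, 3, 4, 2, 3, 1, 2, 4, 3, 4, 2, 1, 3, 2, 4, 3, 1, 2, 4, 1], [0, 1, 2, 3, 0, 2, 4, 0, 5, 3, 4, 1, 5, 3, 2, 0, 3, 4, 1, 5, 5, 2, 0]),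
  ([2, 3, 1, 2], 6, [2, 1, 3, 4, 2, 3, 2], [0, 3, 2, 4, 5, 3, 4, 0, 3, 2, 4, 5, 3, 4, 0, 3, 2, 5, 3, 4]),
  ([2, 3, 4, 3, 2], 13, [0, 2, 3, 1, 2, 4, 2, 3, 1, 2, 4, 2, 3, 1, 2], [0, 1, 3, 4, 2, 3, 5, 3, 4, 2, 3, 5, 3, 4, 2, 0, 1, 3, 2, 4, 0, 3])]
theorem d1 : genErr ThM3.nets [[1], [3], [4], [5], [6]] 0 (Nat.pred (Nat.pow 2 819)) dl = 0 := by decide +kernel
theorem d2 : covM ThM3.nets [[1], [3], [4], [5], [6]] 0 dl = (Nat.pred (Nat.pow 2 819)) := by decide +kernel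
theorem d3 : appW ThM3.nets [2, 3, 4, 3, 2] (Nat.pow 2 13) = Nat.pow 2 0 := by decide +kernel
theorem d4 : fixErr ThM3.nets [[1], [3], [4], [5], [6]] [0] = 0 := by decide +kernel
theorem d5 : bfs ThM3.nets [[1], [2], [3], [4], [5], [6], [7]] [1, 0, 2, 3, 1, 2, 4, 1, 5, 3, 4, 0, 5, 3, 2, 1, 3, 4, 0, 5, 5, 2, 1] (2 ^ 0) = (Nat.pred (Nat.pow 2 819)) := by decide +kernel
theorem d6 : keepErr ThM3.nets [[1], [2], [3], [4], [5], [6], [7]] (Nat.pred (Nat.pow 2 819)) = 0 := by decide +kernel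
def pu : List (List ℕ × List ℕ) := [([1, 2, 3, 4, 5, 7, 1, 2, 3, 4, 5, 7, 1, 2, 3, 4, 5, 7, 1, 2, 3, 4, 5, 7, 1, 2, 3, 4, 5, 7, 1, 2, 3, 4, 5, 7, 1, 2, 3, 4, 5, 7], [6, 5, 4, 3, 2, 1, 6, 5, 4, 3, 2, 1, 6, 5, 4, 3, 2, 1, 6, 5, 4, 3, 2, 1, 6, 5, 4, 3, 2, 1, 6, 5, 4, 3, 2, 1])]
theorem pu0 : eqsAt ThM3.nets 1024 10 pu 0 = 0 := by decide +kernel
theorem pu1 : eqsAt ThM3.nets 1024 10 pu 1 = 0 := by decide +kernel
theorem pu2 : eqsAt ThM3.nets 1024 10 pu 2 = 0 := by decide +kernel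
theorem pu3 : eqsAt ThM3.nets 1024 10 pu 3 = 0 := by decide +kernel
theorem pu4 : eqsAt ThM3.nets 1024 10 pu 4 = 0 := by decide +kernel
theorem pu5 : eqsAt ThM3.nets 1024 10 pu 5 = 0 := by decide +kernel
theorem pu6 : eqsAt ThM3.nets 1024 10 pu 6 = 0 := by decide +kernel
theorem pu7 : eqsAt ThM3.nets 1024 10 pu 7 = 0 := by decide +kernel
theorem pu8 : eqsAt ThM3.nets 1024 10 pu 8 = 0 := by decide +kernel
theorem pu9 : eqsAt ThM3.nets 1024 10 pu 9 = 0 := by decide +kernel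
theorem mv : appW ThM0.nets [1] (Nat.pow 2 1) = Nat.pow 2 2 := by decide +kernel
def pw0 : List (List ℕ × List ℕ) := [([2, 6, 5, 4, 10, 2, 6, 5, 4, 10, 2, 6, 5, 4, 10, 2, 6, 5, 4, 10, 2, 6, 5, 4, 10, 2, 6, 5, 4, 10, 2, 6, 5, 4, 10, 2, 6, 5, 4, 10, 2, 6, 5, 4, 10, 2, 6, 5, 4, 10], [11, 4, 5, 7, 2, 11, 4, 5, 7, 2, 11, 4, 5, 7, 2, 11, 4, 5, 7, 2, 11, 4, 5, 7, 2, 11, 4, 5, 7, 2, 11, 4, 5, 7, 2, 11, 4, 5, 7, 2, 11, 4, 5, 7, 2])]
theorem pw0_0 : meqAt ThR.E 62 ThR.mats pw0 0 = true := by decide +kernel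
theorem pw0_1 : meqAt ThR.E 62 ThR.mats pw0 1 = true := by decide +kernel
theorem pw0_2 : meqAt ThR.E 62 ThR.mats pw0 2 = true := by decide +kernel
theorem pw0_3 : meqAt ThR.E 62 ThR.mats pw0 3 = true := by decide +kernel
theorem pw0_eq : ∀ q ∈ pw0, (q.1.map (lmat ThR.E ThR.mats)).prod = (q.2.map (lmat ThR.E ThR.mats)).prod :=
  meq_sound ThR.matsOK (m := 62) (J := 4) (by decide) ThR.basis (blocks_cons (blocks_cons (blocks_cons (blocks_cons (blocks_nil _) pw0_0) pw0_1) pw0_2) pw0_3)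


def gK : List ℕ := [1, 2, 3, 4, 5, 6, 7]
theorem ty3 : typeOK ThM3.nets gK ThM3.rels iv = true := by decide +kernel
abbrev D3 : Type := PD el ThM3.nets gK
noncomputable def M3 : Model D3 := pairModel el ty3 ThM3.netsOK
noncomputable def ψ3 : D3 →* Spor.Th := pairFst el ThM3.nets gK
theorem L3 : Loc el gK M3 ψ3 := pairLoc el ty3 ThM3.netsOK
theorem Q3 : RuleOK M3.el ThM3.rels iv :=
  ruleOK_model (RuleOK_sub R (by decide +kernel)) ThM3.ruleN ty3 ThM3.netsOK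
theorem cle3 : Finite D3 ∧ Nat.card D3 ≤ 211341312 := card_top_le L3.hgen (card_K Q3)
instance fin3 : Finite D3 := cle3.1
theorem base3 : M3.fixK ⊤ [26, 50, 1, 0] = ⊥ ∧ Nat.card D3 = 211341312 ∧ Function.Injective M3.φ :=
  fix_bot cle3.2 fun m hm => le_trans (by omega) (show 819 * (512 * (168 * (3 * (m)))) ≤ _ from
    (M3.lev_step (fun _ _ => trivial) bf0 bo0
    (M3.lev_step (fun _ _ => trivial) bf1 bo1
    (M3.lev_step (fun _ _ => trivial) bf2 bo2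
    (M3.lev_step (fun _ _ => trivial) bf3 bo3
    hm)))))

theorem base0' : M0.fixK ⊤ [26, 50, 1, 0] = ⊥ :=
  (fix_bot cle0.2 fun m hm => le_trans (by omega) (show 819 * (512 * (168 * (9 * (m)))) ≤ _ from
    (M0.lev_step (fun _ _ => trivial) af0 ao0
    (M0.lev_step (fun _ _ => trivial) af1 ao1
    (M0.lev_step (fun _ _ => trivial) af2 ao2
    (M0.lev_step (fun _ _ => trivial) af3 ao3
    hm)))))).1

theorem coatom0 : IsCoatom (M0.St 0) :=
  isCoatom_mask M0 Lc0.top c6 (by decide +kernel) (M0.St_ne_top c3 (by decide)) c4 c1 c2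

theorem core0 : ∀ N : Subgroup D0, N.Normal → N ≤ M0.St 0 → N = ⊥ :=
  core_free_mask M0 c5 base0' (by decide +kernel)

theorem a_ne : wv M0.el [1] ≠ 1 := M0.wv_ne_one mv (by decide)

theorem center0 : Subgroup.center D0 = ⊥ :=
  center_eq_bot_of_coatom coatom0 core0 fun h =>
    a_ne (Subgroup.mem_bot.1 (h ▸ M0.mem_St_of c4 (wv_mem_clW _ (by decide))))

theorem inj0 : Function.Injective ψ0 := Lc0.inj (by rw [base0.2.1, index_card.2])

instance simple3 : IsSimpleGroup D3 := by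
  have : Fact (Nat.Prime 13) := ⟨by norm_num⟩
  refine simple_of_coatom
    (isCoatom_mask M3 L3.top d6 (by decide +kernel) (M3.St_ne_top d3 (by decide)) d4 d1 d2)
    (core_free_mask M3 d5 base3.1 (by decide +kernel)) (p := 13) (k := 1)
    (by rw [index_St_mask M3 L3.top d5 d6 (by decide +kernel)]; norm_num)
    (by rw [base3.2.1]; norm_num) (wv M3.el [1, 2, 3, 4, 5, 7]) ?_ fun N hN hu => ?_
  · exact wv_pow_eq_one Q3 _ 7 6 (M3.wv_eq base3.2.2 (b := 10) (by decide) (blocks_cons (blocks_cons (blocks_cons (blocks_cons (blocks_cons (blocks_cons (blocks_cons (blocks_cons (blocks_cons (blocks_cons (blocks_nil _) pu0) pu1) pu2) pu3) pu4) pu5) pu6) pu7) pu8) pu9) _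
      List.mem_cons_self) (by decide +kernel)
  · have Q := Q3.quot N _ (by decide) hu
    rw [eq_top_iff, ← (clL_eq_of_genOK Q3 [(0, 7)] [1, 2, 3, 4, 5, 6] gK (by decide +kernel)).trans
      L3.hgen]
    exact clL_le (forall_cons (mem_of_quot_bot N (ThT11.goal1 Q ⊥ (forall_nil _)))
      (forall_cons (mem_of_quot_bot N (ThT11.goal2 Q ⊥ (forall_nil _)))
      (forall_cons (mem_of_quot_bot N (ThT11.goal3 Q ⊥ (forall_nil _)))
      (forall_cons (mem_of_quot_bot N (ThT11.goal4 Q ⊥ (forall_nil _)))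
      (forall_cons (mem_of_quot_bot N (ThT11.goal5 Q ⊥ (forall_nil _)))
      (forall_cons (mem_of_quot_bot N (ThT11.goal6 Q ⊥ (forall_nil _)))
      (forall_nil _)))))))

/-- the subgroup generated by a, b, c, d, e, s -/
abbrev K : Subgroup Spor.Th := clL el gK

theorem K_le : K ≤ H := clL_mono el _ _ (by decide)

theorem card_K' : Nat.card K = 211341312 := by
  have h1 := (card_K (RuleOK_sub R (by decide +kernel))).2
  have h2 := (indK (RuleOK_sub R (by decide +kernel))).2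
  have h3 := (K.subgroupOf H).index_mul_card
  rw [Nat.card_congr (Subgroup.subgroupOfEquivOfLe K_le).toEquiv, index_card.2] at h3
  change Nat.card K ≤ _ at h1
  change (K.subgroupOf H).index ≤ _ at h2
  nlinarith

instance simpleK : IsSimpleGroup K :=
  (L3.equiv (L3.inj (by rw [base3.2.1, card_K']))).some.symm.isSimpleGroup

theorem center_le : Subgroup.center Spor.Th ≤ H :=
  center_le_of_dcs dcs hn (index_card.1.trans sum_n.symm) (fun d => Lc0.range.le ⟨d, rfl⟩) fun i hi => by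
    obtain rfl : i = ⟨0, by decide⟩ := by revert i; decide
    exact H.one_mem

theorem center_bot : Subgroup.center Spor.Th = ⊥ :=
  center_eq_bot_of_le inj0 Lc0.range center_le center0

theorem wv_eq_of_rep {w w' : List ℕ} (h : wv (elM ThR.E ThR.mats) w = wv (elM ThR.E ThR.mats) w') :
    wv el0 w = wv el0 w' :=
  card_inj.2 (by rw [wv_map, wv_map, funext ρ_el]; exact h)

theorem w19 : wv el [2, 6, 5, 4, 10] ^ 19 = 1 := by
  have h : wv el0 [2, 6, 5, 4, 10] ^ (10 + 9) = 1 := wv_pow_eq_one R0 _ 10 9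
    (wv_eq_of_rep (ThR.rule.1.wv_eq pw0_eq _ List.mem_cons_self)) (by decide +kernel)
  exact h

instance simple : IsSimpleGroup Spor.Th := by
  refine simple_of_prime (r := 19) (by norm_num) (by rw [card_eq]; norm_num)
    (pow_cond _ _ [(2, 15), (3, 10), (5, 3), (7, 2), (13, 1), (19, 1), (31, 1)]
      (by rw [card_eq]; norm_num) (by simp only [List.forall_mem_cons]; norm_num) (by decide)
      (by decide)) _ w19 (fun N hN hu => ?_) center_bot (by rw [card_eq]; norm_num)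
  have Q : RuleOK _ ThT12.rels iv := RuleOK_sub (R.quot N _ (by decide) hu) (by decide +kernel)
  exact eq_top N (forall_cons (mem_of_quot_bot N (ThT12.goal1 Q ⊥ (forall_nil _)))
    (forall_cons (mem_of_quot_bot N (ThT12.goal2 Q ⊥ (forall_nil _)))
    (forall_cons (mem_of_quot_bot N (ThT12.goal3 Q ⊥ (forall_nil _)))
    (forall_cons (mem_of_quot_bot N (ThT12.goal4 Q ⊥ (forall_nil _)))
    (forall_cons (mem_of_quot_bot N (ThT12.goal5 Q ⊥ (forall_nil _)))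
    (forall_cons (mem_of_quot_bot N (ThT12.goal6 Q ⊥ (forall_nil _)))
    (forall_cons (mem_of_quot_bot N (ThT12.goal8 Q ⊥ (forall_nil _)))
    (forall_cons (mem_of_quot_bot N (ThT12.goal10 Q ⊥ (forall_nil _)))
    (forall_nil _)))))))))

end Cfsg.Agent.H17.ThS
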