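import Cfsg.Agent.H17.LyU
import Cfsg.Agent.H17.Rep.LyC
import Cfsg.Agent.H17.RepU

set_option autoImplicit false
set_option Elab.async false
set_option maxRecDepth 100000
set_option exponentiation.threshold 400000

namespace Cfsg.Agent.H17.LyE

open Cfsg Cfsg.Agent.H58 Cfsg.Agent.H17

open LyP LyF LyU

def code : Spor.Ly.Gen → ℕ
  | .a => 1
  | .b => 3
  | .c => 5
  | .d => 7
  | .z => 9
  | .c5 => 11
  | .e => 13
  | _ => 0

theorem hc : ∀ g, code g < 64 := by intro g; cases g <;> decide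

def hw : List (List ℕ × ℕ × ℕ) := [([], 1, 0), ([], 3, 0), ([], 5, 0), ([], 7, 0), ([], 9, 0), ([], 0, 0), ([], 0, 0), ([], 0, 0), ([], 0, 0), ([], 11, 0), ([], 13, 0), ([], 15, 0), ([], 17, 0), ([], 19, 0), ([], 21, 0), ([], 23, 0), ([], 25, 0), ([], 27, 0), ([], 29, 0), ([], 31, 0), ([], 33, 0), ([], 35, 0), ([], 37, 0), ([], 39, 0), ([], 41, 0), ([], 43, 0), ([], 45, 0), ([], 47, 0), ([], 49, 0), ([], 51, 0), ([], 53, 0), ([], 55, 0), ([], 57, 0), ([], 59, 0), ([], 61, 0), ([], 63, 0), ([], 65, 0), ([], 67, 0), ([], 69, 0), ([], 71, 0), ([], 73, 0), ([], 75, 0), ([], 77, 0), ([], 79, 0), ([], 0, 0), ([], 0, 0), ([], 0, 0), ([], 0, 0), ([], 0, 0), ([], 0, 0), ([], 0, 0), ([], 0, 0), ([], 0, 0), ([], 0, 0), ([], 0, 0), ([], 0, 0), ([], 0, 0), ([], 0, 0), ([], 0, 0), ([], 0, 0), ([], 0, 0), ([], 0, 0), ([], 0, 0), ([], 0, 0), ([], 0, 0), ([], 0, 0), ([], 0, 0), ([], 0, 0), ([], 0, 0), ([], 0, 0), ([], 0, 0), ([], 0, 0), ([], 81, 0),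 ([], 83, 0), ([], 85, 0), ([], 87, 0), ([], 89, 0), ([], 91, 0), ([], 93, 0), ([], 95, 0), ([], 97, 0), ([], 99, 0), ([6, 8, 2, 6, 2, 3, 6, 8], 101, 0), ([], 103, 0), ([], 105, 0), ([], 107, 0)]

theorem hom : homOK' (coxAll Spor.Ly.edges ++ Spor.Ly.extra) defs code LyR.iv LyR.rels hw = true := by
  decide +kernel

/-- the representation of degree 111 over the field with five elements -/
noncomputable def ρ : Spor.Ly →* GL (Fin 111) (ZMod 5) :=
  presHom Spor.Ly.edges Spor.Ly.extra LyR.rule.2 hc hom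

theorem ρ_el : ∀ x, ρ (el x) = elM LyR.E LyR.mats x :=
  presHom_el Spor.Ly.edges Spor.Ly.extra LyR.rule.2 hc hom (n := 15) rfl (by decide +kernel)
    fun _ hx => elM_of_le _ hx

instance finite : Finite Spor.Ly := card_le.1

theorem card_inj : Nat.card Spor.Ly = 51765179004000000 ∧ Function.Injective ρ :=
  card_of_rep ρ card_le.2 (LyC.dvd_all _ fun x => ⟨el x, ρ_el x⟩)

theorem card_eq : Nat.card Spor.Ly = 51765179004000000 := card_inj.1

theorem index_card : H.index = 8835156 ∧ Nat.card H = 5859000000 :=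
  index_card_of card_eq index_le.2 (card0 (RuleOK_sub R (by decide +kernel))).2 (by norm_num)

theorem H_stmt : (Subgroup.closure ({Spor.Ly.a, Spor.Ly.b, Spor.Ly.c, Spor.Ly.d} :
    Set (FreeGroup Spor.Ly.Gen))).map π = H := by
  rw [MonoidHom.map_closure]
  refine Eq.trans ?_ (gen0 (RuleOK_sub R (by decide +kernel)))
  congr 1
  ext y
  simp only [Set.image_insert_eq, Set.image_singleton, Set.mem_insert_iff, Set.mem_singleton_iff,
    Set.mem_image, Set.mem_ofPred_eq, List.mem_cons, List.not_mem_nil, or_false, exists_eq_or_imp,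
    exists_eq_left, eq_comm (a := y)]
  rfl

end Cfsg.Agent.H17.LyE
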