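import Mathlib

/-! Exponential equations in powers of 2 and 3 met in groups of order `5 * 2 ^ a * 3 ^ b`. -/

set_option autoImplicit false

namespace Cfsg.Agent.H17.B5

theorem red (c a T M : ℕ) (hT : 0 < T) (h : c * a ^ T % M = c % M) (n : ℕ) :
    ∃ r < T, n % T = r ∧ c * a ^ n % M = c * a ^ r % M := by
  refine ⟨n % T, Nat.mod_lt _ hT, rfl, ?_⟩
  conv_lhs => rw [← Nat.div_add_mod n T, pow_add, ← mul_assoc]
  refine Nat.ModEq.mul_right _ ?_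
  induction n / T with
  | zero => simp [Nat.ModEq]
  | succ k ih =>
    rw [Nat.mul_succ, pow_add, mul_comm (a ^ (T * k)), ← mul_assoc]
    exact (Nat.ModEq.mul_right _ h).trans ih

/-- no solution modulo `M` of `k + t1 + t2 = l + t3 + t4` -/
def noSol (M k l : ℕ) (x1 x2 x3 x4 : ℕ × ℕ × ℕ) : Prop :=
  (0 < x1.2.2 ∧ x1.1 * x1.2.1 ^ x1.2.2 % M = x1.1 % M) ∧
  (0 < x2.2.2 ∧ x2.1 * x2.2.1 ^ x2.2.2 % M = x2.1 % M) ∧
  (0 < x3.2.2 ∧ x3.1 * x3.2.1 ^ x3.2.2 % M = x3.1 % M) ∧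
  (0 < x4.2.2 ∧ x4.1 * x4.2.1 ^ x4.2.2 % M = x4.1 % M) ∧
  ∀ r1 < x1.2.2, ∀ r2 < x2.2.2, ∀ r3 < x3.2.2, ∀ r4 < x4.2.2,
    (k + x1.1 * x1.2.1 ^ r1 % M + x2.1 * x2.2.1 ^ r2 % M) % M ≠
      (l + x3.1 * x3.2.1 ^ r3 % M + x4.1 * x4.2.1 ^ r4 % M) % M

instance (M k l : ℕ) (x1 x2 x3 x4 : ℕ × ℕ × ℕ) : Decidable (noSol M k l x1 x2 x3 x4) := by
  unfold noSol; infer_instance

theorem sieve {M k l c1 a1 T1 c2 a2 T2 c3 a3 T3 c4 a4 T4 : ℕ}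
    (h : noSol M k l (c1, a1, T1) (c2, a2, T2) (c3, a3, T3) (c4, a4, T4)) (n1 n2 n3 n4 : ℕ) :
    k + c1 * a1 ^ n1 + c2 * a2 ^ n2 ≠ l + c3 * a3 ^ n3 + c4 * a4 ^ n4 := fun e => by
  obtain ⟨⟨p1, q1⟩, ⟨p2, q2⟩, ⟨p3, q3⟩, ⟨p4, q4⟩, h⟩ := h
  obtain ⟨r1, s1, -, t1⟩ := red _ _ _ _ p1 q1 n1
  obtain ⟨r2, s2, -, t2⟩ := red _ _ _ _ p2 q2 n2
  obtain ⟨r3, s3, -, t3⟩ := red _ _ _ _ p3 q3 n3
  obtain ⟨r4, s4, -, t4⟩ := red _ _ _ _ p4 q4 n4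
  apply h r1 s1 r2 s2 r3 s3 r4 s4
  simp only at t1 t2 t3 t4 ⊢
  rw [← t1, ← t2, ← t3, ← t4, Nat.add_mod_mod, Nat.add_mod_mod, add_right_comm k, add_right_comm l,
    Nat.add_mod_mod, Nat.add_mod_mod, add_right_comm k, add_right_comm l, e]

theorem cat23 {l b : ℕ} (h : 2 ^ l = 3 ^ b + 1 ∨ 2 ^ l + 1 = 3 ^ b) : l ≤ 3 := by
  by_contra hl
  obtain ⟨k, rfl⟩ : ∃ k, l = k + 4 := ⟨l - 4, by omega⟩
  have h1 := sieve (M := 80) (k := 0) (l := 1) (c1 := 16) (a1 := 2) (T1 := 4) (c2 := 0) (a2 := 1)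
    (T2 := 1) (c3 := 1) (a3 := 3) (T3 := 4) (c4 := 0) (a4 := 1) (T4 := 1) (by decide +kernel) k 0 b 0
  have h2 := sieve (M := 80) (k := 1) (l := 0) (c1 := 16) (a1 := 2) (T1 := 4) (c2 := 0) (a2 := 1)
    (T2 := 1) (c3 := 1) (a3 := 3) (T3 := 4) (c4 := 0) (a4 := 1) (T4 := 1) (by decide +kernel) k 0 b 0
  rw [pow_add] at h
  omega

theorem p3 (x r : ℕ) : 3 ^ (4 * x + r) = 3 ^ r * 81 ^ x := by
  rw [pow_add, pow_mul, mul_comm]; rfl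

theorem p2 (x r : ℕ) : 2 ^ (4 * x + r) = 2 ^ r * 16 ^ x := by
  rw [pow_add, pow_mul, mul_comm]; rfl

theorem eq17 {x z : ℕ} (h : 81 * 81 ^ x = 17 + 64 * 16 ^ z) : x = 0 ∧ z = 0 := by
  rcases z with _ | z
  · rcases x with _ | x
    · exact ⟨rfl, rfl⟩
    · have := Nat.one_le_pow x 81 (by norm_num)
      rw [pow_succ] at h; omega
  · have := sieve (M := 263168) (k := 0) (l := 17) (c1 := 81) (a1 := 81) (T1 := 64) (c2 := 0)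
      (a2 := 1) (T2 := 1) (c3 := 1024) (a3 := 16) (T3 := 4) (c4 := 0) (a4 := 1) (T4 := 1)
      (by decide +kernel) x 0 z 0
    rw [pow_succ] at h; omega

theorem eqIa {A B b m : ℕ} (hA : A % 4 = 2) (hA' : 4 ≤ A) (hB : B % 4 = 0) (hb : b % 4 = 1)
    (hm : m % 4 = 1) (hb' : b ≤ B) (hm' : m ≤ B) (h : 1 + 3 ^ B + 2 * 3 ^ b = 2 ^ A + 8 * 3 ^ m) :
    A = 6 ∧ B = 4 ∧ b = 1 ∧ m = 1 := by
  obtain ⟨z, rfl⟩ : ∃ z, A = 4 * z + 6 := ⟨(A - 6) / 4, by omega⟩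
  obtain ⟨y, rfl⟩ : ∃ y, b = 4 * y + 1 := ⟨b / 4, by omega⟩
  obtain ⟨w, rfl⟩ : ∃ w, m = 4 * w + 1 := ⟨m / 4, by omega⟩
  obtain ⟨x, rfl⟩ : ∃ x, B = 4 * x + 4 := ⟨(B - 4) / 4, by omega⟩
  rw [p3, p3, p3, p2] at h
  rcases y with _ | y <;> rcases w with _ | w
  · have := eq17 (x := x) (z := z) (by omega)
    omega
  · have := sieve (M := 657) (k := 7) (l := 0) (c1 := 81) (a1 := 81) (T1 := 3) (c2 := 0)
      (a2 := 1) (T2 := 1) (c3 := 64) (a3 := 16) (T3 := 9) (c4 := 1944) (a4 := 81) (T4 := 3)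
      (by decide +kernel) x 0 z w
    rw [pow_succ 81] at h; omega
  · have := sieve (M := 819) (k := 1) (l := 24) (c1 := 81) (a1 := 81) (T1 := 3) (c2 := 486)
      (a2 := 81) (T2 := 3) (c3 := 64) (a3 := 16) (T3 := 3) (c4 := 0) (a4 := 1) (T4 := 1)
      (by decide +kernel) x y z 0
    rw [pow_succ 81] at h; omega
  · have := sieve (M := 1971) (k := 1) (l := 0) (c1 := 81) (a1 := 81) (T1 := 3) (c2 := 486)
      (a2 := 81) (T2 := 3) (c3 := 64) (a3 := 16) (T3 := 9) (c4 := 1944) (a4 := 81) (T4 := 3)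
      (by decide +kernel) x y z w
    rw [pow_succ 81, pow_succ 81] at h; omega

theorem eqIb {A B b m : ℕ} (hA : A % 4 = 2) (hA' : 4 ≤ A) (hB : B % 4 = 0) (hb : b % 4 = 3)
    (hm : m % 4 = 2) (hb' : b ≤ B) (hm' : m ≤ B) (h : 1 + 3 ^ B + 4 * 3 ^ m = 2 ^ A + 2 * 3 ^ b) :
    A = 6 ∧ B = 4 ∧ b = 3 ∧ m = 2 := by
  obtain ⟨z, rfl⟩ : ∃ z, A = 4 * z + 6 := ⟨(A - 6) / 4, by omega⟩
  obtain ⟨y, rfl⟩ : ∃ y, b = 4 * y + 3 := ⟨b / 4, by omega⟩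
  obtain ⟨w, rfl⟩ : ∃ w, m = 4 * w + 2 := ⟨m / 4, by omega⟩
  obtain ⟨x, rfl⟩ : ∃ x, B = 4 * x + 4 := ⟨(B - 4) / 4, by omega⟩
  rw [p3, p3, p3, p2] at h
  rcases y with _ | y <;> rcases w with _ | w
  · have := eq17 (x := x) (z := z) (by omega)
    omega
  · have := sieve (M := 1971) (k := 1) (l := 54) (c1 := 81) (a1 := 81) (T1 := 3) (c2 := 2916)
      (a2 := 81) (T2 := 3) (c3 := 64) (a3 := 16) (T3 := 9) (c4 := 0) (a4 := 1) (T4 := 1)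
      (by decide +kernel) x w z 0
    rw [pow_succ 81] at h; omega
  · have := sieve (M := 429219) (k := 37) (l := 0) (c1 := 81) (a1 := 81) (T1 := 9) (c2 := 0)
      (a2 := 1) (T2 := 1) (c3 := 64) (a3 := 16) (T3 := 189) (c4 := 4374) (a4 := 81) (T4 := 9)
      (by decide +kernel) x 0 z y
    rw [pow_succ 81] at h; omega
  · have := sieve (M := 1971) (k := 1) (l := 0) (c1 := 81) (a1 := 81) (T1 := 3) (c2 := 2916)
      (a2 := 81) (T2 := 3) (c3 := 64) (a3 := 16) (T3 := 9) (c4 := 4374) (a4 := 81) (T4 := 3)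
      (by decide +kernel) x w z y
    rw [pow_succ 81, pow_succ 81] at h; omega

theorem eqIIm {A B m : ℕ} (hA : A % 4 = 0) (hA' : 4 ≤ A) (hB : B % 4 = 2)
    (hm : m % 4 = 1) (h : 1 + 2 * 2 ^ A = 3 ^ B + 8 * 3 ^ m) : A = 4 ∧ B = 2 := by
  obtain ⟨z, rfl⟩ : ∃ z, A = 4 * z + 4 := ⟨(A - 4) / 4, by omega⟩
  obtain ⟨w, rfl⟩ : ∃ w, m = 4 * w + 1 := ⟨m / 4, by omega⟩
  obtain ⟨x, rfl⟩ : ∃ x, B = 4 * x + 2 := ⟨B / 4, by omega⟩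
  rw [p3, p3, p2] at h
  rcases w with _ | w
  · rcases z with _ | z
    · rcases x with _ | x
      · exact ⟨rfl, rfl⟩
      · have := Nat.one_le_pow x 81 (by norm_num)
        rw [pow_succ 81] at h; omega
    · have := sieve (M := 1088) (k := 1) (l := 24) (c1 := 512) (a1 := 16) (T1 := 2) (c2 := 0)
        (a2 := 1) (T2 := 1) (c3 := 9) (a3 := 81) (T3 := 4) (c4 := 0) (a4 := 1) (T4 := 1)
        (by decide +kernel) z 0 x 0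
      rw [pow_succ 16] at h; omega
  · have := sieve (M := 117) (k := 1) (l := 0) (c1 := 32) (a1 := 16) (T1 := 3) (c2 := 0)
      (a2 := 1) (T2 := 1) (c3 := 9) (a3 := 81) (T3 := 3) (c4 := 1944) (a4 := 81) (T4 := 3)
      (by decide +kernel) z 0 x w
    rw [pow_succ 81] at h; omega

theorem eqIIp {A B m : ℕ} (hA : A % 4 = 0) (hA' : 4 ≤ A) (hB : B % 4 = 2) (hm : m % 4 = 3)
    (hm' : m ≤ B) (h : 1 + 2 * 2 ^ A + 8 * 3 ^ m = 3 ^ B) : A = 8 ∧ B = 6 ∧ m = 3 := by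
  obtain ⟨z, rfl⟩ : ∃ z, A = 4 * z + 4 := ⟨(A - 4) / 4, by omega⟩
  obtain ⟨w, rfl⟩ : ∃ w, m = 4 * w + 3 := ⟨m / 4, by omega⟩
  obtain ⟨x, rfl⟩ : ∃ x, B = 4 * x + 6 := ⟨(B - 6) / 4, by omega⟩
  rw [p3, p3, p2] at h
  rcases w with _ | w
  · rcases z with _ | _ | z
    · omega
    · rcases x with _ | x
      · exact ⟨rfl, rfl, rfl⟩
      · have := Nat.one_le_pow x 81 (by norm_num)
        rw [pow_succ 81] at h; omega
    · have := sieve (M := 263168) (k := 217) (l := 0) (c1 := 8192) (a1 := 16) (T1 := 4) (c2 := 0)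
        (a2 := 1) (T2 := 1) (c3 := 729) (a3 := 81) (T3 := 64) (c4 := 0) (a4 := 1) (T4 := 1)
        (by decide +kernel) z 0 x 0
      rw [pow_succ 16, pow_succ 16] at h; omega
  · have := sieve (M := 429219) (k := 1) (l := 0) (c1 := 32) (a1 := 16) (T1 := 189) (c2 := 17496)
      (a2 := 81) (T2 := 9) (c3 := 729) (a3 := 81) (T3 := 9) (c4 := 0) (a4 := 1) (T4 := 1)
      (by decide +kernel) z w x 0
    rw [pow_succ 81] at h; omega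

end Cfsg.Agent.H17.B5
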