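import Cfsg.Agent.H17.B5c
import Cfsg.Agent.L16.BaseB

/-! The principal 3-block of a group of order `2 ^ a * 3 * 5 * q ^ b`. -/

set_option autoImplicit false
set_option linter.unusedSectionVars false

namespace Cfsg.Agent.H17.B5

open Cfsg Subgroup H35 H16

theorem odd_geom {x : ℤ} (hx : Odd x) (k : ℕ) : ∃ s, Odd s ∧ x ^ (2 * k + 1) - 1 = (x - 1) * s := by
  induction k with
  | zero => exact ⟨1, odd_one, by simp⟩
  | succ k ih =>
    obtain ⟨s, h1, h2⟩ := ih
    exact ⟨x ^ 2 * s + (x + 1), ((hx.pow.mul h1).add_even hx.add_one), by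
      linear_combination x ^ 2 * h2⟩

theorem pw1 {q k m a : ℕ} (hq : q.Prime) (h7 : 7 ≤ q) (hk : 2 ≤ k) (hm : m ∣ 2 ^ a * 5)
    (h : q ^ k + 1 = m ∨ q ^ k = m + 1) : False := by
  have ho : Odd q := hq.odd_of_ne_two (by omega)
  have h3 : ¬ 3 ∣ m := fun h => by
    rcases (Nat.Prime.dvd_mul Nat.prime_three).mp (h.trans hm) with h | h
    · exact absurd (Nat.prime_three.dvd_of_dvd_pow h) (by norm_num)
    · omega
  have key : ∀ s, s ∣ m → Odd s → s ≤ 5 := fun s h1 h2 => Nat.le_of_dvd (by norm_num)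
    ((Nat.Coprime.pow_right a (Nat.coprime_two_right.mpr h2)).dvd_of_dvd_mul_left (h1.trans hm))
  obtain ⟨l, rfl | rfl⟩ := Nat.even_or_odd' k
  · have h1 : q ≤ q ^ l := Nat.le_self_pow (by omega) q
    have h2 : ¬ 3 ∣ q ^ l := fun h => by
      have := (Nat.prime_dvd_prime_iff_eq Nat.prime_three hq).mp (Nat.prime_three.dvd_of_dvd_pow h)
      omega
    obtain ⟨t, ht⟩ := ho.pow (n := l)
    rw [mul_comm, pow_mul] at h
    generalize q ^ l = y at *
    rcases h with h | h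
    · have := key (2 * t ^ 2 + 2 * t + 1) ⟨2, by rw [← h, ht]; ring⟩ ⟨t ^ 2 + t, by ring⟩
      nlinarith
    · have : y ^ 2 % 3 = 1 := by
        rw [Nat.pow_mod]
        rcases (by omega : y % 3 = 1 ∨ y % 3 = 2) with h | h <;> rw [h]
      omega
  · have h1 : q ^ 3 ≤ q ^ (2 * l + 1) := Nat.pow_le_pow_right (by omega) (by omega)
    have h2 : 49 * q ≤ q ^ 3 := by nlinarith [Nat.mul_le_mul h7 h7]
    have ho' : Odd (q : ℤ) := by exact_mod_cast ho
    have fin : ∀ x s : ℤ, x.natAbs ≤ q + 1 → Odd s → (x * s).natAbs = m → m ≤ (q + 1) * 5 :=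
      fun x s hx hs e => by
        rw [Int.natAbs_mul] at e
        exact e ▸ Nat.mul_le_mul hx (key _ (Dvd.intro_left _ e) (Int.natAbs_odd.mpr hs))
    rcases h with h | h
    · obtain ⟨s, h4, h5⟩ := odd_geom ho'.neg l
      have := fin (-q - 1) s (by omega) h4 (by
        rw [← h5, (odd_two_mul_add_one l).neg_pow, ← Int.natCast_pow]; omega)
      omega
    · obtain ⟨s, h4, h5⟩ := odd_geom ho' l
      have := fin (q - 1) s (by omega) h4 (by rw [← h5, ← Int.natCast_pow]; omega)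
      omega

theorem pw2 {q k i : ℕ} (hq : q.Prime) (h7 : 7 ≤ q) (hk : 1 ≤ k) (h : 5 * q ^ k = 2 ^ i + 1) :
    i = 6 ∧ q = 13 := by
  obtain ⟨m, rfl⟩ : ∃ m, i = 4 * m + 2 := ⟨i / 4, by
    have := pow2_5 i; rw [D_two] at this; omega⟩
  have h1 : q ≤ q ^ k := Nat.le_self_pow (by omega) q
  obtain ⟨z, hz⟩ : ∃ z, 2 ^ m = z + 1 := ⟨2 ^ m - 1, by have := Nat.one_le_two_pow (n := m); omega⟩
  have e : (2 * z ^ 2 + 6 * z + 5) * (2 * z ^ 2 + 2 * z + 1) = 5 * q ^ k := by
    rw [h, pow_add, mul_comm 4, pow_mul, hz]; ring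
  have key : ∀ s t, s * t = 5 * q ^ k → ¬ q ∣ s → s ≤ 5 := fun s t e h => Nat.le_of_dvd (by norm_num)
    ((Nat.Coprime.pow_right k ((Nat.Prime.coprime_iff_not_dvd hq).mpr h).symm).dvd_of_dvd_mul_right
      (Dvd.intro t e))
  have h2 : z ≤ 1 := by
    by_cases h3 : q ∣ 2 * z ^ 2 + 6 * z + 5
    · have := key _ _ ((mul_comm _ _).trans e) fun h4 => by
        have h5 := (Nat.dvd_sub h3 h4)
        rw [show 2 * z ^ 2 + 6 * z + 5 - (2 * z ^ 2 + 2 * z + 1) = 2 ^ (m + 2) by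
          rw [pow_add, hz]; omega] at h5
        have := Nat.le_of_dvd two_pos (hq.dvd_of_dvd_pow h5)
        omega
      nlinarith
    · have := key _ _ e h3
      omega
  interval_cases z
  · omega
  · obtain rfl : m = 1 := Nat.pow_right_injective (a := 2) le_rfl hz
    exact ⟨rfl, ((Nat.prime_dvd_prime_iff_eq hq (by norm_num)).mp
      ((dvd_pow_self q (by omega)).trans (dvd_of_eq (by omega : q ^ k = 13))))⟩

theorem pair {q a b n : ℕ} (hq : q.Prime) (h7 : 7 ≤ q) (h3 : n % 3 = 1)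
    (h1 : n ∣ 2 ^ a * 5 * q ^ b) (h2 : n + 1 ∣ 2 ^ a * 5 * q ^ b) : n ≤ q ∨ (n = 64 ∧ q = 13) := by
  have key : ∀ o m, o + 1 = m ∨ o = m + 1 → Odd o → o ∣ 2 ^ a * 5 * q ^ b → m ∣ 2 ^ a * 5 * q ^ b →
      o ≤ q ∨ (o = 65 ∧ m = 64 ∧ q = 13) ∨ ∃ i, o + 1 = 2 ^ i ∧ 5 ∣ o := fun o m h ho h1 h2 => by
    have cop : ∀ r, r.Prime → r ∣ o → m.Coprime r := fun r hr h1 =>
      ((Nat.Prime.coprime_iff_not_dvd hr).mpr fun h2 => hr.ne_one (Nat.dvd_one.mp (by
        rcases h with rfl | rfl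
        · exact (Nat.dvd_add_right h1).mp h2
        · exact (Nat.dvd_add_right h2).mp h1))).symm
    rw [mul_assoc] at h1
    obtain ⟨x, y, hx, hy, rfl⟩ := Nat.dvd_mul.mp
      ((Nat.Coprime.pow_right a (Nat.coprime_two_right.mpr ho)).dvd_of_dvd_mul_left h1)
    obtain ⟨k, -, rfl⟩ := (Nat.dvd_prime_pow hq).mp hy
    rcases k with _ | k
    · have := Nat.le_of_dvd (by norm_num) hx
      exact Or.inl (by rw [pow_zero]; omega)
    have h4 := (Nat.Coprime.pow_right b (cop q hq (Dvd.dvd.mul_left (dvd_pow_self q (by omega))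
      _))).dvd_of_dvd_mul_right h2
    rcases (Nat.dvd_prime Nat.prime_five).mp hx with rfl | rfl
    · rcases k with _ | k
      · exact Or.inl (by simp)
      · exact (pw1 hq h7 (k := k + 1 + 1) (by omega) h4 (by omega)).elim
    · obtain ⟨i, -, rfl⟩ := (Nat.dvd_prime_pow Nat.prime_two).mp
        ((cop 5 Nat.prime_five (Dvd.intro _ rfl)).dvd_of_dvd_mul_right h4)
      rcases h with h | h
      · exact Or.inr (Or.inr ⟨i, h, Dvd.intro _ rfl⟩)
      · obtain ⟨rfl, rfl⟩ := pw2 hq h7 (by omega) h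
        exact Or.inr (Or.inl ⟨h, rfl, rfl⟩)
  rcases Nat.even_or_odd n with h | h
  · rcases key (n + 1) n (Or.inr rfl) h.add_one h2 h1 with h | h | ⟨i, h, h'⟩
    · omega
    · omega
    · have := pow2_3 i; rw [D_two] at this; omega
  · rcases key n (n + 1) (Or.inl rfl) h h1 h2 with h | h | ⟨i, h, h'⟩
    · omega
    · omega
    · have := pow2_3 i; have := pow2_5 i; rw [D_two] at *; omega

variable {G : Type*} [Group G] [Finite G]

/-- the two non-principal characters of the principal 3-block -/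
structure B3 [Fact (Nat.Prime 3)] (S : Setup G 3) (χ ψ : IrrCharacter G) : Prop where
  nt : χ ≠ triv G
  nt' : ψ ≠ triv G
  deg : dg ψ = dg χ + 1
  md : dg χ % 3 = 1
  dv : 3 * dg χ ∣ Nat.card G
  dv' : 3 * dg ψ ∣ Nat.card G
  int : ∀ g, (χ : G → ℂ) g = ival g χ
  int' : ∀ g, (ψ : G → ℂ) g = ival g ψ
  reg : ∀ g, ¬ 3 ∣ orderOf g → ival g ψ = ival g χ + 1
  cong : ∀ (g : G) (w : S.V), IsConj g (w : S.K) → (ival g ψ - dg ψ) % 3 = 0

theorem exists_B3 [IsSimpleGroup G] [Fact (Nat.Prime 3)] (hG : commutator G = ⊤) (S : Setup G 3) :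
    ∃ χ ψ, B3 S χ ψ := by
  classical
  obtain ⟨P⟩ := nonempty_PB hG S
  have he : S.V.index = 2 := by have := P.e_lt; omega
  have hd : ∀ χ ∈ P.Z, 3 * dg χ ∣ Nat.card G := fun χ h => by
    rw [← card_cent_mul S.x, S.card_centralizer]
    exact Nat.mul_dvd_mul (Dvd.intro _ rfl) (P.deg_ok h).1
  have key : ∀ χ ψ, P.Z = {χ, ψ} → χ ≠ ψ → sgn 3 S.V.index (dg χ) = 1 → B3 S χ ψ :=
    fun χ ψ e ne s1 => by
      have m1 : χ ∈ P.Z := by simp [e]
      have m2 : ψ ∈ P.Z := by simp [e]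
      have ld := P.lin_deg
      rw [e, Finset.sum_pair ne, s1] at ld
      have s2 : sgn 3 S.V.index (dg ψ) = -1 := (sgn_pm _ _ _).resolve_left fun h => by
        rw [h] at ld; omega
      rw [s2] at ld
      have hi : ∀ φ ∈ P.Z, ∀ g, (φ : G → ℂ) g = ival g φ := fun φ h g => ival_spec (by
        by_cases hg : 3 ∣ orderOf g
        · exact ⟨_, P.val_sing h (all_nexc P he h) hg⟩
        · refine P.int_of_count (L := [χ, ψ]) (by
            rw [e, Finset.insert_val_of_notMem (by simpa using ne)]; rfl) h ?_ hg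
          have : dg χ ≠ dg ψ := by omega
          rw [e, Finset.mem_insert, Finset.mem_singleton] at h
          rcases h with rfl | rfl <;> simp [List.count_cons, this, this.symm])
      refine ⟨P.ne_triv m1, P.ne_triv m2, by omega, ?_, hd χ m1, hd ψ m2, hi χ m1, hi ψ m2,
        fun g hg => ?_, fun g w h => P.cong_conj_V (P.mem_XY m2) h (hi ψ m2 g)⟩
      · have := all_nexc P he m1
        rw [sgn] at s1
        unfold nexc at this
        split_ifs at s1 <;> omega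
      · have := P.lin_int hg fun φ h => hi φ h g
        rw [e, Finset.sum_pair ne, s1, s2] at this
        omega
  obtain ⟨χ, ψ, ne, e⟩ := Finset.card_eq_two.mp (P.card_Z.trans he)
  rcases sgn_pm 3 S.V.index (dg χ) with h | h
  · exact ⟨χ, ψ, key χ ψ e ne h⟩
  refine ⟨ψ, χ, key ψ χ (e.trans (Finset.pair_comm _ _)) ne.symm
    ((sgn_pm _ _ _).resolve_right fun h' => ?_)⟩
  have ld := P.lin_deg
  rw [e, Finset.sum_pair ne, h, h'] at ld
  have := dg_pos χ
  have := dg_pos ψ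
  omega

theorem faith [IsSimpleGroup G] {χ : IrrCharacter G} (h : χ ≠ triv G) (g : G)
    (e : (χ : G → ℂ) g = (χ : G → ℂ) 1) : g = 1 :=
  H5.eq_one_of_simple_of_apply_eq χ.2 (ne_one_of_ne_triv h) e

theorem schur1 [IsSimpleGroup G] {χ : IrrCharacter G} (h : χ ≠ triv G)
    (hi : ∀ g, (χ : G → ℂ) g = ival g χ) {q b : ℕ} (hq : q.Prime) (h7 : 7 ≤ q) (hd : dg χ ≤ q)
    (hb : q ^ b ∣ Nat.card G) : b ≤ dg χ / (q - 1) := by
  have h1 := L16.schur (irr_char χ) (faith h) (fun g => ⟨_, hi g⟩) hq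
  rw [L16.sb, Finset.sum_range_succ', Finset.sum_eq_zero fun i _ => Nat.div_eq_of_lt (by
    have := Nat.mul_le_mul (show 2 ≤ q - 1 by omega) (Nat.le_self_pow (n := i + 1) (by omega) q)
    change dg χ < _
    omega), pow_zero, mul_one, zero_add] at h1
  exact ((hq.pow_dvd_iff_le_factorization Nat.card_pos.ne').mp hb).trans h1

end Cfsg.Agent.H17.B5
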