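import Cfsg.Agent.H17.B5f
import Cfsg.Agent.H16.E2c

/-! The degrees 64 and 65 in the principal 3-block. -/

set_option autoImplicit false
set_option linter.unusedSectionVars false

namespace Cfsg.Agent.H17.B5

open Cfsg Subgroup H35 H16
open scoped ComplexConjugate

variable {G : Type*} [Group G] [Finite G]

theorem mono {φ : G → ℂ} (hφ : IsCharacter G φ) {L Q : Subgroup G} (h : L ≤ Q) [Fintype L]
    [Fintype Q] {y z : ℕ} (hz : ∑ x : Q, φ x = Nat.card Q * z)
    (hy : ∑ x : L, φ x = Nat.card L * y) : z ≤ y := by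
  obtain ⟨m, hm⟩ := exists_mult (H5.isCharacter_restrict hφ Q)
  have h1 := classInner_mult hm (triv Q)
  rw [show ((triv Q : IrrCharacter Q) : Q → ℂ) = fun _ => 1 from rfl, H5.classInner_one_right, hz,
    inv_mul_cancel_left₀ H5.natCard_ne_zero] at h1
  choose n hn using fun θ : IrrCharacter Q => H5.exists_nat_classInner
    (H5.isCharacter_comp (irr_char θ) (inclusion h)) H5.isCharacter_one
  simp only [H5.classInner_one_right, inv_mul_eq_iff_eq_mul₀ (H5.natCard_ne_zero (G := L))] at hn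
  have h2 : n (triv Q) = 1 := by
    have := hn (triv Q)
    simp only [triv_apply, Finset.sum_const, Finset.card_univ, ← Nat.card_eq_fintype_card,
      nsmul_eq_mul] at this
    exact_mod_cast (mul_left_cancel₀ H5.natCard_ne_zero this).symm
  rw [Finset.sum_congr rfl (f := fun x : L => φ x) fun x _ => hm (inclusion h x),
    Finset.sum_comm] at hy
  simp only [← Finset.mul_sum, hn, mul_left_comm _ (Nat.card L : ℂ)] at hy
  have h3 : ∑ θ, m θ * n θ = y := by exact_mod_cast mul_left_cancel₀ H5.natCard_ne_zero hy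
  have h4 := Finset.single_le_sum (f := fun θ => m θ * n θ) (fun _ _ => Nat.zero_le _)
    (Finset.mem_univ (triv Q))
  have h5 : z = m (triv Q) := by exact_mod_cast h1
  simp only [h2] at h4
  omega

theorem pred_dvd {r : ℕ} (hr : r.Prime) (X : Finset G)
    (h : ∀ a ∈ X, orderOf a = r ∧ ∀ b ∈ zpowers a, b ≠ 1 → b ∈ X) : r - 1 ∣ X.card := by
  have key : ∀ a ∈ X, ∀ b, zpowers a = zpowers b ↔ b ∈ (zpowers a : Set G) \ {1} := fun a ha b => by
    refine ⟨fun e => ⟨e ▸ mem_zpowers b, fun e' => hr.ne_one ?_⟩, fun e => ?_⟩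
    · rw [← (h a ha).1, ← Nat.card_zpowers, e, Set.mem_singleton_iff.mp e']; simp
    · refine (eq_of_le_of_card_ge (zpowers_le.mpr e.1) ?_).symm
      rw [Nat.card_zpowers, Nat.card_zpowers, orderOf_eq_of_mem_zpowers hr (h a ha).1 e.1 e.2,
        (h a ha).1]
  refine dvd_card_rel (Setoid.ker zpowers) X (fun a ha b e =>
    (h a ha).2 b ((key a ha b).mp e).1 ((key a ha b).mp e).2) fun a ha => dvd_of_eq ?_
  refine Eq.trans ?_ (Nat.card_congr (Equiv.subtypeEquivRight (key a ha))).symm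
  rw [← (h a ha).1, ← Nat.card_zpowers]
  exact (Set.ncard_sdiff_singleton_of_mem (one_mem (zpowers a))).symm

variable [IsSimpleGroup G] [Fact (Nat.Prime 3)] {S : Setup G 3} {χ ψ : IrrCharacter G}

theorem B3.val13 (H : B3 S χ ψ) (hG : commutator G = ⊤) (hd : dg ψ = 65) {g : G}
    (hg : orderOf g = 13) : ∃ m : ℕ, 12 * ival g ψ = 13 * m - 65 ∧ ival g ψ < 65 := by
  obtain ⟨-, m, -, -, h⟩ := trv_spec g ψ
  rw [trv_rat (by rw [hg]; norm_num) (H.int' g), hg, hd] at h
  have := abs_lt_of_simple hG H.nt' (g := g) (fun e => by rw [e, orderOf_one] at hg; omega)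
    (H.int' g)
  exact ⟨m, h, by have := le_abs_self (ival g ψ); omega⟩

theorem B3.no169 (H : B3 S χ ψ) (hG : commutator G = ⊤) (hd : dg ψ = 65) (g : G) :
    orderOf g ≠ 169 := fun hg => by
  have h13 : orderOf (g ^ 13) = 13 := by rw [orderOf_pow' g (by norm_num), hg]; norm_num
  obtain ⟨m, h1, h2⟩ := H.val13 hG hd h13
  obtain ⟨-, n, -, -, h3⟩ := trv_spec g ψ
  have h4 := int_cong_dg ψ (p := 13) (by norm_num) ⟨2, hg⟩ (H.int' g)
  rw [trv_eq (a := ∑ i ∈ Finset.Ico 1 169, if 13 ∣ i then ival (g ^ 13) ψ else ival g ψ) (by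
    rw [hg, Int.cast_sum]
    refine Finset.sum_congr rfl fun i hi => ?_
    rw [Finset.mem_Ico] at hi
    split_ifs with h
    · obtain ⟨j, rfl⟩ := h
      rw [pow_mul, H7.character_pow_eq_of_rat (irr_char ψ) (q := ival (g ^ 13) ψ)
        (by simpa using H.int' _) (by
          rw [h13]
          exact (Nat.coprime_of_lt_prime (by omega) (by omega) (by norm_num)).symm), H.int']
    · rw [H7.character_pow_eq_of_rat (irr_char ψ) (q := ival g ψ) (by simpa using H.int' _)
        (by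
          rw [hg]
          exact Nat.Coprime.pow_right 2 ((Nat.Prime.coprime_iff_not_dvd (p := 13)
            (by norm_num)).mpr h).symm), H.int']), Finset.sum_ite, Finset.sum_const,
    Finset.sum_const, show ((Finset.Ico 1 169).filter (13 ∣ ·)).card = 12 by decide +kernel,
    show ((Finset.Ico 1 169).filter (¬ 13 ∣ ·)).card = 156 by decide +kernel, hg, hd] at h3
  simp only [nsmul_eq_mul] at h3
  omega

theorem B3.not_mem (H : B3 S χ ψ) (hG : commutator G = ⊤) (hd : dg ψ = 65)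
    (h : 13 ^ 2 ∣ Nat.card G) {M : Ideal AlgInt} (hM : IsPModular 13 M) :
    ψ ∉ principalBlock M G := fun hψ => by
  have := hM.2.1
  obtain ⟨k, n, hn, e⟩ := Nat.exists_eq_pow_mul_and_not_dvd (Nat.card_pos (α := G)).ne' 13
    (by norm_num)
  obtain ⟨k, rfl⟩ : ∃ l, k = l + 1 := ⟨k - 1, by
    rcases k with _ | k
    · exact absurd ((dvd_pow_self 13 two_ne_zero).trans h) (by simpa [e] using hn)
    · rfl⟩
  obtain ⟨z, hz, c, hc⟩ := exists_central (G := G) (a := k) hM.1 ⟨n, e⟩
  have h1 := card_cent_mul z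
  rw [hc, e, mul_assoc] at h1
  have h2 : ¬ 13 ∣ (centralizer ({z} : Set G)).index := fun h => hn
    (Nat.eq_of_mul_eq_mul_left (by positivity) h1 ▸ h.mul_left c)
  obtain ⟨w, hw⟩ := dg_dvd_index_mul ψ (H.int' z)
  obtain ⟨m, h3, h4⟩ := H.val13 hG hd hz
  have h5 : _ ∈ H32.locMax M := hψ z
  rw [hd] at hw
  have h6 : centralChar (ψ : G → ℂ) z = w := by
    rw [centralChar, H.int' z, dg_cast, hd, div_eq_iff (by norm_num)]
    exact_mod_cast hw.trans (mul_comm _ _)
  rw [h6, centralChar, mul_one, div_one] at h5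
  obtain ⟨u, hu⟩ := (H32.intCast_mem_locMax_iff hM (n := (centralizer ({z} : Set G)).index - w)).mp
    (by exact_mod_cast h5)
  have h7 : ival z ψ = 0 ∨ ival z ψ = 13 ∨ ival z ψ = 26 ∨ ival z ψ = 39 ∨ ival z ψ = 52 := by omega
  rcases h7 with h | h | h | h | h <;> rw [h] at hw <;> omega

theorem B3.val (H : B3 S χ ψ) (hG : commutator G = ⊤) (hd : dg ψ = 65)
    (h : 13 ^ 2 ∣ Nat.card G) {g : G} (hg : orderOf g = 13) : ival g ψ = 0 ∨ ival g ψ = 26 := by
  classical
  have := Fintype.ofFinite G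
  have g3 : ¬ 3 ∣ orderOf g := by rw [hg]; norm_num
  by_cases h3 : 3 ∣ cc g
  · obtain ⟨w, hw⟩ := exists_conj_V S g3 h3
    have := H.cong g w hw
    obtain ⟨m, h3, h4⟩ := H.val13 hG hd hg
    omega
  obtain ⟨M, hM⟩ := H86.exists_isPModular (p := 13) (by norm_num)
  have := hM.2.1
  have h1 : ∀ x, (1 + (χ : G → ℂ) x - (ψ : G → ℂ) x) * ∑ φ ∈ Finset.univ.filter
      (· ∈ principalBlock M G), (φ : G → ℂ) g * conj ((φ : G → ℂ) x) = 0 := fun x => by
    by_cases hx : 3 ∣ orderOf x
    · obtain ⟨y, hy⟩ := H33.exists_isPPart hM.1 x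
      have h := H33.block_orthogonality hM H33.isPBlock_principalBlock
        (H33.isPPart_self hM.1 ⟨1, hg⟩) hy fun e => h3 (by
          rw [cc, card_cent_conj e]
          exact hx.trans (Subgroup.orderOf_dvd_natCard _
            (mem_centralizer_singleton_iff.mpr (H33.IsPPart.commute hy).symm)))
      rw [H33.finsum_mem_irr] at h
      simp only [H5.isIrr_apply_inv (Subtype.prop _)] at h
      rw [h, mul_zero]
    · rw [H.int, H.int', H.reg x hx]; push_cast; ring
  have h2 := Finset.sum_eq_zero fun x (_ : x ∈ Finset.univ) => h1 x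
  simp only [Finset.mul_sum] at h2
  rw [Finset.sum_comm, Finset.sum_congr rfl (g := fun φ : IrrCharacter G => (φ : G → ℂ) g *
    ((if triv G = φ then (Nat.card G : ℂ) else 0) + (if χ = φ then (Nat.card G : ℂ) else 0) -
      if ψ = φ then (Nat.card G : ℂ) else 0)) fun φ _ => by
    rw [← orth, ← orth, ← orth, ← Finset.sum_add_distrib, ← Finset.sum_sub_distrib, Finset.mul_sum]
    exact Finset.sum_congr rfl fun x _ => by rw [triv_apply]; ring] at h2
  simp only [mul_add, mul_sub, Finset.sum_add_distrib, Finset.sum_sub_distrib, mul_ite, mul_zero,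
    Finset.sum_ite_eq, Finset.mem_filter, Finset.mem_univ, true_and, H.not_mem hG hd h hM,
    show triv G ∈ principalBlock M G from H32.mem_blockOf_self (triv G), if_true, if_false,
    triv_apply, sub_zero] at h2
  split_ifs at h2
  · rw [← add_mul, mul_eq_zero, H.int] at h2
    have h4 : 1 + ival g χ = 0 := by exact_mod_cast h2.resolve_right H5.natCard_ne_zero
    have := H.reg g g3
    omega
  · simp at h2

theorem B3.no65 (H : B3 S χ ψ) (hG : commutator G = ⊤) (hd : dg ψ = 65) :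
    ¬ 13 ^ 2 ∣ Nat.card G := fun h => by
  classical
  have := Fintype.ofFinite G
  have : Fact (Nat.Prime 13) := ⟨by norm_num⟩
  obtain ⟨Q, hQ⟩ := Sylow.exists_subgroup_card_pow_prime 13 h
  have ho : ∀ g ∈ Q, g ≠ 1 → orderOf g = 13 := fun g hg h1 => by
    obtain ⟨k, hk, e⟩ := (Nat.dvd_prime_pow (by norm_num)).mp (hQ ▸ Q.orderOf_dvd_natCard hg)
    interval_cases k
    · exact absurd (orderOf_eq_one_iff.mp e) h1
    · exact e
    · exact absurd e (H.no169 hG hd g)
  have hp : ∀ g ∈ Q, g ≠ 1 → ∀ b ∈ zpowers g, b ≠ 1 → ival b ψ = ival g ψ := fun g hg h1 b hb h2 => by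
    obtain ⟨i, rfl⟩ := (mem_powers_iff_mem_zpowers.mpr hb :)
    refine ival_eq ((H7.character_pow_eq_of_rat (irr_char ψ) (q := ival g ψ)
      (by simpa using H.int' _) ?_).trans (H.int' g))
    rw [ho g hg h1]
    exact ((Nat.Prime.coprime_iff_not_dvd (by norm_num)).mpr fun h =>
      h2 (orderOf_dvd_iff_pow_eq_one.mp (ho g hg h1 ▸ h))).symm
  have sm : ∀ L ≤ Q, ∑ x : L, (ψ : G → ℂ) x = 65 + 26 * (Finset.univ.filter fun g =>
      g ∈ L ∧ g ≠ 1 ∧ ival g ψ = 26).card := fun L hL => by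
    rw [← Finset.sum_subtype (Finset.univ.filter (· ∈ L)) (by simp) (ψ : G → ℂ),
      ← Finset.add_sum_erase _ _ (a := 1) (by simp), dg_cast, hd, ← Finset.sum_subset
        (s₁ := Finset.univ.filter fun g => g ∈ L ∧ g ≠ 1 ∧ ival g ψ = 26)
        (fun g hg => by simp at hg ⊢; tauto) fun g h1 h2 => by
          simp only [Finset.mem_erase, Finset.mem_filter, Finset.mem_univ, true_and] at h1 h2
          rw [H.int', (H.val hG hd h (ho g (hL h1.2) h1.1)).resolve_right (by tauto)]; simp,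
      Finset.sum_congr rfl (g := fun _ => (26 : ℂ)) fun g hg => by
        rw [H.int', (Finset.mem_filter.mp hg).2.2.2]; simp]
    simp [mul_comm]
  obtain ⟨z, hz⟩ := H5.exists_nat_classInner (H5.isCharacter_restrict (irr_char ψ) Q)
    H5.isCharacter_one
  rw [H5.classInner_one_right, inv_mul_eq_iff_eq_mul₀ H5.natCard_ne_zero] at hz
  have h1 := (sm Q le_rfl).symm.trans hz
  rw [hQ] at h1
  have h2 := pred_dvd (r := 13) (by norm_num) (Finset.univ.filter fun g =>
      g ∈ Q ∧ g ≠ 1 ∧ ival g ψ = 26) fun a ha => by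
    simp only [Finset.mem_filter, Finset.mem_univ, true_and] at ha ⊢
    exact ⟨ho a ha.1 ha.2.1, fun b hb h1 => ⟨zpowers_le.mpr ha.1 hb, h1,
      (hp a ha.1 ha.2.1 b hb h1).trans ha.2.2⟩⟩
  by_cases h3 : ∃ g ∈ Q, g ≠ 1 ∧ ival g ψ = 0
  · obtain ⟨g, hg, g1, g0⟩ := h3
    have h4 := mono (irr_char ψ) (zpowers_le.mpr hg) hz (y := 5) (by
      rw [sm _ (zpowers_le.mpr hg), Finset.filter_eq_empty_iff.mpr fun b _ hb => by
        have := hp g hg g1 b hb.1 hb.2.1; omega, Nat.card_zpowers, ho g hg g1]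
      norm_num)
    generalize Finset.card _ = n at h1 h2
    have : 65 + 26 * n = 13 ^ 2 * z := by exact_mod_cast h1
    omega
  · rw [Finset.filter_congr (q := fun g => g ∈ Q ∧ g ≠ 1) fun g _ => ⟨fun h => ⟨h.1, h.2.1⟩,
      fun hg => ⟨hg.1, hg.2, (H.val hG hd h (ho g hg.1 hg.2)).resolve_left fun e =>
        h3 ⟨g, hg.1, hg.2, e⟩⟩⟩, ← Finset.filter_filter, Finset.filter_ne',
      Finset.card_erase_of_mem (by simp), ← Fintype.card_subtype, ← Nat.card_eq_fintype_card,
      hQ] at h1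
    have : 65 + 26 * (13 ^ 2 - 1) = 13 ^ 2 * z := by exact_mod_cast h1
    omega

end Cfsg.Agent.H17.B5
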