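import Cfsg.Agent.H17.BmP

/-! Double coset enumeration of the Baby Monster over `Fi23`: the table of facts. -/

set_option autoImplicit false
set_option Elab.async false
set_option maxRecDepth 100000
set_option exponentiation.threshold 400000

namespace Cfsg.Agent.H17.BmF

open Cfsg Cfsg.Agent.H58 Cfsg.Agent.H17

def LW : List (List ℕ) := [[], [], [10, 7, 6, 5, 4, 3, 2, 1], [10, 7, 6, 5, 4, 8, 9, 11], [10, 7, 6, 5, 4, 3, 2, 1, 8, 9, 11, 4, 8, 9, 5, 4, 6, 3, 4, 8, 9, 5, 4, 8, 6, 5, 3, 4, 2, 3, 7, 6, 5, 4, 8, 9, 11], [10, 7, 6, 5, 4, 8, 9, 11, 3, 2, 1, 4, 3, 2, 5, 4, 6, 8, 4, 3, 2, 5, 4, 3, 6, 5, 8, 4, 9, 8, 7, 6, 5, 4, 3, 2, 1], [10, 7, 6,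 5, 4, 8, 9, 11, 3, 2, 1, 4, 3, 2, 5, 4, 6, 5, 8, 4, 3, 5, 4, 6, 8, 9, 8, 4, 3, 2, 1, 5, 4, 3, 2, 6, 5, 4, 8, 4, 3, 2, 5, 4, 7, 6, 5, 4, 3, 8, 4, 9, 8, 10, 7, 6, 5, 4, 3, 2, 1], [10, 7, 6, 5, 4, 8, 9, 11, 3, 2, 1, 4, 3, 2, 5, 4, 6, 5, 8, 4, 3, 5, 4, 6, 8, 9, 8, 4, 3, 2, 1, 5, 4, 3, 2, 6, 5, 4, 8, 4, 3, 2, 5, 4, 7, 6, 5, 4, 3, 8, 4, 9, 8, 10, 7, 6, 5, 4, 3, 2, 1, 11, 9, 8, 5, 4, 6, 5, 3, 4, 2, 3, 7, 6, 5, 4, 8, 9, 11], [10, 7, 6, 5, 4, 8, 9, 11, 3, 2, 1, 4, 3, 2, 5, 4, 6, 5, 8, 4, 3, 5, 4, 6, 8, 9, 8, 4, 3, 2, 1, 5, 4, 3, 2, 6, 5, 4, 8, 4, 3, 2, 5, 4, 7, 6, 5, 4, 3, 8, 4, 9, 8, 10, 7, 6, 5, 4, 3, 2, 1, 11, 9, 8, 5, 4, 3, 4, 8, 5, 4, 6, 2, 3,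 4, 8, 9, 5, 4, 8, 6, 5, 7, 6, 5, 4, 8, 9, 3, 4, 8, 5, 4, 2, 3, 10, 7, 6, 5, 4, 8, 9, 11], [10, 7, 6, 5, 4, 8, 9, 11, 3, 2, 1, 4, 3, 2, 5, 4, 6, 5, 8, 4, 3, 5, 4, 6, 8, 9, 8, 4, 3, 2, 1, 5, 4, 3, 2, 6, 5, 4, 8, 4, 3, 2, 5, 4, 7, 6, 5, 4, 3, 8, 4, 9, 8, 10, 7, 6, 5, 4, 3, 2, 1, 11, 9, 8, 5, 4, 3, 4, 8, 5, 4, 6, 2, 3, 4, 8, 9, 5, 4, 8, 6, 5, 7, 6, 5, 4, 8, 9, 3, 4, 8, 5, 4, 2, 3, 10, 7, 6, 5, 4, 8, 9, 11, 5, 9, 8, 4, 3, 2, 1], [10, 7, 6, 5, 4, 3, 2, 1, 8, 9, 4, 8, 5, 6, 3, 4, 5, 2, 3, 4, 8, 9, 11], [10, 7, 6, 5, 4, 3, 2, 1, 8, 9, 4, 8, 5, 6, 3, 4, 5, 2, 3, 4, 8, 9, 11, 9, 8, 4, 3, 2, 1], [10, 7, 6, 5, 4, 8, 9, 11, 3, 2, 1, 4, 3, 2, 5, 4, 6,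 5, 8, 4, 3, 5, 4, 6, 8, 9, 8, 4, 3, 2, 1, 5, 4, 3, 2, 6, 5, 4, 8, 4, 3, 2, 5, 4, 7, 6, 5, 4, 3, 8, 4, 9, 8, 10, 7, 6, 5, 4, 3, 2, 1, 11], [10, 7, 6, 5, 4, 8, 9, 11, 3, 2, 1, 4, 3, 2, 5, 4, 6, 5, 8, 4, 3, 5, 4, 6, 8, 9, 8, 4, 3, 2, 1, 5, 4, 3, 2, 6, 5, 4, 8, 4, 3, 2, 5, 4, 7, 6, 5, 4, 3, 8, 4, 9, 8, 10, 7, 6, 5, 4, 3, 2, 1, 11, 1, 2, 3, 4, 9, 8, 7, 6, 5, 4, 3, 2, 1], [10, 7, 6, 5, 4, 3, 2, 1, 8, 9, 4, 8, 5, 6, 3, 4, 5, 2, 3, 4, 8, 9, 11, 2, 4, 3, 6, 5, 4, 8, 7, 6, 5, 4, 3, 2, 1], [10, 7, 6, 5, 4, 3, 2, 1, 8, 9, 4, 8, 5, 6, 3, 4, 5, 2, 3, 4, 8, 9, 11, 9, 8, 4, 3, 2, 1, 11, 9, 8, 9, 4, 6, 3, 4, 8, 5, 4, 2, 3, 7, 6, 5, 4, 8, 9, 11], [10, 7, 6,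 5, 4, 3, 2, 1, 8, 4, 3, 2, 5, 4, 6, 9, 8, 4, 3, 2, 5, 4, 3, 6, 5, 7, 6, 8, 4, 5, 9, 8, 4, 3, 2, 1], [10, 7, 6, 5, 4, 8, 9, 11, 3, 4, 8, 9, 5, 4, 6, 2, 3, 4, 8, 9, 5, 4, 8, 6, 5, 7, 6, 3, 4, 5, 2, 3, 4, 8, 9, 11], [10, 7, 6, 5, 4, 8, 9, 11, 3, 2, 1, 4, 3, 2, 5, 4, 6, 5, 8, 4, 3, 5, 4, 6, 8, 9, 8, 4, 3, 2, 1, 5, 4, 3, 2, 6, 5, 4, 8, 4, 3, 2, 5, 4, 7, 6, 5, 4, 3, 8, 4, 9, 8, 10, 7, 6, 5, 4, 3, 2, 1, 11, 9, 8, 5, 4, 3, 4, 8, 5, 4, 6, 2, 3, 4, 8, 9, 5, 4, 8, 6, 5, 7, 6, 5, 4, 8, 9, 3, 4, 8, 5, 4, 2, 3, 10, 7, 6, 5, 4, 8, 9, 11, 3, 4, 8, 7, 6, 5, 4, 3, 2, 1], [10, 7, 6, 5, 4, 8, 9, 11, 3, 2, 1, 4, 3, 2, 5, 4, 6, 5, 8, 4, 3, 5, 4, 6, 8, 9, 8, 4,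 3, 2, 1, 5, 4, 3, 2, 6, 5, 4, 8, 4, 3, 2, 5, 4, 7, 6, 5, 4, 3, 8, 4, 9, 8, 10, 7, 6, 5, 4, 3, 2, 1, 11, 9, 8, 5, 4, 3, 4, 8, 5, 4, 6, 2, 3, 4, 8, 9, 5, 4, 8, 6, 5, 7, 6, 5, 4, 8, 9, 3, 4, 8, 5, 4, 2, 3, 10, 7, 6, 5, 4, 8, 9, 11, 5, 9, 8, 4, 3, 2, 1, 11, 9, 8, 4, 8, 5, 3, 4, 2, 3, 7, 6, 5, 4, 8, 9, 11], [10, 7, 6, 5, 4, 3, 2, 1, 8, 9, 4, 8, 5, 6, 3, 4, 5, 2, 3, 4, 8, 9, 11, 2, 4, 3, 6, 5, 4, 8, 7, 6, 5, 4, 3, 2, 1, 9, 8, 4, 5, 6, 5, 3, 4, 8, 9, 5, 4, 2, 3, 4, 8, 9, 11, 5, 4, 7, 6, 5, 4, 8, 9, 3, 4, 8, 2, 3, 4, 5, 6, 7, 10, 7, 6, 5, 4, 8, 9, 11, 3, 4, 8, 9, 5, 4, 6, 2, 3, 4, 8, 9, 5, 4, 8, 6, 5, 7, 6, 3, 4, 5, 2, 3, 4, 8, 9, 11], [10, 7, 6,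 5, 4, 3, 2, 1, 11, 9, 11, 8, 5, 6, 3, 4, 8, 5, 4, 6, 2, 3, 4, 8, 5, 4, 3, 2, 7, 6, 5, 4, 8, 9, 3, 4, 2, 3, 10, 7, 6, 5, 4, 8, 9, 11, 3, 4, 8, 5, 4, 2, 3, 4, 8, 5], [10, 7, 6, 5, 4, 8, 9, 11, 1, 2, 3, 4, 5, 4, 6, 5, 9, 8, 4, 3, 5, 4, 6, 8, 9, 7, 6, 5, 4, 3, 8, 10, 7, 6, 5, 4, 3, 2, 1, 8, 4, 3, 2, 5, 9, 8, 4, 3, 5, 6, 7, 10], [10, 7, 6, 5, 4, 3, 2, 1, 8, 9, 11, 4, 8, 9, 5, 4, 6, 3, 4, 8, 9, 5, 4, 8, 6, 5, 3, 4, 2, 3, 7, 6, 5, 4, 8, 9, 11, 1, 2, 3, 2, 1, 4, 3, 2, 1, 5, 6, 5, 4, 3, 8, 4, 3, 5, 4, 6, 5, 9, 8, 4, 3, 2, 1, 5, 4, 3, 6, 8, 4, 5, 9, 8, 4, 7, 6, 5, 4, 3, 2, 1, 8, 4, 3, 5, 4, 6, 9, 8, 4, 5, 6, 7, 10, 7, 6, 5, 4, 3, 2, 1, 8, 4, 3, 2,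 5, 4, 6, 9, 8, 4, 3, 2, 5, 4, 3, 6, 5, 7, 6, 8, 4, 3, 5, 4, 6, 7, 9, 8, 4], [10, 7, 6, 5, 4, 8, 9, 11, 3, 2, 1, 4, 3, 2, 5, 4, 6, 8, 4, 3, 2, 5, 4, 3, 6, 5, 8, 4, 9, 8, 7, 6, 5, 4, 3, 2, 1, 10, 11, 9, 8, 4, 3, 2, 5, 4, 3, 6, 7, 5, 6, 8, 4, 5, 11, 9, 8, 4, 3, 2, 6, 4, 5, 9, 8, 4, 3, 11, 9, 8, 4, 5, 6, 7, 10, 7, 5, 6, 4, 5, 9, 8, 4, 3, 2, 3, 4, 5, 8, 4, 3, 7, 6, 5, 4, 8, 9, 11, 4, 3, 2, 8, 4, 3, 6, 7, 4, 5, 6, 8, 4, 5, 9, 8, 4, 3, 2, 7, 5, 6, 4, 5, 9], [10, 7, 6, 5, 4, 8, 9, 11, 3, 2, 1, 4, 3, 2, 5, 4, 6, 5, 8, 4, 3, 5, 4, 6, 8, 9, 8, 4, 3, 2, 1, 5, 4, 3, 2, 6, 5, 4, 8, 4, 3, 2, 5, 4, 7, 6, 5, 4, 3, 8, 4, 9, 8, 10, 7, 6, 5, 4, 3, 2, 1, 11,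 9, 8, 9, 5, 4, 8, 6, 5, 3, 4, 8, 9, 5, 6, 2, 3, 4, 8, 9, 11, 5, 4, 8, 9, 3, 4, 5, 6, 7, 6, 5, 4, 8, 9, 11, 3, 4, 8, 9, 5, 6, 7, 2, 3, 4, 8, 9, 5, 4, 8, 6, 5, 7, 6, 10, 7, 6, 5, 4, 8, 9, 11, 3, 4, 8, 9, 5, 4, 6, 5, 2, 3, 4, 8, 9, 5, 4, 8, 6, 5, 3, 4, 8, 9, 5, 2, 3], [10, 7, 6, 5, 4, 8, 9, 11, 3, 2, 1, 4, 3, 2, 5, 4, 6, 5, 8, 4, 3, 5, 4, 6, 8, 9, 8, 4, 3, 2, 1, 5, 4, 3, 2, 6, 5, 4, 8, 4, 3, 2, 5, 4, 7, 6, 5, 4, 3, 8, 4, 9, 8, 10, 7, 6, 5, 4, 3, 2, 1, 11, 9, 8, 5, 4, 6, 5, 3, 4, 2, 3, 7, 6, 5, 4, 8, 9, 11, 9, 8, 3, 4, 5, 6, 7, 10, 3, 4, 8, 5, 6, 3, 4, 5, 2, 3, 4, 8, 9, 6, 5, 2, 3, 4, 8, 7, 6, 5, 4, 3, 2, 1, 3, 4, 5, 6, 7, 10, 3, 4, 8, 9, 6,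 5, 2, 3, 4, 8, 6, 7, 4, 5, 6, 3, 4, 5, 2, 3, 4, 8, 9, 3, 4, 8, 2, 3, 4, 5, 6, 5], [10, 7, 6, 5, 4, 8, 9, 11, 3, 2, 1, 4, 3, 2, 5, 4, 6, 5, 8, 4, 3, 5, 4, 6, 8, 9, 8, 4, 3, 2, 1, 5, 4, 3, 2, 6, 5, 4, 8, 4, 3, 2, 5, 4, 7, 6, 5, 4, 3, 8, 4, 9, 8, 10, 7, 6, 5, 4, 3, 2, 1, 11, 9, 8, 5, 4, 3, 4, 8, 5, 4, 6, 2, 3, 4, 8, 9, 5, 4, 8, 6, 5, 7, 6, 5, 4, 8, 9, 3, 4, 8, 5, 4, 2, 3, 10, 7, 6, 5, 4, 8, 9, 11, 9, 8, 5, 6, 4, 5, 2, 3, 4, 8, 9, 5, 6, 4, 5, 2, 3, 4, 8, 1, 2, 3, 4, 5, 6, 7, 10, 6, 5, 3, 4, 8, 9, 7, 5, 6, 4, 5, 3, 4, 8, 2, 3, 4, 5, 6, 7, 2, 3, 4, 8, 5, 6, 4, 5, 3, 4, 8, 9, 5, 3, 4, 8, 5, 6, 4, 5, 1, 2, 3, 4, 2, 3], [10, 7, 6, 5, 4, 8, 9, 11,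 3, 2, 1, 4, 3, 2, 5, 4, 6, 5, 8, 4, 3, 5, 4, 6, 8, 9, 8, 4, 3, 2, 1, 5, 4, 3, 2, 6, 5, 4, 8, 4, 3, 2, 5, 4, 7, 6, 5, 4, 3, 8, 4, 9, 8, 10, 7, 6, 5, 4, 3, 2, 1, 11, 9, 8, 5, 4, 3, 4, 8, 5, 4, 6, 2, 3, 4, 8, 9, 5, 4, 8, 6, 5, 7, 6, 5, 4, 8, 9, 3, 4, 8, 5, 4, 2, 3, 10, 7, 6, 5, 4, 8, 9, 11, 5, 9, 8, 4, 3, 2, 1, 9, 5, 4, 8, 6, 5, 4, 7, 3, 4, 8, 9, 5, 4, 6, 5, 7, 3, 2, 3, 4, 8, 9, 5, 4, 6, 5, 3, 4, 8, 9, 2, 10, 7, 6, 5, 4, 8, 9, 3, 4, 8, 5, 4, 6, 5, 3, 2, 3, 4, 8, 5, 6, 7, 10, 11, 9, 8, 4, 5, 6, 7, 3, 4, 5, 2, 3], [10, 7, 6, 5, 4, 3, 2, 1, 8, 9, 4, 8, 5, 6, 3, 4, 5, 2, 3, 4, 8, 9, 11, 4, 5, 4, 7, 8, 4, 3, 9, 8, 4, 3, 2, 5, 4, 6, 5, 7, 6, 8, 4,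 3, 2, 10, 7, 6, 5, 4, 3, 2, 8, 4, 5, 6, 9, 8, 1, 2, 3, 4, 5, 6, 7, 8, 4, 3, 5, 4, 6, 5, 9, 8, 4, 3, 5, 6, 7, 10, 7, 6, 5, 4, 8], [10, 7, 6, 5, 4, 3, 2, 1, 8, 9, 4, 8, 5, 6, 3, 4, 5, 2, 3, 4, 8, 9, 11, 9, 8, 4, 3, 2, 1, 8, 9, 4, 8, 5, 4, 3, 4, 8, 9, 5, 6, 2, 3, 4, 8, 9, 11, 5, 4, 8, 9, 3, 4, 8, 5, 4, 6, 3, 7, 6, 5, 4, 8, 9, 11, 10, 7, 6, 5, 4, 8, 9, 3, 4, 8, 5, 4, 6, 3], [10, 7, 6, 5, 4, 8, 9, 11, 3, 2, 1, 4, 3, 2, 5, 4, 6, 5, 8, 4, 3, 5, 4, 6, 8, 9, 8, 4, 3, 2, 1, 5, 4, 3, 2, 6, 5, 4, 8, 4, 3, 2, 5, 4, 7, 6, 5, 4, 3, 8, 4, 9, 8, 10, 7, 6, 5, 4, 3, 2, 1, 11, 2, 6, 5, 7, 6, 5, 4, 3, 8, 4, 3, 2, 5, 4, 6, 5, 9, 8, 4, 3, 2, 5, 4, 3, 6, 5, 4, 7,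 6, 5, 8, 4, 3, 5, 4, 6, 8, 1, 2, 3, 4, 5, 6, 7, 8, 4, 3, 5, 6, 10, 7, 6, 5, 4, 3, 2, 8, 4, 3, 5, 4, 6, 5, 7, 9, 8, 4, 3, 2, 10], [10, 7, 6, 5, 4, 8, 9, 11, 3, 2, 1, 4, 3, 2, 5, 4, 6, 5, 8, 4, 3, 5, 4, 6, 8, 9, 8, 4, 3, 2, 1, 5, 4, 3, 2, 6, 5, 4, 8, 4, 3, 2, 5, 4, 7, 6, 5, 4, 3, 8, 4, 9, 8, 10, 7, 6, 5, 4, 3, 2, 1, 11, 1, 2, 3, 4, 9, 8, 7, 6, 5, 4, 3, 2, 1, 4, 8, 9, 11, 5, 4, 3, 4, 8, 9, 5, 4, 8, 6, 5, 3, 4, 8, 9, 11, 5, 2, 3, 4, 8, 9, 11, 5, 4, 8, 9, 6, 5, 3, 4, 8, 9, 11, 2, 7, 6, 5, 4, 8, 9, 11, 3, 4, 10, 7, 6, 5, 4, 8, 9, 11, 3, 4, 8, 5, 4, 6, 5, 7, 6, 2, 3, 4, 8, 9, 5, 6, 10], [10, 7, 6, 5, 4, 3, 2, 1, 8, 9, 4, 8, 5, 6, 3, 4, 5, 2, 3,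 4, 8, 9, 11, 2, 4, 3, 6, 5, 4, 8, 7, 6, 5, 4, 3, 2, 1, 9, 8, 4, 3, 2, 5, 4, 3, 6, 7, 4, 5, 6, 8, 4, 5, 11, 9, 8, 4, 3, 2, 3, 7, 6, 8, 4, 5, 9, 8, 4, 3, 11, 9, 8, 4, 5, 6, 7, 10, 3, 2, 4, 3, 7, 4, 5, 6, 9, 8, 4, 5, 11, 9, 8, 4, 3, 2, 7, 6, 8, 4, 5, 9, 8, 4, 3, 11, 9, 8, 4, 5, 6, 7, 2, 11, 9, 8, 4, 3, 5, 6, 8, 4, 5, 9, 8, 4, 3, 2, 4, 3, 5, 6, 8, 4, 5, 9, 8, 4, 9, 11], [10, 7, 6, 5, 4, 3, 2, 1, 8, 9, 4, 8, 5, 6, 3, 4, 5, 2, 3, 4, 8, 9, 11, 9, 8, 4, 3, 2, 1, 11, 9, 8, 9, 4, 6, 3, 4, 8, 5, 4, 2, 3, 7, 6, 5, 4, 8, 9, 11, 5, 2, 3, 4, 8, 9, 5, 3, 4, 8, 6, 7, 5, 6, 3, 4, 5, 1, 2, 3, 4, 8, 9, 8, 7, 6, 4, 5, 2, 3, 4, 8, 1, 2, 3, 4, 5, 6, 7, 10, 7, 6,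 5, 4, 8, 9, 3, 4, 8, 5, 6, 2, 3, 4, 5, 1, 2, 3, 4, 8, 9, 6, 4, 5, 2, 3, 4, 8, 7, 6, 5, 4, 3, 2, 1, 9, 8, 7, 5, 6, 4, 5, 3, 4, 8, 9, 5, 4, 8, 3, 4, 5, 6, 4, 5, 2, 3, 4, 3]]

noncomputable def FT0 : ℕ → Fct := (ndA (nat_lit 8) (ndA (nat_lit 4) (ndA (nat_lit 2) (ndA (nat_lit 1) (lfA (⟨0, [1], 0, []⟩ : Fct)) (lfA (⟨0, [2], 0, []⟩ : Fct))) (ndA (nat_lit 3) (lfA (⟨0, [3], 0, []⟩ : Fct)) (lfA (⟨0, [4], 0, []⟩ : Fct)))) (ndA (nat_lit 6) (ndA (nat_lit 5) (lfA (⟨0, [5], 0, []⟩ : Fct)) (lfA (⟨0, [6], 0, []⟩ : Fct))) (ndA (nat_lit 7) (lfA (⟨0, [7], 0, []⟩ : Fct)) (lfA (⟨0, [8], 0, []⟩ : Fct))))) (ndA (nat_lit 12) (ndA (nat_lit 10) (ndA (nat_lit 9) (lfA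 (⟨0, [9], 0, []⟩ : Fct)) (lfA (⟨0, [], 1, []⟩ : Fct))) (ndA (nat_lit 11) (lfA (⟨1, [2], 1, []⟩ : Fct)) (lfA (⟨1, [3], 1, []⟩ : Fct)))) (ndA (nat_lit 14) (ndA (nat_lit 13) (lfA (⟨1, [4], 1, []⟩ : Fct)) (lfA (⟨1, [5], 1, []⟩ : Fct))) (ndA (nat_lit 15) (lfA (⟨1, [6], 1, []⟩ : Fct)) (lfA (⟨1, [7], 1, []⟩ : Fct))))))
noncomputable def FT1 : ℕ → Fct := (ndA (nat_lit 24) (ndA (nat_lit 20) (ndA (nat_lit 18) (ndA (nat_lit 17) (lfA (⟨1, [8], 1, []⟩ : Fct)) (lfA (⟨1, [9], 1, []⟩ : Fct))) (ndA (nat_lit 19) (lfA (⟨1, [11], 1, []⟩ : Fct)) (lfA (⟨0, [10, 7, 6, 5, 4, 3, 2, 1], 2, []⟩ : Fct)))) (ndA (nat_lit 22) (ndA (nat_lit 21) (lfA (⟨2, [2], 2, []⟩ : Fct))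 (lfA (⟨2, [3], 2, []⟩ : Fct))) (ndA (nat_lit 23) (lfA (⟨2, [4], 2, []⟩ : Fct)) (lfA (⟨2, [5], 2, []⟩ : Fct))))) (ndA (nat_lit 28) (ndA (nat_lit 26) (ndA (nat_lit 25) (lfA (⟨2, [6], 2, []⟩ : Fct)) (lfA (⟨2, [7], 2, []⟩ : Fct))) (ndA (nat_lit 27) (lfA (⟨2, [10], 2, []⟩ : Fct)) (lfA (⟨2, [9], 2, []⟩ : Fct)))) (ndA (nat_lit 30) (ndA (nat_lit 29) (lfA (⟨2, [11, 9, 8, 4, 5, 6, 3, 4, 8, 9, 11, 5, 4, 8, 9, 3, 4, 8, 5, 4, 6, 5, 3, 4, 8, 9, 11, 2, 3, 4, 8, 9, 5, 4, 8, 3, 4, 5, 2, 3, 4, 8, 9], 2, []⟩ : Fct)) (lfA (⟨0, [2, 3, 5, 4, 6, 5, 4, 7, 6, 5, 4, 8, 4, 3, 2, 5, 4, 3, 6, 5, 4, 7, 6, 8, 4, 3, 2, 5, 4, 3, 6, 5, 4, 7, 6, 5, 8, 4, 5, 6, 10, 7, 6, 5,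 4, 3, 2, 1, 8, 4, 3, 5, 4, 6, 5, 7, 6, 8, 4, 10, 7], 2, [11, 4, 8, 9, 5, 3, 4, 8, 9, 5, 4, 8, 6, 5, 4, 3, 4, 8, 9, 5, 4, 8, 7, 6, 5, 4, 8, 9, 3, 4, 8, 5, 4, 6, 5, 7, 10, 7, 6, 5, 4, 8, 9, 3, 4, 8, 5, 4, 6, 5, 7, 6, 3, 4, 8, 9, 5, 10]⟩ : Fct))) (ndA (nat_lit 31) (lfA (⟨0, [2, 3, 5, 4, 6, 5, 4, 7, 6, 5, 4, 8, 4, 3, 2, 5, 4, 3, 6, 5, 4, 7, 6, 8, 4, 3, 2, 5, 4, 3, 6, 5, 4, 7, 6, 5, 8, 4, 5, 6, 10, 7, 6, 5, 4, 3, 2, 1, 8, 4, 3, 5, 4, 6, 5, 7, 6, 8, 4, 10, 7], 2, [11, 4, 8, 9, 5, 3, 4, 8, 9, 5, 4, 8, 6, 5, 4, 3, 4, 8, 9, 5, 4, 8, 7, 6, 5, 4, 8, 9, 3, 4, 8, 5, 4, 6, 5, 7, 10, 7, 6, 5, 4, 8, 9, 3, 4, 8, 5, 4, 6, 5, 7, 6, 3, 4, 8, 9, 5, 10]⟩ : Fct))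 (lfA (⟨2, [11], 2, []⟩ : Fct))))))
noncomputable def FT2 : ℕ → Fct := (ndA (nat_lit 40) (ndA (nat_lit 36) (ndA (nat_lit 34) (ndA (nat_lit 33) (lfA (⟨1, [10, 7, 6, 5, 4, 8, 9, 11], 3, []⟩ : Fct)) (lfA (⟨3, [2], 3, []⟩ : Fct))) (ndA (nat_lit 35) (lfA (⟨3, [5], 3, []⟩ : Fct)) (lfA (⟨3, [6], 3, []⟩ : Fct)))) (ndA (nat_lit 38) (ndA (nat_lit 37) (lfA (⟨3, [7], 3, []⟩ : Fct)) (lfA (⟨3, [10], 3, []⟩ : Fct))) (ndA (nat_lit 39) (lfA (⟨3, [4], 3, []⟩ : Fct)) (lfA (⟨3, [8], 3, []⟩ : Fct))))) (ndA (nat_lit 44) (ndA (nat_lit 42) (ndA (nat_lit 41) (lfA (⟨3, [9], 3, []⟩ : Fct)) (lfA (⟨3, [1, 2, 3, 4, 5, 6, 8, 4, 3, 2, 1, 5, 4, 3, 2, 8, 4, 3, 5, 4, 6, 5,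 8, 4, 3, 2, 1, 9, 8, 4, 3, 2, 5, 4, 3, 8, 4, 5, 9, 8, 4, 3, 2], 3, []⟩ : Fct))) (ndA (nat_lit 43) (lfA (⟨3, [2, 3, 2, 4, 3, 6, 5, 7, 6, 5, 4, 8, 4, 3, 2, 5, 4, 3, 6, 5, 4, 7, 8, 4, 3, 2, 5, 4, 3, 6, 5, 9, 8, 4, 3, 2, 5, 4, 3, 6, 5, 4, 7, 8, 4, 3, 2, 5, 4, 3, 10, 7, 6, 5, 4, 3, 2, 1, 8, 4, 3, 5, 4, 6, 5, 7, 6, 9, 8, 4, 3], 2, [8, 4, 8, 9, 6, 5, 4, 8, 7, 6, 5, 4, 8, 3, 4, 8, 9, 5, 4, 8, 6, 5, 4, 3, 4, 8, 9, 5, 4, 8, 6, 5, 4, 10, 7, 6, 5, 4, 8, 9, 11, 3, 4, 8, 5, 4, 6, 5, 7, 6, 3, 4, 8, 5, 4, 3, 10, 7, 6]⟩ : Fct)) (lfA (⟨3, [2, 3, 2, 4, 3, 6, 5, 7, 6, 5, 4, 8, 4, 3, 2, 5, 4, 3, 6, 5, 4, 7, 8, 4, 3, 2, 5, 4, 3, 6, 5, 9, 8, 4, 3, 2, 5, 4, 3, 6,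 5, 4, 7, 8, 4, 3, 2, 5, 4, 3, 10, 7, 6, 5, 4, 3, 2, 1, 8, 4, 3, 5, 4, 6, 5, 7, 6, 9, 8, 4, 3], 2, [8, 4, 8, 9, 6, 5, 4, 8, 7, 6, 5, 4, 8, 3, 4, 8, 9, 5, 4, 8, 6, 5, 4, 3, 4, 8, 9, 5, 4, 8, 6, 5, 4, 10, 7, 6, 5, 4, 8, 9, 11, 3, 4, 8, 5, 4, 6, 5, 7, 6, 3, 4, 8, 5, 4, 3, 10, 7, 6]⟩ : Fct)))) (ndA (nat_lit 46) (ndA (nat_lit 45) (lfA (⟨1, [10, 7, 6, 4, 5, 9, 8, 4, 3, 2, 5, 6, 8, 4, 5, 9, 8, 4, 3, 11, 9, 8, 4, 5, 6, 7, 10, 4, 3, 6, 8, 4, 5, 9, 8, 4, 3, 2, 6, 7, 5, 6, 4, 5, 8, 4, 3, 9, 8, 4, 5, 6, 7, 4, 3, 2, 6, 5, 4, 3, 8, 4, 5, 9, 8, 4, 3, 2, 6, 4, 5, 8, 4, 3, 9, 8, 4, 5, 6, 9, 8, 4, 5, 8, 4, 9, 8, 9, 11], 3, [3, 2, 4, 3, 2, 6, 7, 6, 5, 4, 3,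 2, 8, 4, 3, 2, 5, 4, 3, 6, 5, 4, 7, 6, 5, 8, 4, 3, 9, 8, 4, 3, 5, 6, 7, 10, 7, 6, 5, 4, 3, 2, 8, 4, 3, 5, 4, 6, 5, 8, 4, 9, 8, 4, 5, 6, 7, 1, 2, 3, 4, 5, 6, 8, 4, 3, 5, 4, 9, 8, 4, 3, 5, 6, 7, 10]⟩ : Fct)) (lfA (⟨1, [10, 7, 6, 4, 5, 9, 8, 4, 3, 2, 5, 6, 8, 4, 5, 9, 8, 4, 3, 11, 9, 8, 4, 5, 6, 7, 10, 4, 3, 6, 8, 4, 5, 9, 8, 4, 3, 2, 6, 7, 5, 6, 4, 5, 8, 4, 3, 9, 8, 4, 5, 6, 7, 4, 3, 2, 6, 5, 4, 3, 8, 4, 5, 9, 8, 4, 3, 2, 6, 4, 5, 8, 4, 3, 9, 8, 4, 5, 6, 9, 8, 4, 5, 8, 4, 9, 8, 9, 11], 3, [3, 2, 4, 3, 2, 6, 7, 6, 5, 4, 3, 2, 8, 4, 3, 2, 5, 4, 3, 6, 5, 4, 7, 6, 5, 8, 4, 3, 9, 8, 4, 3, 5, 6, 7, 10, 7, 6, 5, 4, 3, 2, 8, 4, 3, 5, 4, 6, 5, 8, 4,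 9, 8, 4, 5, 6, 7, 1, 2, 3, 4, 5, 6, 8, 4, 3, 5, 4, 9, 8, 4, 3, 5, 6, 7, 10]⟩ : Fct))) (ndA (nat_lit 47) (lfA (⟨3, [3, 4, 5, 4, 3, 6, 5, 7, 6, 8, 4, 3, 2, 5, 4, 3, 6, 5, 4, 7, 6, 8, 4, 3, 2, 5, 4, 3, 6, 5, 4, 8, 9, 8, 4, 3, 2, 5, 4, 6, 5, 7, 6, 8, 4, 3, 2, 9, 8, 4, 10, 7, 6, 5, 4, 3, 8, 4, 5, 6, 7, 9, 8, 4, 3, 5, 4, 6, 8, 1, 2, 3, 4, 5, 6, 7, 8, 4, 3, 5, 6, 9, 8, 4, 3, 5, 4, 6, 8, 9, 10, 7, 6, 5, 4, 3, 2, 1], 3, []⟩ : Fct)) (lfA (⟨2, [8, 9, 11, 4, 8, 9, 5, 4, 6, 3, 4, 8, 9, 5, 4, 8, 6, 5, 3, 4, 2, 3, 7, 6, 5, 4, 8, 9, 11], 4, []⟩ : Fct))))))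
noncomputable def FT3 : ℕ → Fct := (ndA (nat_lit 56) (ndA (nat_lit 52) (ndA (nat_lit 50) (ndA (nat_lit 49) (lfA (⟨4, [2, 3, 2, 4, 3, 2, 5, 4, 3, 2, 8, 4, 3, 2, 5, 4, 3, 8, 4, 5, 9, 8, 4, 3, 2, 5, 4, 3, 8, 4, 5, 9, 8, 4, 3, 2], 4, []⟩ : Fct)) (lfA (⟨4, [2, 4, 3, 2, 6, 5, 4, 3, 2, 8, 4, 3, 2, 5, 4, 3, 8, 4, 5, 9, 8, 4, 3, 2, 5, 4, 3, 8, 4, 5, 6, 9, 8, 4], 4, []⟩ : Fct))) (ndA (nat_lit 51) (lfA (⟨4, [3, 4, 5, 4, 3, 6, 9, 8, 4, 3, 2, 5, 4, 3, 6, 5, 8, 4, 3, 5, 6, 7, 6, 5, 4, 3, 2, 8, 4, 3, 5, 4, 6, 5, 8, 4, 3, 9], 4, []⟩ : Fct)) (lfA (⟨4, [2, 3, 4, 3, 5, 4, 6, 5, 4, 8, 4, 3, 2, 5, 4, 3, 6, 5, 8, 4, 3, 2, 9, 8, 4, 3, 2, 5, 4, 3, 6, 8, 4, 5, 7,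 6, 5, 4, 3, 2, 8, 4, 3, 5, 4, 6, 7, 9, 10, 7, 6, 5, 4, 3, 2, 8, 4, 3, 5, 4, 6, 5, 7, 6, 9, 8, 4, 3, 5, 4, 8, 10], 4, []⟩ : Fct)))) (ndA (nat_lit 54) (ndA (nat_lit 53) (lfA (⟨2, [4, 8, 9, 5, 4, 8, 7, 6, 5, 4, 3, 4, 8, 9, 5, 4, 8, 6, 5, 4, 3, 4, 8, 9, 5, 4, 6, 7, 2, 3, 4, 8, 9, 5, 4, 8, 3, 4, 5, 2, 3, 4, 8, 9, 10, 7, 6, 5, 4, 8, 9, 3, 4, 8, 5, 4, 6, 3, 2, 3, 4, 8, 9, 11, 9, 8, 4, 5, 6, 7, 3, 4, 8, 5, 4, 6, 2, 3, 4, 8, 9, 11, 10, 7], 4, [10, 5, 4, 8, 9, 7, 6, 5, 3, 4, 8, 2, 3, 4, 5, 6, 7, 10, 7, 5, 6, 4, 5, 2, 3, 4, 8, 9, 8, 6, 4, 5, 3, 4, 8, 2, 3, 4, 5, 6, 7, 6, 5, 4, 8, 4, 5, 6, 3, 4, 5, 2, 3, 4, 8, 9, 4, 5, 6, 3, 4, 5, 2, 3, 4, 8, 3, 4, 5,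 6, 3, 4, 3, 2, 1]⟩ : Fct)) (lfA (⟨2, [4, 8, 9, 5, 4, 8, 7, 6, 5, 4, 3, 4, 8, 9, 5, 4, 8, 6, 5, 4, 3, 4, 8, 9, 5, 4, 6, 7, 2, 3, 4, 8, 9, 5, 4, 8, 3, 4, 5, 2, 3, 4, 8, 9, 10, 7, 6, 5, 4, 8, 9, 3, 4, 8, 5, 4, 6, 3, 2, 3, 4, 8, 9, 11, 9, 8, 4, 5, 6, 7, 3, 4, 8, 5, 4, 6, 2, 3, 4, 8, 9, 11, 10, 7], 4, [10, 5, 4, 8, 9, 7, 6, 5, 3, 4, 8, 2, 3, 4, 5, 6, 7, 10, 7, 5, 6, 4, 5, 2, 3, 4, 8, 9, 8, 6, 4, 5, 3, 4, 8, 2, 3, 4, 5, 6, 7, 6, 5, 4, 8, 4, 5, 6, 3, 4, 5, 2, 3, 4, 8, 9, 4, 5, 6, 3, 4, 5, 2, 3, 4, 8, 3, 4, 5, 6, 3, 4, 3, 2, 1]⟩ : Fct))) (ndA (nat_lit 55) (lfA (⟨4, [2, 3, 2, 5, 4, 3, 2, 8, 4, 3, 2, 5, 4, 3, 6, 5, 4, 8, 4, 3, 2, 5, 4, 6, 9, 8, 4,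 3, 2, 5, 4, 6, 7, 6, 5, 4, 3, 2, 1, 8, 4, 3, 2, 5, 4, 6, 7, 8, 9, 8, 4, 3, 2, 5, 4, 6, 5, 7, 8, 4, 3, 2, 10], 4, []⟩ : Fct)) (lfA (⟨3, [3, 2, 1, 4, 3, 2, 5, 4, 6, 8, 4, 3, 2, 5, 4, 3, 6, 5, 8, 4, 9, 8, 7, 6, 5, 4, 3, 2, 1], 5, []⟩ : Fct))))) (ndA (nat_lit 60) (ndA (nat_lit 58) (ndA (nat_lit 57) (lfA (⟨5, [9, 8, 9, 4, 8, 9, 5, 4, 8, 9, 3, 4, 8, 9, 5, 4, 8, 3, 4, 5, 2, 3, 4, 8, 9, 5, 4, 8, 3, 4, 5, 2, 3, 4, 8, 9], 5, []⟩ : Fct)) (lfA (⟨5, [8, 9, 4, 8, 9, 5, 6, 3, 4, 8, 5, 2, 3, 4, 8, 9, 5, 4, 8, 6, 5, 4, 3, 4, 8, 5, 6, 7, 6, 5, 4, 8, 9, 3, 4, 8, 5, 4, 3, 2, 3, 4, 8, 9, 5, 4, 8, 3, 4, 10, 7, 6, 5, 4, 8, 9, 3, 4, 8, 5, 4, 6, 5, 7, 6, 3, 4, 8,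 5, 4, 10, 7], 5, []⟩ : Fct))) (ndA (nat_lit 59) (lfA (⟨5, [8, 4, 8, 5, 4, 6, 5, 7, 6, 5, 4, 8, 3, 4, 8, 9, 5, 4, 8, 2, 3, 4, 8, 9, 5, 4, 8, 6, 5, 7, 6, 3, 4, 8, 5, 4, 3, 2, 3, 4, 8, 9, 5, 4, 6, 3, 10, 7, 6, 5, 4, 8, 9, 3, 4, 8, 5, 4, 6, 5, 7, 6, 3, 4, 5, 2, 3, 4, 10, 7], 5, []⟩ : Fct)) (lfA (⟨5, [9, 4, 5, 4, 6, 5, 4, 8, 9, 3, 4, 5, 6, 2, 3, 4, 8, 5, 4, 6, 5, 3, 4, 2, 7, 6, 5, 4, 8, 9, 3, 4, 8, 5, 6, 7, 2, 3, 4, 8, 9, 5, 4, 10, 7, 6, 5, 4, 8, 9, 3, 4, 8, 5, 4, 6, 5, 7, 6, 3, 4, 8, 9, 5, 4, 3], 5, []⟩ : Fct)))) (ndA (nat_lit 62) (ndA (nat_lit 61) (lfA (⟨5, [10, 3, 5, 6, 4, 5, 8, 4, 3, 2, 7, 6, 5, 4, 3, 9, 8, 4, 5, 6, 7, 10, 6, 4, 5, 9, 8, 4,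 3, 2, 3, 4, 5, 8, 4, 3, 9, 8, 4, 5, 6, 7, 9, 8, 4, 3, 5, 6, 8, 4, 5, 9, 8, 4, 3, 2, 6, 8, 4, 5, 9, 8, 4, 3, 4, 5, 8, 4, 8, 9], 5, []⟩ : Fct)) (lfA (⟨5, [3, 2, 8, 4, 3, 9, 8, 4, 5, 6, 7, 10, 9, 8, 4, 3, 2, 6, 7, 5, 6, 4, 5, 8, 4, 3, 9, 8, 4, 5, 6, 7, 4, 3, 2, 8, 4, 3, 5, 6, 4, 5, 8, 4, 3, 2, 8, 4, 3, 5, 6, 4, 5, 8, 4, 3, 5, 9, 8, 4, 8, 9], 5, []⟩ : Fct))) (ndA (nat_lit 63) (lfA (⟨4, [2, 4, 5, 4, 6, 5, 7, 6, 5, 4, 8, 4, 3, 5, 4, 6, 5, 9, 8, 4, 3, 2, 5, 4, 3, 6, 5, 4, 7, 6, 8, 4, 3, 2, 5, 4, 6, 9, 8, 4, 10, 7, 6, 5, 4, 3, 2, 1, 8, 4, 5, 6], 5, [8, 4, 5, 3, 2, 3, 4, 8, 9, 5, 4, 8, 6, 5, 4, 3, 4, 8, 9, 5, 2, 3, 7, 6, 5, 4, 8, 9, 3, 4, 8, 5, 4,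 10, 7, 6, 5, 4, 8, 9, 11, 3, 4, 8, 5, 4, 6, 5, 7, 6, 3, 4, 8]⟩ : Fct)) (lfA (⟨4, [2, 4, 5, 4, 6, 5, 7, 6, 5, 4, 8, 4, 3, 5, 4, 6, 5, 9, 8, 4, 3, 2, 5, 4, 3, 6, 5, 4, 7, 6, 8, 4, 3, 2, 5, 4, 6, 9, 8, 4, 10, 7, 6, 5, 4, 3, 2, 1, 8, 4, 5, 6], 5, [8, 4, 5, 3, 2, 3, 4, 8, 9, 5, 4, 8, 6, 5, 4, 3, 4, 8, 9, 5, 2, 3, 7, 6, 5, 4, 8, 9, 3, 4, 8, 5, 4, 10, 7, 6, 5, 4, 8, 9, 11, 3, 4, 8, 5, 4, 6, 5, 7, 6, 3, 4, 8]⟩ : Fct))))))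
noncomputable def FT4 : ℕ → Fct := (ndA (nat_lit 72) (ndA (nat_lit 68) (ndA (nat_lit 66) (ndA (nat_lit 65) (lfA (⟨4, [2, 4, 3, 2, 5, 4, 3, 2, 6, 5, 4, 3, 7, 6, 8, 4, 3, 2, 5, 4, 3, 6, 5, 4, 8, 4, 3, 2, 5, 4, 3, 9, 8, 4, 3, 2, 5, 4, 3, 6, 5, 4, 7, 8, 4, 5, 9, 8, 4, 1, 2, 3, 4, 5, 6, 7, 8, 4, 3, 5, 4, 6, 10, 7, 6, 5, 4, 3, 2, 1, 8, 4, 3, 2, 5, 4, 6, 5, 7, 6, 8, 4, 5, 10, 7, 6], 5, [2, 4, 3, 9, 8, 4, 5, 6, 7, 10, 8, 4, 3, 7, 5, 6, 4, 5, 8, 4, 3, 9, 8, 4, 5, 6, 7, 5, 4, 3, 2, 5, 8, 4, 3, 5, 6, 8, 4, 5, 9, 8, 4, 3, 2, 5, 6, 4, 5, 8, 4, 3, 5, 6, 8, 4, 5, 4, 11]⟩ : Fct)) (lfA (⟨4, [2, 4, 3, 2, 5, 4, 3, 2, 6, 5, 4, 3, 7, 6, 8, 4, 3, 2, 5, 4, 3, 6,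 5, 4, 8, 4, 3, 2, 5, 4, 3, 9, 8, 4, 3, 2, 5, 4, 3, 6, 5, 4, 7, 8, 4, 5, 9, 8, 4, 1, 2, 3, 4, 5, 6, 7, 8, 4, 3, 5, 4, 6, 10, 7, 6, 5, 4, 3, 2, 1, 8, 4, 3, 2, 5, 4, 6, 5, 7, 6, 8, 4, 5, 10, 7, 6], 5, [2, 4, 3, 9, 8, 4, 5, 6, 7, 10, 8, 4, 3, 7, 5, 6, 4, 5, 8, 4, 3, 9, 8, 4, 5, 6, 7, 5, 4, 3, 2, 5, 8, 4, 3, 5, 6, 8, 4, 5, 9, 8, 4, 3, 2, 5, 6, 4, 5, 8, 4, 3, 5, 6, 8, 4, 5, 4, 11]⟩ : Fct))) (ndA (nat_lit 67) (lfA (⟨3, [3, 5, 4, 3, 2, 6, 5, 7, 6, 8, 4, 3, 2, 5, 4, 6, 8, 9, 8, 4, 3, 2, 5, 4, 3, 6, 5, 4, 7, 6, 5, 8, 4, 3, 2, 5, 9, 8, 1, 2, 3, 4, 5, 6, 7, 8, 4, 3, 2, 5, 4, 6, 9, 8, 4, 3, 2, 1, 5, 4, 3, 2, 6, 5, 4, 3, 7, 8, 10, 7, 6, 5, 4, 3, 2, 1,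 8, 4, 5, 6, 7, 9, 8, 4, 3, 10], 5, [2, 8, 4, 3, 5, 6, 8, 4, 5, 9, 8, 4, 3, 2, 5, 6, 4, 5, 9, 8, 4, 3, 11, 9, 8, 4, 5, 6, 7, 10, 4, 3, 5, 6, 8, 4, 5, 9, 8, 4, 3, 2, 6, 4, 5, 8, 4, 3, 7, 6, 5, 4, 8, 9, 11, 4, 3, 2, 5, 9, 8, 4, 3, 6, 7, 5, 6, 4, 5, 9, 8, 4, 3, 2, 6, 7, 8, 4, 5, 6, 8, 4, 9, 8, 9]⟩ : Fct)) (lfA (⟨3, [3, 5, 4, 3, 2, 6, 5, 7, 6, 8, 4, 3, 2, 5, 4, 6, 8, 9, 8, 4, 3, 2, 5, 4, 3, 6, 5, 4, 7, 6, 5, 8, 4, 3, 2, 5, 9, 8, 1, 2, 3, 4, 5, 6, 7, 8, 4, 3, 2, 5, 4, 6, 9, 8, 4, 3, 2, 1, 5, 4, 3, 2, 6, 5, 4, 3, 7, 8, 10, 7, 6, 5, 4, 3, 2, 1, 8, 4, 5, 6, 7, 9, 8, 4, 3, 10], 5, [2, 8, 4, 3, 5, 6, 8, 4, 5, 9, 8, 4, 3, 2, 5, 6, 4, 5, 9, 8, 4, 3, 11,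 9, 8, 4, 5, 6, 7, 10, 4, 3, 5, 6, 8, 4, 5, 9, 8, 4, 3, 2, 6, 4, 5, 8, 4, 3, 7, 6, 5, 4, 8, 9, 11, 4, 3, 2, 5, 9, 8, 4, 3, 6, 7, 5, 6, 4, 5, 9, 8, 4, 3, 2, 6, 7, 8, 4, 5, 6, 8, 4, 9, 8, 9]⟩ : Fct)))) (ndA (nat_lit 70) (ndA (nat_lit 69) (lfA (⟨5, [11, 8, 9, 4, 8, 5, 3, 4, 8, 9, 2, 3, 4, 8, 9, 11, 5, 4, 8, 9, 6, 5, 4, 8, 3, 4, 8, 9, 11, 5, 6, 2, 3, 4, 8, 5, 4, 6, 3, 2, 7, 6, 5, 4, 8, 9, 3, 4, 8, 5, 4, 3, 2, 3, 4, 8, 9, 11, 5, 4, 8, 10, 7, 6, 5, 4, 8, 9, 11, 3, 4, 8, 9, 5, 4, 8, 6, 7, 3, 2, 3, 4, 8, 9, 5, 4, 8, 6, 5, 7, 6, 3, 4, 5, 2, 3, 4, 8, 9, 10, 7], 5, []⟩ : Fct)) (lfA (⟨4, [2, 4, 3, 5, 6, 5, 4, 3, 7, 6, 8, 4, 3, 2, 5, 4, 3, 6, 5, 4, 8,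 4, 5, 6, 9, 8, 4, 3, 2, 5, 4, 3, 6, 5, 4, 7, 8, 4, 3, 2, 5, 9, 8, 4, 1, 2, 3, 4, 5, 6, 7, 8, 4, 3, 2, 1, 5, 4, 6, 5, 9, 8, 4, 3, 2, 1, 5, 4, 3, 6, 5, 8, 4, 3, 2, 5, 9, 8, 4, 3, 2, 10, 7, 6, 5, 4, 3, 2, 1, 8, 4, 3, 2, 5, 4, 6, 8, 9, 8, 4, 3, 2, 5, 4, 3, 6, 5, 7, 6, 8, 4, 3, 9], 5, [9, 4, 8, 9, 5, 4, 6, 5, 4, 7, 6, 2, 3, 4, 8, 9, 5, 4, 8, 6, 5, 4, 7, 6, 3, 4, 8, 9, 5, 4, 8, 3, 4, 2, 3, 4, 8, 11, 9, 8, 4, 5, 6, 7, 3, 4, 8, 5, 4, 2, 3, 4, 8, 9, 5, 4, 8, 10, 7, 6, 5, 4, 8, 9, 11, 3, 4, 8, 9, 5, 4, 8, 6, 5, 7, 3, 2, 3, 4, 8, 9, 5, 4, 8, 6, 5, 3, 4, 8]⟩ : Fct))) (ndA (nat_lit 71) (lfA (⟨4, [2, 4, 3, 5, 6, 5, 4, 3, 7, 6, 8, 4, 3, 2, 5, 4, 3, 6, 5,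 4, 8, 4, 5, 6, 9, 8, 4, 3, 2, 5, 4, 3, 6, 5, 4, 7, 8, 4, 3, 2, 5, 9, 8, 4, 1, 2, 3, 4, 5, 6, 7, 8, 4, 3, 2, 1, 5, 4, 6, 5, 9, 8, 4, 3, 2, 1, 5, 4, 3, 6, 5, 8, 4, 3, 2, 5, 9, 8, 4, 3, 2, 10, 7, 6, 5, 4, 3, 2, 1, 8, 4, 3, 2, 5, 4, 6, 8, 9, 8, 4, 3, 2, 5, 4, 3, 6, 5, 7, 6, 8, 4, 3, 9], 5, [9, 4, 8, 9, 5, 4, 6, 5, 4, 7, 6, 2, 3, 4, 8, 9, 5, 4, 8, 6, 5, 4, 7, 6, 3, 4, 8, 9, 5, 4, 8, 3, 4, 2, 3, 4, 8, 11, 9, 8, 4, 5, 6, 7, 3, 4, 8, 5, 4, 2, 3, 4, 8, 9, 5, 4, 8, 10, 7, 6, 5, 4, 8, 9, 11, 3, 4, 8, 9, 5, 4, 8, 6, 5, 7, 3, 2, 3, 4, 8, 9, 5, 4, 8, 6, 5, 3, 4, 8]⟩ : Fct)) (lfA (⟨5, [9, 8, 9, 4, 6, 5, 4, 8, 9, 3, 4, 8, 9, 11, 5, 4, 8, 9, 3, 4, 8, 5, 4,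 3, 2, 3, 4, 8, 9, 11, 5, 4, 8, 9, 6, 5, 4, 8, 3, 4, 8, 9, 11, 5, 2, 3, 4, 8, 9, 5, 4, 6, 7, 6, 5, 4, 8, 9, 11, 3, 4, 8, 5, 6, 2, 10, 7, 6, 5, 4, 8, 9, 11, 3, 4, 8, 9, 5, 4, 3, 2, 3, 4, 8, 9, 11, 5, 4, 6, 5], 4, [2, 3, 2, 1, 4, 3, 2, 5, 8, 4, 3, 2, 5, 4, 3, 6, 5, 9, 8, 4, 3, 2, 1, 5, 4, 3, 2, 6, 5, 4, 8, 4, 3, 2, 5, 4, 9, 8, 4, 3, 2, 5, 4, 3, 6, 5, 4, 8, 7, 6, 5, 4, 3, 2, 1, 8, 4, 3, 2, 5, 4, 6, 5, 7, 9, 8, 4, 3, 2, 1, 5, 4, 3, 6, 5, 7, 8, 4, 9, 10, 7, 6, 5, 4, 3, 2, 1, 8, 4, 3, 2, 5, 4, 3, 6, 9, 8, 4, 3, 2, 5, 4, 3, 6, 5, 4, 7, 6, 5, 8, 4, 9, 10, 7]⟩ : Fct))))) (ndA (nat_lit 76) (ndA (nat_lit 74) (ndA (nat_lit 73) (lfA (⟨5, [9, 8, 9, 4, 6,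 5, 4, 8, 9, 3, 4, 8, 9, 11, 5, 4, 8, 9, 3, 4, 8, 5, 4, 3, 2, 3, 4, 8, 9, 11, 5, 4, 8, 9, 6, 5, 4, 8, 3, 4, 8, 9, 11, 5, 2, 3, 4, 8, 9, 5, 4, 6, 7, 6, 5, 4, 8, 9, 11, 3, 4, 8, 5, 6, 2, 10, 7, 6, 5, 4, 8, 9, 11, 3, 4, 8, 9, 5, 4, 3, 2, 3, 4, 8, 9, 11, 5, 4, 6, 5], 4, [2, 3, 2, 1, 4, 3, 2, 5, 8, 4, 3, 2, 5, 4, 3, 6, 5, 9, 8, 4, 3, 2, 1, 5, 4, 3, 2, 6, 5, 4, 8, 4, 3, 2, 5, 4, 9, 8, 4, 3, 2, 5, 4, 3, 6, 5, 4, 8, 7, 6, 5, 4, 3, 2, 1, 8, 4, 3, 2, 5, 4, 6, 5, 7, 9, 8, 4, 3, 2, 1, 5, 4, 3, 6, 5, 7, 8, 4, 9, 10, 7, 6, 5, 4, 3, 2, 1, 8, 4, 3, 2, 5, 4, 3, 6, 9, 8, 4, 3, 2, 5, 4, 3, 6, 5, 4, 7, 6, 5, 8, 4, 9, 10, 7]⟩ : Fct)) (lfA (⟨3, [3, 2, 1, 4, 3,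 2, 5, 4, 6, 5, 8, 4, 3, 5, 4, 6, 8, 9, 8, 4, 3, 2, 1, 5, 4, 3, 2, 6, 5, 4, 8, 4, 3, 2, 5, 4, 7, 6, 5, 4, 3, 8, 4, 9, 8, 10, 7, 6, 5, 4, 3, 2, 1], 6, []⟩ : Fct))) (ndA (nat_lit 75) (lfA (⟨6, [9, 8, 4, 8, 5, 4, 6, 5, 4, 3, 4, 8, 9, 5, 4, 8, 6, 5, 4, 2, 3, 4, 8, 9, 5, 4, 8, 3, 4, 5, 2, 3, 4, 7, 6, 5, 4, 8, 9, 3, 4, 5, 6, 7, 2, 3, 10, 7, 6, 5, 4, 8, 9, 3, 4, 8, 5, 4, 6, 7, 3, 2, 3, 4, 8, 5, 4, 6, 7, 3], 6, []⟩ : Fct)) (lfA (⟨6, [8, 9, 5, 4, 8, 6, 5, 4, 8, 9, 3, 4, 8, 9, 5, 4, 8, 6, 5, 2, 3, 4, 8, 9, 5, 4, 8, 6, 5, 4, 3, 4, 8, 9, 5, 4, 8, 6, 5, 4, 2, 7, 6, 5, 4, 8, 9, 3, 4, 8, 5, 4, 6, 5, 7, 6, 2, 10, 7, 6, 5, 4, 8, 9, 3, 4, 8, 5, 4, 6, 5, 7,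 3, 4, 2, 3, 4, 10], 6, []⟩ : Fct)))) (ndA (nat_lit 78) (ndA (nat_lit 77) (lfA (⟨6, [9, 8, 9, 4, 8, 5, 4, 6, 5, 4, 8, 3, 4, 8, 5, 4, 6, 5, 3, 4, 2, 3, 4, 8, 5, 4, 6, 5, 3, 4, 8, 2, 3, 4, 5, 7, 6, 5, 4, 8, 3, 4, 2, 3, 10, 7, 6, 5, 4, 8, 9, 3, 4, 5, 6, 7, 2, 3, 4, 8, 5, 6, 10, 7], 6, []⟩ : Fct)) (lfA (⟨4, [2, 3, 2, 4, 6, 5, 7, 6, 8, 4, 9, 8, 4, 3, 2, 5, 4, 3, 6, 5, 4, 7, 6, 8, 4, 3, 5, 4, 6, 5, 8, 9, 8, 4, 3, 5, 4, 6, 10, 7, 6, 5, 4, 3, 2, 8, 4, 5, 6, 7, 9, 8, 4, 5, 6, 10, 1, 2, 3, 4, 5, 6, 7, 8, 4, 3, 2, 5, 4, 3, 6, 5, 9, 8, 4, 3, 2, 1, 5, 4, 3, 2, 6, 5, 4, 7, 8, 4, 3, 9, 8, 10, 7, 6, 5, 4, 3, 2, 8, 4, 5, 9, 8, 4, 3], 6, [8, 9, 5, 4, 8, 6,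 5, 4, 7, 6, 5, 4, 8, 9, 3, 4, 8, 5, 4, 6, 5, 2, 3, 4, 8, 9, 5, 4, 8, 6, 5, 7, 6, 3, 4, 8, 9, 5, 4, 6, 3, 2, 3, 4, 8, 9, 5, 4, 8, 6, 3, 11, 10, 7, 6, 5, 4, 8, 3, 4, 5, 6, 7, 2, 3, 4, 8, 5, 4, 6, 5, 3, 10, 7, 6]⟩ : Fct))) (ndA (nat_lit 79) (lfA (⟨4, [2, 3, 2, 4, 6, 5, 7, 6, 8, 4, 9, 8, 4, 3, 2, 5, 4, 3, 6, 5, 4, 7, 6, 8, 4, 3, 5, 4, 6, 5, 8, 9, 8, 4, 3, 5, 4, 6, 10, 7, 6, 5, 4, 3, 2, 8, 4, 5, 6, 7, 9, 8, 4, 5, 6, 10, 1, 2, 3, 4, 5, 6, 7, 8, 4, 3, 2, 5, 4, 3, 6, 5, 9, 8, 4, 3, 2, 1, 5, 4, 3, 2, 6, 5, 4, 7, 8, 4, 3, 9, 8, 10, 7, 6, 5, 4, 3, 2, 8, 4, 5, 9, 8, 4, 3], 6, [8, 9, 5, 4, 8, 6, 5, 4, 7, 6, 5, 4, 8, 9, 3, 4, 8, 5, 4, 6, 5, 2, 3, 4, 8,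 9, 5, 4, 8, 6, 5, 7, 6, 3, 4, 8, 9, 5, 4, 6, 3, 2, 3, 4, 8, 9, 5, 4, 8, 6, 3, 11, 10, 7, 6, 5, 4, 8, 3, 4, 5, 6, 7, 2, 3, 4, 8, 5, 4, 6, 5, 3, 10, 7, 6]⟩ : Fct)) (lfA (⟨6, [9, 8, 9, 4, 8, 5, 4, 8, 9, 6, 5, 4, 8, 9, 7, 3, 4, 8, 5, 4, 6, 5, 7, 3, 4, 8, 2, 3, 4, 8, 9, 5, 4, 8, 6, 5, 4, 7, 6, 5, 3, 4, 8, 9, 5, 6, 7, 2, 3, 4, 8, 9, 5, 4, 8, 3, 2, 10, 7, 6, 5, 4, 8, 9, 3, 4, 8, 5, 4, 6, 11, 9, 8, 4, 5, 6, 7, 3, 4, 8, 9, 5, 4, 6, 2, 3, 4, 8, 9, 5, 4, 8, 6, 5, 4, 3, 4, 8, 2, 10, 7, 6, 5, 4, 8, 3, 4, 5, 6, 2, 3], 6, []⟩ : Fct))))))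
noncomputable def FT5 : ℕ → Fct := (ndA (nat_lit 88) (ndA (nat_lit 84) (ndA (nat_lit 82) (ndA (nat_lit 81) (lfA (⟨6, [11, 9, 8, 5, 4, 6, 5, 3, 4, 2, 3, 7, 6, 5, 4, 8, 9, 11], 7, []⟩ : Fct)) (lfA (⟨7, [2, 4, 3, 2, 6, 5, 4, 3, 2, 8, 4, 3, 2, 5, 4, 3, 6, 8, 4, 5, 9, 8, 4, 3, 2, 5, 4, 3, 6, 5, 4, 8, 4, 3, 2, 9, 7, 6, 5, 4, 3, 2, 8, 4, 5, 6, 7, 9, 8, 4, 3, 5, 6, 10, 7, 6, 5, 4, 3, 2, 8, 4, 3, 5, 4, 6, 5, 7, 6, 9, 8, 4, 5, 10], 7, []⟩ : Fct))) (ndA (nat_lit 83) (lfA (⟨7, [2, 3, 4, 5, 6, 8, 4, 3, 2, 5, 4, 3, 6, 5, 8, 4, 3, 5, 9, 8, 4, 3, 2, 5, 4, 3, 6, 5, 4, 8, 4, 3, 5, 4, 6, 9, 8, 7, 6, 5, 4, 3, 2, 8, 4, 5, 6, 7, 9, 8, 4, 3, 5, 6, 10, 7, 6, 5,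 4, 3, 2, 8, 4, 3, 5, 4, 6, 5, 7, 6, 8, 9, 8, 4, 3, 5, 4, 10], 7, []⟩ : Fct)) (lfA (⟨7, [4, 5, 6, 5, 4, 3, 2, 7, 6, 5, 4, 3, 8, 4, 3, 2, 5, 4, 3, 6, 5, 4, 7, 6, 5, 8, 4, 3, 2, 5, 4, 3, 6, 5, 4, 7, 6, 8, 4, 3, 5, 4, 6, 5, 7, 6], 7, []⟩ : Fct)))) (ndA (nat_lit 86) (ndA (nat_lit 85) (lfA (⟨7, [6, 7, 10, 9, 5, 4, 8, 6, 7, 5, 6, 4, 5, 3, 4, 8, 2, 3, 4, 5, 6, 7, 10, 8, 4, 5, 3, 4, 8, 2, 3, 4, 5, 6, 7, 9, 8, 5, 6, 4, 5, 2, 3, 4, 8, 9, 4, 5, 3, 4, 8, 5, 6, 3, 4, 5, 2], 7, []⟩ : Fct)) (lfA (⟨5, [11, 9, 4, 5, 6, 5, 4, 8, 9, 11, 3, 4, 8, 5, 6, 2, 3, 4, 8, 9, 11, 5, 4, 8, 9, 6, 5, 4, 3, 4, 8, 9, 5, 2, 3, 4, 8, 5, 4, 6, 7, 6, 5, 4, 8, 9, 11, 3, 4, 8, 9,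 5, 4, 6, 5, 2, 3, 4, 8, 9, 11, 5, 4, 8, 6, 5, 7, 3, 4, 8, 5, 2, 3, 10, 7, 6, 5, 4, 8, 9, 11, 3, 4, 8, 9, 5, 4, 8, 6, 5, 7, 3, 2, 3, 4, 8, 9, 5, 4, 6, 5, 7, 3, 4, 10], 7, [3, 4, 3, 2, 6, 5, 8, 4, 3, 2, 5, 4, 3, 6, 5, 8, 9, 8, 4, 3, 2, 5, 4, 3, 6, 5, 4, 8, 4, 3, 2, 5, 4, 6, 5, 9, 8, 7, 6, 5, 4, 3, 2, 8, 4, 3, 5, 4, 6, 5, 7, 6, 10, 7, 6, 5, 4, 3, 2, 1, 8, 4, 3, 5, 4, 6, 7, 8, 9, 8, 4, 3, 5, 4, 6, 8, 10]⟩ : Fct))) (ndA (nat_lit 87) (lfA (⟨5, [11, 9, 4, 5, 6, 5, 4, 8, 9, 11, 3, 4, 8, 5, 6, 2, 3, 4, 8, 9, 11, 5, 4, 8, 9, 6, 5, 4, 3, 4, 8, 9, 5, 2, 3, 4, 8, 5, 4, 6, 7, 6, 5, 4, 8, 9, 11, 3, 4, 8, 9, 5, 4, 6, 5, 2, 3, 4, 8, 9, 11, 5, 4, 8, 6, 5,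 7, 3, 4, 8, 5, 2, 3, 10, 7, 6, 5, 4, 8, 9, 11, 3, 4, 8, 9, 5, 4, 8, 6, 5, 7, 3, 2, 3, 4, 8, 9, 5, 4, 6, 5, 7, 3, 4, 10], 7, [3, 4, 3, 2, 6, 5, 8, 4, 3, 2, 5, 4, 3, 6, 5, 8, 9, 8, 4, 3, 2, 5, 4, 3, 6, 5, 4, 8, 4, 3, 2, 5, 4, 6, 5, 9, 8, 7, 6, 5, 4, 3, 2, 8, 4, 3, 5, 4, 6, 5, 7, 6, 10, 7, 6, 5, 4, 3, 2, 1, 8, 4, 3, 5, 4, 6, 7, 8, 9, 8, 4, 3, 5, 4, 6, 8, 10]⟩ : Fct)) (lfA (⟨6, [8, 4, 6, 5, 4, 8, 9, 3, 4, 8, 9, 11, 5, 4, 6, 5, 3, 4, 8, 2, 3, 4, 8, 9, 11, 5, 4, 8, 9, 6, 5, 3, 4, 8, 5, 2, 3, 4, 7, 6, 5, 4, 8, 9, 11, 3, 4, 8, 9, 5, 4, 8, 6, 5, 2, 3, 4, 8, 9, 5, 4, 8, 6, 5, 7, 3, 4, 5, 6, 2, 3, 4, 8, 5, 4, 3, 2, 10, 7, 6, 5, 4, 8, 9, 3, 4, 8, 5,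 4, 6, 3, 2, 3, 4, 8, 9, 11, 5], 7, [3, 2, 4, 3, 2, 5, 6, 5, 7, 8, 4, 3, 2, 5, 4, 3, 6, 5, 4, 7, 8, 4, 3, 5, 6, 9, 8, 4, 3, 2, 5, 4, 3, 6, 5, 4, 7, 6, 5, 8, 4, 3, 5, 6, 9, 8, 4, 3, 2, 5, 4, 1, 10, 7, 6, 5, 4, 8]⟩ : Fct))))) (ndA (nat_lit 92) (ndA (nat_lit 90) (ndA (nat_lit 89) (lfA (⟨6, [8, 4, 6, 5, 4, 8, 9, 3, 4, 8, 9, 11, 5, 4, 6, 5, 3, 4, 8, 2, 3, 4, 8, 9, 11, 5, 4, 8, 9, 6, 5, 3, 4, 8, 5, 2, 3, 4, 7, 6, 5, 4, 8, 9, 11, 3, 4, 8, 9, 5, 4, 8, 6, 5, 2, 3, 4, 8, 9, 5, 4, 8, 6, 5, 7, 3, 4, 5, 6, 2, 3, 4, 8, 5, 4, 3, 2, 10, 7, 6, 5, 4, 8, 9, 3, 4, 8, 5, 4, 6, 3, 2, 3, 4, 8, 9, 11, 5], 7, [3, 2, 4, 3, 2, 5, 6, 5, 7, 8, 4, 3, 2, 5, 4, 3, 6, 5,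 4, 7, 8, 4, 3, 5, 6, 9, 8, 4, 3, 2, 5, 4, 3, 6, 5, 4, 7, 6, 5, 8, 4, 3, 5, 6, 9, 8, 4, 3, 2, 5, 4, 1, 10, 7, 6, 5, 4, 8]⟩ : Fct)) (lfA (⟨7, [3, 2, 4, 5, 4, 3, 6, 5, 4, 3, 7, 6, 5, 8, 4, 3, 2, 5, 4, 6, 9, 8, 4, 3, 2, 5, 4, 3, 6, 5, 4, 7, 6, 8, 4, 3, 5, 4, 6, 8, 9, 8, 4, 3, 2, 5, 4, 3, 6, 8, 1, 2, 3, 4, 5, 6, 7, 8, 4, 3, 2, 5, 9, 8, 4, 3, 5, 4, 6, 5, 8, 10, 7, 6, 5, 4, 3, 2, 8, 4, 3, 5, 4, 6, 5, 7, 6, 8, 9, 8, 4, 5, 6, 10, 7, 6], 7, []⟩ : Fct))) (ndA (nat_lit 91) (lfA (⟨6, [11, 9, 8, 5, 4, 3, 4, 8, 5, 4, 6, 2, 3, 4, 8, 9, 5, 4, 8, 6, 5, 7, 6, 5, 4, 8, 9, 3, 4, 8, 5, 4, 2, 3, 10, 7, 6, 5, 4, 8, 9, 11], 8, []⟩ : Fct)) (lfA (⟨8, [3, 4, 3, 2, 5,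 4, 6, 8, 4, 3, 2, 5, 4, 6, 5, 8, 4, 9, 8, 4, 3, 2, 5, 4, 6, 5, 8, 4, 3, 2, 9, 8, 4, 7, 6, 5, 4, 3, 2, 8, 4, 3, 5, 4, 8, 9, 8, 4, 3, 5, 6, 7, 10, 7, 6, 5, 4, 3, 2, 8, 4, 3, 5, 4, 6, 5, 7, 9, 8, 4, 3, 5, 4, 6, 10, 7], 8, []⟩ : Fct)))) (ndA (nat_lit 94) (ndA (nat_lit 93) (lfA (⟨8, [10, 9, 8, 7, 5, 6, 4, 5, 3, 4, 8, 2, 3, 4, 5, 6, 7, 10, 9, 7, 6, 5, 4, 8, 3, 4, 5, 6, 7, 3, 4, 8, 9, 5, 3, 4, 8, 5, 6, 3, 4, 5, 2, 3, 4, 8, 9, 8, 4, 5, 6, 2, 3, 4, 5, 3, 2], 8, []⟩ : Fct)) (lfA (⟨6, [6, 5, 8, 4, 3, 11, 9, 8, 4, 5, 6, 7, 10, 3, 2, 5, 9, 8, 4, 3, 5, 6, 8, 4, 5, 11, 9, 8, 4, 3, 2, 6, 8, 4, 5, 9, 8, 4, 3, 7, 6, 5, 4, 8, 9, 11, 10, 7, 6, 5, 4, 3, 2, 4,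 5, 8, 4, 3, 9, 8, 4, 5, 6, 7, 10, 3, 2, 5, 6, 4, 5, 9, 8, 4, 3, 7, 4, 5, 6, 8, 4, 5, 9, 8, 4, 3, 2, 8, 4, 5, 9, 8, 4, 3, 4, 5, 6, 8, 4, 5, 9, 8, 4, 3, 8, 4, 9], 8, [4, 5, 3, 4, 8, 9, 6, 5, 3, 4, 8, 2, 3, 4, 5, 6, 7, 10, 6, 5, 4, 8, 9, 4, 8, 7, 5, 6, 4, 5, 3, 4, 8, 2, 3, 4, 5, 6, 7, 3, 4, 8, 9, 6, 5, 4, 8, 3, 4, 5, 2, 3, 4, 8, 9, 5, 3, 4, 8, 3, 4, 5, 6, 4, 5, 3, 4, 3, 2, 1]⟩ : Fct))) (ndA (nat_lit 95) (lfA (⟨6, [6, 5, 8, 4, 3, 11, 9, 8, 4, 5, 6, 7, 10, 3, 2, 5, 9, 8, 4, 3, 5, 6, 8, 4, 5, 11, 9, 8, 4, 3, 2, 6, 8, 4, 5, 9, 8, 4, 3, 7, 6, 5, 4, 8, 9, 11, 10, 7, 6, 5, 4, 3, 2, 4, 5, 8, 4, 3, 9, 8, 4, 5, 6, 7, 10, 3, 2, 5, 6, 4, 5, 9, 8, 4, 3,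 7, 4, 5, 6, 8, 4, 5, 9, 8, 4, 3, 2, 8, 4, 5, 9, 8, 4, 3, 4, 5, 6, 8, 4, 5, 9, 8, 4, 3, 8, 4, 9], 8, [4, 5, 3, 4, 8, 9, 6, 5, 3, 4, 8, 2, 3, 4, 5, 6, 7, 10, 6, 5, 4, 8, 9, 4, 8, 7, 5, 6, 4, 5, 3, 4, 8, 2, 3, 4, 5, 6, 7, 3, 4, 8, 9, 6, 5, 4, 8, 3, 4, 5, 2, 3, 4, 8, 9, 5, 3, 4, 8, 3, 4, 5, 6, 4, 5, 3, 4, 3, 2, 1]⟩ : Fct)) (lfA (⟨8, [2, 4, 3, 2, 5, 4, 6, 5, 7, 6, 5, 4, 3, 8, 4, 3, 2, 5, 4, 6, 7, 8, 9, 8, 4, 3, 2, 5, 4, 3, 6, 5, 7, 6, 8, 4, 3, 5, 4, 9, 8, 4, 10, 7, 6, 5, 4, 3, 2, 8, 4, 3, 5, 4, 6, 7, 8, 9, 8, 4, 3, 2, 5, 4, 6, 7, 1, 2, 3, 4, 5, 6, 7, 8, 4, 3, 2, 5, 4, 6, 5, 9, 8, 4, 3, 2, 5, 4, 3, 6, 5, 7, 8, 4, 3, 10, 7], 8, []⟩ : Fct))))))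
noncomputable def FT6 : ℕ → Fct := (ndA (nat_lit 104) (ndA (nat_lit 100) (ndA (nat_lit 98) (ndA (nat_lit 97) (lfA (⟨8, [5, 9, 8, 4, 3, 2, 1], 9, []⟩ : Fct)) (lfA (⟨9, [3, 7, 5, 6, 4, 5, 8, 4, 3, 9, 8, 4, 5, 6, 7, 10, 7, 4, 5, 6, 8, 4, 5, 9, 8, 4, 3, 2, 4, 5, 8, 4, 3, 9, 8, 4, 5, 6, 7, 2, 4, 3, 5, 6, 4, 5, 9, 8, 4, 3, 2, 3, 8, 4, 5, 9, 8, 4, 3, 6, 5, 8, 9], 9, []⟩ : Fct))) (ndA (nat_lit 99) (lfA (⟨9, [4, 8, 5, 4, 8, 6, 5, 3, 4, 8, 5, 4, 6, 5, 7, 3, 4, 8, 2, 3, 4, 8, 9, 5, 4, 8, 6, 5, 7, 6, 3, 4, 8, 9, 5, 4, 8, 6, 7, 2, 3, 4, 10, 7, 6, 5, 4, 8, 9, 3, 4, 8, 5, 6, 7, 2, 3, 4, 8, 5, 4, 6, 5, 3, 4], 9, []⟩ : Fct)) (lfA (⟨9, [3, 5, 6, 4, 5, 8, 4,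 3, 2, 7, 6, 5, 8, 4, 3, 9, 8, 4, 5, 6, 7, 10, 6, 5, 4, 3, 2, 4, 5, 9, 8, 4, 3, 5, 6, 7, 4, 5, 6, 8, 4, 5, 9, 8, 4, 3, 2, 6, 5, 8, 4, 3, 4, 5, 6, 8, 4, 5, 9, 8, 4, 3, 5, 6, 4, 5, 9, 8, 4, 8], 9, []⟩ : Fct)))) (ndA (nat_lit 102) (ndA (nat_lit 101) (lfA (⟨9, [7, 6, 4, 5, 8, 4, 3, 2, 3, 6, 7, 5, 6, 4, 5, 8, 4, 3, 9, 8, 4, 5, 6, 7, 10, 5, 6, 4, 5, 8, 4, 3, 2, 4, 5, 8, 4, 3, 9, 8, 4, 5, 6, 7, 6, 4, 5, 8, 4, 3, 4, 5, 6, 8, 4, 5, 9, 8, 4, 3, 2, 3, 6, 4, 5, 8, 4, 3, 9, 8, 4, 5, 6, 8, 4, 9, 8, 9, 11], 7, [3, 4, 3, 5, 6, 8, 4, 3, 2, 5, 4, 3, 6, 9, 8, 4, 3, 5, 4, 6, 7, 6, 5, 4, 3, 2, 8, 4, 3, 5, 4, 6, 5, 9, 8, 4, 3, 5, 4, 6, 7, 8, 10, 7, 6, 5, 4, 3,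 2, 1, 8, 4, 5, 6, 9, 8, 4, 3, 5, 4]⟩ : Fct)) (lfA (⟨9, [7, 6, 4, 5, 8, 4, 3, 2, 3, 6, 7, 5, 6, 4, 5, 8, 4, 3, 9, 8, 4, 5, 6, 7, 10, 5, 6, 4, 5, 8, 4, 3, 2, 4, 5, 8, 4, 3, 9, 8, 4, 5, 6, 7, 6, 4, 5, 8, 4, 3, 4, 5, 6, 8, 4, 5, 9, 8, 4, 3, 2, 3, 6, 4, 5, 8, 4, 3, 9, 8, 4, 5, 6, 8, 4, 9, 8, 9, 11], 7, [3, 4, 3, 5, 6, 8, 4, 3, 2, 5, 4, 3, 6, 9, 8, 4, 3, 5, 4, 6, 7, 6, 5, 4, 3, 2, 8, 4, 3, 5, 4, 6, 5, 9, 8, 4, 3, 5, 4, 6, 7, 8, 10, 7, 6, 5, 4, 3, 2, 1, 8, 4, 5, 6, 9, 8, 4, 3, 5, 4]⟩ : Fct))) (ndA (nat_lit 103) (lfA (⟨8, [9, 8, 4, 5, 3, 4, 8, 9, 7, 6, 5, 3, 4, 8, 1, 2, 3, 4, 5, 6, 7, 10, 9, 8, 4, 5, 3, 4, 8, 9, 8, 6, 4, 5, 3, 4, 8, 1, 2, 3, 4, 5,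 6, 7, 4, 5, 3, 4, 8, 5, 6, 4, 5, 4, 2, 3, 1], 9, [8, 9, 5, 4, 8, 9, 6, 5, 3, 4, 8, 9, 5, 4, 8, 6, 5, 4, 7, 6, 3, 2, 3, 4, 8, 9, 5, 4, 8, 6, 5, 4, 7, 6, 3, 4, 8, 9, 5, 4, 6, 3, 2, 3, 4, 8, 9, 5, 4, 8, 3, 2, 10, 7, 6, 5, 4, 8, 9, 3, 4, 8, 5, 4, 6, 5, 2, 3, 4, 8, 5, 6, 11, 9, 8, 4, 5, 6, 7, 3, 4, 8, 5, 4, 2, 3, 4, 8, 5, 4, 6, 5, 7, 10]⟩ : Fct)) (lfA (⟨8, [9, 8, 4, 5, 3, 4, 8, 9, 7, 6, 5, 3, 4, 8, 1, 2, 3, 4, 5, 6, 7, 10, 9, 8, 4, 5, 3, 4, 8, 9, 8, 6, 4, 5, 3, 4, 8, 1, 2, 3, 4, 5, 6, 7, 4, 5, 3, 4, 8, 5, 6, 4, 5, 4, 2, 3, 1], 9, [8, 9, 5, 4, 8, 9, 6, 5, 3, 4, 8, 9, 5, 4, 8, 6, 5, 4, 7, 6, 3, 2, 3, 4, 8, 9, 5, 4, 8, 6, 5, 4, 7, 6, 3, 4, 8, 9,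 5, 4, 6, 3, 2, 3, 4, 8, 9, 5, 4, 8, 3, 2, 10, 7, 6, 5, 4, 8, 9, 3, 4, 8, 5, 4, 6, 5, 2, 3, 4, 8, 5, 6, 11, 9, 8, 4, 5, 6, 7, 3, 4, 8, 5, 4, 2, 3, 4, 8, 5, 4, 6, 5, 7, 10]⟩ : Fct))))) (ndA (nat_lit 108) (ndA (nat_lit 106) (ndA (nat_lit 105) (lfA (⟨9, [9, 8, 4, 5, 6, 7, 10, 3, 2, 4, 3, 5, 6, 8, 4, 5, 9, 8, 4, 3, 2, 3, 5, 6, 4, 5, 9, 8, 4, 3, 7, 6, 5, 4, 8, 9, 11, 7, 10, 5, 8, 4, 3, 2, 6, 7, 5, 6, 4, 5, 8, 4, 3, 9, 8, 4, 5, 6, 7, 10, 4, 3, 2, 8, 4, 3, 7, 5, 6, 4, 5, 9, 8, 4, 3, 2, 8, 4, 5, 9, 8, 4, 3, 4, 5, 6, 8, 4, 5, 9, 8, 4, 3, 7, 8, 4, 5, 6, 9, 8, 4, 5, 9], 9, []⟩ : Fct)) (lfA (⟨2, [8, 9, 4, 8, 5, 6, 3, 4, 5, 2, 3, 4, 8, 9, 11], 10, []⟩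 : Fct))) (ndA (nat_lit 107) (lfA (⟨10, [5], 10, []⟩ : Fct)) (lfA (⟨10, [8], 10, []⟩ : Fct)))) (ndA (nat_lit 110) (ndA (nat_lit 109) (lfA (⟨10, [3], 10, []⟩ : Fct)) (lfA (⟨10, [10], 10, []⟩ : Fct))) (ndA (nat_lit 111) (lfA (⟨10, [6, 5, 4, 3, 8, 4, 5, 6, 9, 8, 4, 3, 2, 5, 4, 3, 8, 4, 5, 9, 8, 4, 3, 2], 10, []⟩ : Fct)) (lfA (⟨10, [1, 2, 3, 4, 5, 6, 8, 4, 3, 2, 1, 5, 4, 3, 2, 8, 4, 3, 5, 4, 6, 5, 8, 4, 3, 2, 1, 9, 8, 4, 3, 2, 5, 4, 3, 8, 4, 5, 9, 8, 4, 3, 2], 10, []⟩ : Fct))))))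
noncomputable def FT7 : ℕ → Fct := (ndA (nat_lit 120) (ndA (nat_lit 116) (ndA (nat_lit 114) (ndA (nat_lit 113) (lfA (⟨10, [2, 3, 2, 4, 3, 5, 4, 3, 7, 6, 5, 4, 3, 2, 8, 4, 3, 2, 5, 4, 3, 6, 5, 4, 8, 4, 3, 2, 5, 4, 3, 6, 5, 7, 9, 8, 4, 3, 2, 5, 4, 3, 8, 4, 5, 9, 8, 4, 3, 2], 10, []⟩ : Fct)) (lfA (⟨10, [3, 4, 5, 8, 4, 3, 2, 5, 4, 3, 6, 5, 4, 8, 4, 3, 2, 5, 4, 3, 6, 7, 6, 5, 4, 3, 2, 8, 4, 3, 5, 4, 6, 8, 10, 7, 6, 5, 4, 3, 2, 8, 4, 3, 5, 4, 6, 5, 7, 6, 8, 4, 3, 2, 5, 4, 3, 10, 7, 6], 10, []⟩ : Fct))) (ndA (nat_lit 115) (lfA (⟨10, [3, 2, 4, 3, 5, 4, 6, 5, 7, 8, 4, 3, 5, 4, 6, 5, 7, 6, 8, 4, 3, 5, 4, 9, 8, 4, 3, 5, 4, 6, 5, 7, 6, 8, 4, 3, 2, 5,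 4, 3, 8, 10, 7, 6, 5, 4, 3, 2, 8, 4, 3, 5, 4, 6, 5, 7, 6, 8, 4, 5, 9, 8, 4, 5, 10, 7, 6, 5], 10, []⟩ : Fct)) (lfA (⟨5, [8, 9, 4, 5, 6, 5, 3, 2, 3, 4, 8, 9, 11, 5, 4, 8, 9, 6, 5, 4, 3, 4, 8, 9, 5, 4, 8, 6, 2, 3, 4, 8, 5, 4, 7, 6, 5, 4, 8, 9, 11, 3, 4, 8, 5, 4, 6, 3, 10, 7, 6, 5, 4, 8, 9, 11, 3, 4, 8, 9, 5, 6, 7], 10, [2, 3, 4, 3, 2, 5, 6, 5, 7, 6, 5, 4, 3, 8, 4, 3, 9, 8, 4, 3, 2, 5, 4, 3, 6, 5, 4, 8, 4, 3, 2, 5, 4, 6, 5, 9, 10, 7, 6, 5, 4, 3, 2, 1, 8, 4, 5, 6, 9]⟩ : Fct)))) (ndA (nat_lit 118) (ndA (nat_lit 117) (lfA (⟨5, [8, 9, 4, 5, 6, 5, 3, 2, 3, 4, 8, 9, 11, 5, 4, 8, 9, 6, 5, 4, 3, 4, 8, 9, 5, 4, 8, 6, 2, 3, 4, 8, 5, 4, 7, 6, 5, 4, 8, 9,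 11, 3, 4, 8, 5, 4, 6, 3, 10, 7, 6, 5, 4, 8, 9, 11, 3, 4, 8, 9, 5, 6, 7], 10, [2, 3, 4, 3, 2, 5, 6, 5, 7, 6, 5, 4, 3, 8, 4, 3, 9, 8, 4, 3, 2, 5, 4, 3, 6, 5, 4, 8, 4, 3, 2, 5, 4, 6, 5, 9, 10, 7, 6, 5, 4, 3, 2, 1, 8, 4, 5, 6, 9]⟩ : Fct)) (lfA (⟨2, [8, 9, 4, 8, 9, 5, 4, 6, 3, 4, 8, 9, 5, 4, 8, 6, 3, 4, 2, 3, 4, 8, 9, 5, 4, 8, 6, 5, 4, 7, 6, 5, 3, 4, 8, 5, 4, 6, 3, 2, 3, 4, 10, 7, 6, 5, 4, 8, 11, 9, 8, 4, 5, 6, 7, 3, 4, 8, 9, 5, 4, 6, 5, 2, 3, 4, 8, 9, 11, 5, 4, 8, 6, 10, 7, 6, 5, 4, 8, 3, 2], 10, [3, 4, 7, 6, 5, 4, 3, 2, 8, 4, 3, 2, 5, 4, 3, 6, 5, 7, 6, 8, 4, 3, 5, 4, 9, 8, 4, 3, 2, 5, 4, 3, 6, 5, 4, 7, 6, 5, 8, 4, 3, 2, 5, 4, 8, 9, 8, 4, 3,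 2, 5, 4, 3, 8, 4, 9, 10, 7, 6, 5, 4, 3, 2, 8, 4, 3, 5, 4, 6, 9, 1, 2, 3, 4, 5, 6, 7, 8, 4, 3, 2, 5, 4, 6, 8, 9, 8, 4, 3, 5, 4, 6, 5, 8, 4, 9, 10, 7, 6, 5, 4, 3, 2, 1]⟩ : Fct))) (ndA (nat_lit 119) (lfA (⟨2, [8, 9, 4, 8, 9, 5, 4, 6, 3, 4, 8, 9, 5, 4, 8, 6, 3, 4, 2, 3, 4, 8, 9, 5, 4, 8, 6, 5, 4, 7, 6, 5, 3, 4, 8, 5, 4, 6, 3, 2, 3, 4, 10, 7, 6, 5, 4, 8, 11, 9, 8, 4, 5, 6, 7, 3, 4, 8, 9, 5, 4, 6, 5, 2, 3, 4, 8, 9, 11, 5, 4, 8, 6, 10, 7, 6, 5, 4, 8, 3, 2], 10, [3, 4, 7, 6, 5, 4, 3, 2, 8, 4, 3, 2, 5, 4, 3, 6, 5, 7, 6, 8, 4, 3, 5, 4, 9, 8, 4, 3, 2, 5, 4, 3, 6, 5, 4, 7, 6, 5, 8, 4, 3, 2, 5, 4, 8, 9, 8, 4, 3, 2, 5, 4, 3, 8, 4, 9, 10, 7, 6, 5, 4, 3,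 2, 8, 4, 3, 5, 4, 6, 9, 1, 2, 3, 4, 5, 6, 7, 8, 4, 3, 2, 5, 4, 6, 8, 9, 8, 4, 3, 5, 4, 6, 5, 8, 4, 9, 10, 7, 6, 5, 4, 3, 2, 1]⟩ : Fct)) (lfA (⟨10, [8, 4, 5, 6, 7, 10, 3, 4, 5, 1, 2, 3, 4, 8, 9, 6, 5, 1, 2, 3, 4, 8, 7, 6, 5, 4, 3, 2, 1, 6, 5, 4, 8, 9, 5, 3, 4, 8, 2, 3, 4, 5, 6, 7, 10, 4, 8, 9, 2, 3, 4, 8, 6, 7, 5, 6, 4, 5, 3, 4, 8, 9, 6, 4, 5, 3, 4, 8, 3, 4, 5, 6, 7, 3, 4, 5], 10, []⟩ : Fct))))) (ndA (nat_lit 124) (ndA (nat_lit 122) (ndA (nat_lit 121) (lfA (⟨10, [9, 8, 4, 3, 2, 1], 11, []⟩ : Fct)) (lfA (⟨11, [9], 11, []⟩ : Fct))) (ndA (nat_lit 123) (lfA (⟨11, [4], 11, []⟩ : Fct)) (lfA (⟨11, [10], 11, []⟩ : Fct)))) (ndA (nat_lit 126) (ndA (nat_lit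 125) (lfA (⟨11, [9, 4, 6, 5, 4, 8, 9, 7, 6, 5, 4, 8, 3, 4, 8, 9, 5, 4, 8, 6, 5, 4, 7, 6, 5, 3, 4, 8, 9, 5, 4, 8, 6, 5, 4, 3, 4, 8, 5, 4, 6, 5, 7, 6], 11, []⟩ : Fct)) (lfA (⟨11, [5, 4, 8, 9, 3, 4, 8, 9, 5, 4, 8, 3, 4, 5], 11, []⟩ : Fct))) (ndA (nat_lit 127) (lfA (⟨11, [5, 4, 8, 6, 5, 4, 3, 4, 8, 5, 4, 6, 5, 3, 4, 8, 7, 6, 5, 4, 8, 9, 3, 4, 8, 5, 4, 3, 10, 7, 6, 5, 4, 8, 9, 3, 4, 8, 5, 4, 6, 5, 7, 6, 3, 4, 8, 9, 5, 4, 3, 10, 7, 6, 5, 4], 11, []⟩ : Fct)) (lfA (⟨11, [8, 9, 4, 8, 9, 3, 4, 8, 9, 5, 7, 6, 5, 4, 8, 9, 3, 4, 8, 5, 4, 3, 10, 7, 6, 5, 4, 8, 9, 3, 4, 8, 5, 4, 6, 5, 7, 6, 3, 4, 8, 10, 7], 11, []⟩ : Fct))))))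
noncomputable def FT8 : ℕ → Fct := (ndA (nat_lit 136) (ndA (nat_lit 132) (ndA (nat_lit 130) (ndA (nat_lit 129) (lfA (⟨11, [4, 5, 4, 8, 7, 6, 5, 4, 8, 9, 3, 4, 8, 5, 4, 6, 5, 7, 6, 3, 4, 8, 9, 5, 4, 8, 3, 4, 5, 6, 7, 2, 3, 4, 8, 9, 5, 4, 6, 5, 3, 4, 8, 10, 7, 6, 5, 4, 8, 9, 3, 4, 8, 5, 6, 7, 2, 3, 4, 8, 5, 4, 6, 5, 10, 7], 11, []⟩ : Fct)) (lfA (⟨11, [9, 4, 5, 4, 8, 6, 7, 6, 5, 4, 8, 9, 3, 4, 8, 9, 5, 4, 8, 6, 5, 4, 7, 6, 5, 3, 4, 8, 9, 5, 4, 6, 5, 3, 4, 8, 2, 3, 4, 8, 9, 5, 4, 8, 6, 5, 7, 10, 7, 6, 5, 4, 8, 9, 11, 3, 4, 8, 5, 4, 6, 5, 7, 6, 3, 10], 10, [7, 10, 4, 8, 3, 4, 5, 2, 3, 4, 8, 9, 6, 5, 3, 4, 8, 7, 6, 5, 4, 3, 2, 1, 8, 9, 4, 8, 3,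 4, 5, 6, 7, 10, 3, 4, 8, 9, 7, 5, 6, 4, 5, 3, 4, 8, 4, 5, 6, 7, 5, 6, 5, 3]⟩ : Fct))) (ndA (nat_lit 131) (lfA (⟨11, [9, 4, 5, 4, 8, 6, 7, 6, 5, 4, 8, 9, 3, 4, 8, 9, 5, 4, 8, 6, 5, 4, 7, 6, 5, 3, 4, 8, 9, 5, 4, 6, 5, 3, 4, 8, 2, 3, 4, 8, 9, 5, 4, 8, 6, 5, 7, 10, 7, 6, 5, 4, 8, 9, 11, 3, 4, 8, 5, 4, 6, 5, 7, 6, 3, 10], 10, [7, 10, 4, 8, 3, 4, 5, 2, 3, 4, 8, 9, 6, 5, 3, 4, 8, 7, 6, 5, 4, 3, 2, 1, 8, 9, 4, 8, 3, 4, 5, 6, 7, 10, 3, 4, 8, 9, 7, 5, 6, 4, 5, 3, 4, 8, 4, 5, 6, 7, 5, 6, 5, 3]⟩ : Fct)) (lfA (⟨10, [5, 6, 4, 5, 1, 2, 3, 4, 8, 9, 8, 6, 4, 5, 3, 4, 8, 2, 3, 4, 5, 6, 7, 10, 8, 9, 5, 6, 4, 5, 3, 4, 8, 7, 6, 5, 4, 3, 2, 1, 4, 8, 9, 2, 3, 4,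 8, 4, 5, 6, 3, 4, 5, 2, 3, 4, 8, 9, 8, 6, 7, 4, 5, 6, 3, 4, 5, 2, 3, 4, 8, 5, 6, 7, 3, 4, 5, 6, 4, 5, 3, 4, 3], 11, [9, 4, 3, 4, 8, 9, 5, 4, 8, 6, 5, 3, 4, 8, 2, 3, 4, 8, 9, 5, 4, 8, 6, 5, 3, 4, 5, 6, 7, 6, 5, 4, 8, 9, 3, 4, 8, 5, 4, 6, 5, 7, 6, 3, 2, 3, 4, 8, 5, 4, 10, 7, 6, 5, 4, 8, 9, 11, 3, 4, 8, 5, 4, 6, 5, 3]⟩ : Fct)))) (ndA (nat_lit 134) (ndA (nat_lit 133) (lfA (⟨10, [5, 6, 4, 5, 1, 2, 3, 4, 8, 9, 8, 6, 4, 5, 3, 4, 8, 2, 3, 4, 5, 6, 7, 10, 8, 9, 5, 6, 4, 5, 3, 4, 8, 7, 6, 5, 4, 3, 2, 1, 4, 8, 9, 2, 3, 4, 8, 4, 5, 6, 3, 4, 5, 2, 3, 4, 8, 9, 8, 6, 7, 4, 5, 6, 3, 4, 5, 2, 3, 4, 8, 5, 6, 7, 3, 4, 5, 6, 4, 5, 3, 4, 3], 11, [9, 4, 3, 4,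 8, 9, 5, 4, 8, 6, 5, 3, 4, 8, 2, 3, 4, 8, 9, 5, 4, 8, 6, 5, 3, 4, 5, 6, 7, 6, 5, 4, 8, 9, 3, 4, 8, 5, 4, 6, 5, 7, 6, 3, 2, 3, 4, 8, 5, 4, 10, 7, 6, 5, 4, 8, 9, 11, 3, 4, 8, 5, 4, 6, 5, 3]⟩ : Fct)) (lfA (⟨11, [7, 10, 6, 8, 4, 5, 9, 8, 4, 3, 2, 7, 6, 5, 4, 3, 11, 9, 8, 4, 5, 6, 7, 10, 3, 2, 4, 5, 6, 8, 4, 5, 9, 8, 4, 3, 11, 9, 8, 4, 5, 6, 7, 6, 8, 4, 5, 9, 8, 4, 3, 4, 5, 6, 8, 4, 5, 9, 8, 4, 3, 2, 6, 8, 4, 5, 9, 8, 4, 3, 5, 6, 4, 5], 11, []⟩ : Fct))) (ndA (nat_lit 135) (lfA (⟨4, [4, 3, 7, 6, 5, 4, 3, 2, 8, 4, 3, 2, 5, 4, 3, 6, 5, 4, 7, 8, 4, 5, 9, 8, 4, 3, 2, 5, 4, 6, 5, 7, 8, 4, 3, 9, 8, 4, 5, 1, 2, 3, 4, 5, 6, 7, 8, 4, 3, 5, 4, 8, 9, 10,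 7, 6, 5, 4, 3, 2, 1, 8, 4, 3, 2, 5, 4, 6, 5, 8, 9, 8, 4, 3, 2, 5, 4, 6, 8], 11, [8, 9, 4, 8, 5, 3, 4, 8, 9, 5, 4, 8, 6, 5, 2, 3, 4, 8, 9, 5, 4, 3, 2, 7, 6, 5, 4, 8, 9, 3, 4, 8, 5, 6, 2, 3, 4, 8, 9, 5, 6, 7, 10, 7, 6, 5, 4, 8, 9, 11, 3, 4, 8, 5, 4, 6, 7, 3, 2, 3, 4, 8, 5, 4, 6, 5, 7, 3]⟩ : Fct)) (lfA (⟨4, [4, 3, 7, 6, 5, 4, 3, 2, 8, 4, 3, 2, 5, 4, 3, 6, 5, 4, 7, 8, 4, 5, 9, 8, 4, 3, 2, 5, 4, 6, 5, 7, 8, 4, 3, 9, 8, 4, 5, 1, 2, 3, 4, 5, 6, 7, 8, 4, 3, 5, 4, 8, 9, 10, 7, 6, 5, 4, 3, 2, 1, 8, 4, 3, 2, 5, 4, 6, 5, 8, 9, 8, 4, 3, 2, 5, 4, 6, 8], 11, [8, 9, 4, 8, 5, 3, 4, 8, 9, 5, 4, 8, 6, 5, 2, 3, 4, 8, 9, 5, 4, 3, 2, 7, 6, 5, 4, 8, 9, 3, 4, 8,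 5, 6, 2, 3, 4, 8, 9, 5, 6, 7, 10, 7, 6, 5, 4, 8, 9, 11, 3, 4, 8, 5, 4, 6, 7, 3, 2, 3, 4, 8, 5, 4, 6, 5, 7, 3]⟩ : Fct))))) (ndA (nat_lit 140) (ndA (nat_lit 138) (ndA (nat_lit 137) (lfA (⟨3, [2, 5, 4, 6, 5, 4, 8, 4, 3, 2, 5, 4, 6, 5, 7, 6, 8, 4, 3, 5, 4, 8, 9, 8, 4, 3, 2, 5, 4, 3, 6, 8, 9, 10, 7, 6, 5, 4, 3, 2, 8, 4, 3, 5, 6, 7, 9, 8, 4, 3, 5, 4, 8, 10, 1, 2, 3, 4, 5, 6, 7, 8, 4, 3, 2, 5, 4, 9, 8, 4, 3, 2, 1, 5, 6, 10, 7], 11, [8, 7, 3, 4, 8, 9, 5, 4, 8, 6, 5, 4, 7, 6, 5, 3, 4, 8, 9, 5, 4, 8, 6, 5, 4, 7, 6, 5, 3, 4, 8, 5, 4, 6, 5, 3, 4, 10, 7, 6, 5, 4, 8, 9, 11, 3, 4, 8, 5, 4, 6, 5, 7, 6, 3, 4, 8, 5, 4, 10, 7]⟩ : Fct)) (lfA (⟨3, [2, 5, 4, 6,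 5, 4, 8, 4, 3, 2, 5, 4, 6, 5, 7, 6, 8, 4, 3, 5, 4, 8, 9, 8, 4, 3, 2, 5, 4, 3, 6, 8, 9, 10, 7, 6, 5, 4, 3, 2, 8, 4, 3, 5, 6, 7, 9, 8, 4, 3, 5, 4, 8, 10, 1, 2, 3, 4, 5, 6, 7, 8, 4, 3, 2, 5, 4, 9, 8, 4, 3, 2, 1, 5, 6, 10, 7], 11, [8, 7, 3, 4, 8, 9, 5, 4, 8, 6, 5, 4, 7, 6, 5, 3, 4, 8, 9, 5, 4, 8, 6, 5, 4, 7, 6, 5, 3, 4, 8, 5, 4, 6, 5, 3, 4, 10, 7, 6, 5, 4, 8, 9, 11, 3, 4, 8, 5, 4, 6, 5, 7, 6, 3, 4, 8, 5, 4, 10, 7]⟩ : Fct))) (ndA (nat_lit 139) (lfA (⟨10, [10, 4, 8, 3, 4, 5, 2, 3, 4, 8, 9, 7, 6, 5, 3, 4, 8, 1, 2, 3, 4, 5, 6, 7, 10, 7, 6, 5, 4, 8, 9, 6, 5, 2, 3, 4, 8, 1, 2, 3, 4, 5, 6, 7, 4, 8, 9, 6, 5, 1, 2, 3, 4, 8, 5, 6, 3, 4, 5, 2, 3, 4, 8,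 9, 6, 5, 2, 3, 4, 8, 5, 6, 3, 4, 5, 2, 3, 4, 8, 5, 6, 2, 3, 4, 5, 3, 4, 1], 11, [2, 6, 5, 4, 3, 5, 6, 8, 4, 5, 9, 8, 4, 3, 2, 7, 5, 6, 4, 5, 9, 8, 4, 3, 11, 9, 8, 4, 5, 6, 7, 10, 7, 6, 5, 9, 8, 4, 3, 2, 3, 7, 5, 6, 8, 4, 5, 9, 8, 4, 3, 11, 9, 8, 4, 5, 6, 7, 4, 3, 5, 6, 4, 5, 9, 8, 4, 3, 2, 8, 4, 5, 11, 9, 8, 4, 3, 8, 4, 5, 6, 9, 8, 4, 5, 11, 9, 8, 4, 3, 2, 4, 5, 8, 4, 3, 4, 5, 6, 5, 11, 9, 8, 4, 8]⟩ : Fct)) (lfA (⟨10, [10, 4, 8, 3, 4, 5, 2, 3, 4, 8, 9, 7, 6, 5, 3, 4, 8, 1, 2, 3, 4, 5, 6, 7, 10, 7, 6, 5, 4, 8, 9, 6, 5, 2, 3, 4, 8, 1, 2, 3, 4, 5, 6, 7, 4, 8, 9, 6, 5, 1, 2, 3, 4, 8, 5, 6, 3, 4, 5, 2, 3, 4, 8, 9, 6, 5, 2, 3, 4, 8, 5, 6, 3, 4,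 5, 2, 3, 4, 8, 5, 6, 2, 3, 4, 5, 3, 4, 1], 11, [2, 6, 5, 4, 3, 5, 6, 8, 4, 5, 9, 8, 4, 3, 2, 7, 5, 6, 4, 5, 9, 8, 4, 3, 11, 9, 8, 4, 5, 6, 7, 10, 7, 6, 5, 9, 8, 4, 3, 2, 3, 7, 5, 6, 8, 4, 5, 9, 8, 4, 3, 11, 9, 8, 4, 5, 6, 7, 4, 3, 5, 6, 4, 5, 9, 8, 4, 3, 2, 8, 4, 5, 11, 9, 8, 4, 3, 8, 4, 5, 6, 9, 8, 4, 5, 11, 9, 8, 4, 3, 2, 4, 5, 8, 4, 3, 4, 5, 6, 5, 11, 9, 8, 4, 8]⟩ : Fct)))) (ndA (nat_lit 142) (ndA (nat_lit 141) (lfA (⟨6, [11], 12, []⟩ : Fct)) (lfA (⟨12, [5, 6, 5, 8, 4, 3, 2, 5, 4, 3, 6, 5, 4, 8, 4, 3, 2, 5, 4, 3, 6, 5, 4, 7, 6, 5, 4, 3, 2, 8, 4, 3, 10, 7, 6, 5, 4, 3, 2, 8, 4, 3, 5, 4, 6, 5, 7, 6, 8, 4, 3, 2, 5, 4, 3, 10, 7, 6, 5, 4], 12,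 []⟩ : Fct))) (ndA (nat_lit 143) (lfA (⟨12, [2, 3, 2, 4, 5, 4, 3, 2, 6, 8, 4, 3, 2, 5, 4, 6, 5, 7, 6, 5, 4, 3, 8, 4, 10, 7, 6, 5, 4, 3, 2, 8, 4, 3, 5, 4, 6, 5, 8, 4, 3, 2], 12, []⟩ : Fct)) (lfA (⟨12, [3, 2, 5, 4, 3, 8, 4, 3, 2, 5, 6, 9, 8, 4, 3, 2, 5, 4, 6, 5, 8, 4, 9, 7, 6, 5, 4, 3, 2, 8, 4, 3, 5, 4, 6, 5, 7, 6, 9, 8, 4, 3, 2, 5, 4, 3], 12, []⟩ : Fct))))))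
noncomputable def FT9 : ℕ → Fct := (ndA (nat_lit 152) (ndA (nat_lit 148) (ndA (nat_lit 146) (ndA (nat_lit 145) (lfA (⟨12, [2, 3, 4, 3, 2, 5, 4, 3, 6, 5, 4, 7, 6, 5, 4, 3, 8, 4, 3, 2, 5, 4, 3, 6, 5, 4, 7, 6, 5, 8, 4, 3, 2, 5, 4, 3, 6, 5, 4, 7, 6, 5, 10, 7, 6, 5, 4, 3, 2, 8, 4, 3, 5, 4, 6, 5, 7, 6, 8, 10], 12, []⟩ : Fct)) (lfA (⟨12, [5, 4, 7, 6, 5, 4, 3, 8, 4, 3, 2, 5, 4, 3, 6, 5, 4, 7, 6, 8, 4, 3, 2, 5, 4, 6, 9, 8, 4, 3, 2, 5, 4, 6, 5, 7, 8, 10, 7, 6, 5, 4, 3, 2, 8, 4, 3, 5, 4, 6, 5, 7, 6, 8, 4, 3, 5, 4, 8, 10, 7, 6, 5], 12, []⟩ : Fct))) (ndA (nat_lit 147) (lfA (⟨5, [9, 11, 8, 9, 4, 8, 9, 5, 6, 5, 4, 8, 3, 4, 8, 9, 5, 4, 8, 6, 5, 4, 3, 4,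 2, 3, 4, 8, 9, 11, 5, 4, 6, 5, 3, 2, 7, 6, 5, 4, 8, 9, 11, 3, 4, 8, 9, 5, 4, 6, 2, 3, 4, 8, 9, 11, 5, 4, 8, 6, 5, 3, 4, 8, 9, 11, 2, 3, 10, 7, 6, 5, 4, 8, 9, 11, 3, 4, 8, 9, 5, 4, 6, 5, 2, 3, 4, 8, 9, 5, 4, 8, 6, 7, 3, 4, 5], 12, [3, 2, 4, 3, 5, 6, 5, 4, 3, 2, 7, 6, 5, 4, 3, 8, 4, 3, 2, 5, 4, 3, 6, 7, 8, 9, 8, 4, 3, 2, 5, 4, 3, 6, 5, 7, 6, 8, 4, 3, 5, 4, 6, 8, 9, 8, 4, 3, 5, 10, 7, 6, 5, 4, 3, 2, 1, 8, 4, 3, 5, 4, 6, 7, 9, 8, 4, 3, 5, 4, 6, 8]⟩ : Fct)) (lfA (⟨5, [9, 11, 8, 9, 4, 8, 9, 5, 6, 5, 4, 8, 3, 4, 8, 9, 5, 4, 8, 6, 5, 4, 3, 4, 2, 3, 4, 8, 9, 11, 5, 4, 6, 5, 3, 2, 7, 6, 5, 4, 8, 9, 11, 3, 4, 8, 9, 5, 4, 6, 2, 3, 4, 8, 9, 11, 5, 4,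 8, 6, 5, 3, 4, 8, 9, 11, 2, 3, 10, 7, 6, 5, 4, 8, 9, 11, 3, 4, 8, 9, 5, 4, 6, 5, 2, 3, 4, 8, 9, 5, 4, 8, 6, 7, 3, 4, 5], 12, [3, 2, 4, 3, 5, 6, 5, 4, 3, 2, 7, 6, 5, 4, 3, 8, 4, 3, 2, 5, 4, 3, 6, 7, 8, 9, 8, 4, 3, 2, 5, 4, 3, 6, 5, 7, 6, 8, 4, 3, 5, 4, 6, 8, 9, 8, 4, 3, 5, 10, 7, 6, 5, 4, 3, 2, 1, 8, 4, 3, 5, 4, 6, 7, 9, 8, 4, 3, 5, 4, 6, 8]⟩ : Fct)))) (ndA (nat_lit 150) (ndA (nat_lit 149) (lfA (⟨6, [6, 5, 4, 3, 2, 4, 5, 8, 4, 3, 11, 9, 8, 4, 5, 6, 7, 10, 2, 3, 4, 5, 6, 8, 4, 5, 9, 8, 4, 3, 2, 3, 6, 4, 5, 9, 8, 4, 3, 7, 6, 5, 4, 8, 9, 11, 8, 4, 3, 7, 5, 6, 4, 5, 8, 4, 3, 2, 6, 5, 4, 3, 5, 6, 7, 6, 8, 4, 8], 12, [10, 7, 6, 2, 3, 4, 5, 1, 2,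 3, 4, 8, 9, 5, 6, 4, 5, 3, 4, 8, 1, 2, 3, 4, 5, 6, 7, 10, 9, 7, 6, 5, 4, 8, 3, 4, 5, 2, 3, 4, 8, 9, 4, 5, 6, 3, 4, 5, 2, 3, 4, 8, 1, 2, 3, 4, 5, 6, 7, 5, 4, 8, 9, 5, 3, 4, 8, 5, 6, 3, 4, 5, 1, 2, 3, 4, 8, 9, 2, 3, 4, 8, 5, 6, 4, 5, 1, 2, 3, 4, 8, 6, 5, 3, 2, 1]⟩ : Fct)) (lfA (⟨6, [6, 5, 4, 3, 2, 4, 5, 8, 4, 3, 11, 9, 8, 4, 5, 6, 7, 10, 2, 3, 4, 5, 6, 8, 4, 5, 9, 8, 4, 3, 2, 3, 6, 4, 5, 9, 8, 4, 3, 7, 6, 5, 4, 8, 9, 11, 8, 4, 3, 7, 5, 6, 4, 5, 8, 4, 3, 2, 6, 5, 4, 3, 5, 6, 7, 6, 8, 4, 8], 12, [10, 7, 6, 2, 3, 4, 5, 1, 2, 3, 4, 8, 9, 5, 6, 4, 5, 3, 4, 8, 1, 2, 3, 4, 5, 6, 7, 10, 9, 7, 6, 5, 4, 8, 3, 4, 5, 2, 3, 4, 8, 9, 4, 5, 6, 3, 4, 5, 2,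 3, 4, 8, 1, 2, 3, 4, 5, 6, 7, 5, 4, 8, 9, 5, 3, 4, 8, 5, 6, 3, 4, 5, 1, 2, 3, 4, 8, 9, 2, 3, 4, 8, 5, 6, 4, 5, 1, 2, 3, 4, 8, 6, 5, 3, 2, 1]⟩ : Fct))) (ndA (nat_lit 151) (lfA (⟨12, [2, 3, 4, 3, 6, 5, 4, 3, 7, 8, 4, 3, 2, 5, 4, 3, 6, 5, 4, 7, 6, 8, 4, 3, 5, 6, 9, 8, 4, 3, 2, 5, 4, 3, 6, 5, 4, 7, 6, 8, 4, 3, 2, 5, 4, 6, 10, 7, 6, 1, 2, 3, 4, 5, 6, 7, 8, 4, 3, 2, 5, 4, 6, 8, 9, 8, 4, 3, 2, 1, 5, 4, 3, 2, 6, 5, 4, 8, 4, 3, 2, 9, 8, 4, 10, 7, 6, 5, 4, 3, 2, 8, 4, 3, 9, 8, 4, 5, 6, 7, 10], 12, []⟩ : Fct)) (lfA (⟨12, [7, 10, 4, 8, 9, 6, 5, 4, 8, 7, 6, 5, 4, 3, 2, 1, 5, 3, 4, 8, 9, 6, 5, 4, 8, 3, 4, 5, 6, 7, 10, 9, 8, 4, 5, 3, 4, 8, 9, 5, 3, 4, 8,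 6, 7, 5, 6, 4, 5, 3, 4, 8, 5, 6, 7, 5, 6, 5, 3, 4, 3], 11, [10, 6, 4, 5, 9, 8, 4, 3, 2, 7, 6, 5, 4, 3, 9, 8, 4, 5, 6, 7, 10, 2, 4, 3, 6, 7, 5, 6, 4, 5, 8, 4, 3, 2, 4, 3, 5, 6, 4, 5, 9, 8, 4, 3, 11, 9, 8, 4, 5, 6, 7, 3, 5, 6, 4, 5, 9, 8, 4, 3, 2, 3, 4, 5, 8, 4, 3, 8, 4, 5, 6, 9, 8, 4, 5, 11, 9, 8, 4, 3, 2, 5, 11, 9, 8, 4, 3, 4, 5, 6, 8, 4, 5, 9, 8, 4, 3, 11, 9, 8, 4, 5, 11, 9, 8, 4, 11, 9, 8, 9, 11]⟩ : Fct))))) (ndA (nat_lit 156) (ndA (nat_lit 154) (ndA (nat_lit 153) (lfA (⟨12, [7, 10, 4, 8, 9, 6, 5, 4, 8, 7, 6, 5, 4, 3, 2, 1, 5, 3, 4, 8, 9, 6, 5, 4, 8, 3, 4, 5, 6, 7, 10, 9, 8, 4, 5, 3, 4, 8, 9, 5, 3, 4, 8, 6, 7, 5, 6, 4, 5, 3, 4, 8, 5, 6,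 7, 5, 6, 5, 3, 4, 3], 11, [10, 6, 4, 5, 9, 8, 4, 3, 2, 7, 6, 5, 4, 3, 9, 8, 4, 5, 6, 7, 10, 2, 4, 3, 6, 7, 5, 6, 4, 5, 8, 4, 3, 2, 4, 3, 5, 6, 4, 5, 9, 8, 4, 3, 11, 9, 8, 4, 5, 6, 7, 3, 5, 6, 4, 5, 9, 8, 4, 3, 2, 3, 4, 5, 8, 4, 3, 8, 4, 5, 6, 9, 8, 4, 5, 11, 9, 8, 4, 3, 2, 5, 11, 9, 8, 4, 3, 4, 5, 6, 8, 4, 5, 9, 8, 4, 3, 11, 9, 8, 4, 5, 11, 9, 8, 4, 11, 9, 8, 9, 11]⟩ : Fct)) (lfA (⟨11, [5, 4, 6, 5, 4, 7, 6, 5, 3, 2, 3, 4, 8, 9, 5, 4, 8, 6, 5, 4, 7, 3, 4, 8, 9, 5, 2, 3, 4, 5, 10, 7, 6, 5, 4, 8, 9, 3, 4, 5, 6, 7, 2, 3, 4, 8, 5, 4, 6, 5, 3, 4, 10, 11, 9, 8, 4, 5, 6, 7, 3, 4, 8, 9, 5, 4, 6, 3, 2, 3, 4, 8, 9, 11, 5, 4, 8, 9, 6, 5, 3, 4, 8, 10,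 7, 6, 5, 4, 8, 9, 11, 3, 4, 5], 12, [2, 3, 4, 7, 6, 5, 4, 3, 8, 4, 3, 2, 5, 4, 3, 6, 5, 4, 7, 6, 8, 4, 3, 2, 5, 4, 3, 6, 9, 8, 4, 3, 2, 5, 4, 3, 6, 5, 4, 7, 6, 5, 8, 4, 3, 5, 4, 6, 8, 9, 8, 4, 3, 2, 5, 6, 10, 7, 6, 5, 4, 3, 2, 8, 4, 3, 5, 4, 6, 7, 9, 8, 4, 3, 2, 1, 5, 6, 10, 7]⟩ : Fct))) (ndA (nat_lit 155) (lfA (⟨11, [5, 4, 6, 5, 4, 7, 6, 5, 3, 2, 3, 4, 8, 9, 5, 4, 8, 6, 5, 4, 7, 3, 4, 8, 9, 5, 2, 3, 4, 5, 10, 7, 6, 5, 4, 8, 9, 3, 4, 5, 6, 7, 2, 3, 4, 8, 5, 4, 6, 5, 3, 4, 10, 11, 9, 8, 4, 5, 6, 7, 3, 4, 8, 9, 5, 4, 6, 3, 2, 3, 4, 8, 9, 11, 5, 4, 8, 9, 6, 5, 3, 4, 8, 10, 7, 6, 5, 4, 8, 9, 11, 3, 4, 5], 12, [2, 3, 4, 7, 6, 5, 4, 3, 8, 4, 3,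 2, 5, 4, 3, 6, 5, 4, 7, 6, 8, 4, 3, 2, 5, 4, 3, 6, 9, 8, 4, 3, 2, 5, 4, 3, 6, 5, 4, 7, 6, 5, 8, 4, 3, 5, 4, 6, 8, 9, 8, 4, 3, 2, 5, 6, 10, 7, 6, 5, 4, 3, 2, 8, 4, 3, 5, 4, 6, 7, 9, 8, 4, 3, 2, 1, 5, 6, 10, 7]⟩ : Fct)) (lfA (⟨12, [1, 2, 3, 4, 9, 8, 7, 6, 5, 4, 3, 2, 1], 13, []⟩ : Fct)))) (ndA (nat_lit 158) (ndA (nat_lit 157) (lfA (⟨13, [9, 8, 4, 8, 9, 5, 4, 8, 6, 5, 7, 6, 3, 4, 8, 9, 5, 4, 8, 6, 5, 4, 7, 3, 4, 8, 9, 5, 4, 8, 6, 5, 4, 7, 6, 5, 3, 2, 3, 4, 8, 9, 5, 4, 8, 6, 5, 4, 7, 6, 3, 4, 8, 9, 5, 4, 3, 2, 3, 4, 8, 5, 10, 7, 6, 5, 4, 8, 9, 3, 4, 8, 5, 4, 6, 7, 3, 2, 3, 4, 8, 10], 13, []⟩ : Fct)) (lfA (⟨13, [10, 3, 7, 6, 4, 5, 8, 4, 3, 9,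 8, 4, 5, 6, 7, 10, 4, 5, 9, 8, 4, 3, 2, 4, 5, 9, 8, 4, 3, 6, 7, 4, 5, 6, 8, 4, 5, 9, 8, 4, 3, 2, 7, 5, 6, 4, 5, 8, 4, 3, 4, 5, 6, 8, 4, 5, 9, 8, 4, 3, 8, 4, 5, 6, 8, 4, 9], 13, []⟩ : Fct))) (ndA (nat_lit 159) (lfA (⟨13, [7, 6, 4, 5, 8, 4, 3, 2, 7, 6, 5, 8, 4, 3, 9, 8, 4, 5, 6, 7, 10, 8, 4, 3, 2, 3, 6, 4, 5, 8, 4, 3, 9, 8, 4, 5, 6, 7, 5, 9, 8, 4, 3, 5, 6, 8, 4, 5, 9, 8, 4, 3, 2, 6, 5, 9, 8, 4, 3, 4, 5, 6, 9, 8, 4, 5, 8, 9], 13, []⟩ : Fct)) (lfA (⟨13, [9, 8, 9, 4, 8, 5, 6, 3, 4, 8, 9, 5, 4, 8, 6, 5, 3, 4, 8, 9, 5, 6, 2, 3, 4, 8, 9, 5, 4, 8, 6, 5, 3, 4, 5, 2, 3, 7, 6, 5, 4, 8, 9, 3, 4, 8, 5, 4, 6, 2, 3, 10, 7, 6, 5, 4, 8, 9, 11, 3, 4, 8, 5,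 4, 6, 7, 2, 3, 4, 5, 10], 4, [2, 4, 3, 2, 5, 6, 7, 6, 5, 4, 8, 4, 3, 2, 5, 4, 3, 6, 7, 8, 4, 9, 8, 4, 3, 2, 5, 4, 3, 6, 5, 7, 8, 4, 3, 2, 9, 8, 10, 7, 6, 5, 4, 3, 2, 8, 4, 3, 5, 6, 7, 9, 8, 4, 3, 5, 4, 6, 7, 8, 1, 2, 3, 4, 5, 6, 7, 8, 4, 3, 2, 5, 4, 3, 6, 5, 9, 8, 4, 3, 2, 1, 5, 4, 6, 5, 7, 6, 8, 10, 7]⟩ : Fct))))))
noncomputable def FT10 : ℕ → Fct := (ndA (nat_lit 168) (ndA (nat_lit 164) (ndA (nat_lit 162) (ndA (nat_lit 161) (lfA (⟨13, [9, 8, 9, 4, 8, 5, 6, 3, 4, 8, 9, 5, 4, 8, 6, 5, 3, 4, 8, 9, 5, 6, 2, 3, 4, 8, 9, 5, 4, 8, 6, 5, 3, 4, 5, 2, 3, 7, 6, 5, 4, 8, 9, 3, 4, 8, 5, 4, 6, 2, 3, 10, 7, 6, 5, 4, 8, 9, 11, 3, 4, 8, 5, 4, 6, 7, 2, 3,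 4, 5, 10], 4, [2, 4, 3, 2, 5, 6, 7, 6, 5, 4, 8, 4, 3, 2, 5, 4, 3, 6, 7, 8, 4, 9, 8, 4, 3, 2, 5, 4, 3, 6, 5, 7, 8, 4, 3, 2, 9, 8, 10, 7, 6, 5, 4, 3, 2, 8, 4, 3, 5, 6, 7, 9, 8, 4, 3, 5, 4, 6, 7, 8, 1, 2, 3, 4, 5, 6, 7, 8, 4, 3, 2, 5, 4, 3, 6, 5, 9, 8, 4, 3, 2, 1, 5, 4, 6, 5, 7, 6, 8, 10, 7]⟩ : Fct)) (lfA (⟨12, [7, 10, 9, 4, 8, 6, 7, 5, 6, 4, 5, 3, 4, 8, 2, 3, 4, 5, 6, 7, 10, 8, 6, 4, 5, 2, 3, 4, 8, 9, 5, 6, 4, 5, 2, 3, 4, 8, 7, 6, 5, 4, 3, 2, 1, 8, 4, 5, 3, 4, 8, 9, 4, 5, 2, 3, 4, 8, 5, 6, 7, 4, 5, 6, 3, 4, 5, 2, 3, 4, 8, 9, 8, 7, 6, 4, 5, 3, 4, 8, 6, 7, 6, 4, 5], 13, [7, 6, 5, 4, 3, 5, 6, 8, 4, 5, 9, 8, 4, 3, 2, 5, 6, 4, 5, 9, 8, 4, 3, 11,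 9, 8, 4, 5, 6, 7, 10, 7, 6, 5, 11, 9, 8, 4, 3, 2, 7, 6, 5, 8, 4, 3, 11, 9, 8, 4, 5, 6, 7, 6, 5, 4, 3, 2, 8, 4, 5, 9, 8, 4, 3, 4, 5, 6, 8, 4, 5, 11, 9, 8, 4, 3, 2, 5, 8, 4, 3, 5, 6, 8, 4, 5, 11, 9, 8, 4, 3, 5, 11, 9, 8, 4, 9, 11]⟩ : Fct))) (ndA (nat_lit 163) (lfA (⟨12, [7, 10, 9, 4, 8, 6, 7, 5, 6, 4, 5, 3, 4, 8, 2, 3, 4, 5, 6, 7, 10, 8, 6, 4, 5, 2, 3, 4, 8, 9, 5, 6, 4, 5, 2, 3, 4, 8, 7, 6, 5, 4, 3, 2, 1, 8, 4, 5, 3, 4, 8, 9, 4, 5, 2, 3, 4, 8, 5, 6, 7, 4, 5, 6, 3, 4, 5, 2, 3, 4, 8, 9, 8, 7, 6, 4, 5, 3, 4, 8, 6, 7, 6, 4, 5], 13, [7, 6, 5, 4, 3, 5, 6, 8, 4, 5, 9, 8, 4, 3, 2, 5, 6, 4, 5, 9, 8, 4, 3, 11, 9, 8, 4, 5, 6, 7, 10, 7, 6, 5, 11, 9, 8,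 4, 3, 2, 7, 6, 5, 8, 4, 3, 11, 9, 8, 4, 5, 6, 7, 6, 5, 4, 3, 2, 8, 4, 5, 9, 8, 4, 3, 4, 5, 6, 8, 4, 5, 11, 9, 8, 4, 3, 2, 5, 8, 4, 3, 5, 6, 8, 4, 5, 11, 9, 8, 4, 3, 5, 11, 9, 8, 4, 9, 11]⟩ : Fct)) (lfA (⟨4, [4, 5, 4, 3, 2, 7, 6, 5, 4, 8, 4, 3, 2, 5, 4, 6, 5, 7, 6, 8, 4, 3, 5, 9, 8, 4, 3, 2, 5, 4, 3, 6, 5, 4, 7, 6, 8, 4, 3, 2, 5, 4, 3, 8, 9, 8, 4, 5, 6, 10, 7, 6, 5, 4, 3, 2, 8, 4, 3, 5, 4, 6, 5, 7, 6, 8, 4, 9, 8, 1, 2, 3, 4, 5, 6, 7, 8, 4, 3, 2, 5, 4, 6, 5, 8, 9, 8, 4, 3, 2, 1, 5, 4, 3, 6, 5, 8, 10, 7, 6, 5, 4, 3, 2], 13, [11, 9, 8, 4, 8, 6, 5, 4, 8, 3, 4, 8, 9, 5, 4, 8, 6, 5, 4, 3, 4, 5, 2, 3, 4, 8, 9, 11, 5, 4, 8, 9, 6, 5, 4, 3, 4, 8, 9,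 5, 4, 6, 3, 7, 6, 5, 4, 8, 9, 11, 3, 4, 8, 9, 5, 6, 7, 2, 3, 4, 8, 9, 11, 5, 4, 8, 6, 5, 4, 3, 4, 10, 7, 6, 5, 4, 8, 9, 11, 3, 4, 8, 9, 5, 4, 8, 6, 2, 3, 4, 8, 9, 11, 5, 4, 8, 6, 5, 7, 6, 3, 4, 8, 5, 2, 3, 4, 8, 9, 10, 7, 6, 5]⟩ : Fct)))) (ndA (nat_lit 166) (ndA (nat_lit 165) (lfA (⟨4, [4, 5, 4, 3, 2, 7, 6, 5, 4, 8, 4, 3, 2, 5, 4, 6, 5, 7, 6, 8, 4, 3, 5, 9, 8, 4, 3, 2, 5, 4, 3, 6, 5, 4, 7, 6, 8, 4, 3, 2, 5, 4, 3, 8, 9, 8, 4, 5, 6, 10, 7, 6, 5, 4, 3, 2, 8, 4, 3, 5, 4, 6, 5, 7, 6, 8, 4, 9, 8, 1, 2, 3, 4, 5, 6, 7, 8, 4, 3, 2, 5, 4, 6, 5, 8, 9, 8, 4, 3, 2, 1, 5, 4, 3, 6, 5, 8, 10, 7, 6, 5, 4, 3, 2], 13, [11, 9, 8, 4, 8, 6, 5, 4, 8, 3, 4, 8, 9,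 5, 4, 8, 6, 5, 4, 3, 4, 5, 2, 3, 4, 8, 9, 11, 5, 4, 8, 9, 6, 5, 4, 3, 4, 8, 9, 5, 4, 6, 3, 7, 6, 5, 4, 8, 9, 11, 3, 4, 8, 9, 5, 6, 7, 2, 3, 4, 8, 9, 11, 5, 4, 8, 6, 5, 4, 3, 4, 10, 7, 6, 5, 4, 8, 9, 11, 3, 4, 8, 9, 5, 4, 8, 6, 2, 3, 4, 8, 9, 11, 5, 4, 8, 6, 5, 7, 6, 3, 4, 8, 5, 2, 3, 4, 8, 9, 10, 7, 6, 5]⟩ : Fct)) (lfA (⟨13, [8, 4, 3, 2, 7, 6, 4, 5, 8, 4, 3, 9, 8, 4, 5, 6, 7, 10, 7, 6, 5, 4, 3, 7, 5, 6, 8, 4, 5, 9, 8, 4, 3, 2, 7, 4, 5, 6, 8, 4, 5, 9, 8, 4, 3, 11, 9, 8, 4, 5, 6, 7, 5, 4, 3, 2, 8, 4, 3, 5, 6, 4, 5, 9, 8, 4, 3, 2, 8, 4, 5, 11, 9, 8, 4, 3, 8, 4, 5, 6, 9, 8, 4, 5, 11, 9, 8, 4, 3, 5, 6, 8, 4, 5, 4, 8, 11, 9], 13, []⟩ : Fct))) (ndA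 (nat_lit 167) (lfA (⟨10, [2, 4, 3, 5, 4, 3, 6, 5, 4, 3, 7, 6, 5, 8, 4, 3, 2, 5, 4, 3, 6, 5, 8, 4, 3, 9, 8, 4, 3, 2, 5, 4, 3, 6, 5, 4, 8, 4, 3, 2, 5, 4, 6, 5, 9, 10, 7, 6, 5, 4, 3, 2, 8, 4, 3, 5, 4, 6, 8, 9, 8, 4, 3, 5, 4, 6, 1, 2, 3, 4, 5, 6, 7, 8, 4, 3, 2, 5, 4, 6, 9, 8, 4, 3, 2, 5, 4, 3, 6, 5, 7, 8, 4, 9, 10, 7, 6, 5, 4, 3, 2, 1, 8, 4, 5, 6, 9], 13, [8, 4, 5, 4, 8, 3, 4, 8, 9, 5, 4, 8, 3, 4, 5, 6, 2, 3, 4, 8, 9, 5, 4, 8, 6, 5, 4, 3, 4, 5, 6, 2, 3, 4, 7, 6, 5, 4, 8, 3, 4, 5, 6, 10, 7, 6, 5, 4, 8, 9, 3, 4, 8, 5, 4, 6, 7, 3, 2, 3, 4, 8, 9, 11, 5, 4, 6]⟩ : Fct)) (lfA (⟨10, [2, 4, 3, 5, 4, 3, 6, 5, 4, 3, 7, 6, 5, 8, 4, 3, 2, 5, 4, 3, 6, 5, 8,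 4, 3, 9, 8, 4, 3, 2, 5, 4, 3, 6, 5, 4, 8, 4, 3, 2, 5, 4, 6, 5, 9, 10, 7, 6, 5, 4, 3, 2, 8, 4, 3, 5, 4, 6, 8, 9, 8, 4, 3, 5, 4, 6, 1, 2, 3, 4, 5, 6, 7, 8, 4, 3, 2, 5, 4, 6, 9, 8, 4, 3, 2, 5, 4, 3, 6, 5, 7, 8, 4, 9, 10, 7, 6, 5, 4, 3, 2, 1, 8, 4, 5, 6, 9], 13, [8, 4, 5, 4, 8, 3, 4, 8, 9, 5, 4, 8, 3, 4, 5, 6, 2, 3, 4, 8, 9, 5, 4, 8, 6, 5, 4, 3, 4, 5, 6, 2, 3, 4, 7, 6, 5, 4, 8, 3, 4, 5, 6, 10, 7, 6, 5, 4, 8, 9, 3, 4, 8, 5, 4, 6, 7, 3, 2, 3, 4, 8, 9, 11, 5, 4, 6]⟩ : Fct))))) (ndA (nat_lit 172) (ndA (nat_lit 170) (ndA (nat_lit 169) (lfA (⟨7, [9, 8, 5, 6, 3, 4, 5, 1, 2, 3, 4, 8, 9, 4, 8, 7, 6, 3, 4, 5, 2, 3, 4, 8, 1, 2, 3, 4, 5, 6, 7, 10, 9, 4,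 8, 7, 5, 6, 4, 5, 2, 3, 4, 8, 9, 8, 7, 6, 3, 4, 5, 2, 3, 4, 8, 1, 2, 3, 4, 5, 6, 7, 4, 5, 2, 3, 4, 8, 9, 5, 6, 4, 5, 1, 2, 3, 4, 8, 5, 6, 2, 3, 4, 5, 1, 2, 3, 4, 8, 9, 8, 4, 5, 1, 2, 3, 4, 8, 3, 4, 5, 6, 2, 3, 4, 5, 1, 2, 3, 4, 8, 2, 3, 4, 2, 3], 13, [9, 8, 9, 4, 8, 6, 5, 4, 8, 3, 4, 5, 6, 2, 3, 4, 8, 9, 5, 4, 8, 6, 5, 4, 3, 4, 8, 2, 3, 4, 7, 6, 5, 4, 8, 3, 4, 5, 6, 7, 2, 3, 4, 8, 5, 4, 6, 5, 3, 10, 7, 6, 5, 4, 8, 9, 11, 3, 4, 8, 5, 4, 6, 5, 2]⟩ : Fct)) (lfA (⟨7, [9, 8, 5, 6, 3, 4, 5, 1, 2, 3, 4, 8, 9, 4, 8, 7, 6, 3, 4, 5, 2, 3, 4, 8, 1, 2, 3, 4, 5, 6, 7, 10, 9, 4, 8, 7, 5, 6, 4, 5, 2, 3, 4, 8, 9, 8, 7, 6, 3, 4, 5, 2, 3, 4, 8, 1, 2, 3, 4,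 5, 6, 7, 4, 5, 2, 3, 4, 8, 9, 5, 6, 4, 5, 1, 2, 3, 4, 8, 5, 6, 2, 3, 4, 5, 1, 2, 3, 4, 8, 9, 8, 4, 5, 1, 2, 3, 4, 8, 3, 4, 5, 6, 2, 3, 4, 5, 1, 2, 3, 4, 8, 2, 3, 4, 2, 3], 13, [9, 8, 9, 4, 8, 6, 5, 4, 8, 3, 4, 5, 6, 2, 3, 4, 8, 9, 5, 4, 8, 6, 5, 4, 3, 4, 8, 2, 3, 4, 7, 6, 5, 4, 8, 3, 4, 5, 6, 7, 2, 3, 4, 8, 5, 4, 6, 5, 3, 10, 7, 6, 5, 4, 8, 9, 11, 3, 4, 8, 5, 4, 6, 5, 2]⟩ : Fct))) (ndA (nat_lit 171) (lfA (⟨13, [3, 6, 4, 5, 8, 4, 3, 2, 5, 6, 4, 5, 8, 4, 3, 9, 8, 4, 5, 6, 7, 10, 6, 4, 5, 9, 8, 4, 3, 2, 3, 7, 6, 4, 5, 8, 4, 3, 9, 8, 4, 5, 6, 7, 2, 4, 3, 5, 6, 8, 4, 5, 9, 8, 4, 3, 2, 3, 9, 8, 4, 5, 6, 9, 8, 4, 8, 11], 10, [2, 3, 4, 5, 4, 3, 2,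 6, 5, 4, 3, 8, 4, 3, 2, 1, 9, 8, 4, 3, 2, 1, 5, 4, 3, 2, 6, 5, 4, 3, 8, 4, 3, 2, 1, 5, 4, 6, 9, 8, 4, 3, 7, 6, 5, 4, 3, 2, 1, 8, 4, 3, 2, 5, 6, 9, 8, 4, 3, 5, 4, 6, 5, 7, 6, 8, 4, 5, 9, 8, 4, 3, 10, 7, 6, 5, 4, 3, 2, 1, 8, 4, 3, 2, 5, 4, 6, 5, 9, 8, 4, 3, 2, 5, 4, 3, 6, 5, 7, 6, 8, 4, 3, 5, 9, 8, 4, 5, 10]⟩ : Fct)) (lfA (⟨13, [3, 6, 4, 5, 8, 4, 3, 2, 5, 6, 4, 5, 8, 4, 3, 9, 8, 4, 5, 6, 7, 10, 6, 4, 5, 9, 8, 4, 3, 2, 3, 7, 6, 4, 5, 8, 4, 3, 9, 8, 4, 5, 6, 7, 2, 4, 3, 5, 6, 8, 4, 5, 9, 8, 4, 3, 2, 3, 9, 8, 4, 5, 6, 9, 8, 4, 8, 11], 10, [2, 3, 4, 5, 4, 3, 2, 6, 5, 4, 3, 8, 4, 3, 2, 1, 9, 8, 4, 3, 2, 1, 5, 4, 3, 2, 6, 5, 4, 3, 8, 4, 3, 2, 1,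 5, 4, 6, 9, 8, 4, 3, 7, 6, 5, 4, 3, 2, 1, 8, 4, 3, 2, 5, 6, 9, 8, 4, 3, 5, 4, 6, 5, 7, 6, 8, 4, 5, 9, 8, 4, 3, 10, 7, 6, 5, 4, 3, 2, 1, 8, 4, 3, 2, 5, 4, 6, 5, 9, 8, 4, 3, 2, 5, 4, 3, 6, 5, 7, 6, 8, 4, 3, 5, 9, 8, 4, 5, 10]⟩ : Fct)))) (ndA (nat_lit 174) (ndA (nat_lit 173) (lfA (⟨13, [10, 3, 2, 8, 4, 3, 7, 5, 6, 4, 5, 9, 8, 4, 3, 2, 5, 6, 4, 5, 9, 8, 4, 3, 11, 9, 8, 4, 5, 6, 7, 10, 2, 9, 8, 4, 3, 8, 4, 5, 6, 9, 8, 4, 5, 11, 9, 8, 4, 3, 2, 3, 6, 4, 5, 9, 8, 4, 3, 7, 6, 5, 4, 8, 9, 11, 8, 4, 3, 2, 5, 6, 4, 5, 8, 4, 3, 7, 4, 5, 6, 8, 4, 5, 9, 8, 4, 3, 2, 7, 6, 5, 4, 3, 7, 6, 8, 4, 5, 9, 8, 4, 3, 7, 5, 6, 5, 8, 4, 8, 9], 12, [6, 5, 4, 8, 3, 4,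 5, 6, 7, 10, 8, 9, 3, 4, 8, 5, 6, 3, 4, 5, 2, 3, 4, 8, 9, 6, 3, 4, 5, 2, 3, 4, 8, 7, 6, 5, 4, 3, 2, 1, 6, 7, 5, 6, 4, 5, 2, 3, 4, 8, 9, 8, 6, 4, 5, 3, 4, 8, 2, 3, 4, 5, 6, 7, 10, 6, 5, 4, 8, 9, 6, 5, 3, 4, 8, 7, 4, 5, 6, 3, 4, 5, 2, 3, 4, 8, 9, 2, 3, 4, 8, 6, 7, 5, 6, 4, 5, 3, 4, 8, 4, 5, 6, 7, 6, 5, 3, 4, 3]⟩ : Fct)) (lfA (⟨13, [10, 3, 2, 8, 4, 3, 7, 5, 6, 4, 5, 9, 8, 4, 3, 2, 5, 6, 4, 5, 9, 8, 4, 3, 11, 9, 8, 4, 5, 6, 7, 10, 2, 9, 8, 4, 3, 8, 4, 5, 6, 9, 8, 4, 5, 11, 9, 8, 4, 3, 2, 3, 6, 4, 5, 9, 8, 4, 3, 7, 6, 5, 4, 8, 9, 11, 8, 4, 3, 2, 5, 6, 4, 5, 8, 4, 3, 7, 4, 5, 6, 8, 4, 5, 9, 8, 4, 3, 2, 7, 6, 5, 4, 3, 7, 6, 8, 4, 5, 9, 8, 4, 3,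 7, 5, 6, 5, 8, 4, 8, 9], 12, [6, 5, 4, 8, 3, 4, 5, 6, 7, 10, 8, 9, 3, 4, 8, 5, 6, 3, 4, 5, 2, 3, 4, 8, 9, 6, 3, 4, 5, 2, 3, 4, 8, 7, 6, 5, 4, 3, 2, 1, 6, 7, 5, 6, 4, 5, 2, 3, 4, 8, 9, 8, 6, 4, 5, 3, 4, 8, 2, 3, 4, 5, 6, 7, 10, 6, 5, 4, 8, 9, 6, 5, 3, 4, 8, 7, 4, 5, 6, 3, 4, 5, 2, 3, 4, 8, 9, 2, 3, 4, 8, 6, 7, 5, 6, 4, 5, 3, 4, 8, 4, 5, 6, 7, 6, 5, 3, 4, 3]⟩ : Fct))) (ndA (nat_lit 175) (lfA (⟨2, [11, 8, 9, 11, 4, 8, 9, 5, 4, 6, 5, 4, 3, 4, 8, 9, 11, 5, 4, 8, 9, 6, 5, 3, 4, 8, 5, 4, 6, 5, 2, 3, 4, 8, 9, 11, 5, 4, 8, 9, 6, 5, 3, 4, 8, 5, 4, 2, 7, 6, 5, 4, 8, 9, 11, 3, 4, 8, 9, 5, 4, 8, 6, 5, 7, 2, 3, 4, 8, 9, 5, 4, 8, 6, 5, 4, 10, 7, 6, 5, 4,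 8, 9, 11, 3, 4, 8, 5, 4, 6, 5, 7, 6, 2, 3, 4, 8, 5, 6, 10, 7], 7, [1, 2, 3, 5, 4, 6, 5, 8, 4, 3, 2, 1, 5, 4, 3, 2, 8, 4, 3, 5, 4, 6, 5, 8, 4, 3, 9, 8, 4, 3, 2, 1, 5, 4, 3, 2, 6, 8, 4, 3, 5, 4, 8, 7, 6, 5, 4, 3, 2, 1, 8, 4, 3, 2, 5, 4, 6, 7, 9, 8, 4, 3, 2, 5, 4, 6, 5, 8, 4, 3, 2, 9, 8, 4, 3, 10, 7, 6, 5, 4, 3, 2, 1, 8, 4, 3, 2, 5, 4, 6, 9, 8, 4, 3, 2, 5, 4, 3, 6, 5, 4, 7, 6, 8, 4, 5, 6, 9, 8]⟩ : Fct)) (lfA (⟨2, [11, 8, 9, 11, 4, 8, 9, 5, 4, 6, 5, 4, 3, 4, 8, 9, 11, 5, 4, 8, 9, 6, 5, 3, 4, 8, 5, 4, 6, 5, 2, 3, 4, 8, 9, 11, 5, 4, 8, 9, 6, 5, 3, 4, 8, 5, 4, 2, 7, 6, 5, 4, 8, 9, 11, 3, 4, 8, 9, 5, 4, 8, 6, 5, 7, 2, 3, 4, 8, 9, 5, 4, 8, 6, 5, 4,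 10, 7, 6, 5, 4, 8, 9, 11, 3, 4, 8, 5, 4, 6, 5, 7, 6, 2, 3, 4, 8, 5, 6, 10, 7], 7, [1, 2, 3, 5, 4, 6, 5, 8, 4, 3, 2, 1, 5, 4, 3, 2, 8, 4, 3, 5, 4, 6, 5, 8, 4, 3, 9, 8, 4, 3, 2, 1, 5, 4, 3, 2, 6, 8, 4, 3, 5, 4, 8, 7, 6, 5, 4, 3, 2, 1, 8, 4, 3, 2, 5, 4, 6, 7, 9, 8, 4, 3, 2, 5, 4, 6, 5, 8, 4, 3, 2, 9, 8, 4, 3, 10, 7, 6, 5, 4, 3, 2, 1, 8, 4, 3, 2, 5, 4, 6, 9, 8, 4, 3, 2, 5, 4, 3, 6, 5, 4, 7, 6, 8, 4, 5, 6, 9, 8]⟩ : Fct))))))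
noncomputable def FT11 : ℕ → Fct := (ndA (nat_lit 184) (ndA (nat_lit 180) (ndA (nat_lit 178) (ndA (nat_lit 177) (lfA (⟨10, [2, 4, 3, 6, 5, 4, 8, 7, 6, 5, 4, 3, 2, 1], 14, []⟩ : Fct)) (lfA (⟨14, [9, 8, 4, 8, 5, 4, 8, 6, 5, 7, 6, 5, 3, 4, 8, 9, 5, 4, 8, 6, 5, 4, 7, 6, 3, 4, 8, 9, 5, 4, 8, 6, 5, 4, 7, 6, 5, 3, 4, 8, 9, 5, 6, 7], 14, []⟩ : Fct))) (ndA (nat_lit 179) (lfA (⟨14, [9, 8, 9, 4, 5, 4, 8, 9, 6, 5, 4, 8, 7, 6, 3, 4, 8, 9, 5, 4, 8, 6, 5, 4, 7, 6, 5, 3, 4, 8, 9, 5, 4, 8, 6, 5, 4, 7, 6, 5, 3, 4, 8, 9, 5, 4, 6, 3, 10, 7, 6, 5, 4, 8, 3, 4, 5, 6, 7, 10], 14, []⟩ : Fct)) (lfA (⟨14, [4, 5, 4, 8, 9, 6, 3, 4, 8, 9, 5, 4, 8, 6, 5, 4, 3, 4, 8, 9,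 5, 7, 6, 5, 4, 8, 9, 3, 4, 5, 6, 10, 7, 6, 5, 4, 8, 9, 3, 4, 8, 5, 4, 6, 5, 7, 6, 3, 4, 8, 9, 5, 4, 8, 3, 10], 14, []⟩ : Fct)))) (ndA (nat_lit 182) (ndA (nat_lit 181) (lfA (⟨14, [5, 6, 5, 3, 4, 5, 2, 3, 4, 8, 5, 4, 6, 5, 3, 4, 8, 2, 3, 4, 7, 6, 5, 4, 8, 3, 4, 5, 6, 10, 7, 6, 5, 4, 3, 2], 14, []⟩ : Fct)) (lfA (⟨14, [9, 4, 8, 5, 6, 3, 4, 5, 6, 2, 3, 4, 8, 9, 5, 4, 8, 6, 5, 4, 3, 4, 8, 9, 5, 4, 8, 6, 5, 7, 6, 5, 4, 8, 9, 3, 4, 8, 5, 4, 6, 5, 7, 6, 3, 4, 8, 9, 5, 4, 3, 10, 7, 6, 5, 4, 8, 3, 4, 5, 6, 7, 2, 3, 4, 10], 14, []⟩ : Fct))) (ndA (nat_lit 183) (lfA (⟨14, [10, 8, 4, 3, 2, 7, 6, 5, 4, 3, 8, 4, 5, 6, 7, 10, 3, 6, 7, 5, 6, 4, 5, 9, 8, 4,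 3, 2, 3, 4, 5, 8, 4, 3, 9, 8, 4, 5, 6, 7, 3, 2, 9, 8, 4, 3, 5, 6, 8, 4, 5, 9, 8, 4, 3, 2, 3, 6, 4, 5, 9, 8, 4, 3, 4, 5, 8, 4, 8, 9, 11], 4, [2, 1, 3, 5, 4, 3, 6, 5, 4, 3, 8, 4, 3, 2, 5, 6, 9, 8, 4, 3, 2, 1, 5, 4, 3, 2, 6, 5, 4, 8, 4, 3, 2, 1, 5, 9, 8, 4, 3, 5, 4, 8, 9, 7, 6, 5, 4, 3, 2, 1, 8, 4, 3, 2, 5, 4, 6, 8, 9, 8, 4, 3, 5, 4, 6, 8, 9, 10, 7, 6, 5, 4, 3, 2, 1, 8, 4, 3, 2, 5, 4, 3, 6, 9, 8, 4, 3, 2, 5, 4, 6, 5, 7, 8, 4, 3, 10]⟩ : Fct)) (lfA (⟨14, [10, 8, 4, 3, 2, 7, 6, 5, 4, 3, 8, 4, 5, 6, 7, 10, 3, 6, 7, 5, 6, 4, 5, 9, 8, 4, 3, 2, 3, 4, 5, 8, 4, 3, 9, 8, 4, 5, 6, 7, 3, 2, 9, 8, 4, 3, 5, 6, 8, 4, 5, 9, 8, 4, 3, 2, 3, 6, 4, 5, 9, 8, 4,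 3, 4, 5, 8, 4, 8, 9, 11], 4, [2, 1, 3, 5, 4, 3, 6, 5, 4, 3, 8, 4, 3, 2, 5, 6, 9, 8, 4, 3, 2, 1, 5, 4, 3, 2, 6, 5, 4, 8, 4, 3, 2, 1, 5, 9, 8, 4, 3, 5, 4, 8, 9, 7, 6, 5, 4, 3, 2, 1, 8, 4, 3, 2, 5, 4, 6, 8, 9, 8, 4, 3, 5, 4, 6, 8, 9, 10, 7, 6, 5, 4, 3, 2, 1, 8, 4, 3, 2, 5, 4, 3, 6, 9, 8, 4, 3, 2, 5, 4, 6, 5, 7, 8, 4, 3, 10]⟩ : Fct))))) (ndA (nat_lit 188) (ndA (nat_lit 186) (ndA (nat_lit 185) (lfA (⟨4, [10, 7, 6, 5, 4, 8, 3, 4, 5, 6, 7, 10, 9, 5, 4, 8, 2, 3, 4, 5, 1, 2, 3, 4, 8, 9, 6, 4, 5, 1, 2, 3, 4, 8, 7, 6, 5, 4, 3, 2, 1, 9, 8, 5, 6, 4, 5, 3, 4, 8, 2, 3, 4, 5, 6, 7, 10, 5, 4, 8, 6, 7, 5, 6, 4, 5, 2, 3, 4, 8, 9, 4, 5, 6, 3, 4, 5, 2, 3, 4,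 8, 7, 4, 5, 6, 3, 4, 5, 2, 3, 4, 8, 6, 2, 3, 4, 5, 3, 2], 14, [9, 8, 4, 8, 9, 5, 6, 3, 4, 8, 5, 4, 2, 3, 4, 8, 9, 5, 4, 8, 6, 5, 4, 3, 4, 8, 2, 3, 4, 7, 6, 5, 4, 8, 9, 3, 4, 8, 5, 2, 3, 4, 5, 6, 7, 10, 7, 6, 5, 4, 8, 9, 11, 3, 4, 8, 5, 4, 6, 7, 3, 2, 3, 4, 8, 5, 4, 6, 7, 3]⟩ : Fct)) (lfA (⟨4, [10, 7, 6, 5, 4, 8, 3, 4, 5, 6, 7, 10, 9, 5, 4, 8, 2, 3, 4, 5, 1, 2, 3, 4, 8, 9, 6, 4, 5, 1, 2, 3, 4, 8, 7, 6, 5, 4, 3, 2, 1, 9, 8, 5, 6, 4, 5, 3, 4, 8, 2, 3, 4, 5, 6, 7, 10, 5, 4, 8, 6, 7, 5, 6, 4, 5, 2, 3, 4, 8, 9, 4, 5, 6, 3, 4, 5, 2, 3, 4, 8, 7, 4, 5, 6, 3, 4, 5, 2, 3, 4, 8, 6, 2, 3, 4, 5, 3, 2], 14, [9, 8, 4, 8, 9, 5, 6, 3, 4, 8, 5, 4, 2, 3, 4,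 8, 9, 5, 4, 8, 6, 5, 4, 3, 4, 8, 2, 3, 4, 7, 6, 5, 4, 8, 9, 3, 4, 8, 5, 2, 3, 4, 5, 6, 7, 10, 7, 6, 5, 4, 8, 9, 11, 3, 4, 8, 5, 4, 6, 7, 3, 2, 3, 4, 8, 5, 4, 6, 7, 3]⟩ : Fct))) (ndA (nat_lit 187) (lfA (⟨14, [11, 9, 8, 4, 8, 6, 5, 3, 4, 5, 2, 3, 4, 8, 9, 5, 4, 8, 6, 5, 4, 3, 4, 5, 2, 3, 7, 6, 5, 4, 8, 9, 3, 4, 8, 5, 4, 2, 3, 4, 8, 5, 4, 6, 7, 10, 7, 6, 5, 4, 8, 9, 11, 3, 4, 8, 5, 6, 7, 2, 3, 4, 8, 5, 6, 10], 14, []⟩ : Fct)) (lfA (⟨14, [9, 8, 5, 4, 6, 7, 6, 5, 4, 8, 3, 4, 8, 9, 5, 4, 8, 3, 4, 5, 6, 2, 3, 4, 8, 9, 5, 4, 8, 6, 5, 4, 7, 6, 5, 3, 4, 8, 5, 4, 6, 3, 2, 3, 4, 8, 9, 5, 4, 8, 6, 3, 4, 10, 7, 6, 5, 4, 8, 9, 3, 4, 8, 5, 6, 2, 3, 4, 8,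 9, 11], 12, [2, 3, 4, 5, 7, 6, 5, 8, 4, 3, 2, 5, 4, 6, 5, 7, 6, 8, 4, 3, 2, 5, 4, 3, 8, 4, 9, 8, 4, 3, 2, 5, 4, 3, 6, 5, 7, 6, 8, 4, 3, 2, 5, 4, 3, 8, 9, 8, 4, 3, 2, 10, 7, 6, 5, 4, 3, 2, 8, 4, 3, 5, 4, 9, 8, 4, 3, 2, 5, 4, 3, 6, 7, 10, 1, 2, 3, 4, 5, 6, 7, 8, 4, 3, 2, 5, 4, 6, 5, 9, 8, 4, 3, 2, 5, 4, 6, 5, 8, 4, 3, 9, 10, 7, 6, 5, 4, 3, 2, 1, 8]⟩ : Fct)))) (ndA (nat_lit 190) (ndA (nat_lit 189) (lfA (⟨14, [9, 8, 5, 4, 6, 7, 6, 5, 4, 8, 3, 4, 8, 9, 5, 4, 8, 3, 4, 5, 6, 2, 3, 4, 8, 9, 5, 4, 8, 6, 5, 4, 7, 6, 5, 3, 4, 8, 5, 4, 6, 3, 2, 3, 4, 8, 9, 5, 4, 8, 6, 3, 4, 10, 7, 6, 5, 4, 8, 9, 3, 4, 8, 5, 6, 2, 3, 4, 8, 9, 11], 12, [2, 3, 4, 5, 7,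 6, 5, 8, 4, 3, 2, 5, 4, 6, 5, 7, 6, 8, 4, 3, 2, 5, 4, 3, 8, 4, 9, 8, 4, 3, 2, 5, 4, 3, 6, 5, 7, 6, 8, 4, 3, 2, 5, 4, 3, 8, 9, 8, 4, 3, 2, 10, 7, 6, 5, 4, 3, 2, 8, 4, 3, 5, 4, 9, 8, 4, 3, 2, 5, 4, 3, 6, 7, 10, 1, 2, 3, 4, 5, 6, 7, 8, 4, 3, 2, 5, 4, 6, 5, 9, 8, 4, 3, 2, 5, 4, 6, 5, 8, 4, 3, 9, 10, 7, 6, 5, 4, 3, 2, 1, 8]⟩ : Fct)) (lfA (⟨11, [11, 9, 8, 9, 4, 6, 3, 4, 8, 5, 4, 2, 3, 7, 6, 5, 4, 8, 9, 11], 15, []⟩ : Fct))) (ndA (nat_lit 191) (lfA (⟨15, [3, 6, 7, 6, 8, 4, 3, 5, 4, 6, 5, 7, 6, 8, 4, 3, 5, 4, 8, 9, 8, 4, 3, 5, 4, 6, 5, 7, 6, 8, 4, 5, 10, 7, 6, 5, 4, 3, 8, 4, 5, 6, 7, 9, 8, 4, 3, 5, 4, 6, 5, 8, 4, 3, 10, 7, 6, 5, 4, 8], 15, []⟩ :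 Fct)) (lfA (⟨15, [8, 4, 5, 2, 3, 4, 8, 6, 7, 5, 6, 4, 5, 3, 4, 8, 2, 3, 4, 5, 6, 7, 10, 8, 7, 6, 4, 5, 3, 4, 8, 2, 3, 4, 5, 6, 7, 4, 5, 2, 3, 4, 8, 4, 5, 6, 3, 4, 5, 2, 3, 4, 8, 9, 2, 3, 4, 8, 4, 3], 15, []⟩ : Fct))))))
noncomputable def FT12 : ℕ → Fct := (ndA (nat_lit 200) (ndA (nat_lit 196) (ndA (nat_lit 194) (ndA (nat_lit 193) (lfA (⟨15, [7, 10, 6, 5, 4, 8, 9, 7, 6, 5, 4, 8, 3, 4, 5, 6, 7, 9, 4, 8, 5, 6, 4, 5, 3, 4, 8, 9, 4, 8, 5, 6, 4, 5, 3, 4, 8, 4, 5, 6, 3, 4], 15, []⟩ : Fct)) (lfA (⟨5, [8, 9, 4, 5, 4, 8, 9, 11, 6, 5, 4, 8, 3, 4, 8, 9, 11, 5, 4, 8, 6, 5, 4, 3, 4, 8, 5, 4, 6, 2, 3, 4, 8, 9, 11, 5, 4, 8, 9, 6, 5, 4, 3, 4, 8, 9, 5, 4,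 8, 2, 3, 4, 8, 9, 11, 5, 4, 7, 6, 5, 4, 8, 3, 4, 5, 6, 2, 3, 4, 8, 9, 11, 5, 4, 10, 7, 6, 5, 4, 8, 9, 11, 3, 4, 8, 9, 5, 4, 8, 6, 7, 2, 3, 4, 8, 9, 11, 5, 4, 8, 9, 6, 7, 10], 15, [3, 2, 4, 3, 5, 4, 3, 6, 8, 4, 3, 2, 5, 4, 3, 6, 5, 8, 4, 9, 8, 4, 3, 2, 5, 4, 3, 6, 8, 7, 6, 5, 4, 3, 2, 1, 8, 4, 3, 5, 4, 6, 5, 7, 6, 9, 8, 4, 3, 5, 4, 6, 5, 7, 6, 8, 4, 3, 10, 7, 6, 5, 4, 3, 8, 4, 5, 6, 7, 9, 8, 10]⟩ : Fct))) (ndA (nat_lit 195) (lfA (⟨5, [8, 9, 4, 5, 4, 8, 9, 11, 6, 5, 4, 8, 3, 4, 8, 9, 11, 5, 4, 8, 6, 5, 4, 3, 4, 8, 5, 4, 6, 2, 3, 4, 8, 9, 11, 5, 4, 8, 9, 6, 5, 4, 3, 4, 8, 9, 5, 4, 8, 2, 3, 4, 8, 9, 11, 5, 4, 7, 6, 5, 4, 8, 3, 4, 5, 6, 2, 3,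 4, 8, 9, 11, 5, 4, 10, 7, 6, 5, 4, 8, 9, 11, 3, 4, 8, 9, 5, 4, 8, 6, 7, 2, 3, 4, 8, 9, 11, 5, 4, 8, 9, 6, 7, 10], 15, [3, 2, 4, 3, 5, 4, 3, 6, 8, 4, 3, 2, 5, 4, 3, 6, 5, 8, 4, 9, 8, 4, 3, 2, 5, 4, 3, 6, 8, 7, 6, 5, 4, 3, 2, 1, 8, 4, 3, 5, 4, 6, 5, 7, 6, 9, 8, 4, 3, 5, 4, 6, 5, 7, 6, 8, 4, 3, 10, 7, 6, 5, 4, 3, 8, 4, 5, 6, 7, 9, 8, 10]⟩ : Fct)) (lfA (⟨11, [9, 8, 4, 5, 4, 8, 9, 6, 5, 4, 8, 2, 3, 4, 8, 9, 11, 5, 4, 8, 9, 6, 5, 4, 8, 3, 4, 8, 9, 5, 4, 6, 2, 3, 4, 8, 5, 6, 7, 6, 5, 4, 8, 9, 11, 3, 4, 8, 9, 5, 4, 6, 5, 3, 4, 2, 3, 4, 8, 5, 4, 6, 5, 3, 4, 8, 9, 2, 3, 10, 7, 6, 5, 4, 8, 9, 11, 3, 4, 8, 9, 5, 6, 7, 2, 3, 4, 8, 5, 4, 6, 5, 7, 3, 4,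 8, 9, 10], 15, [10, 5, 3, 4, 8, 9, 7, 6, 5, 4, 8, 3, 4, 5, 6, 7, 10, 8, 4, 5, 2, 3, 4, 8, 6, 7, 5, 6, 4, 5, 3, 4, 8, 2, 3, 4, 5, 6, 7, 5, 4, 8, 9, 3, 4, 8, 5, 6, 4, 5, 2, 3, 4, 8, 9, 6, 4, 5, 2, 3, 4, 8, 4, 5, 6, 3, 4, 5, 2, 3, 4, 8, 6, 5, 3, 1]⟩ : Fct)))) (ndA (nat_lit 198) (ndA (nat_lit 197) (lfA (⟨11, [9, 8, 4, 5, 4, 8, 9, 6, 5, 4, 8, 2, 3, 4, 8, 9, 11, 5, 4, 8, 9, 6, 5, 4, 8, 3, 4, 8, 9, 5, 4, 6, 2, 3, 4, 8, 5, 6, 7, 6, 5, 4, 8, 9, 11, 3, 4, 8, 9, 5, 4, 6, 5, 3, 4, 2, 3, 4, 8, 5, 4, 6, 5, 3, 4, 8, 9, 2, 3, 10, 7, 6, 5, 4, 8, 9, 11, 3, 4, 8, 9, 5, 6, 7, 2, 3, 4, 8, 5, 4, 6, 5, 7, 3, 4, 8, 9, 10], 15, [10, 5, 3, 4, 8, 9, 7, 6, 5, 4, 8,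 3, 4, 5, 6, 7, 10, 8, 4, 5, 2, 3, 4, 8, 6, 7, 5, 6, 4, 5, 3, 4, 8, 2, 3, 4, 5, 6, 7, 5, 4, 8, 9, 3, 4, 8, 5, 6, 4, 5, 2, 3, 4, 8, 9, 6, 4, 5, 2, 3, 4, 8, 4, 5, 6, 3, 4, 5, 2, 3, 4, 8, 6, 5, 3, 1]⟩ : Fct)) (lfA (⟨15, [3, 4, 6, 5, 7, 6, 8, 4, 3, 5, 4, 6, 5, 9, 8, 4, 3, 5, 4, 6, 5, 7, 6, 8, 4, 5, 9, 8, 1, 2, 3, 4, 5, 6, 7, 8, 4, 3, 2, 5, 4, 6, 9, 8, 4, 3, 2, 10, 7, 6, 5, 4, 3, 2, 8, 4, 3, 5, 9, 8, 4, 3, 2, 1, 5, 6], 15, []⟩ : Fct))) (ndA (nat_lit 199) (lfA (⟨15, [5, 4, 8, 9, 7, 6, 5, 3, 4, 8, 2, 3, 4, 5, 6, 7, 10, 4, 8, 9, 3, 4, 8, 5, 6, 3, 4, 5, 2, 3, 4, 8, 9, 5, 6, 3, 4, 5, 2, 3, 4, 8, 7, 6, 5, 4, 3, 2, 1, 4, 5, 3, 4, 8, 9, 7, 6, 4, 5, 3,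 4, 8, 5, 6, 7, 4, 5, 4, 3], 13, [4, 5, 6, 3, 4, 8, 9, 11, 5, 4, 8, 9, 6, 5, 4, 3, 4, 8, 9, 5, 6, 2, 3, 4, 8, 9, 5, 4, 6, 5, 3, 4, 8, 9, 11, 2, 7, 6, 5, 4, 8, 9, 11, 3, 4, 8, 9, 5, 4, 6, 2, 3, 4, 8, 9, 5, 4, 6, 5, 7, 6, 3, 4, 8, 9, 11, 10, 7, 6, 5, 4, 8, 9, 11, 3, 4, 8, 9, 5, 4, 8, 6, 5, 2, 3, 4, 8, 9, 11, 5, 4, 8, 9, 6, 5, 7, 6, 3, 4, 5, 2, 3, 4, 8, 10]⟩ : Fct)) (lfA (⟨15, [5, 4, 8, 9, 7, 6, 5, 3, 4, 8, 2, 3, 4, 5, 6, 7, 10, 4, 8, 9, 3, 4, 8, 5, 6, 3, 4, 5, 2, 3, 4, 8, 9, 5, 6, 3, 4, 5, 2, 3, 4, 8, 7, 6, 5, 4, 3, 2, 1, 4, 5, 3, 4, 8, 9, 7, 6, 4, 5, 3, 4, 8, 5, 6, 7, 4, 5, 4, 3], 13, [4, 5, 6, 3, 4, 8, 9, 11, 5, 4, 8, 9, 6, 5, 4, 3, 4, 8,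 9, 5, 6, 2, 3, 4, 8, 9, 5, 4, 6, 5, 3, 4, 8, 9, 11, 2, 7, 6, 5, 4, 8, 9, 11, 3, 4, 8, 9, 5, 4, 6, 2, 3, 4, 8, 9, 5, 4, 6, 5, 7, 6, 3, 4, 8, 9, 11, 10, 7, 6, 5, 4, 8, 9, 11, 3, 4, 8, 9, 5, 4, 8, 6, 5, 2, 3, 4, 8, 9, 11, 5, 4, 8, 9, 6, 5, 7, 6, 3, 4, 5, 2, 3, 4, 8, 10]⟩ : Fct))))) (ndA (nat_lit 204) (ndA (nat_lit 202) (ndA (nat_lit 201) (lfA (⟨14, [8, 4, 3, 9, 8, 4, 5, 6, 7, 10, 3, 2, 4, 3, 5, 6, 8, 4, 5, 9, 8, 4, 3, 2, 6, 4, 5, 11, 9, 8, 4, 3, 7, 6, 5, 4, 8, 9, 11, 10, 5, 6, 4, 5, 9, 8, 4, 3, 2, 7, 6, 4, 5, 8, 4, 3, 9, 8, 4, 5, 6, 7, 10, 2, 5, 8, 4, 3, 4, 5, 6, 8, 4, 5, 9, 8, 4, 3, 5, 6, 7, 4, 5, 6, 8, 4, 5, 9, 8, 4, 3, 6, 7, 6, 4, 5, 8, 4,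 9], 15, [6, 7, 10, 5, 4, 8, 9, 5, 4, 8, 6, 7, 5, 6, 4, 5, 3, 4, 8, 2, 3, 4, 5, 6, 7, 10, 5, 3, 4, 8, 9, 8, 4, 5, 3, 4, 8, 2, 3, 4, 5, 6, 7, 5, 3, 4, 8, 5, 6, 3, 4, 5, 2, 3, 4, 8, 9, 8, 5, 6, 3, 4, 5, 2, 3, 4, 8, 2, 3, 4, 5, 6, 3, 4, 1]⟩ : Fct)) (lfA (⟨14, [8, 4, 3, 9, 8, 4, 5, 6, 7, 10, 3, 2, 4, 3, 5, 6, 8, 4, 5, 9, 8, 4, 3, 2, 6, 4, 5, 11, 9, 8, 4, 3, 7, 6, 5, 4, 8, 9, 11, 10, 5, 6, 4, 5, 9, 8, 4, 3, 2, 7, 6, 4, 5, 8, 4, 3, 9, 8, 4, 5, 6, 7, 10, 2, 5, 8, 4, 3, 4, 5, 6, 8, 4, 5, 9, 8, 4, 3, 5, 6, 7, 4, 5, 6, 8, 4, 5, 9, 8, 4, 3, 6, 7, 6, 4, 5, 8, 4, 9], 15, [6, 7, 10, 5, 4, 8, 9, 5, 4, 8, 6, 7, 5, 6, 4, 5, 3, 4, 8, 2, 3, 4, 5, 6, 7, 10, 5,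 3, 4, 8, 9, 8, 4, 5, 3, 4, 8, 2, 3, 4, 5, 6, 7, 5, 3, 4, 8, 5, 6, 3, 4, 5, 2, 3, 4, 8, 9, 8, 5, 6, 3, 4, 5, 2, 3, 4, 8, 2, 3, 4, 5, 6, 3, 4, 1]⟩ : Fct))) (ndA (nat_lit 203) (lfA (⟨15, [10, 7, 6, 5, 4, 8, 3, 4, 5, 6, 7, 10, 3, 4, 8, 4, 5, 6, 3, 4, 5, 2, 3, 4, 8, 9, 4, 5, 2, 3, 4, 8, 7, 6, 5, 4, 3, 2, 1, 7, 6, 5, 3, 4, 8, 9, 4, 5, 3, 4, 8, 6, 7, 5, 6, 4, 5, 3, 4, 8, 5, 6, 7, 5, 6, 5, 3], 14, [8, 5, 6, 5, 4, 7, 6, 5, 4, 3, 4, 8, 5, 4, 3, 2, 3, 4, 8, 9, 5, 4, 8, 6, 5, 3, 4, 8, 5, 2, 11, 9, 8, 4, 5, 6, 7, 3, 4, 8, 9, 11, 5, 6, 2, 3, 4, 8, 9, 11, 5, 4, 8, 9, 3, 4, 8, 5, 2, 3, 4, 10, 7, 6, 5, 4, 8, 9, 11, 3, 4, 8, 9, 5, 4, 8, 6, 2, 3, 4, 8, 9, 5,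 4, 6, 5, 7, 6, 3, 4, 8, 9, 5]⟩ : Fct)) (lfA (⟨15, [10, 7, 6, 5, 4, 8, 3, 4, 5, 6, 7, 10, 3, 4, 8, 4, 5, 6, 3, 4, 5, 2, 3, 4, 8, 9, 4, 5, 2, 3, 4, 8, 7, 6, 5, 4, 3, 2, 1, 7, 6, 5, 3, 4, 8, 9, 4, 5, 3, 4, 8, 6, 7, 5, 6, 4, 5, 3, 4, 8, 5, 6, 7, 5, 6, 5, 3], 14, [8, 5, 6, 5, 4, 7, 6, 5, 4, 3, 4, 8, 5, 4, 3, 2, 3, 4, 8, 9, 5, 4, 8, 6, 5, 3, 4, 8, 5, 2, 11, 9, 8, 4, 5, 6, 7, 3, 4, 8, 9, 11, 5, 6, 2, 3, 4, 8, 9, 11, 5, 4, 8, 9, 3, 4, 8, 5, 2, 3, 4, 10, 7, 6, 5, 4, 8, 9, 11, 3, 4, 8, 9, 5, 4, 8, 6, 2, 3, 4, 8, 9, 5, 4, 6, 5, 7, 6, 3, 4, 8, 9, 5]⟩ : Fct)))) (ndA (nat_lit 206) (ndA (nat_lit 205) (lfA (⟨0, [10, 7, 6, 5, 4, 3, 2, 1, 8, 4, 3, 2, 5, 4,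 6, 9, 8, 4, 3, 2, 5, 4, 3, 6, 5, 7, 6, 8, 4, 5, 9, 8, 4, 3, 2, 1], 16, []⟩ : Fct)) (lfA (⟨10, [7, 10, 8, 3, 4, 5, 2, 3, 4, 8, 6, 7, 5, 6, 4, 5, 3, 4, 8, 2, 3, 4, 5, 6, 7, 10, 8, 4, 5, 3, 4, 8, 2, 3, 4, 5, 6, 7, 4, 5, 6, 3, 4, 5, 2, 3, 4, 8, 4, 5, 6, 2, 3, 4, 5, 2, 3, 4, 2, 3, 1], 16, [6, 7, 10, 3, 8, 4, 5, 9, 8, 4, 3, 6, 7, 5, 6, 4, 5, 8, 4, 3, 9, 8, 4, 5, 6, 7, 10, 7, 6, 5, 8, 4, 3, 9, 8, 4, 5, 6, 7, 5, 9, 8, 4, 3, 5, 6, 8, 4, 5, 9, 8, 4, 3, 6, 4, 5, 4, 9, 11]⟩ : Fct))) (ndA (nat_lit 207) (lfA (⟨10, [7, 10, 8, 3, 4, 5, 2, 3, 4, 8, 6, 7, 5, 6, 4, 5, 3, 4, 8, 2, 3, 4, 5, 6, 7, 10, 8, 4, 5, 3, 4, 8, 2, 3, 4, 5, 6, 7, 4, 5, 6, 3, 4, 5, 2, 3,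 4, 8, 4, 5, 6, 2, 3, 4, 5, 2, 3, 4, 2, 3, 1], 16, [6, 7, 10, 3, 8, 4, 5, 9, 8, 4, 3, 6, 7, 5, 6, 4, 5, 8, 4, 3, 9, 8, 4, 5, 6, 7, 10, 7, 6, 5, 8, 4, 3, 9, 8, 4, 5, 6, 7, 5, 9, 8, 4, 3, 5, 6, 8, 4, 5, 9, 8, 4, 3, 6, 4, 5, 4, 9, 11]⟩ : Fct)) (lfA (⟨16, [11], 14, []⟩ : Fct))))))
noncomputable def FT13 : ℕ → Fct := (ndA (nat_lit 216) (ndA (nat_lit 212) (ndA (nat_lit 210) (ndA (nat_lit 209) (lfA (⟨16, [], 14, [11]⟩ : Fct)) (lfA (⟨14, [11], 0, [10, 7, 6, 5, 4, 3, 2, 1, 8, 4, 3, 2, 5, 4, 6, 9, 8, 4, 3, 2, 5, 4, 3, 6, 5, 7, 6, 8, 4, 5, 9, 8, 4, 3, 2, 1]⟩ : Fct))) (ndA (nat_lit 211) (lfA (⟨1, [10, 7, 6, 5, 4, 8, 9, 11, 3, 4, 8, 9, 5, 4, 6, 2, 3, 4,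 8, 9, 5, 4, 8, 6, 5, 7, 6, 3, 4, 5, 2, 3, 4, 8, 9, 11], 17, []⟩ : Fct)) (lfA (⟨11, [10, 7, 6, 4, 5, 11, 9, 8, 4, 3, 2, 7, 5, 6, 4, 5, 9, 8, 4, 3, 11, 9, 8, 4, 5, 6, 7, 10, 2, 8, 4, 3, 6, 7, 5, 6, 4, 5, 8, 4, 3, 2, 7, 5, 6, 4, 5, 8, 4, 3, 11, 9, 8, 4, 5, 6, 7, 2, 4, 3, 5, 6, 8, 4, 5, 9, 8, 4, 3, 2, 4, 3, 6, 8, 4, 5, 9, 8, 4, 3, 9, 8, 4, 8, 11], 17, [2, 3, 2, 4, 3, 5, 4, 7, 6, 5, 4, 3, 8, 4, 3, 2, 5, 4, 3, 6, 5, 7, 8, 4, 10, 7, 6, 5, 4, 3, 2, 8, 4, 3, 5, 4, 6, 5, 7, 6, 8, 4, 3, 2, 5, 1]⟩ : Fct)))) (ndA (nat_lit 214) (ndA (nat_lit 213) (lfA (⟨11, [10, 7, 6, 4, 5, 11, 9, 8, 4, 3, 2, 7, 5, 6, 4, 5, 9, 8, 4, 3, 11, 9, 8, 4, 5, 6, 7, 10, 2, 8, 4,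 3, 6, 7, 5, 6, 4, 5, 8, 4, 3, 2, 7, 5, 6, 4, 5, 8, 4, 3, 11, 9, 8, 4, 5, 6, 7, 2, 4, 3, 5, 6, 8, 4, 5, 9, 8, 4, 3, 2, 4, 3, 6, 8, 4, 5, 9, 8, 4, 3, 9, 8, 4, 8, 11], 17, [2, 3, 2, 4, 3, 5, 4, 7, 6, 5, 4, 3, 8, 4, 3, 2, 5, 4, 3, 6, 5, 7, 8, 4, 10, 7, 6, 5, 4, 3, 2, 8, 4, 3, 5, 4, 6, 5, 7, 6, 8, 4, 3, 2, 5, 1]⟩ : Fct)) (lfA (⟨17, [10, 5, 2, 3, 4, 8, 6, 7, 5, 6, 4, 5, 3, 4, 8, 2, 3, 4, 5, 6, 7, 10, 8, 5, 6, 3, 4, 5, 2, 3, 4, 8, 9, 6, 7, 5, 6, 4, 5, 3, 4, 8, 2, 3, 4, 5, 6, 7, 9, 6, 5, 3, 1], 15, []⟩ : Fct))) (ndA (nat_lit 215) (lfA (⟨17, [], 15, [1, 3, 5, 6, 9, 7, 6, 5, 4, 3, 2, 8, 4, 3, 5, 4, 6, 5, 7, 6, 9, 8, 4, 3, 2, 5, 4, 3, 6, 5, 8, 10, 7,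 6, 5, 4, 3, 2, 8, 4, 3, 5, 4, 6, 5, 7, 6, 8, 4, 3, 2, 5, 10]⟩ : Fct)) (lfA (⟨15, [1, 3, 5, 6, 9, 7, 6, 5, 4, 3, 2, 8, 4, 3, 5, 4, 6, 5, 7, 6, 9, 8, 4, 3, 2, 5, 4, 3, 6, 5, 8, 10, 7, 6, 5, 4, 3, 2, 8, 4, 3, 5, 4, 6, 5, 7, 6, 8, 4, 3, 2, 5, 10], 1, [10, 7, 6, 5, 4, 8, 9, 11, 3, 4, 8, 9, 5, 4, 6, 2, 3, 4, 8, 9, 5, 4, 8, 6, 5, 7, 6, 3, 4, 5, 2, 3, 4, 8, 9, 11]⟩ : Fct))))) (ndA (nat_lit 220) (ndA (nat_lit 218) (ndA (nat_lit 217) (lfA (⟨8, [3, 4, 8, 7, 6, 5, 4, 3, 2, 1], 18, []⟩ : Fct)) (lfA (⟨12, [2, 3, 2, 5, 6, 5, 4, 8, 4, 3, 2, 5, 4, 3, 8, 4, 9, 8, 4, 3, 2, 5, 4, 3, 6, 5, 8, 4, 5, 6, 9, 7, 6, 5, 4, 3, 2, 8, 4, 3, 5, 4, 6, 5, 9, 8, 4, 3, 2, 5,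 4, 3, 6, 5, 4, 7, 6, 5, 10, 7, 6, 5, 4, 3, 2, 8, 4, 3, 5, 4, 9, 8, 4, 3, 2, 1, 5, 4, 6, 7, 10], 18, [8, 9, 4, 8, 5, 4, 8, 9, 7, 6, 5, 4, 8, 3, 4, 8, 9, 5, 4, 8, 6, 5, 7, 3, 4, 8, 5, 10, 7, 6, 5, 4, 8, 9, 3, 4, 8, 5, 4, 6, 5, 7, 6, 3, 4, 8, 9, 5, 4, 8, 3, 4, 5, 11]⟩ : Fct))) (ndA (nat_lit 219) (lfA (⟨12, [2, 3, 2, 5, 6, 5, 4, 8, 4, 3, 2, 5, 4, 3, 8, 4, 9, 8, 4, 3, 2, 5, 4, 3, 6, 5, 8, 4, 5, 6, 9, 7, 6, 5, 4, 3, 2, 8, 4, 3, 5, 4, 6, 5, 9, 8, 4, 3, 2, 5, 4, 3, 6, 5, 4, 7, 6, 5, 10, 7, 6, 5, 4, 3, 2, 8, 4, 3, 5, 4, 9, 8, 4, 3, 2, 1, 5, 4, 6, 7, 10], 18, [8, 9, 4, 8, 5, 4, 8, 9, 7, 6, 5, 4, 8, 3, 4, 8, 9, 5, 4, 8, 6, 5, 7, 3, 4, 8, 5, 10, 7, 6,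 5, 4, 8, 9, 3, 4, 8, 5, 4, 6, 5, 7, 6, 3, 4, 8, 9, 5, 4, 8, 3, 4, 5, 11]⟩ : Fct)) (lfA (⟨18, [11, 8, 9, 5, 4, 8, 9, 11, 6, 5, 4, 3, 4, 8, 9, 5, 4, 8, 6, 5, 3, 4, 8, 9, 11, 5, 6, 2, 3, 4, 8, 5, 4, 3, 7, 6, 5, 4, 8, 9, 11, 3, 4, 8, 9, 5, 4, 8, 6, 7, 2, 3, 4, 8, 9, 5, 4, 8, 6, 5, 7, 6, 3, 4, 8, 5, 4, 6, 3, 2, 3, 4, 8, 9, 5, 4, 6, 5, 10, 7, 6, 5, 4, 8, 9, 11, 3, 4, 8, 9, 5, 4, 6, 5, 2, 3, 4, 8, 9, 5, 4, 8, 6, 5, 4, 7, 6, 3, 4, 8, 5, 4, 2, 3, 4, 8, 9, 5, 10], 14, []⟩ : Fct)))) (ndA (nat_lit 222) (ndA (nat_lit 221) (lfA (⟨18, [], 14, [10, 5, 9, 8, 4, 3, 2, 4, 5, 8, 4, 3, 6, 7, 4, 5, 6, 8, 4, 5, 9, 8, 4, 3, 2, 5, 6, 4, 5, 9, 8, 4, 3, 11, 9, 8, 4,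 5, 6, 7, 10, 5, 6, 4, 5, 9, 8, 4, 3, 2, 3, 6, 4, 5, 8, 4, 3, 6, 7, 5, 6, 8, 4, 5, 9, 8, 4, 3, 2, 7, 6, 8, 4, 5, 9, 8, 4, 3, 11, 9, 8, 4, 5, 6, 7, 3, 4, 5, 8, 4, 3, 2, 6, 5, 11, 9, 8, 4, 3, 5, 6, 8, 4, 5, 9, 8, 4, 3, 4, 5, 6, 11, 9, 8, 4, 5, 9, 8, 11]⟩ : Fct)) (lfA (⟨14, [10, 5, 9, 8, 4, 3, 2, 4, 5, 8, 4, 3, 6, 7, 4, 5, 6, 8, 4, 5, 9, 8, 4, 3, 2, 5, 6, 4, 5, 9, 8, 4, 3, 11, 9, 8, 4, 5, 6, 7, 10, 5, 6, 4, 5, 9, 8, 4, 3, 2, 3, 6, 4, 5, 8, 4, 3, 6, 7, 5, 6, 8, 4, 5, 9, 8, 4, 3, 2, 7, 6, 8, 4, 5, 9, 8, 4, 3, 11, 9, 8, 4, 5, 6, 7, 3, 4, 5, 8, 4, 3, 2, 6, 5, 11, 9, 8, 4, 3, 5, 6, 8, 4, 5, 9, 8, 4, 3, 4, 5, 6, 11, 9, 8, 4, 5, 9, 8, 11], 8, [3, 4,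 8, 7, 6, 5, 4, 3, 2, 1]⟩ : Fct))) (ndA (nat_lit 223) (lfA (⟨9, [11, 9, 8, 4, 8, 5, 3, 4, 2, 3, 7, 6, 5, 4, 8, 9, 11], 19, []⟩ : Fct)) (lfA (⟨13, [3, 2, 3, 6, 7, 5, 6, 4, 5, 8, 4, 3, 9, 8, 4, 5, 6, 7, 10, 2, 3, 4, 5, 6, 9, 8, 4, 5, 11, 9, 8, 4, 3, 2, 5, 6, 4, 5, 8, 4, 3, 7, 6, 5, 4, 8, 9, 11, 3, 8, 4, 5, 9, 8, 4, 3, 2, 3, 6, 8, 4, 5, 9, 8, 4, 3, 6, 7, 4, 5, 6, 8, 4, 5, 9, 8, 4, 3, 2, 4, 3, 5, 6, 4, 5, 9, 8, 4, 3, 6, 8, 4, 5, 4, 8], 19, [5, 4, 8, 4, 3, 2, 5, 4, 3, 8, 9, 8, 4, 3, 2, 5, 4, 3, 8, 7, 6, 5, 4, 3, 2, 8, 4, 3, 5, 4, 6, 7, 9, 8, 4, 10, 7, 6, 5, 4, 3, 2, 1, 8, 4, 3, 5, 6, 7, 9, 8, 4, 3, 5, 4, 6, 8]⟩ : Fct))))))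
noncomputable def FT14 : ℕ → Fct := (ndA (nat_lit 232) (ndA (nat_lit 228) (ndA (nat_lit 226) (ndA (nat_lit 225) (lfA (⟨13, [3, 2, 3, 6, 7, 5, 6, 4, 5, 8, 4, 3, 9, 8, 4, 5, 6, 7, 10, 2, 3, 4, 5, 6, 9, 8, 4, 5, 11, 9, 8, 4, 3, 2, 5, 6, 4, 5, 8, 4, 3, 7, 6, 5, 4, 8, 9, 11, 3, 8, 4, 5, 9, 8, 4, 3, 2, 3, 6, 8, 4, 5, 9, 8, 4, 3, 6, 7, 4, 5, 6, 8, 4, 5, 9, 8, 4, 3, 2, 4, 3, 5, 6, 4, 5, 9, 8, 4, 3, 6, 8, 4, 5, 4, 8], 19, [5, 4, 8, 4, 3, 2, 5, 4, 3, 8, 9, 8, 4, 3, 2, 5, 4, 3, 8, 7, 6, 5, 4, 3, 2, 8, 4, 3, 5, 4, 6, 7, 9, 8, 4, 10, 7, 6, 5, 4, 3, 2, 1, 8, 4, 3, 5, 6, 7, 9, 8, 4, 3, 5, 4, 6, 8]⟩ : Fct)) (lfA (⟨19, [1, 2, 3, 4, 8, 9, 5, 4, 8, 6, 7, 5,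 6, 3, 4, 5, 1, 2, 3, 4, 8, 9, 8, 6, 3, 4, 5, 2, 3, 4, 8, 1, 2, 3, 4, 5, 6, 7, 10, 7, 6, 5, 4, 8, 9, 5, 3, 4, 8, 4, 5, 6, 2, 3, 4, 5, 1, 2, 3, 4, 8, 9, 6, 4, 5, 2, 3, 4, 8, 7, 6, 5, 4, 3, 2, 1, 9, 2, 3, 4, 8, 6, 7, 5, 6, 3, 4, 5, 2, 3, 4, 8, 9, 7, 4, 5, 6, 3, 4, 5, 2, 3, 4, 8, 4, 5, 6, 7, 2, 3, 4, 5, 6, 3, 4, 5, 4, 3], 15, []⟩ : Fct))) (ndA (nat_lit 227) (lfA (⟨19, [], 15, [3, 4, 5, 4, 3, 6, 5, 4, 3, 2, 7, 6, 5, 4, 8, 4, 3, 2, 5, 4, 3, 6, 5, 4, 7, 9, 8, 4, 3, 2, 5, 4, 3, 6, 5, 7, 6, 8, 4, 3, 2, 9, 1, 2, 3, 4, 5, 6, 7, 8, 4, 3, 2, 5, 4, 6, 9, 8, 4, 3, 2, 1, 5, 4, 3, 2, 6, 5, 4, 8, 4, 3, 5, 9, 8, 4, 5, 6, 7, 10, 7, 6, 5, 4, 3, 2, 1, 8, 4, 3,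 2, 5, 4, 3, 6, 8, 9, 8, 4, 3, 2, 1, 5, 4, 3, 6, 5, 7, 6, 8, 4, 5, 9, 8, 4, 3, 2, 1]⟩ : Fct)) (lfA (⟨15, [3, 4, 5, 4, 3, 6, 5, 4, 3, 2, 7, 6, 5, 4, 8, 4, 3, 2, 5, 4, 3, 6, 5, 4, 7, 9, 8, 4, 3, 2, 5, 4, 3, 6, 5, 7, 6, 8, 4, 3, 2, 9, 1, 2, 3, 4, 5, 6, 7, 8, 4, 3, 2, 5, 4, 6, 9, 8, 4, 3, 2, 1, 5, 4, 3, 2, 6, 5, 4, 8, 4, 3, 5, 9, 8, 4, 5, 6, 7, 10, 7, 6, 5, 4, 3, 2, 1, 8, 4, 3, 2, 5, 4, 3, 6, 8, 9, 8, 4, 3, 2, 1, 5, 4, 3, 6, 5, 7, 6, 8, 4, 5, 9, 8, 4, 3, 2, 1], 9, [11, 9, 8, 4, 8, 5, 3, 4, 2, 3, 7, 6, 5, 4, 8, 9, 11]⟩ : Fct)))) (ndA (nat_lit 230) (ndA (nat_lit 229) (lfA (⟨14, [9, 8, 4, 5, 6, 5, 3, 4, 8, 9, 5, 4, 2, 3, 4, 8, 9, 11, 5, 4, 7, 6,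 5, 4, 8, 9, 3, 4, 8, 2, 3, 4, 5, 6, 7, 10, 7, 6, 5, 4, 8, 9, 11, 3, 4, 8, 9, 5, 4, 6, 2, 3, 4, 8, 9, 5, 4, 8, 6, 5, 7, 6, 3, 4, 5, 2, 3, 4, 8, 9, 11], 20, []⟩ : Fct)) (lfA (⟨14, [9, 8, 9, 4, 8, 6, 3, 4, 8, 9, 11, 5, 4, 8, 6, 5, 3, 4, 8, 5, 6, 2, 3, 4, 8, 9, 11, 5, 4, 8, 9, 6, 5, 4, 3, 4, 8, 5, 6, 2, 3, 4, 8, 7, 6, 5, 4, 8, 9, 11, 3, 4, 8, 5, 4, 6, 7, 2, 3, 4, 8, 5, 4, 6, 5, 7, 6, 3, 2, 10, 7, 6, 5, 4, 8, 9, 11, 3, 4, 8, 9, 5, 4, 6, 5, 7, 3, 2, 3, 4, 8, 9, 5, 4, 8, 6, 5, 3, 4, 8, 2], 20, [10, 2, 3, 4, 8, 9, 7, 6, 4, 5, 3, 4, 8, 2, 3, 4, 5, 6, 7, 10, 7, 6, 4, 5, 3, 4, 8, 9, 8, 7, 6, 4, 5, 3, 4, 8, 2, 3, 4, 5, 6, 7, 6, 3, 4, 5, 2, 3, 4, 8, 4,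 5, 6, 3, 4, 5, 2, 3, 4, 8, 9, 6, 4, 5, 2, 3, 4, 8, 6, 5, 1]⟩ : Fct))) (ndA (nat_lit 231) (lfA (⟨14, [9, 8, 9, 4, 8, 6, 3, 4, 8, 9, 11, 5, 4, 8, 6, 5, 3, 4, 8, 5, 6, 2, 3, 4, 8, 9, 11, 5, 4, 8, 9, 6, 5, 4, 3, 4, 8, 5, 6, 2, 3, 4, 8, 7, 6, 5, 4, 8, 9, 11, 3, 4, 8, 5, 4, 6, 7, 2, 3, 4, 8, 5, 4, 6, 5, 7, 6, 3, 2, 10, 7, 6, 5, 4, 8, 9, 11, 3, 4, 8, 9, 5, 4, 6, 5, 7, 3, 2, 3, 4, 8, 9, 5, 4, 8, 6, 5, 3, 4, 8, 2], 20, [10, 2, 3, 4, 8, 9, 7, 6, 4, 5, 3, 4, 8, 2, 3, 4, 5, 6, 7, 10, 7, 6, 4, 5, 3, 4, 8, 9, 8, 7, 6, 4, 5, 3, 4, 8, 2, 3, 4, 5, 6, 7, 6, 3, 4, 5, 2, 3, 4, 8, 4, 5, 6, 3, 4, 5, 2, 3, 4, 8, 9, 6, 4, 5, 2, 3, 4, 8, 6, 5, 1]⟩ : Fct)) (lfA (⟨20,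 [1, 2, 4, 3, 2, 1, 5, 4, 3, 8, 4, 3, 2, 5, 4, 3, 8, 4, 9, 8, 4, 3, 2, 1, 5, 4, 3, 2, 6, 5, 4, 8, 4, 3, 2, 1, 5, 4, 6, 9, 8, 4, 3, 5, 4, 8, 9, 7, 6, 5, 4, 3, 2, 1, 8, 4, 3, 2, 5, 4, 6, 7, 9, 8, 4, 3, 2, 1, 5, 4, 6, 5, 7, 6, 8, 4, 3, 2, 5, 4, 8, 10, 7, 6, 5, 4, 3, 2, 1, 8, 4, 3, 2, 5, 4, 3, 6, 7, 9, 8, 4, 3, 2, 1, 5, 4, 3, 2, 6, 5, 4, 7, 6, 8, 4, 5, 9, 8, 4, 3, 2], 15, []⟩ : Fct))))) (ndA (nat_lit 236) (ndA (nat_lit 234) (ndA (nat_lit 233) (lfA (⟨20, [], 15, [2, 3, 4, 8, 9, 5, 4, 8, 6, 7, 4, 5, 6, 2, 3, 4, 5, 1, 2, 3, 4, 8, 9, 7, 6, 3, 4, 5, 2, 3, 4, 8, 1, 2, 3, 4, 5, 6, 7, 10, 8, 4, 5, 2, 3, 4, 8, 6, 7, 5, 6, 4, 5, 1, 2, 3, 4, 8, 9, 7, 6,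 4, 5, 2, 3, 4, 8, 1, 2, 3, 4, 5, 6, 7, 9, 8, 4, 5, 3, 4, 8, 9, 6, 4, 5, 1, 2, 3, 4, 8, 4, 5, 6, 2, 3, 4, 5, 1, 2, 3, 4, 8, 9, 4, 8, 3, 4, 5, 2, 3, 4, 8, 3, 4, 5, 1, 2, 3, 4, 2, 1]⟩ : Fct)) (lfA (⟨15, [2, 3, 4, 8, 9, 5, 4, 8, 6, 7, 4, 5, 6, 2, 3, 4, 5, 1, 2, 3, 4, 8, 9, 7, 6, 3, 4, 5, 2, 3, 4, 8, 1, 2, 3, 4, 5, 6, 7, 10, 8, 4, 5, 2, 3, 4, 8, 6, 7, 5, 6, 4, 5, 1, 2, 3, 4, 8, 9, 7, 6, 4, 5, 2, 3, 4, 8, 1, 2, 3, 4, 5, 6, 7, 9, 8, 4, 5, 3, 4, 8, 9, 6, 4, 5, 1, 2, 3, 4, 8, 4, 5, 6, 2, 3, 4, 5, 1, 2, 3, 4, 8, 9, 4, 8, 3, 4, 5, 2, 3, 4, 8, 3, 4, 5, 1, 2, 3, 4, 2, 1], 14, [9, 8, 4, 5, 6, 5, 3, 4, 8, 9, 5, 4, 2, 3, 4, 8, 9, 11, 5, 4, 7, 6, 5, 4, 8,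 9, 3, 4, 8, 2, 3, 4, 5, 6, 7, 10, 7, 6, 5, 4, 8, 9, 11, 3, 4, 8, 9, 5, 4, 6, 2, 3, 4, 8, 9, 5, 4, 8, 6, 5, 7, 6, 3, 4, 5, 2, 3, 4, 8, 9, 11]⟩ : Fct))) (ndA (nat_lit 235) (lfA (⟨2, [11, 9, 11, 8, 5, 6, 3, 4, 8, 5, 4, 6, 2, 3, 4, 8, 5, 4, 3, 2, 7, 6, 5, 4, 8, 9, 3, 4, 2, 3, 10, 7, 6, 5, 4, 8, 9, 11, 3, 4, 8, 5, 4, 2, 3, 4, 8, 5], 21, []⟩ : Fct)) (lfA (⟨21, [11, 8, 9, 5, 4, 8, 3, 4, 5, 6, 7, 10, 7, 6, 5, 4, 8, 9, 11, 3, 4, 8, 5], 21, []⟩ : Fct)))) (ndA (nat_lit 238) (ndA (nat_lit 237) (lfA (⟨21, [9, 8, 5, 4, 6, 5, 3, 4, 8, 9, 7, 6, 5, 4, 8, 3, 4, 5, 6, 7, 10, 7, 6, 5, 4, 8, 9, 3, 4, 8, 5, 4, 6, 5, 7, 6, 3, 4, 8, 9, 5], 21, []⟩ : Fct)) (lfA (⟨21,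 [9, 3, 4, 8, 5, 4, 6, 5, 3, 4, 8, 9, 7, 6, 5, 4, 8, 3, 4, 5, 6, 7, 10, 7, 6, 5, 4, 8, 9, 3, 4, 8, 5, 4, 6, 5, 7, 6, 3, 4, 8, 9, 5, 4, 3], 21, []⟩ : Fct))) (ndA (nat_lit 239) (lfA (⟨21, [11, 3, 4, 8, 9, 5, 4, 8, 3, 4, 5, 6, 7, 6, 5, 4, 8, 9, 11, 3, 4, 8, 5, 4, 3], 21, []⟩ : Fct)) (lfA (⟨21, [7], 21, []⟩ : Fct))))))
noncomputable def FT15 : ℕ → Fct := (ndA (nat_lit 248) (ndA (nat_lit 244) (ndA (nat_lit 242) (ndA (nat_lit 241) (lfA (⟨21, [5, 4, 8, 6, 5, 4, 3, 4, 8, 5, 4, 6, 5], 21, []⟩ : Fct)) (lfA (⟨21, [11, 9, 8, 4, 8, 9, 11], 21, []⟩ : Fct))) (ndA (nat_lit 243) (lfA (⟨21, [8, 9, 4, 8, 5, 4, 3, 4, 8, 9, 5, 4, 8], 21, []⟩ : Fct)) (lfA (⟨21,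 [9, 8, 9, 4, 8, 9, 5, 7, 6, 5, 4, 3, 4, 8, 9, 5, 4, 6, 5, 7, 6, 3, 4, 8, 5, 4, 3, 11, 9, 8, 4, 5, 6, 7, 3, 4, 10, 7, 6, 5, 4, 8, 9, 11, 3, 4, 8, 9, 5, 4, 6, 5, 3, 4], 21, []⟩ : Fct)))) (ndA (nat_lit 246) (ndA (nat_lit 245) (lfA (⟨21, [11, 8, 4, 6, 5, 3, 4, 8, 9, 7, 6, 5, 4, 8, 3, 4, 5, 6, 7, 10, 7, 6, 5, 4, 8, 9, 11, 3, 4, 8, 5, 4, 6, 5, 7, 6, 3, 4, 8], 21, []⟩ : Fct)) (lfA (⟨21, [7], 21, []⟩ : Fct))) (ndA (nat_lit 247) (lfA (⟨21, [3], 21, []⟩ : Fct)) (lfA (⟨21, [4], 21, []⟩ : Fct))))) (ndA (nat_lit 252) (ndA (nat_lit 250) (ndA (nat_lit 249) (lfA (⟨21, [10], 21, []⟩ : Fct)) (lfA (⟨21, [8], 21, []⟩ : Fct))) (ndA (nat_lit 251) (lfA (⟨21, [6],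 21, []⟩ : Fct)) (lfA (⟨21, [5], 21, []⟩ : Fct)))) (ndA (nat_lit 254) (ndA (nat_lit 253) (lfA (⟨21, [9], 21, []⟩ : Fct)) (lfA (⟨21, [11], 21, []⟩ : Fct))) (ndA (nat_lit 255) (lfA (⟨3, [1, 2, 3, 4, 5, 4, 6, 5, 9, 8, 4, 3, 5, 4, 6, 8, 9, 7, 6, 5, 4, 3, 8, 10, 7, 6, 5, 4, 3, 2, 1, 8, 4, 3, 2, 5, 9, 8, 4, 3, 5, 6, 7, 10], 22, []⟩ : Fct)) (lfA (⟨22, [4, 5, 6, 7, 10, 7, 6, 5, 4], 22, []⟩ : Fct))))))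
noncomputable def FT16 : ℕ → Fct := (ndA (nat_lit 264) (ndA (nat_lit 260) (ndA (nat_lit 258) (ndA (nat_lit 257) (lfA (⟨22, [1, 3, 2, 5, 4, 3, 8, 4, 5, 6, 7, 10, 7, 6, 5, 4, 3, 2, 1, 8, 4, 3, 5], 22, []⟩ : Fct)) (lfA (⟨22, [3, 4, 5, 4, 3], 22, []⟩ : Fct))) (ndA (nat_lit 259) (lfA (⟨22, [2, 1, 3, 2, 4, 3, 8, 4, 5, 6, 7, 10, 7, 6, 5, 4, 3, 2, 1, 8, 4, 3, 2], 22, []⟩ : Fct)) (lfA (⟨22, [3, 2, 4, 3, 8, 4, 5, 6, 7, 10, 7, 6, 5, 4, 3, 2, 8, 4, 3], 22, []⟩ : Fct)))) (ndA (nat_lit 262) (ndA (nat_lit 261) (lfA (⟨22, [1, 3, 2, 7, 6, 5, 4, 3, 8, 4, 5, 6, 7, 10, 7, 6, 5, 4, 3, 2, 1, 8, 4, 3, 5, 6, 7], 22, []⟩ : Fct)) (lfA (⟨22, [3, 2, 1, 8, 4, 3, 2, 5,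 4, 3, 6, 5, 4, 8, 4, 3, 2, 1, 5, 4, 3, 2, 6, 5, 4, 3, 8], 22, []⟩ : Fct))) (ndA (nat_lit 263) (lfA (⟨22, [3, 2, 1, 8, 4, 3, 2, 5, 4, 3, 8, 4, 5, 6, 7, 6, 5, 4, 3, 2, 1, 8, 4, 3, 2, 5, 4, 3, 8], 22, []⟩ : Fct)) (lfA (⟨22, [1, 2, 4, 3, 5, 6, 8, 4, 3, 2, 5, 4, 3, 6, 5, 4, 8, 4, 3, 5, 4, 6, 7, 6, 5, 4, 3, 2, 1, 8, 4, 3, 2, 5, 4, 6, 8, 10, 7, 6, 5, 4, 3, 2, 8, 4, 5], 22, []⟩ : Fct))))) (ndA (nat_lit 268) (ndA (nat_lit 266) (ndA (nat_lit 265) (lfA (⟨22, [7], 22, []⟩ : Fct)) (lfA (⟨22, [6], 22, []⟩ : Fct))) (ndA (nat_lit 267) (lfA (⟨22, [10], 22, []⟩ : Fct)) (lfA (⟨22, [3], 22, []⟩ : Fct)))) (ndA (nat_lit 270) (ndA (nat_lit 269) (lfA (⟨22, [8],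 22, []⟩ : Fct)) (lfA (⟨22, [2], 22, []⟩ : Fct))) (ndA (nat_lit 271) (lfA (⟨22, [4], 22, []⟩ : Fct)) (lfA (⟨22, [5], 22, []⟩ : Fct))))))
noncomputable def FT17 : ℕ → Fct := (ndA (nat_lit 280) (ndA (nat_lit 276) (ndA (nat_lit 274) (ndA (nat_lit 273) (lfA (⟨22, [1], 22, []⟩ : Fct)) (lfA (⟨4, [1, 2, 3, 2, 1, 4, 3, 2, 1, 5, 6, 5, 4, 3, 8, 4, 3, 5, 4, 6, 5, 9, 8, 4, 3, 2, 1, 5, 4, 3, 6, 8, 4, 5, 9, 8, 4, 7, 6, 5, 4, 3, 2, 1, 8, 4, 3, 5, 4, 6, 9, 8, 4, 5, 6, 7, 10, 7, 6, 5, 4, 3, 2, 1, 8, 4, 3, 2, 5, 4, 6, 9, 8, 4, 3, 2, 5, 4, 3, 6, 5, 7, 6, 8, 4, 3, 5, 4, 6, 7, 9, 8, 4], 23, []⟩ : Fct))) (ndA (nat_lit 275) (lfA (⟨23, [2, 1, 3, 8, 4, 3, 2, 9, 8,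 7], 23, []⟩ : Fct)) (lfA (⟨23, [4, 3, 2, 1, 5, 8, 4, 3, 2, 1, 5, 9, 8, 4, 3, 2, 1, 5, 4, 3, 2, 6, 5, 4, 3, 8, 4, 3, 5, 4, 6, 5, 9, 8, 4, 3, 5, 4, 6, 8, 9, 10, 7, 6, 5, 4, 3, 2, 8, 4, 3, 5, 4, 6, 5, 7, 6, 8, 4, 3, 2, 5, 4, 3, 8, 4, 5, 6, 10], 23, []⟩ : Fct)))) (ndA (nat_lit 278) (ndA (nat_lit 277) (lfA (⟨23, [2, 3, 2, 8, 4, 3, 9, 8, 4, 10, 7, 6, 5, 4, 3, 2, 8, 4, 3, 5, 4, 8, 1, 2, 3, 4, 5, 6, 7, 8, 4, 3, 2, 1, 9, 8, 10], 23, []⟩ : Fct)) (lfA (⟨23, [2, 1, 3, 2, 1, 4, 3, 6, 8, 4, 3, 2, 1, 5, 4, 3, 8, 4, 5, 9, 8, 4, 3, 5, 4, 8, 7, 6, 5, 4, 8, 9, 10, 7, 6, 5, 4, 3, 2, 1, 8, 4, 3, 2, 5, 4, 3, 6, 5, 4, 7, 6, 5, 9, 8, 4, 3, 2, 1], 23, []⟩ : Fct)))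 (ndA (nat_lit 279) (lfA (⟨23, [8, 7], 23, []⟩ : Fct)) (lfA (⟨23, [4, 7], 23, []⟩ : Fct))))) (ndA (nat_lit 284) (ndA (nat_lit 282) (ndA (nat_lit 281) (lfA (⟨23, [9, 4], 23, []⟩ : Fct)) (lfA (⟨23, [9, 1], 23, []⟩ : Fct))) (ndA (nat_lit 283) (lfA (⟨23, [8, 1], 23, []⟩ : Fct)) (lfA (⟨23, [4, 1], 23, []⟩ : Fct)))) (ndA (nat_lit 286) (ndA (nat_lit 285) (lfA (⟨23, [8, 3], 23, []⟩ : Fct)) (lfA (⟨23, [9, 3], 23, []⟩ : Fct))) (ndA (nat_lit 287) (lfA (⟨23, [3, 1], 23, []⟩ : Fct)) (lfA (⟨23, [2, 7], 23, []⟩ : Fct))))))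
noncomputable def FT18 : ℕ → Fct := (ndA (nat_lit 296) (ndA (nat_lit 292) (ndA (nat_lit 290) (ndA (nat_lit 289) (lfA (⟨23, [4, 2], 23, []⟩ : Fct)) (lfA (⟨23, [8, 2], 23, []⟩ : Fct))) (ndA (nat_lit 291) (lfA (⟨23, [9, 2], 23, []⟩ : Fct)) (lfA (⟨23, [4, 6], 23, []⟩ : Fct)))) (ndA (nat_lit 294) (ndA (nat_lit 293) (lfA (⟨23, [1, 6], 23, []⟩ : Fct)) (lfA (⟨23, [5, 4, 8, 9, 3, 4, 8, 2, 3, 4, 5, 4, 3, 2, 8, 4, 3, 9, 8, 4, 5, 9], 23, []⟩ : Fct))) (ndA (nat_lit 295) (lfA (⟨23, [9, 10], 23, []⟩ : Fct)) (lfA (⟨23, [3, 10], 23, []⟩ : Fct))))) (ndA (nat_lit 300) (ndA (nat_lit 298) (ndA (nat_lit 297) (lfA (⟨23, [5, 4, 8, 9, 3, 4, 8, 2, 3, 4, 5, 4, 3, 2,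 8, 4, 3, 9, 8, 4, 5, 10], 23, []⟩ : Fct)) (lfA (⟨23, [6, 10], 23, []⟩ : Fct))) (ndA (nat_lit 299) (lfA (⟨23, [5, 6, 7, 4, 5, 6, 3, 4, 5, 2, 3, 4, 8, 1, 2, 3, 4, 5, 6, 7, 10, 7, 6, 5, 4, 3, 2, 1, 8, 4, 3, 2, 5, 4, 3, 6, 5, 4, 7, 6, 5, 1], 23, []⟩ : Fct)) (lfA (⟨23, [5, 6, 7, 4, 5, 6, 3, 4, 5, 2, 3, 4, 8, 1, 2, 3, 4, 5, 6, 7, 10, 7, 6, 5, 4, 3, 2, 1, 8, 4, 3, 2, 5, 4, 3, 6, 5, 4, 7, 6, 5, 10], 23, []⟩ : Fct)))) (ndA (nat_lit 302) (ndA (nat_lit 301) (lfA (⟨5, [10, 11, 9, 8, 4, 3, 2, 5, 4, 3, 6, 7, 5, 6, 8, 4, 5, 11, 9, 8, 4, 3, 2, 6, 4, 5, 9, 8, 4, 3, 11, 9, 8, 4, 5, 6, 7, 10, 7, 5, 6, 4, 5, 9, 8, 4, 3, 2, 3, 4, 5, 8, 4, 3, 7, 6, 5, 4, 8, 9,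 11, 4, 3, 2, 8, 4, 3, 6, 7, 4, 5, 6, 8, 4, 5, 9, 8, 4, 3, 2, 7, 5, 6, 4, 5, 9], 24, []⟩ : Fct)) (lfA (⟨24, [11, 9, 8, 9, 11, 4, 8, 9, 11, 6, 5, 4, 8, 9, 11, 2, 7, 6, 5, 4, 8, 9, 11, 3, 4, 8, 5, 4, 6, 5, 3, 4, 8, 10, 7, 6, 5, 4, 8, 9, 11, 3, 4, 8, 9, 5, 4, 8, 6, 5, 4, 7, 6, 5, 2, 10, 7, 6], 24, []⟩ : Fct))) (ndA (nat_lit 303) (lfA (⟨24, [9, 8, 9, 5, 4, 6, 5, 7, 6, 2, 3, 4, 8, 9, 5, 4, 8, 6, 3, 4, 10, 7, 6, 5, 4, 8, 9, 3, 4, 8, 11, 9, 8, 4, 5, 6, 7, 3, 4, 8, 5, 4, 6, 5, 3, 4, 2, 10, 7, 6, 5], 24, []⟩ : Fct)) (lfA (⟨24, [6, 7, 6, 5, 4, 8, 9, 3, 4, 8, 5, 4, 6, 5, 7, 6, 3, 4, 8, 9, 5, 4, 8, 3, 4, 5, 6, 7, 2, 3, 4, 8, 5, 4, 6, 5, 3, 4, 8, 9, 11,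 9, 8, 4, 5, 6, 3, 4, 8, 9, 5, 4, 3, 2, 10, 7, 6, 5, 4, 8, 9, 3, 4, 8, 5, 4, 6, 5, 7, 6, 3, 4, 8, 9, 5, 4, 8, 3, 4, 5, 6, 7], 24, []⟩ : Fct))))))
noncomputable def FT19 : ℕ → Fct := (ndA (nat_lit 312) (ndA (nat_lit 308) (ndA (nat_lit 306) (ndA (nat_lit 305) (lfA (⟨24, [7, 10, 2, 5, 6, 7, 4, 5, 6, 8, 4, 5, 9, 8, 4, 3, 11, 9, 8, 4, 5, 6, 7, 4, 5, 6, 8, 4, 5, 9, 8, 4, 3, 4, 5, 6, 8, 4, 5, 9, 8, 4, 3, 2, 9, 8, 4, 5, 6, 9, 8, 4, 5, 8, 4, 11, 9, 8, 11, 9, 11], 24, []⟩ : Fct)) (lfA (⟨24, [10, 2, 3, 7, 6, 5, 4, 8, 9, 11, 5, 6, 7, 10, 3, 8, 4, 5, 9, 8, 4, 3, 6, 7, 5, 6, 4, 5, 8, 4, 3, 9, 8, 4, 5, 6, 7, 10, 7, 6, 4, 5, 9, 8, 4, 3, 6, 7, 5, 6, 8, 4,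 5, 9, 8, 4, 3, 2, 5, 6, 7, 4, 5, 6, 8, 4, 5, 8, 4], 24, []⟩ : Fct))) (ndA (nat_lit 307) (lfA (⟨24, [8, 9, 4, 5, 4, 8, 9, 6, 5, 4, 8, 9, 3, 4, 8, 5, 4, 6, 5, 7, 6, 3, 4, 8, 9, 5, 4, 8, 3, 4, 5, 6, 2, 3, 4, 8, 9, 5, 4, 8, 6, 5, 3, 4, 8, 9, 5, 6, 7, 10, 7, 6, 5, 4, 8, 3, 4, 5, 6, 7, 2, 3, 4, 5, 6, 10, 7, 11, 9, 8, 4, 5, 6, 3, 4, 8, 5, 4, 3, 2, 3, 4, 8, 9, 11, 5, 4, 6, 5, 7, 10], 24, []⟩ : Fct)) (lfA (⟨24, [6, 10], 24, []⟩ : Fct)))) (ndA (nat_lit 310) (ndA (nat_lit 309) (lfA (⟨24, [4, 9], 24, []⟩ : Fct)) (lfA (⟨24, [8, 11], 24, []⟩ : Fct))) (ndA (nat_lit 311) (lfA (⟨24, [4, 11], 24, []⟩ : Fct)) (lfA (⟨24, [3, 11], 24, []⟩ : Fct))))) (ndA (nat_lit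 316) (ndA (nat_lit 314) (ndA (nat_lit 313) (lfA (⟨24, [3, 9], 24, []⟩ : Fct)) (lfA (⟨24, [3, 8], 24, []⟩ : Fct))) (ndA (nat_lit 315) (lfA (⟨24, [5, 6, 7, 4, 5, 6, 8, 4, 5, 9, 8, 4, 3, 11, 9, 8, 4, 5, 6, 7, 10, 7, 6, 5, 4, 8, 9, 11, 3, 4, 8, 9, 5, 4, 8, 6, 5, 4, 7, 6, 5, 11], 24, []⟩ : Fct)) (lfA (⟨24, [2, 11], 24, []⟩ : Fct)))) (ndA (nat_lit 318) (ndA (nat_lit 317) (lfA (⟨24, [2, 9], 24, []⟩ : Fct)) (lfA (⟨24, [2, 8], 24, []⟩ : Fct))) (ndA (nat_lit 319) (lfA (⟨24, [2, 4], 24, []⟩ : Fct)) (lfA (⟨24, [5, 6, 7, 4, 5, 6, 8, 4, 5, 9, 8, 4, 3, 11, 9, 8, 4, 5, 6, 7, 10, 7, 6, 5, 4, 8, 9, 11, 3, 4, 8, 9, 5, 4, 8, 6, 5, 4, 7, 6, 5, 10], 24, []⟩ :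 Fct))))))
noncomputable def FT20 : ℕ → Fct := (ndA (nat_lit 328) (ndA (nat_lit 324) (ndA (nat_lit 322) (ndA (nat_lit 321) (lfA (⟨24, [2, 10], 24, []⟩ : Fct)) (lfA (⟨24, [8, 10], 24, []⟩ : Fct))) (ndA (nat_lit 323) (lfA (⟨24, [11, 6], 24, []⟩ : Fct)) (lfA (⟨24, [4, 6], 24, []⟩ : Fct)))) (ndA (nat_lit 326) (ndA (nat_lit 325) (lfA (⟨24, [5, 4, 3, 2, 8, 4, 3, 9, 8, 4, 5, 4, 8, 9, 3, 4, 8, 2, 3, 4, 5, 10], 24, []⟩ : Fct)) (lfA (⟨24, [5, 4, 3, 2, 8, 4, 3, 9, 8, 4, 5, 4, 8, 9, 3, 4, 8, 2, 3, 4, 5, 2], 24, []⟩ : Fct))) (ndA (nat_lit 327) (lfA (⟨24, [3, 7], 24, []⟩ : Fct)) (lfA (⟨24, [4, 7], 24, []⟩ : Fct))))) (ndA (nat_lit 332) (ndA (nat_lit 330)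 (ndA (nat_lit 329) (lfA (⟨24, [9, 7], 24, []⟩ : Fct)) (lfA (⟨6, [11, 9, 8, 9, 5, 4, 8, 6, 5, 3, 4, 8, 9, 5, 6, 2, 3, 4, 8, 9, 11, 5, 4, 8, 9, 3, 4, 5, 6, 7, 6, 5, 4, 8, 9, 11, 3, 4, 8, 9, 5, 6, 7, 2, 3, 4, 8, 9, 5, 4, 8, 6, 5, 7, 6, 10, 7, 6, 5, 4, 8, 9, 11, 3, 4, 8, 9, 5, 4, 6, 5, 2, 3, 4, 8, 9, 5, 4, 8, 6, 5, 3, 4, 8, 9, 5, 2, 3], 25, []⟩ : Fct))) (ndA (nat_lit 331) (lfA (⟨25, [5, 4, 8, 6, 5, 7, 6, 5, 4, 8, 3, 4, 8, 9, 5, 4, 8, 6, 5, 7, 6, 3, 4, 8, 11, 9, 8, 4, 5, 6, 3, 4, 10, 7, 6, 5, 4, 8, 9, 11, 3, 4, 8, 5, 4, 6, 5, 7, 3, 4, 10], 25, []⟩ : Fct)) (lfA (⟨25, [9, 8, 4, 8, 5, 4, 8, 9, 11, 6, 3, 4, 8, 9, 11, 5, 4, 8, 6, 5, 4, 3, 4, 8, 9,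 5, 4, 8, 6, 5, 4, 7, 6, 5, 4, 8, 3, 4, 5, 6, 7, 10, 7, 6, 5, 4, 8, 9, 11, 3, 4, 8, 9, 5, 4, 6, 5, 7, 6, 3, 4, 5, 10], 25, []⟩ : Fct)))) (ndA (nat_lit 334) (ndA (nat_lit 333) (lfA (⟨25, [9, 8, 9, 4, 7, 3, 4, 8, 9, 5, 4, 8, 6, 5, 4, 7, 6, 3, 4, 8, 9, 5, 4, 6, 5, 3, 11, 9, 8, 4, 5, 6, 7, 3, 4, 8, 9, 5, 4, 8, 6, 10, 7, 6, 5, 4, 8, 9, 3, 4, 8, 5, 4, 6, 5, 7, 6, 3, 4, 8, 9, 5, 4, 3, 10], 25, []⟩ : Fct)) (lfA (⟨25, [9, 11, 8, 9, 5, 4, 8, 9, 11, 6, 5, 4, 8, 3, 4, 8, 9, 11, 5, 4, 8, 6, 5, 3, 4, 8, 9, 11, 10, 7, 6, 5, 4, 8, 9, 3, 4, 8, 5, 4, 6, 5, 7, 3, 4, 10], 25, []⟩ : Fct))) (ndA (nat_lit 335) (lfA (⟨25, [4, 8, 9, 11, 6, 3, 4, 8, 9, 5, 4, 8, 3,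 4, 5, 6, 7, 6, 5, 4, 8, 9, 11, 3, 4, 8, 9, 5, 4, 8, 6, 3, 4], 25, []⟩ : Fct)) (lfA (⟨25, [9], 25, []⟩ : Fct))))))
noncomputable def FT21 : ℕ → Fct := (ndA (nat_lit 344) (ndA (nat_lit 340) (ndA (nat_lit 338) (ndA (nat_lit 337) (lfA (⟨25, [6], 25, []⟩ : Fct)) (lfA (⟨25, [8], 25, []⟩ : Fct))) (ndA (nat_lit 339) (lfA (⟨25, [11], 25, []⟩ : Fct)) (lfA (⟨25, [4], 25, []⟩ : Fct)))) (ndA (nat_lit 342) (ndA (nat_lit 341) (lfA (⟨25, [3], 25, []⟩ : Fct)) (lfA (⟨25, [5], 25, []⟩ : Fct))) (ndA (nat_lit 343) (lfA (⟨25, [7], 25, []⟩ : Fct)) (lfA (⟨25, [10], 25, []⟩ : Fct))))) (ndA (nat_lit 348) (ndA (nat_lit 346) (ndA (nat_lit 345) (lfA (⟨7, [9, 8, 3, 4,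 5, 6, 7, 10, 3, 4, 8, 5, 6, 3, 4, 5, 2, 3, 4, 8, 9, 6, 5, 2, 3, 4, 8, 7, 6, 5, 4, 3, 2, 1, 3, 4, 5, 6, 7, 10, 3, 4, 8, 9, 6, 5, 2, 3, 4, 8, 6, 7, 4, 5, 6, 3, 4, 5, 2, 3, 4, 8, 9, 3, 4, 8, 2, 3, 4, 5, 6, 5], 26, []⟩ : Fct)) (lfA (⟨26, [3, 2, 1, 4, 3, 2, 1, 5, 4, 3, 8, 4, 3, 2, 1, 5, 4, 3, 8, 4, 5, 7, 6, 5, 4, 3, 2, 8, 4, 3, 5, 4, 6, 10, 7, 6, 5, 4, 3, 2, 8, 4, 3, 5, 4, 6, 5, 7, 6, 8, 4, 3, 2, 10, 7], 26, []⟩ : Fct))) (ndA (nat_lit 347) (lfA (⟨26, [1, 2, 4, 3, 2, 1, 6, 5, 4, 3, 2, 8, 4, 3, 2, 1, 5, 4, 3, 6, 5, 4, 8, 4, 3, 2, 5, 4, 3, 6, 5, 7, 6, 5, 4, 3, 8, 4, 5, 6, 7, 10, 7, 6, 5, 4, 3, 2, 8, 4, 3, 5, 4, 6, 5, 7, 6, 8, 4, 3, 2, 5, 4, 3, 10],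 26, []⟩ : Fct)) (lfA (⟨26, [7, 10, 5, 2, 3, 4, 8, 6, 7, 5, 6, 4, 5, 3, 4, 8, 2, 3, 4, 5, 6, 7, 10, 6, 4, 5, 3, 4, 8, 2, 3, 4, 5, 6, 7, 5, 6, 4, 5, 1, 2, 3, 4, 8, 6, 3, 4, 5, 1, 2, 3], 26, []⟩ : Fct)))) (ndA (nat_lit 350) (ndA (nat_lit 349) (lfA (⟨26, [1, 2, 3, 4, 3, 2, 5, 6, 5, 4, 3, 8, 4, 3, 2, 1, 5, 4, 3, 6, 5, 4, 8, 4, 3, 2, 1, 5, 4, 3, 7, 6, 5, 4, 3, 2, 1, 8, 4, 3, 2, 5, 4, 3, 6, 5, 4, 10, 7, 6, 5, 4, 3, 2, 8, 4, 3, 5, 4, 6, 5, 7, 6, 8, 4, 5, 10, 7, 6], 26, []⟩ : Fct)) (lfA (⟨26, [1, 3, 4, 5, 8, 4, 3, 2, 7, 6, 5, 4, 3, 8, 4, 5, 6, 7, 10, 7, 6, 5, 4, 3, 2, 1, 8, 4, 3, 5, 4, 6, 5, 7, 8, 4, 3], 26, []⟩ : Fct))) (ndA (nat_lit 351) (lfA (⟨26,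 [2], 26, []⟩ : Fct)) (lfA (⟨26, [10], 26, []⟩ : Fct))))))
noncomputable def FT22 : ℕ → Fct := (ndA (nat_lit 360) (ndA (nat_lit 356) (ndA (nat_lit 354) (ndA (nat_lit 353) (lfA (⟨26, [4], 26, []⟩ : Fct)) (lfA (⟨26, [5], 26, []⟩ : Fct))) (ndA (nat_lit 355) (lfA (⟨26, [3], 26, []⟩ : Fct)) (lfA (⟨26, [1], 26, []⟩ : Fct)))) (ndA (nat_lit 358) (ndA (nat_lit 357) (lfA (⟨26, [8], 26, []⟩ : Fct)) (lfA (⟨26, [6], 26, []⟩ : Fct))) (ndA (nat_lit 359) (lfA (⟨26, [7], 26, []⟩ : Fct)) (lfA (⟨8, [9, 8, 5, 6, 4, 5, 2, 3, 4, 8, 9, 5, 6, 4, 5, 2, 3, 4, 8, 1, 2, 3, 4, 5, 6, 7, 10, 6, 5, 3, 4, 8, 9, 7, 5, 6, 4, 5, 3, 4, 8, 2, 3, 4, 5, 6, 7, 2, 3, 4, 8, 5, 6, 4,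 5, 3, 4, 8, 9, 5, 3, 4, 8, 5, 6, 4, 5, 1, 2, 3, 4, 2, 3], 27, []⟩ : Fct))))) (ndA (nat_lit 364) (ndA (nat_lit 362) (ndA (nat_lit 361) (lfA (⟨27, [2, 3, 4, 3, 2, 5, 4, 6, 5, 8, 4, 3, 2, 1, 5, 4, 3, 6, 5, 4, 8, 4, 3, 2, 1, 5, 4, 3, 6, 9, 8, 4, 3, 2, 1, 5, 4, 3, 2, 6, 5, 4, 8, 4, 3, 2, 5, 4, 3, 6, 9, 8, 4, 3, 2, 7, 6, 5, 4, 3, 2, 1, 8, 4, 3, 2, 5, 6, 7, 9, 8, 4, 3, 2, 1, 5, 4, 3, 6, 5, 8, 9], 27, []⟩ : Fct)) (lfA (⟨27, [3, 2, 5, 4, 3, 2, 6, 7, 6, 5, 4, 3, 2, 8, 4, 3, 2, 5, 4, 3, 6, 5, 4, 7, 8, 4, 3, 2, 5, 4, 3, 6, 5, 7, 9, 8, 4, 3, 2, 5, 4, 3, 6, 5, 4, 8, 4, 5, 9, 8, 1, 2, 3, 4, 5, 6, 7, 8, 4, 3, 5, 4, 6, 9, 8, 4, 3, 2, 1, 5, 4, 3, 2, 6, 5,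 4, 3, 8, 4, 3, 5], 27, []⟩ : Fct))) (ndA (nat_lit 363) (lfA (⟨27, [5, 4, 8, 9, 4, 5, 2, 3, 4, 8, 6, 7, 5, 6, 3, 4, 5, 2, 3, 4, 8, 9, 8, 5, 6, 3, 4, 5, 2, 3, 4, 8, 1, 2, 3, 4, 5, 6, 7, 4, 8, 9, 5, 4, 8, 5, 6, 2, 3, 4, 5, 1, 2, 3, 4, 8, 9, 6, 5, 4, 8, 3, 4, 5, 1, 2, 3, 4, 8, 6, 2, 3, 4, 5, 3, 4, 1], 27, []⟩ : Fct)) (lfA (⟨27, [4, 3, 2, 7, 6, 5, 8, 4, 3, 5, 4, 6, 5, 7, 6, 8, 4, 5, 9, 8, 4, 3, 2, 1, 2, 3, 4, 5, 6, 7, 8, 4, 3, 5, 6, 9, 8, 4, 3, 2, 5, 4, 3, 6, 7, 8, 4], 27, []⟩ : Fct)))) (ndA (nat_lit 366) (ndA (nat_lit 365) (lfA (⟨27, [8], 27, []⟩ : Fct)) (lfA (⟨27, [4], 27, []⟩ : Fct))) (ndA (nat_lit 367) (lfA (⟨27, [5], 27, []⟩ : Fct)) (lfA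 (⟨27, [9], 27, []⟩ : Fct))))))
noncomputable def FT23 : ℕ → Fct := (ndA (nat_lit 376) (ndA (nat_lit 372) (ndA (nat_lit 370) (ndA (nat_lit 369) (lfA (⟨27, [3], 27, []⟩ : Fct)) (lfA (⟨27, [1], 27, []⟩ : Fct))) (ndA (nat_lit 371) (lfA (⟨27, [2], 27, []⟩ : Fct)) (lfA (⟨27, [7], 27, []⟩ : Fct)))) (ndA (nat_lit 374) (ndA (nat_lit 373) (lfA (⟨27, [6], 27, []⟩ : Fct)) (lfA (⟨9, [9, 5, 4, 8, 6, 5, 4, 7, 3, 4, 8, 9, 5, 4, 6, 5, 7, 3, 2, 3, 4, 8, 9, 5, 4, 6, 5, 3, 4, 8, 9, 2, 10, 7, 6, 5, 4, 8, 9, 3, 4, 8, 5, 4, 6, 5, 3, 2, 3, 4, 8, 5, 6, 7, 10, 11, 9, 8, 4, 5, 6, 7, 3, 4, 5, 2, 3], 28, []⟩ : Fct))) (ndA (nat_lit 375) (lfA (⟨28, [11, 8, 9, 11, 5, 4,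 6, 5, 4, 3, 4, 8, 9, 11, 5, 4, 8, 6, 5, 4, 3, 4, 8, 9, 5, 4, 8, 2, 3, 4, 8, 9, 11, 5, 4, 8, 6, 3, 4, 5, 6, 2, 7, 6, 5, 4, 8, 9, 11, 3, 4, 8, 9, 5, 4, 8, 6, 2, 3, 4, 8, 9, 11, 5, 4, 8, 6, 5, 7, 3, 4, 5, 2, 3, 4, 8], 28, []⟩ : Fct)) (lfA (⟨28, [8, 4, 8, 9, 5, 6, 5, 4, 8, 3, 2, 3, 4, 8, 9, 11, 5, 4, 8, 9, 6, 3, 4, 8, 5, 4, 6, 5, 3, 4, 8, 9, 2, 7, 6, 5, 4, 8, 9, 11, 3, 4, 8, 9, 5, 4, 8, 6, 5, 4, 2, 3, 4, 8, 9, 5, 4, 8, 6, 3, 2], 28, []⟩ : Fct))))) (ndA (nat_lit 380) (ndA (nat_lit 378) (ndA (nat_lit 377) (lfA (⟨28, [9, 11, 5, 4, 8, 6, 5, 4, 8, 9, 3, 4, 8, 9, 11, 5, 4, 8, 9, 6, 3, 4, 8, 5, 4, 6, 5, 3, 4, 8, 9, 2, 3, 4, 8, 9, 11, 5, 4, 8, 9, 6,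 5, 4, 3, 4, 8, 9, 5, 6, 2, 3, 4, 8, 7, 6, 5, 4, 8, 9, 11, 3, 4, 8, 5, 4, 6, 5, 7, 6, 2, 3, 4, 8, 5, 4, 6, 5], 28, []⟩ : Fct)) (lfA (⟨28, [4, 3, 6, 7, 5, 6, 4, 5, 8, 4, 3, 2, 6, 7, 5, 6, 4, 5, 9, 8, 4, 3, 11, 9, 8, 4, 5, 6, 7, 3, 2, 6, 5, 9, 8, 4, 3, 5, 6, 9, 8, 4, 5, 11, 9, 8, 4, 3, 2, 6, 8, 4, 5, 11, 9, 8, 4, 3, 4, 5, 6, 8, 4, 5, 9, 8, 4, 3, 8, 4, 5, 6, 8, 4, 5, 9, 8, 4, 9, 11], 28, []⟩ : Fct))) (ndA (nat_lit 379) (lfA (⟨28, [6, 3, 4, 8, 9, 11, 5, 4, 8, 9, 6, 3, 4, 8, 5, 4, 3, 2, 3, 4, 8, 9, 11, 5, 4, 8, 9, 6, 3, 4, 8, 5, 4, 6, 3], 28, []⟩ : Fct)) (lfA (⟨28, [2], 28, []⟩ : Fct)))) (ndA (nat_lit 382) (ndA (nat_lit 381) (lfA (⟨28, [9], 28,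 []⟩ : Fct)) (lfA (⟨28, [11], 28, []⟩ : Fct))) (ndA (nat_lit 383) (lfA (⟨28, [8], 28, []⟩ : Fct)) (lfA (⟨28, [5], 28, []⟩ : Fct))))))
noncomputable def FT24 : ℕ → Fct := (ndA (nat_lit 392) (ndA (nat_lit 388) (ndA (nat_lit 386) (ndA (nat_lit 385) (lfA (⟨28, [6], 28, []⟩ : Fct)) (lfA (⟨28, [7], 28, []⟩ : Fct))) (ndA (nat_lit 387) (lfA (⟨28, [4], 28, []⟩ : Fct)) (lfA (⟨28, [3], 28, []⟩ : Fct)))) (ndA (nat_lit 390) (ndA (nat_lit 389) (lfA (⟨10, [4, 5, 4, 7, 8, 4, 3, 9, 8, 4, 3, 2, 5, 4, 6, 5, 7, 6, 8, 4, 3, 2, 10, 7, 6, 5, 4, 3, 2, 8, 4, 5, 6, 9, 8, 1, 2, 3, 4, 5, 6, 7, 8, 4, 3, 5, 4, 6, 5, 9, 8, 4, 3, 5, 6, 7, 10, 7, 6, 5, 4, 8], 29, []⟩ : Fct))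 (lfA (⟨29, [1], 29, []⟩ : Fct))) (ndA (nat_lit 391) (lfA (⟨29, [2, 3, 4, 5, 7, 6, 5, 4, 3, 2, 8, 4, 3, 2, 5, 4, 3, 6, 5, 8, 4, 3, 2, 5, 6, 7, 9, 8, 4, 3, 2, 5, 4, 3, 8, 4, 5, 9, 8, 4, 3, 2], 29, []⟩ : Fct)) (lfA (⟨29, [2, 1, 4, 5, 4, 6, 9, 8, 4, 3, 2, 1, 5, 4, 3, 8, 4, 5, 6, 7, 6, 5, 4, 3, 2, 1, 8, 4, 3, 2, 5, 4, 6, 5, 8, 4, 9], 29, []⟩ : Fct))))) (ndA (nat_lit 396) (ndA (nat_lit 394) (ndA (nat_lit 393) (lfA (⟨29, [1, 3, 2, 1, 4, 3, 2, 5, 4, 3, 2, 6, 5, 4, 3, 2, 1, 8, 4, 3, 2, 1, 5, 4, 3, 2, 8, 4, 5, 9, 8, 4, 3, 2, 1, 5, 4, 8, 7, 6, 5, 4, 3, 2, 1, 8, 4, 3, 5, 4, 6, 5, 7, 6, 9, 8, 4, 3, 2, 1, 5, 4, 3], 29, []⟩ : Fct)) (lfA (⟨29, [2, 3, 4,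 8, 9, 5, 4, 8, 6, 7, 5, 6, 3, 4, 5, 2, 3, 4, 8, 9, 8, 6, 4, 5, 2, 3, 4, 8, 1, 2, 3, 4, 5, 6, 7, 5, 4, 8, 9, 5, 2, 3, 4, 8, 5, 6, 3, 4, 5, 1, 2, 3, 4, 8, 9, 5, 4, 8, 5, 3, 1], 29, []⟩ : Fct))) (ndA (nat_lit 395) (lfA (⟨29, [1, 4, 3, 2, 5, 4, 3, 2, 6, 5, 4, 3, 2, 1, 8, 4, 3, 2, 5, 4, 3, 6, 5, 4, 9, 8, 4, 3, 2, 1, 5, 4, 3, 2, 8, 9, 7, 6, 5, 4, 3, 2, 1, 8, 4, 3, 2, 5, 4, 6, 5, 9, 8, 4, 3, 5, 4, 6, 5, 8, 4, 3, 9, 8], 29, []⟩ : Fct)) (lfA (⟨29, [1], 29, []⟩ : Fct)))) (ndA (nat_lit 398) (ndA (nat_lit 397) (lfA (⟨29, [7], 29, []⟩ : Fct)) (lfA (⟨29, [3], 29, []⟩ : Fct))) (ndA (nat_lit 399) (lfA (⟨29, [5], 29, []⟩ : Fct)) (lfA (⟨29, [8], 29, []⟩ :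 Fct))))))
noncomputable def FT25 : ℕ → Fct := (ndA (nat_lit 408) (ndA (nat_lit 404) (ndA (nat_lit 402) (ndA (nat_lit 401) (lfA (⟨29, [9, 8, 4, 5, 3, 4, 8, 9], 29, []⟩ : Fct)) (lfA (⟨29, [2, 3, 1, 2], 29, []⟩ : Fct))) (ndA (nat_lit 403) (lfA (⟨29, [4, 8, 3, 4], 29, []⟩ : Fct)) (lfA (⟨29, [4, 5, 3, 4], 29, []⟩ : Fct)))) (ndA (nat_lit 406) (ndA (nat_lit 405) (lfA (⟨29, [6, 7, 5, 6], 29, []⟩ : Fct)) (lfA (⟨11, [8, 9, 4, 8, 5, 4, 3, 4, 8, 9, 5, 6, 2, 3, 4, 8, 9, 11, 5, 4, 8, 9, 3, 4, 8, 5, 4, 6, 3, 7, 6, 5, 4, 8, 9, 11, 10, 7, 6, 5, 4, 8, 9, 3, 4, 8, 5, 4, 6, 3], 30, []⟩ : Fct))) (ndA (nat_lit 407) (lfA (⟨30, [8], 30, []⟩ : Fct)) (lfA (⟨30, [11],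 30, []⟩ : Fct))))) (ndA (nat_lit 412) (ndA (nat_lit 410) (ndA (nat_lit 409) (lfA (⟨30, [6, 5, 4, 8, 3, 4, 8, 9, 11, 5, 4, 8, 9, 6, 3, 4, 8, 5, 4, 6, 5, 3, 4, 8, 9, 11, 2, 3, 4, 8, 9, 11, 5, 4, 8, 6, 5, 4, 3, 4, 8, 5, 4, 6, 5, 2, 3, 4, 8, 7, 6, 5, 4, 8, 9, 3, 4, 8, 5, 2, 3, 4, 8, 9, 5], 30, []⟩ : Fct)) (lfA (⟨30, [4, 5, 4, 3, 4, 5], 30, []⟩ : Fct))) (ndA (nat_lit 411) (lfA (⟨30, [4, 8, 9, 11, 5, 4, 8, 9, 3, 4, 8, 9, 11, 5, 4, 8, 9, 6, 5, 4, 8, 3, 4, 5, 6, 2, 3, 4, 8, 9, 11, 5, 4, 8, 9, 6, 3, 4, 8, 5, 4, 6, 5, 3, 4, 8, 2, 7, 6, 5, 4, 8, 9, 11, 3, 4, 8, 9, 5, 4, 8, 6, 5, 7, 6, 2, 3, 4, 8, 5, 4, 6, 5, 7, 3], 30, []⟩ : Fct)) (lfA (⟨30, [11, 9,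 11, 8, 9, 11, 5, 4, 8, 9, 11, 6, 3, 4, 8, 9, 5, 2, 3, 4, 8, 5, 4, 6, 5, 3, 4, 2, 3, 7, 6, 5, 4, 8, 9, 11, 3, 4, 8, 5, 4, 6, 7, 2, 3, 4, 8, 9, 11, 5, 4, 8, 6, 5, 4, 7, 6, 5], 30, []⟩ : Fct)))) (ndA (nat_lit 414) (ndA (nat_lit 413) (lfA (⟨30, [9, 8, 9, 5, 4, 6, 5, 7, 6, 5, 3, 4, 8, 9, 5, 2, 3, 4, 8, 9, 5, 4, 8, 6, 5, 4, 3, 4, 8, 9, 5, 4, 8, 6, 5, 7, 6, 2, 3, 11, 9, 8, 4, 5, 3, 4, 8, 9, 11, 2, 3, 4], 30, []⟩ : Fct)) (lfA (⟨30, [8], 30, []⟩ : Fct))) (ndA (nat_lit 415) (lfA (⟨30, [11], 30, []⟩ : Fct)) (lfA (⟨30, [7], 30, []⟩ : Fct))))))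
noncomputable def FT26 : ℕ → Fct := (ndA (nat_lit 424) (ndA (nat_lit 420) (ndA (nat_lit 418) (ndA (nat_lit 417) (lfA (⟨30, [3], 30, []⟩ : Fct)) (lfA (⟨30, [5], 30, []⟩ : Fct))) (ndA (nat_lit 419) (lfA (⟨30, [2, 3, 4, 5, 8, 4, 3, 2], 30, []⟩ : Fct)) (lfA (⟨30, [4, 3, 8, 4], 30, []⟩ : Fct)))) (ndA (nat_lit 422) (ndA (nat_lit 421) (lfA (⟨30, [4, 5, 8, 4], 30, []⟩ : Fct)) (lfA (⟨30, [6, 7, 5, 6], 30, []⟩ : Fct))) (ndA (nat_lit 423) (lfA (⟨30, [9, 8, 11, 9], 30, []⟩ : Fct)) (lfA (⟨12, [2, 6, 5, 7, 6, 5, 4, 3, 8, 4, 3, 2, 5, 4, 6, 5, 9, 8, 4, 3, 2, 5, 4, 3, 6, 5, 4, 7, 6, 5, 8, 4, 3, 5, 4, 6, 8, 1, 2, 3, 4, 5, 6, 7, 8, 4, 3, 5, 6, 10, 7, 6, 5,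 4, 3, 2, 8, 4, 3, 5, 4, 6, 5, 7, 9, 8, 4, 3, 2, 10], 31, []⟩ : Fct))))) (ndA (nat_lit 428) (ndA (nat_lit 426) (ndA (nat_lit 425) (lfA (⟨31, [1, 2, 3, 2, 1, 4, 5, 4, 6, 5, 4, 3, 8, 4, 3, 2, 1, 5, 4, 3, 6, 5, 4, 8, 4, 5, 6, 9, 8, 4, 3, 2, 1, 5, 4, 6, 5, 8, 4, 3, 2, 9, 8, 4, 3, 5, 4, 8, 9, 7, 6, 5, 4, 3, 2, 1, 8, 4, 3, 2, 5, 4, 3, 6, 7, 8, 9, 8, 4, 3, 2, 1, 5, 4, 3, 2, 6, 8], 31, []⟩ : Fct)) (lfA (⟨31, [2, 4, 3, 2, 1, 5, 4, 8, 4, 3, 2, 1, 5, 4, 6, 8, 9, 8, 4, 3, 2, 1, 5, 4, 3, 6, 5, 4, 8, 4, 3, 5, 4, 6, 5, 7, 6, 5, 4, 3, 2, 1, 8, 4, 3, 2, 5, 4, 3, 6, 5, 7, 8, 9, 8, 4, 3, 2, 5, 4, 3, 8, 4], 31, []⟩ : Fct))) (ndA (nat_lit 427) (lfA (⟨31, [1, 3,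 4, 3, 2, 5, 4, 3, 2, 6, 8, 4, 3, 2, 1, 5, 4, 3, 2, 6, 5, 4, 8, 4, 3, 2, 5, 4, 3, 6, 5, 9, 8, 4, 3, 2, 5, 4, 3, 6, 5, 4, 8, 4, 3, 5, 4, 9, 8, 4, 3, 7, 6, 5, 4, 3, 2, 1, 8, 4, 5, 6, 7, 9, 8, 4, 3, 5, 4, 6, 5, 8, 4, 3, 2, 9], 31, []⟩ : Fct)) (lfA (⟨31, [4, 3, 2, 6, 8, 4, 3, 2, 5, 9, 8, 4, 3, 2, 1, 5, 4, 3, 2, 6, 5, 4, 3, 8, 4, 5, 6, 9, 8, 4, 5, 7, 6, 5, 4, 3, 2, 1, 8, 4, 3, 2, 5, 4, 3, 6, 7, 9, 8, 4, 3, 2, 1, 5, 4, 6, 5, 7, 6, 8, 4, 3, 2, 5], 31, []⟩ : Fct)))) (ndA (nat_lit 430) (ndA (nat_lit 429) (lfA (⟨31, [8, 4, 5, 2, 3, 4, 8, 6, 7, 5, 6, 4, 5, 2, 3, 4, 8, 9, 6, 3, 4, 5, 2, 3, 4, 8, 1, 2, 3, 4, 5, 6, 7, 8, 9, 6, 5, 4, 8, 3, 4, 5, 6, 2, 3,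 4, 5, 1, 2, 3, 4, 8, 9, 5, 6, 3, 4, 5, 1, 2, 3, 4, 8, 3, 4, 5, 3, 4, 3], 31, []⟩ : Fct)) (lfA (⟨31, [1], 31, []⟩ : Fct))) (ndA (nat_lit 431) (lfA (⟨31, [1], 31, []⟩ : Fct)) (lfA (⟨31, [8], 31, []⟩ : Fct))))))
noncomputable def FT27 : ℕ → Fct := (ndA (nat_lit 440) (ndA (nat_lit 436) (ndA (nat_lit 434) (ndA (nat_lit 433) (lfA (⟨31, [3], 31, []⟩ : Fct)) (lfA (⟨31, [7], 31, []⟩ : Fct))) (ndA (nat_lit 435) (lfA (⟨31, [5], 31, []⟩ : Fct)) (lfA (⟨31, [6, 7, 5, 6], 31, []⟩ : Fct)))) (ndA (nat_lit 438) (ndA (nat_lit 437) (lfA (⟨31, [4, 5, 3, 4], 31, []⟩ : Fct)) (lfA (⟨31, [4, 8, 3, 4], 31, []⟩ : Fct))) (ndA (nat_lit 439) (lfA (⟨31, [2, 3, 1, 2], 31,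 []⟩ : Fct)) (lfA (⟨31, [9, 8, 4, 5, 3, 4, 8, 9], 31, []⟩ : Fct))))) (ndA (nat_lit 444) (ndA (nat_lit 442) (ndA (nat_lit 441) (lfA (⟨13, [4, 8, 9, 11, 5, 4, 3, 4, 8, 9, 5, 4, 8, 6, 5, 3, 4, 8, 9, 11, 5, 2, 3, 4, 8, 9, 11, 5, 4, 8, 9, 6, 5, 3, 4, 8, 9, 11, 2, 7, 6, 5, 4, 8, 9, 11, 3, 4, 10, 7, 6, 5, 4, 8, 9, 11, 3, 4, 8, 5, 4, 6, 5, 7, 6, 2, 3, 4, 8, 9, 5, 6, 10], 32, []⟩ : Fct)) (lfA (⟨32, [11, 4, 8, 9, 11, 5, 4, 8, 9, 6, 5, 4, 8, 9, 11, 3, 4, 8, 9, 11, 5, 4, 8, 6, 5, 4], 32, []⟩ : Fct))) (ndA (nat_lit 443) (lfA (⟨32, [2, 3, 4, 5, 8, 4, 3, 2, 3, 5, 6, 4, 5, 9, 8, 4, 3, 11, 9, 8, 4, 5, 6, 7, 6, 5, 9, 8, 4, 3, 2, 11, 9, 8, 4, 3, 5, 6, 9, 8,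 4, 5, 11, 9, 8, 4, 3, 2, 4, 5, 11, 9, 8, 4, 3, 11, 9, 8, 4, 5, 8, 11, 9], 32, []⟩ : Fct)) (lfA (⟨32, [9, 8, 4, 8, 5, 4, 6, 5, 4, 8, 9, 7, 6, 5, 4, 8, 3, 4, 8, 9, 5, 4, 8, 6, 5, 4, 7, 6, 5, 3, 4, 5, 6, 7, 2, 3, 4, 8, 9, 5, 4, 8, 6, 5, 4, 3, 4, 8, 9, 5, 4, 8, 2, 3, 4, 5, 11, 9, 8, 4, 5, 6, 7, 3, 4, 8, 5, 4, 6, 2, 3, 4, 8, 9, 11, 5, 4, 8, 9, 3], 32, []⟩ : Fct)))) (ndA (nat_lit 446) (ndA (nat_lit 445) (lfA (⟨32, [2, 11, 9, 8, 4, 3, 6, 7, 5, 6, 8, 4, 5, 9, 8, 4, 3, 2, 6, 5, 9, 8, 4, 3, 11, 9, 8, 4, 5, 6, 7, 8, 4, 5, 6, 9, 8, 4, 5, 11, 9, 8, 4, 3, 2, 5, 8, 4, 3, 5, 6, 8, 4, 5, 9, 8, 4, 3, 4, 5, 6, 9, 8, 4, 5, 11, 9, 8], 32, []⟩ : Fct)) (lfA (⟨32,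 [9, 11, 8, 9, 4, 8, 5, 4, 2, 3, 4, 8, 9, 11, 5, 4, 8, 9, 6, 5, 3, 4, 8, 2, 3, 4, 5, 6, 7, 6, 5, 4, 8, 9, 11, 3, 4, 8, 9, 5, 4, 8, 6, 5, 4, 2, 3, 4, 8, 9, 11, 5, 4, 8, 9, 3, 2], 32, []⟩ : Fct))) (ndA (nat_lit 447) (lfA (⟨32, [3], 32, []⟩ : Fct)) (lfA (⟨32, [11], 32, []⟩ : Fct))))))
noncomputable def FT28 : ℕ → Fct := (ndA (nat_lit 456) (ndA (nat_lit 452) (ndA (nat_lit 450) (ndA (nat_lit 449) (lfA (⟨32, [7], 32, []⟩ : Fct)) (lfA (⟨32, [5], 32, []⟩ : Fct))) (ndA (nat_lit 451) (lfA (⟨32, [8], 32, []⟩ : Fct)) (lfA (⟨32, [9, 8, 11, 9], 32, []⟩ : Fct)))) (ndA (nat_lit 454) (ndA (nat_lit 453) (lfA (⟨32, [4, 5, 8, 4], 32, []⟩ : Fct)) (lfA (⟨32, [4,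 3, 8, 4], 32, []⟩ : Fct))) (ndA (nat_lit 455) (lfA (⟨32, [2, 3, 4, 5, 8, 4, 3, 2], 32, []⟩ : Fct)) (lfA (⟨32, [6, 7, 5, 6], 32, []⟩ : Fct))))) (ndA (nat_lit 460) (ndA (nat_lit 458) (ndA (nat_lit 457) (lfA (⟨14, [9, 8, 4, 3, 2, 5, 4, 3, 6, 7, 4, 5, 6, 8, 4, 5, 11, 9, 8, 4, 3, 2, 3, 7, 6, 8, 4, 5, 9, 8, 4, 3, 11, 9, 8, 4, 5, 6, 7, 10, 3, 2, 4, 3, 7, 4, 5, 6, 9, 8, 4, 5, 11, 9, 8, 4, 3, 2, 7, 6, 8, 4, 5, 9, 8, 4, 3, 11, 9, 8, 4, 5, 6, 7, 2, 11, 9, 8, 4, 3, 5, 6, 8, 4, 5, 9, 8, 4, 3, 2, 4, 3, 5, 6, 8, 4, 5, 9, 8, 4, 9, 11], 33, []⟩ : Fct)) (lfA (⟨33, [7, 10, 7, 6, 5, 8, 4, 3, 2, 7, 6, 4, 5, 8, 4, 3, 9, 8, 4, 5, 6, 7, 10, 4, 5, 8, 4, 3, 2, 6,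 5, 8, 4, 3, 7, 5, 6, 8, 4, 5, 9, 8, 4, 3, 2, 6, 5, 8, 4, 3, 7, 5, 6, 8, 4, 5, 9, 8, 4, 3, 9, 8, 4, 5, 6, 7, 4, 5, 6, 9, 8, 4, 5, 4], 33, []⟩ : Fct))) (ndA (nat_lit 459) (lfA (⟨33, [10, 2, 6, 7, 5, 6, 4, 5, 8, 4, 3, 9, 8, 4, 5, 6, 7, 10, 8, 4, 3, 2, 6, 8, 4, 5, 9, 8, 4, 3, 4, 5, 6, 8, 4, 5, 9, 8, 4, 3, 2, 8, 4, 3, 6, 7, 4, 5, 6, 8, 4, 5, 9, 8, 4, 3, 5, 6, 7, 4, 5, 6, 8, 4, 5, 9, 8, 4, 3, 6, 7, 5, 6, 5, 8, 9], 33, []⟩ : Fct)) (lfA (⟨33, [8, 5, 4, 8, 7, 6, 5, 3, 4, 8, 9, 5, 4, 8, 6, 5, 4, 3, 4, 8, 9, 5, 4, 8, 6, 5, 2, 3, 4, 8, 9, 5, 4, 8, 6, 5, 4, 7, 6, 3, 4, 8, 5, 4, 6, 5, 3, 2, 3, 4, 8, 9, 5, 6, 7, 10, 7, 6, 5, 4, 8, 9, 3, 4, 8, 5, 4, 6, 3,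 2, 3, 4], 33, []⟩ : Fct)))) (ndA (nat_lit 462) (ndA (nat_lit 461) (lfA (⟨33, [8, 9, 4, 5, 4, 8, 3, 4, 8, 9, 5, 4, 8, 6, 5, 7, 6, 3, 4, 8, 9, 5, 2, 3, 4, 8, 9, 5, 4, 8, 6, 5, 4, 7, 6, 5, 3, 4, 8, 5, 6, 7, 2, 3, 4, 8, 5, 10, 7, 6, 5, 4, 8, 9, 3, 4, 8, 5, 4, 6, 5, 7, 6, 3, 2, 10], 33, []⟩ : Fct)) (lfA (⟨33, [8, 4, 8, 5, 4, 8, 6, 5, 4, 8, 7, 6, 5, 4, 3, 4, 8, 9, 5, 4, 8, 6, 3, 4, 2, 3, 4, 8, 9, 5, 4, 8, 6, 5, 4, 7, 6, 3, 4, 8, 9, 5, 4, 8, 2, 3, 4, 8, 5, 4, 10, 7, 6, 5, 4, 8, 9, 3, 4, 8, 5, 4, 6, 5, 7, 6, 3, 2, 3, 4, 8, 10], 33, []⟩ : Fct))) (ndA (nat_lit 463) (lfA (⟨33, [9, 8, 9, 4, 8, 5, 4, 8, 6, 7, 3, 4, 8, 9, 5, 4, 8, 6, 5, 4, 7, 6, 3, 4,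 8, 9, 5, 4, 6, 7, 2, 3, 4, 8, 9, 5, 4, 8, 6, 5, 4, 7, 6, 5, 3, 4, 8, 9, 5, 4, 6, 5, 2, 3, 4, 8, 5, 4, 6, 10, 7, 6, 5, 4, 8, 9, 3, 4, 8, 5, 4, 6, 5, 7, 6, 3, 4, 5, 2, 10], 33, []⟩ : Fct)) (lfA (⟨33, [8, 2], 33, []⟩ : Fct))))))
noncomputable def FT29 : ℕ → Fct := (ndA (nat_lit 472) (ndA (nat_lit 468) (ndA (nat_lit 466) (ndA (nat_lit 465) (lfA (⟨33, [8, 3], 33, []⟩ : Fct)) (lfA (⟨33, [6, 5, 4, 3, 7, 6, 5, 4, 8, 4, 5, 6, 7, 3, 4, 5, 6, 4], 33, []⟩ : Fct))) (ndA (nat_lit 467) (lfA (⟨33, [4, 2], 33, []⟩ : Fct)) (lfA (⟨33, [6, 5, 4, 3, 7, 6, 5, 4, 8, 4, 5, 6, 7, 3, 4, 5, 6, 8], 33, []⟩ : Fct)))) (ndA (nat_lit 470) (ndA (nat_lit 469) (lfA (⟨33, [9,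 5], 33, []⟩ : Fct)) (lfA (⟨33, [5, 2], 33, []⟩ : Fct))) (ndA (nat_lit 471) (lfA (⟨33, [5, 3], 33, []⟩ : Fct)) (lfA (⟨33, [8, 5], 33, []⟩ : Fct))))) (ndA (nat_lit 476) (ndA (nat_lit 474) (ndA (nat_lit 473) (lfA (⟨33, [9, 2], 33, []⟩ : Fct)) (lfA (⟨33, [9, 3], 33, []⟩ : Fct))) (ndA (nat_lit 475) (lfA (⟨33, [9, 4], 33, []⟩ : Fct)) (lfA (⟨33, [9, 10], 33, []⟩ : Fct)))) (ndA (nat_lit 478) (ndA (nat_lit 477) (lfA (⟨33, [8, 10], 33, []⟩ : Fct)) (lfA (⟨33, [4, 10], 33, []⟩ : Fct))) (ndA (nat_lit 479) (lfA (⟨33, [3, 10], 33, []⟩ : Fct)) (lfA (⟨33, [2, 10], 33, []⟩ : Fct))))))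
noncomputable def FT30 : ℕ → Fct := (ndA (nat_lit 488) (ndA (nat_lit 484) (ndA (nat_lit 482) (ndA (nat_lit 481) (lfA (⟨33, [5, 10], 33, []⟩ : Fct)) (lfA (⟨15, [5, 2, 3, 4, 8, 9, 5, 3, 4, 8, 6, 7, 5, 6, 3, 4, 5, 1, 2, 3, 4, 8, 9, 8, 7, 6, 4, 5, 2, 3, 4, 8, 1, 2, 3, 4, 5, 6, 7, 10, 7, 6, 5, 4, 8, 9, 3, 4, 8, 5, 6, 2, 3, 4, 5, 1, 2, 3, 4, 8, 9, 6, 4, 5, 2, 3, 4, 8, 7, 6, 5, 4, 3, 2, 1, 9, 8, 7, 5, 6, 4, 5, 3, 4, 8, 9, 5, 4, 8, 3, 4, 5, 6, 4, 5, 2, 3, 4, 3], 34, []⟩ : Fct))) (ndA (nat_lit 483) (lfA (⟨34, [3, 4, 3, 6, 7, 6, 5, 8, 4, 3, 2, 5, 4, 3, 6, 5, 4, 7, 6, 8, 4, 3, 2, 5, 4, 3, 6, 5, 7, 8, 4, 9, 8, 4, 3, 2, 5, 4, 3, 6, 5, 4, 7, 6, 8, 4, 3,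 5, 4, 6, 5, 9, 8, 4, 3, 2, 5, 4, 10, 7, 6, 5, 4, 3, 2, 8, 4, 3, 5, 4, 6, 5, 7, 6, 8, 9, 8, 10], 34, []⟩ : Fct)) (lfA (⟨34, [7, 10, 3, 4, 8, 6, 7, 5, 6, 4, 5, 3, 4, 8, 2, 3, 4, 5, 6, 7, 10, 9, 8, 3, 4, 5, 2, 3, 4, 8, 6, 7, 5, 6, 3, 4, 5, 2, 3, 4, 8, 9, 6, 5, 2, 3, 4, 8, 5, 6, 3, 4, 5, 2, 3, 4, 8, 3, 4, 5, 6, 7, 5, 6, 3, 4, 5, 4, 2, 3], 34, []⟩ : Fct)))) (ndA (nat_lit 486) (ndA (nat_lit 485) (lfA (⟨34, [10, 5, 6, 4, 5, 2, 3, 4, 8, 9, 7, 6, 5, 3, 4, 8, 2, 3, 4, 5, 6, 7, 10, 7, 6, 5, 4, 8, 3, 4, 5, 2, 3, 4, 8, 9, 6, 5, 4, 8, 5, 6, 3, 4, 5, 2, 3, 4, 8, 6, 7, 4, 5, 6, 3, 4, 5, 2, 3, 4, 8, 7, 5, 6, 3, 4, 5, 2, 3, 4, 3, 2], 34, []⟩ : Fct)) (lfA (⟨34,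 [10, 7, 6, 5, 4, 8, 9, 8, 4, 5, 3, 4, 8, 2, 3, 4, 5, 6, 7, 10, 7, 6, 5, 4, 8, 9, 6, 4, 5, 3, 4, 8, 5, 6, 7, 4, 5, 6, 3, 4, 5, 2, 3, 4, 8, 9, 6, 5, 4, 8, 5, 6, 3, 4, 5, 2, 3, 4, 8, 3, 4, 5, 6, 7, 4, 5, 6, 2, 3, 4, 5, 3, 4, 2], 34, []⟩ : Fct))) (ndA (nat_lit 487) (lfA (⟨34, [6, 5, 4, 7, 6, 8, 4, 3, 2, 5, 4, 3, 8, 4, 5, 9, 8, 4, 3, 5, 4, 6, 7, 8, 9, 10, 7, 6, 5, 4, 3, 2, 8, 4, 3, 5, 4, 6, 7, 9, 8, 4, 5, 6], 34, []⟩ : Fct)) (lfA (⟨34, [8, 10], 34, []⟩ : Fct))))) (ndA (nat_lit 492) (ndA (nat_lit 490) (ndA (nat_lit 489) (lfA (⟨34, [6, 5, 4, 8, 7, 6, 5, 4, 3, 4, 5, 6, 7, 8, 4, 5, 6, 4], 34, []⟩ : Fct)) (lfA (⟨34, [2, 5], 34, []⟩ : Fct))) (ndA (nat_lit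 491) (lfA (⟨34, [3, 10], 34, []⟩ : Fct)) (lfA (⟨34, [2, 10], 34, []⟩ : Fct)))) (ndA (nat_lit 494) (ndA (nat_lit 493) (lfA (⟨34, [3, 5], 34, []⟩ : Fct)) (lfA (⟨34, [5, 10], 34, []⟩ : Fct))) (ndA (nat_lit 495) (lfA (⟨34, [2, 8], 34, []⟩ : Fct)) (lfA (⟨34, [3, 8], 34, []⟩ : Fct))))))
noncomputable def FT31 : ℕ → Fct := (ndA (nat_lit 504) (ndA (nat_lit 500) (ndA (nat_lit 498) (ndA (nat_lit 497) (lfA (⟨34, [6, 5, 4, 8, 7, 6, 5, 4, 3, 4, 5, 6, 7, 8, 4, 5, 6, 3], 34, []⟩ : Fct)) (lfA (⟨34, [4, 10], 34, []⟩ : Fct))) (ndA (nat_lit 499) (lfA (⟨34, [2, 4], 34, []⟩ : Fct)) (lfA (⟨34, [2, 9], 34, []⟩ : Fct)))) (ndA (nat_lit 502) (ndA (nat_lit 501) (lfA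 (⟨34, [9, 10], 34, []⟩ : Fct)) (lfA (⟨34, [3, 9], 34, []⟩ : Fct))) (ndA (nat_lit 503) (lfA (⟨34, [4, 9], 34, []⟩ : Fct)) (lfA (⟨34, [5, 9], 34, []⟩ : Fct))))) (ndA (nat_lit 508) (ndA (nat_lit 506) (ndA (nat_lit 505) (lfA (⟨34, [5, 8], 34, []⟩ : Fct)) (lfA (⟨0, [], 1, []⟩ : Fct))) (ndA (nat_lit 507) (lfA (⟨0, [10, 7, 6, 5, 4, 3, 2, 1], 21, [11, 8, 9, 4, 5, 4, 8, 9, 3, 4, 8, 9, 11, 5, 4, 8, 6, 3, 4, 5, 2, 3, 4, 8, 5, 4, 6, 5, 3, 4, 8, 7, 6, 5, 4, 8, 3, 4, 2, 10, 7, 6, 5, 4, 8, 9, 11, 3]⟩ : Fct)) (lfA (⟨0, [10, 7, 6, 5, 4, 8, 9, 3, 4, 8, 5, 6, 2, 3, 4, 5, 1, 2, 3, 4, 8, 9, 6, 4, 5, 2, 3, 4, 8, 7, 6, 5, 4, 3, 2, 1], 33, [11, 9, 4, 8, 9, 5, 4,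 8, 6, 5, 3, 4, 2, 3, 4, 8, 9, 5, 4, 8, 6, 5, 3, 4, 8, 9, 11, 2, 7, 6, 5, 4, 8, 9, 11, 3, 4, 8, 9, 5, 4, 8, 6, 7, 2, 3, 4, 8, 9, 11, 5, 4, 8, 9, 6, 5, 4, 7, 3, 4, 2, 3, 10, 7, 6, 5, 4, 8, 9, 11, 3, 4, 8, 9, 5, 4, 8, 6, 7, 3, 2, 3, 4, 8, 9, 11, 5, 4, 8, 6, 5, 4, 7, 6, 3, 4, 5, 2, 3, 4, 8, 9, 11]⟩ : Fct)))) (ndA (nat_lit 510) (ndA (nat_lit 509) (lfA (⟨1, [], 0, []⟩ : Fct)) (lfA (⟨1, [10, 7, 6, 5, 4, 8, 9, 11], 22, [3, 2, 4, 7, 9, 10, 7, 6, 5, 4, 3, 8, 4, 9, 8, 1, 2, 3, 4, 5, 6, 7, 8, 4, 3, 5, 4, 6, 9, 8, 4, 3, 5, 4, 8, 9, 10, 7, 6, 5, 4, 3, 2, 1]⟩ : Fct))) (ndA (nat_lit 511) (lfA (⟨1, [10, 7, 6, 5, 4, 3, 2, 8, 4, 3, 5, 6, 9, 8, 4, 5, 11, 9,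 8, 4, 3, 2, 6, 4, 5, 9, 8, 4, 3, 7, 6, 5, 4, 8, 9, 11], 34, [5, 1, 2, 3, 4, 8, 9, 6, 5, 3, 4, 8, 6, 7, 5, 6, 3, 4, 5, 2, 3, 4, 8, 9, 7, 6, 4, 5, 2, 3, 4, 8, 1, 2, 3, 4, 5, 6, 7, 10, 7, 6, 5, 4, 8, 9, 3, 4, 8, 5, 6, 2, 3, 4, 5, 1, 2, 3, 4, 8, 9, 6, 4, 5, 2, 3, 4, 8, 7, 6, 5, 4, 3, 2, 1, 9, 6, 5, 4, 8, 3, 4, 5, 2, 3, 4, 8, 9, 5, 2, 3, 4, 8, 6, 7, 5, 6, 4, 5, 3, 4, 8, 5, 6, 7, 4, 5, 6, 2, 3, 4, 5, 3, 4]⟩ : Fct)) (lfA (⟨21, [], 0, [7, 10, 9, 6, 7, 5, 6, 3, 4, 5, 2, 3, 4, 8, 1, 2, 3, 4, 5, 6, 7, 10, 8, 2, 3, 4, 5, 6, 7, 9, 1, 2, 3, 4, 8, 5, 6, 4, 5, 2, 3, 4, 8, 9, 8, 4, 5, 2, 3, 4, 8, 2, 3, 4, 5, 4, 3, 2]⟩ : Fct))))))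
noncomputable def FT32 : ℕ → Fct := (ndA (nat_lit 520) (ndA (nat_lit 516) (ndA (nat_lit 514) (ndA (nat_lit 513) (lfA (⟨21, [2, 3, 4, 8, 9, 11], 22, [2, 3, 2, 4, 5, 4, 6, 5, 7, 6, 5, 4, 3, 8, 4, 3, 2, 5, 4, 3, 6, 5, 4, 7, 6, 5, 8, 4, 3, 2, 5, 4, 6, 7, 8, 10, 7, 6, 5, 4, 3, 2, 8, 4, 3, 5, 4, 6, 9, 1, 2, 3, 4, 5, 6, 7, 8, 4, 3, 2, 1, 9, 8]⟩ : Fct)) (lfA (⟨21, [2, 3, 4, 5, 6, 7, 10, 8, 4, 3, 5, 6, 9, 8, 4, 5, 11, 9, 8, 4, 3, 2, 6, 4, 5, 9, 8, 4, 3, 7, 6, 5, 4, 8, 9, 11], 23, [2, 4, 6, 5, 4, 7, 8, 4, 3, 2, 5, 4, 3, 6, 5, 7, 8, 4, 3, 5, 9, 8, 4, 3, 2, 5, 4, 3, 6, 5, 7, 6, 8, 4, 3, 5, 4, 8, 9, 1, 2, 3, 4, 5, 6, 7, 8, 4, 3, 2, 5, 6, 9, 8, 4, 3, 5,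 4, 6, 7, 8, 10, 7, 6, 5, 4, 3, 2, 1, 8, 4, 3, 2, 5, 4, 3, 6, 9, 8, 4, 3, 2, 5, 4, 3, 6, 5, 7, 6, 8, 4, 3, 5, 9, 8, 4, 3, 2, 1, 10]⟩ : Fct))) (ndA (nat_lit 515) (lfA (⟨21, [2, 3, 4, 5, 8, 4, 3, 2, 6, 5, 9, 8, 4, 3, 7, 6, 5, 4, 8, 9, 11], 29, [10, 2, 3, 4, 8, 7, 5, 6, 4, 5, 3, 4, 8, 2, 3, 4, 5, 6, 7, 10, 6, 7, 5, 6, 4, 5, 2, 3, 4, 8, 9, 4, 5, 3, 4, 8, 6, 5, 4, 3, 2, 1, 4, 5, 3, 4, 8, 9, 6, 5, 4, 8, 7, 6, 3, 4, 5, 2, 3, 4, 8, 9, 5, 6, 4, 5, 2, 3, 4, 8, 7, 4, 5, 6, 3, 4, 5, 2, 3, 4, 8, 7, 2, 3, 4, 5, 6, 4, 5, 3, 4, 2, 3]⟩ : Fct)) (lfA (⟨21, [2, 3, 4, 5, 8, 4, 3, 2, 6, 5, 9, 8, 4, 3, 11, 9, 8, 4, 5, 6, 7, 10, 6, 5, 4, 3, 2, 8, 4, 3, 5, 6, 9, 8,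 4, 5, 11, 9, 8, 4, 3, 2, 6, 4, 5, 9, 8, 4, 3, 7, 6, 5, 4, 8, 9, 11], 26, [2, 3, 4, 3, 2, 8, 4, 3, 2, 1, 5, 4, 3, 2, 6, 8, 4, 3, 5, 4, 6, 8, 9, 8, 4, 3, 2, 1, 5, 4, 3, 2, 6, 5, 8, 4, 3, 9, 8, 4, 5, 6, 7, 6, 5, 4, 3, 2, 1, 8, 4, 3, 2, 5, 4, 6, 8, 9, 8, 4, 3, 2, 5, 4, 3, 6, 5, 7, 8, 4, 3, 2, 5, 9, 8, 4, 10, 7, 6, 5, 4, 3, 2, 1, 8, 4, 3, 2, 5, 4, 6, 5, 7, 8, 4, 9, 8, 4, 3, 5, 4, 6, 8, 10]⟩ : Fct)))) (ndA (nat_lit 518) (ndA (nat_lit 517) (lfA (⟨22, [], 1, [10, 6, 7, 5, 6, 8, 4, 5, 9, 8, 4, 3, 11, 9, 8, 4, 5, 6, 7, 10, 4, 5, 8, 4, 3, 6, 7, 5, 6, 4, 5, 8, 4, 3, 9, 8, 4, 5, 6, 7, 2, 6, 5, 11, 9, 8, 4, 3, 5, 6, 8, 4, 5, 9, 8, 4, 3, 2, 11, 9, 8, 4,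 3, 5, 6, 4, 9, 8, 9, 11]⟩ : Fct)) (lfA (⟨22, [9, 8, 4, 3, 2, 1], 21, [10, 8, 4, 3, 7, 5, 6, 4, 5, 8, 4, 3, 11, 9, 8, 4, 5, 6, 7, 10, 4, 3, 6, 7, 5, 6, 4, 5, 8, 4, 3, 11, 9, 8, 4, 5, 6, 7, 4, 5, 11, 9, 8, 4, 3, 2, 3, 6, 5, 11, 9, 8, 4, 11, 9, 8, 9, 11]⟩ : Fct))) (ndA (nat_lit 519) (lfA (⟨22, [9, 8, 4, 5, 6, 7, 10, 3, 4, 8, 5, 6, 2, 3, 4, 5, 1, 2, 3, 4, 8, 9, 6, 4, 5, 2, 3, 4, 8, 7, 6, 5, 4, 3, 2, 1], 24, [9, 11, 8, 4, 8, 9, 5, 4, 6, 5, 4, 2, 3, 4, 8, 9, 11, 5, 4, 8, 9, 6, 5, 4, 3, 4, 8, 9, 5, 2, 3, 4, 8, 9, 7, 6, 5, 4, 8, 9, 11, 3, 4, 8, 5, 2, 3, 4, 8, 5, 6, 7, 10, 7, 6, 5, 4, 8, 9, 11, 3, 4, 8, 9, 5, 4, 8, 6, 2, 3, 4, 8, 9, 5, 4, 8, 6, 5,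 7, 6, 3, 4, 8, 9, 5, 4, 2, 3, 4, 8, 9, 11, 10]⟩ : Fct)) (lfA (⟨22, [9, 8, 4, 5, 3, 4, 8, 9, 6, 5, 2, 3, 4, 8, 1, 2, 3, 4, 5, 6, 7, 10, 6, 5, 4, 8, 9, 3, 4, 8, 5, 6, 2, 3, 4, 5, 1, 2, 3, 4, 8, 9, 6, 4, 5, 2, 3, 4, 8, 7, 6, 5, 4, 3, 2, 1], 25, [10, 8, 4, 3, 2, 5, 4, 3, 6, 7, 4, 5, 6, 8, 4, 5, 9, 8, 4, 3, 2, 5, 6, 8, 4, 5, 9, 8, 4, 3, 11, 9, 8, 4, 5, 6, 7, 10, 7, 6, 5, 4, 3, 2, 9, 8, 4, 3, 4, 5, 6, 9, 8, 4, 5, 11, 9, 8, 4, 3, 2, 6, 4, 5, 9, 8, 4, 3, 7, 6, 5, 4, 8, 9, 11, 2, 5, 8, 4, 3, 5, 6, 7, 4, 5, 6, 8, 4, 5, 9, 8, 4, 3, 2, 4, 3, 5, 6, 4, 5, 8, 4, 3, 4, 5, 6, 8, 4, 8]⟩ : Fct))))) (ndA (nat_lit 524) (ndA (nat_lit 522) (ndA (nat_lit 521) (lfA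 (⟨22, [9, 8, 4, 5, 3, 4, 8, 9, 6, 5, 2, 3, 4, 8, 7, 6, 5, 4, 3, 2, 1], 30, [9, 8, 9, 4, 8, 9, 6, 5, 4, 7, 6, 5, 4, 3, 4, 8, 9, 5, 4, 8, 6, 7, 3, 4, 5, 2, 3, 4, 8, 9, 5, 4, 8, 6, 5, 4, 3, 4, 8, 9, 5, 4, 8, 6, 5, 4, 10, 7, 6, 5, 4, 8, 9, 3, 4, 8, 5, 4, 6, 5, 7, 6, 3, 4, 5, 2, 3, 4, 5, 6, 10, 7, 11, 9, 8, 4, 5, 6, 7, 3, 4, 8, 9, 5, 4, 8, 6, 2, 3, 4, 8, 9, 5, 4, 8, 3, 4, 2]⟩ : Fct)) (lfA (⟨23, [5, 4, 8, 9, 6, 5, 3, 4, 8, 2, 3, 4, 5, 6, 7, 10, 6, 5, 4, 8, 9, 5, 3, 4, 8, 5, 6, 2, 3, 4, 5, 1, 2, 3, 4, 8, 9, 6, 4, 5, 2, 3, 4, 8, 7, 6, 5, 4, 3, 2, 1], 21, [2, 8, 4, 3, 6, 7, 5, 6, 8, 4, 5, 9, 8, 4, 3, 2, 3, 7, 6, 8, 4, 5, 9, 8, 4, 3, 11, 9, 8, 4, 5,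 6, 7, 10, 5, 4, 3, 6, 7, 4, 5, 6, 8, 4, 5, 9, 8, 4, 3, 2, 7, 6, 4, 5, 8, 4, 3, 11, 9, 8, 4, 5, 6, 7, 9, 8, 4, 3, 2, 5, 8, 4, 3, 4, 5, 6, 8, 4, 5, 11, 9, 8, 4, 3, 2, 3, 5, 6, 4, 5, 9, 8, 4, 3, 5, 6, 11, 9, 8, 4, 5, 8, 4, 8, 11]⟩ : Fct))) (ndA (nat_lit 523) (lfA (⟨23, [5, 6, 4, 5, 3, 4, 8, 9, 4, 5, 2, 3, 4, 8, 7, 6, 5, 4, 3, 2, 1], 24, [9, 8, 4, 5, 4, 8, 9, 6, 5, 4, 7, 3, 4, 8, 9, 5, 4, 8, 6, 5, 4, 7, 6, 5, 3, 4, 2, 3, 4, 8, 9, 5, 4, 8, 6, 5, 4, 7, 6, 5, 3, 4, 8, 5, 4, 6, 2, 10, 7, 6, 5, 4, 8, 9, 3, 4, 8, 5, 4, 6, 5, 2, 3, 4, 8, 5, 4, 6, 7, 3, 11, 9, 8, 4, 5, 6, 7, 3, 4, 8, 9, 5, 4, 8, 6, 2, 3, 4, 8, 9, 11, 5, 4, 8, 9, 6, 5, 4, 3, 4, 8, 5,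 4, 6, 3, 2, 10, 7, 6, 5, 4, 8, 9]⟩ : Fct)) (lfA (⟨23, [5, 6, 7, 10, 4, 8, 9, 5, 3, 4, 8, 3, 4, 5, 6, 2, 3, 4, 5, 1, 2, 3, 4, 8, 9, 6, 4, 5, 2, 3, 4, 8, 7, 6, 5, 4, 3, 2, 1], 24, [8, 9, 4, 5, 4, 8, 7, 6, 5, 4, 8, 3, 4, 8, 9, 5, 4, 6, 3, 2, 3, 4, 8, 9, 5, 4, 6, 5, 3, 4, 8, 11, 9, 8, 4, 5, 6, 7, 3, 4, 8, 9, 5, 4, 2, 3, 4, 8, 9, 11, 5, 4, 8, 9, 6, 5, 4, 8, 3, 4, 5, 6, 7, 2, 3, 4, 10, 7, 6, 5, 4, 8, 9, 11, 3, 4, 8, 9, 5, 6, 2, 3, 4, 8, 9, 5, 4, 8, 6, 5, 7, 6, 3, 4, 8, 5, 4, 6, 7, 2]⟩ : Fct)))) (ndA (nat_lit 526) (ndA (nat_lit 525) (lfA (⟨23, [5, 4, 8, 9, 6, 5, 3, 4, 8, 7, 6, 5, 4, 3, 2, 1], 24, [4, 8, 5, 4, 8, 3, 4, 8, 5, 4, 6, 5, 7, 3, 4, 8,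 9, 2, 3, 4, 8, 9, 5, 4, 8, 6, 5, 4, 7, 6, 5, 3, 4, 8, 9, 5, 4, 6, 5, 2, 3, 4, 8, 9, 5, 4, 8, 3, 2, 11, 9, 8, 4, 5, 6, 7, 3, 4, 8, 9, 5, 6, 2, 3, 4, 8, 9, 11, 5, 4, 8, 9, 6, 7, 3, 4, 8, 5, 4, 6, 3, 10, 7, 6, 5, 4, 8, 9, 11, 3, 4, 8, 9, 5, 4, 8, 6, 5, 4, 7, 2, 3, 4, 8, 5, 4, 6, 10, 7]⟩ : Fct)) (lfA (⟨23, [], 24, [4, 8, 9, 6, 5, 3, 4, 8, 9, 11, 5, 4, 2, 3, 4, 8, 9, 11, 5, 4, 8, 9, 6, 5, 3, 4, 8, 9, 11, 5, 4, 6, 2, 7, 6, 5, 4, 8, 9, 3, 4, 8, 5, 4, 6, 5, 3, 4, 8, 9, 10, 7, 6, 5, 4, 8, 9, 11, 3, 4, 8, 9, 5, 4, 8, 6, 5, 4, 7, 6, 5, 2, 3, 10]⟩ : Fct))) (ndA (nat_lit 527) (lfA (⟨23, [5, 4, 8, 9, 6, 5, 3, 4, 8, 2, 3, 4, 5, 6, 7, 10, 6, 5, 4, 8, 9,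 3, 4, 8, 7, 4, 5, 6, 2, 3, 4, 5, 1, 2, 3, 4, 8, 9, 6, 4, 5, 2, 3, 4, 8, 7, 6, 5, 4, 3, 2, 1], 25, [5, 4, 7, 6, 5, 4, 8, 9, 3, 4, 8, 9, 5, 4, 8, 6, 5, 7, 6, 3, 4, 8, 9, 5, 4, 6, 3, 2, 3, 4, 8, 9, 5, 4, 8, 6, 5, 4, 7, 6, 3, 4, 8, 9, 2, 3, 4, 5, 10, 7, 6, 5, 4, 8, 9, 3, 4, 8, 5, 6, 7, 2, 3, 4, 8, 9, 5, 4, 6, 5, 7, 11, 9, 8, 4, 5, 6, 7, 3, 4, 8, 9, 11, 5, 6, 2, 3, 4, 8, 9, 11, 5, 4, 8, 6, 3, 4, 5, 2, 10, 7, 6, 5, 4, 8, 9, 3, 4, 8, 5, 4, 3]⟩ : Fct)) (lfA (⟨23, [5, 6, 7, 10, 4, 8, 5, 6, 3, 4, 5, 2, 3, 4, 8, 9, 6, 3, 4, 5, 2, 3, 4, 8, 7, 6, 5, 4, 3, 2, 1], 30, [11, 9, 11, 8, 4, 8, 5, 3, 4, 8, 9, 11, 5, 4, 8, 9, 6, 5, 4, 3, 4, 8, 5, 4, 2, 3, 4, 8,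 9, 11, 5, 4, 8, 9, 6, 5, 4, 3, 4, 7, 6, 5, 4, 8, 9, 11, 3, 4, 8, 9, 2, 3, 4, 8, 5, 4, 6, 5, 7, 6, 3, 4, 8, 9, 5, 4, 8, 3, 10, 7, 6, 5, 4, 8, 9, 11, 3, 4, 8, 9, 5, 4, 8, 6, 2, 3, 4, 8, 9, 5, 4, 8, 6, 5, 7, 6, 3, 4, 5, 6, 7]⟩ : Fct))))))
noncomputable def FT33 : ℕ → Fct := (ndA (nat_lit 536) (ndA (nat_lit 532) (ndA (nat_lit 530) (ndA (nat_lit 529) (lfA (⟨23, [5, 6, 7, 10, 4, 8, 5, 6, 3, 4, 5, 2, 3, 4, 8, 9, 6, 4, 5, 2, 3, 4, 8, 7, 6, 5, 4, 3, 2, 1], 32, [8, 9, 4, 8, 6, 5, 4, 8, 7, 6, 5, 4, 3, 4, 8, 9, 5, 4, 8, 6, 5, 4, 7, 6, 3, 4, 8, 5, 4, 6, 5, 7, 3, 2, 3, 4, 8, 9, 5, 4, 8, 6, 3, 2, 10, 7, 6, 5, 4, 8, 9, 3, 4, 8, 5, 2, 3, 4, 8, 9, 5, 6, 11,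 9, 8, 4, 5, 6, 7, 3, 4, 8, 9, 11, 5, 4, 6, 2, 3, 4, 8, 9, 11, 5, 4, 8, 6, 5, 3, 4, 5, 2, 3, 10, 7, 6, 5, 4, 8, 9, 3, 4, 8, 2, 3, 4, 5]⟩ : Fct)) (lfA (⟨23, [5, 4, 8, 6, 5, 4, 3, 2, 1], 33, [2, 7, 6, 5, 4, 3, 9, 8, 4, 5, 6, 7, 10, 6, 5, 4, 3, 2, 3, 4, 5, 8, 4, 3, 9, 8, 4, 5, 6, 7, 2, 6, 4, 5, 11, 9, 8, 4, 3, 4, 5, 6, 9, 8, 4, 5, 11, 9, 8, 4, 3, 2, 3, 8, 4, 5, 6, 9, 8, 4, 5, 11, 9, 8, 4, 3, 11, 9, 8, 4, 5, 6, 4, 5, 4, 8, 11]⟩ : Fct))) (ndA (nat_lit 531) (lfA (⟨24, [5, 4, 3, 2, 6, 5, 8, 4, 3, 9, 8, 4, 5, 6, 7, 10, 6, 5, 4, 3, 2, 5, 8, 4, 3, 5, 6, 9, 8, 4, 5, 11, 9, 8, 4, 3, 2, 6, 4, 5, 9, 8, 4, 3, 7, 6, 5, 4, 8, 9, 11], 22, [2, 3, 5, 4, 3, 2,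 7, 8, 4, 3, 5, 4, 6, 5, 7, 6, 8, 4, 3, 2, 5, 4, 9, 8, 4, 3, 2, 5, 4, 3, 6, 5, 4, 7, 8, 4, 5, 6, 9, 8, 1, 2, 3, 4, 5, 6, 7, 8, 4, 3, 2, 5, 4, 3, 6, 5, 9, 8, 4, 3, 2, 1, 5, 4, 3, 2, 6, 5, 8, 4, 3, 2, 5, 6, 9, 8, 4, 10, 7, 6, 5, 4, 3, 2, 1, 8, 4, 3, 2, 5, 4, 6, 9, 8, 4, 3, 2, 1, 5, 4, 3, 6, 5, 4, 7, 6, 5, 8, 4, 5, 9, 8, 4, 3]⟩ : Fct)) (lfA (⟨24, [5, 6, 4, 5, 8, 4, 3, 2, 4, 5, 9, 8, 4, 3, 7, 6, 5, 4, 8, 9, 11], 23, [2, 4, 3, 5, 4, 6, 7, 6, 5, 8, 4, 3, 2, 5, 4, 3, 6, 5, 4, 7, 8, 4, 3, 5, 4, 6, 5, 9, 8, 4, 3, 5, 4, 6, 5, 7, 6, 8, 4, 3, 9, 8, 10, 7, 6, 5, 4, 3, 2, 8, 4, 3, 5, 4, 6, 5, 7, 8, 4, 3, 10, 1, 2, 3, 4, 5, 6, 7, 8, 4, 3, 5, 4, 6, 5, 9,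 8, 4, 3, 2, 1, 5, 4, 6, 8]⟩ : Fct)))) (ndA (nat_lit 534) (ndA (nat_lit 533) (lfA (⟨24, [5, 6, 7, 10, 4, 3, 2, 5, 8, 4, 3, 8, 4, 5, 6, 9, 8, 4, 5, 11, 9, 8, 4, 3, 2, 6, 4, 5, 9, 8, 4, 3, 7, 6, 5, 4, 8, 9, 11], 23, [10, 8, 9, 4, 8, 3, 4, 5, 2, 3, 4, 8, 9, 8, 7, 6, 3, 4, 5, 2, 3, 4, 8, 1, 2, 3, 4, 5, 6, 7, 10, 9, 8, 6, 4, 5, 1, 2, 3, 4, 8, 9, 6, 5, 2, 3, 4, 8, 1, 2, 3, 4, 5, 6, 7, 6, 5, 1, 2, 3, 4, 8, 9, 6, 4, 5, 3, 4, 8, 3, 4, 5, 6, 2, 3, 4, 5, 1, 2, 3, 4, 8, 9, 6, 4, 5, 2, 3, 4, 8, 2, 3, 4, 5, 6, 4, 5, 2, 3, 4, 1, 2, 3, 1]⟩ : Fct)) (lfA (⟨24, [5, 4, 3, 2, 6, 5, 8, 4, 3, 7, 6, 5, 4, 8, 9, 11], 23, [1, 5, 4, 3, 2, 6, 5, 8, 4, 3, 2, 1, 5, 4,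 3, 2, 6, 5, 4, 8, 4, 3, 2, 5, 6, 9, 8, 4, 3, 2, 1, 5, 4, 3, 2, 6, 5, 4, 8, 4, 3, 5, 4, 6, 5, 9, 7, 6, 5, 4, 3, 2, 1, 8, 4, 3, 2, 5, 6, 7, 9, 8, 4, 3, 2, 1, 5, 4, 6, 5, 7, 6, 8, 4, 3, 5, 4, 8, 9, 10, 7, 6, 5, 4, 3, 2, 1, 8, 4, 3, 2, 5, 4, 3, 6, 7, 8, 9, 8, 4, 3, 2, 5, 4, 3, 8, 4, 5, 9, 8, 10]⟩ : Fct))) (ndA (nat_lit 535) (lfA (⟨24, [], 23, [9, 5, 6, 7, 4, 5, 6, 3, 4, 5, 2, 3, 4, 8, 1, 2, 3, 4, 5, 6, 7, 10, 3, 4, 8, 9, 8, 4, 5, 3, 4, 8, 6, 5, 4, 3, 2, 1, 8, 9, 4, 8, 5, 6, 4, 5, 2, 3, 4, 8, 9, 6, 5, 2, 3, 4, 8, 7, 5, 6, 4, 3, 2]⟩ : Fct)) (lfA (⟨24, [5, 4, 3, 2, 6, 5, 8, 4, 3, 9, 8, 4, 5, 6, 7, 10, 6, 5, 4, 3, 2, 8, 4, 3, 7, 4, 5, 6, 9, 8, 4,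 5, 11, 9, 8, 4, 3, 2, 6, 4, 5, 9, 8, 4, 3, 7, 6, 5, 4, 8, 9, 11], 26, [4, 3, 5, 6, 7, 8, 4, 3, 2, 5, 4, 3, 6, 5, 4, 7, 6, 8, 4, 3, 2, 5, 4, 3, 8, 4, 5, 6, 7, 9, 8, 4, 3, 2, 5, 4, 3, 6, 5, 4, 7, 6, 8, 4, 3, 5, 4, 6, 8, 9, 8, 4, 3, 2, 5, 4, 8, 1, 2, 3, 4, 5, 6, 7, 8, 4, 3, 2, 5, 4, 3, 9, 8, 4, 3, 5, 4, 6, 5, 10, 7, 6, 5, 4, 3, 2, 1, 8, 4, 3, 2, 5, 4, 3, 6, 8, 9, 8, 4, 3, 2, 5, 4, 3, 6, 5, 4, 7, 6, 8, 4, 5, 9, 10, 7, 6]⟩ : Fct))))) (ndA (nat_lit 540) (ndA (nat_lit 538) (ndA (nat_lit 537) (lfA (⟨24, [5, 6, 7, 10, 4, 3, 5, 6, 8, 4, 5, 9, 8, 4, 3, 2, 6, 8, 4, 5, 9, 8, 4, 3, 7, 6, 5, 4, 8, 9, 11], 29, [1, 2, 3, 4, 8, 5, 6, 4, 5, 2, 3, 4, 8, 9, 4,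 5, 2, 3, 4, 8, 1, 2, 3, 4, 5, 6, 7, 10, 9, 4, 5, 3, 4, 8, 6, 7, 5, 6, 3, 4, 5, 1, 2, 3, 4, 8, 9, 5, 6, 4, 5, 2, 3, 4, 8, 1, 2, 3, 4, 5, 6, 7, 9, 3, 4, 8, 5, 6, 4, 5, 3, 4, 8, 6, 2, 3, 4, 5, 1, 2, 3, 4, 8, 9, 6, 3, 4, 5, 1, 2, 3, 4, 8, 6, 3, 4, 5, 1, 2, 3, 4, 1, 2]⟩ : Fct)) (lfA (⟨24, [5, 6, 7, 10, 4, 3, 5, 6, 8, 4, 5, 9, 8, 4, 3, 2, 6, 4, 5, 9, 8, 4, 3, 7, 6, 5, 4, 8, 9, 11], 31, [2, 4, 3, 2, 1, 6, 5, 4, 8, 4, 3, 2, 1, 5, 4, 3, 6, 8, 4, 9, 8, 4, 3, 2, 1, 5, 4, 3, 2, 6, 5, 8, 4, 3, 2, 5, 9, 8, 4, 3, 2, 1, 7, 6, 5, 4, 3, 2, 1, 8, 4, 3, 2, 5, 4, 3, 6, 5, 7, 8, 9, 8, 4, 3, 2, 5, 6, 10, 7, 6, 5, 4, 3, 2, 1, 8, 4, 3, 2, 5, 4, 3, 6, 9, 8, 4, 3,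 2, 5, 4, 3, 6, 5, 7, 6, 8, 4, 5, 6, 7]⟩ : Fct))) (ndA (nat_lit 539) (lfA (⟨24, [5, 4, 3, 6, 5, 4, 8, 9, 11], 34, [3, 5, 4, 3, 7, 6, 5, 8, 4, 3, 2, 5, 4, 3, 6, 5, 4, 7, 6, 5, 8, 4, 3, 2, 5, 4, 6, 5, 7, 6, 8, 4, 9, 8, 4, 3, 2, 5, 4, 3, 6, 5, 7, 8, 1, 2, 3, 4, 5, 8, 4, 3, 9, 8, 10, 7, 6, 5, 4, 3, 2, 1, 8, 4, 3, 2, 5, 6, 9, 8, 4, 3, 2, 1, 5, 4, 3, 6, 5, 8, 4, 3, 2, 9, 8]⟩ : Fct)) (lfA (⟨25, [2, 3, 4, 5, 8, 4, 3, 2, 6, 5, 9, 8, 4, 3, 11, 9, 8, 4, 5, 6, 7, 10, 6, 5, 4, 3, 2, 8, 4, 3, 5, 6, 9, 8, 4, 5, 11, 9, 8, 4, 3, 2, 6, 4, 5, 9, 8, 4, 3, 7, 6, 5, 4, 8, 9, 11], 22, [2, 1, 3, 2, 5, 6, 5, 4, 3, 2, 8, 4, 5, 9, 8, 4, 3, 2, 1, 5, 4, 3, 6, 5, 4, 8,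 4, 3, 2, 5, 4, 3, 9, 8, 4, 5, 6, 7, 6, 5, 4, 3, 2, 1, 8, 4, 3, 2, 5, 4, 3, 6, 5, 9, 8, 4, 3, 2, 5, 4, 3, 6, 5, 4, 7, 8, 4, 5, 6, 7, 9, 8, 4, 10, 7, 6, 5, 4, 3, 2, 1, 8, 4, 3, 2, 5, 4, 6, 5, 7, 6, 8, 4, 9, 8, 4, 3, 5, 4, 8, 9]⟩ : Fct)))) (ndA (nat_lit 542) (ndA (nat_lit 541) (lfA (⟨25, [2, 3, 4, 5, 6, 7, 10, 8, 4, 3, 5, 6, 9, 8, 4, 5, 11, 9, 8, 4, 3, 2, 6, 4, 5, 9, 8, 4, 3, 7, 6, 5, 4, 8, 9, 11], 23, [1, 2, 1, 3, 2, 4, 3, 6, 5, 4, 3, 8, 4, 3, 2, 1, 5, 4, 3, 2, 6, 5, 4, 8, 4, 5, 9, 8, 4, 3, 2, 1, 5, 4, 3, 2, 6, 5, 4, 8, 4, 3, 2, 1, 5, 6, 9, 8, 4, 3, 2, 5, 7, 6, 5, 4, 3, 2, 1, 8, 4, 3, 2, 5, 4, 3, 6, 5, 7, 9, 8, 4, 3, 2, 5, 4, 3, 6, 5, 7, 6,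 8, 4, 5, 6, 9, 8, 4, 3, 10, 7, 6, 5, 4, 3, 2, 1, 8, 4, 3, 2, 5, 4, 6, 8, 9, 8, 4, 3, 2, 5, 4, 3, 6, 5, 7, 6, 8, 4, 5, 9, 8, 4, 3, 2, 10]⟩ : Fct)) (lfA (⟨25, [2, 3, 4, 8, 9, 11], 26, [6, 7, 10, 4, 8, 3, 4, 5, 2, 3, 4, 8, 6, 7, 5, 6, 4, 5, 3, 4, 8, 2, 3, 4, 5, 6, 7, 10, 4, 8, 7, 5, 6, 4, 5, 3, 4, 8, 2, 3, 4, 5, 6, 7, 4, 8, 3, 4, 5, 6, 2, 3, 4, 5, 1, 2, 3, 4, 8, 9, 6, 5, 4, 8, 5, 6, 4, 1, 2, 3, 1, 2, 1]⟩ : Fct))) (ndA (nat_lit 543) (lfA (⟨25, [], 27, [10, 6, 4, 5, 3, 4, 8, 9, 8, 6, 7, 5, 6, 4, 5, 3, 4, 8, 2, 3, 4, 5, 6, 7, 10, 8, 6, 7, 5, 6, 4, 5, 3, 4, 8, 2, 3, 4, 5, 6, 7, 4, 8, 3, 4, 5, 6, 2, 3, 4, 5, 1, 2, 3, 4, 8, 9, 8, 2, 3, 4, 5, 1, 2,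 3, 4, 8, 3, 4, 5, 6, 2, 3, 4, 5, 1, 2, 3, 4, 8, 5, 6, 2, 3]⟩ : Fct)) (lfA (⟨25, [2, 3, 4, 5, 8, 4, 3, 2, 6, 5, 9, 8, 4, 3, 7, 6, 5, 4, 8, 9, 11], 31, [1, 2, 3, 4, 3, 2, 1, 5, 4, 3, 2, 8, 4, 3, 5, 9, 8, 4, 3, 2, 1, 5, 4, 3, 2, 6, 5, 8, 9, 7, 6, 5, 4, 3, 2, 1, 8, 4, 3, 2, 9, 8, 4, 3, 5, 4, 6, 5, 7, 6, 8, 4, 3, 2, 1, 5, 4, 3, 2, 9, 10, 7, 6, 5, 4, 3, 2, 1, 8, 4, 3, 2, 5, 4, 6, 5, 7, 8, 4, 9, 8, 4, 3, 5, 4, 8, 9, 10]⟩ : Fct))))))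
noncomputable def FT34 : ℕ → Fct := (ndA (nat_lit 552) (ndA (nat_lit 548) (ndA (nat_lit 546) (ndA (nat_lit 545) (lfA (⟨26, [9, 8, 4, 3, 2, 1], 25, [10, 9, 8, 4, 3, 7, 5, 6, 4, 5, 8, 4, 3, 9, 8, 4, 5, 6, 7, 10, 7, 6, 5, 4, 3, 8, 4, 5, 6, 7, 5, 11, 9, 8, 4, 3, 4, 5, 6, 8, 4, 5, 11, 9, 8, 4, 3, 2, 5, 9, 8, 4, 3, 6, 5, 9, 8, 4, 11, 9, 8, 9, 11]⟩ : Fct)) (lfA (⟨26, [9, 8, 4, 5, 6, 7, 10, 3, 4, 8, 5, 6, 2, 3, 4, 5, 1, 2, 3, 4, 8, 9, 6, 4, 5, 2, 3, 4, 8, 7, 6, 5, 4, 3, 2, 1], 24, [5, 4, 3, 2, 3, 4, 5, 8, 4, 3, 6, 7, 5, 6, 4, 5, 9, 8, 4, 3, 2, 8, 4, 5, 9, 8, 4, 3, 11, 9, 8, 4, 5, 6, 7, 10, 7, 6, 5, 4, 3, 4, 5, 6, 8, 4, 5, 9, 8, 4, 3, 2, 7, 6, 4,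 5, 8, 4, 3, 11, 9, 8, 4, 5, 6, 7, 3, 5, 6, 4, 5, 9, 8, 4, 3, 2, 4, 5, 9, 8, 4, 3, 4, 5, 6, 9, 8, 4, 5, 11, 9, 8, 4, 3, 2, 5, 4, 3, 5, 6, 8, 4, 5, 11, 9, 8, 4, 3, 4, 5, 6, 5, 9, 11]⟩ : Fct))) (ndA (nat_lit 547) (lfA (⟨26, [], 28, [10, 3, 2, 3, 7, 5, 6, 8, 4, 5, 9, 8, 4, 3, 11, 9, 8, 4, 5, 6, 7, 10, 4, 3, 2, 5, 9, 8, 4, 3, 7, 6, 5, 4, 8, 9, 11, 6, 5, 8, 4, 3, 2, 3, 4, 5, 9, 8, 4, 3, 5, 6, 7, 4, 5, 6, 8, 4, 5, 9, 8, 4, 3, 2, 4, 3, 7, 5, 6, 4, 5, 8, 4, 3, 5, 6, 7, 4, 5, 6, 8, 4, 5, 9, 8, 4, 3, 7, 5, 6, 5, 8, 9]⟩ : Fct)) (lfA (⟨26, [9, 8, 4, 5, 3, 4, 8, 9, 6, 5, 2, 3, 4, 8, 7, 6, 5, 4, 3, 2, 1], 32, [11, 9, 8, 9, 4, 5, 4, 6, 5, 4, 8, 3, 4, 8,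 9, 11, 5, 4, 8, 9, 2, 3, 4, 8, 5, 4, 6, 3, 7, 6, 5, 4, 8, 9, 11, 3, 4, 8, 9, 5, 4, 8, 6, 7, 2, 3, 4, 8, 9, 11, 5, 4, 8, 6, 5, 7, 6, 3, 4, 8, 5, 4, 6, 3, 2, 3, 4, 8, 9, 11, 5, 4, 8, 9, 3, 10, 7, 6, 5, 4, 8, 9, 11, 3, 4, 8, 9, 5, 4, 6, 5, 7, 3, 4, 2, 3, 4, 8, 5, 4, 3, 2, 10]⟩ : Fct)))) (ndA (nat_lit 550) (ndA (nat_lit 549) (lfA (⟨26, [9, 8, 4, 5, 3, 4, 8, 9, 6, 5, 2, 3, 4, 8, 1, 2, 3, 4, 5, 6, 7, 10, 6, 5, 4, 8, 9, 3, 4, 8, 5, 6, 2, 3, 4, 5, 1, 2, 3, 4, 8, 9, 6, 4, 5, 2, 3, 4, 8, 7, 6, 5, 4, 3, 2, 1], 21, [9, 8, 4, 6, 7, 3, 4, 8, 9, 5, 4, 8, 6, 5, 4, 7, 6, 5, 3, 4, 5, 2, 3, 4, 8, 9, 5, 4, 8, 6, 5, 3, 4, 8, 9, 2, 3, 4, 11, 9, 8, 4, 5, 6, 7,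 3, 4, 5, 6, 2, 3, 4, 8, 9, 5, 4, 8, 3, 4, 5, 2, 3, 4, 8, 10, 7, 6, 5, 4, 8, 9, 11, 3, 4, 8, 9, 5, 4, 8, 6, 7, 2, 3, 4, 8, 9, 5, 4, 8, 6, 5, 4, 7, 6, 5, 3, 4, 5, 6, 2, 3, 4, 8, 9, 11, 5, 4, 8, 9, 10]⟩ : Fct)) (lfA (⟨27, [10, 7, 6, 5, 4, 3, 2, 1], 25, [5, 4, 8, 6, 7, 6, 3, 4, 8, 9, 5, 4, 8, 6, 7, 3, 4, 5, 6, 7, 2, 3, 4, 8, 5, 4, 6, 5, 7, 6, 3, 4, 8, 5, 4, 3, 10, 7, 6, 5, 4, 8, 3, 4, 5, 6, 7, 2]⟩ : Fct))) (ndA (nat_lit 551) (lfA (⟨27, [], 28, [9, 5, 4, 6, 7, 6, 5, 4, 3, 4, 8, 9, 5, 4, 8, 6, 3, 4, 2, 3, 4, 8, 9, 5, 4, 8, 6, 5, 4, 7, 6, 3, 4, 8, 5, 4, 6, 5, 3, 2, 3, 4, 8, 5, 4, 11, 9, 8, 4, 5, 6, 7, 3, 4, 8, 5, 4, 2, 3, 4, 8, 9, 5, 4, 6]⟩ : Fct))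 (lfA (⟨27, [10, 7, 6, 5, 4, 8, 9, 3, 4, 8, 5, 6, 2, 3, 4, 5, 1, 2, 3, 4, 8, 9, 6, 4, 5, 2, 3, 4, 8, 7, 6, 5, 4, 3, 2, 1], 33, [4, 8, 9, 5, 4, 6, 5, 4, 8, 3, 4, 8, 9, 5, 4, 8, 6, 5, 4, 3, 4, 8, 5, 4, 6, 7, 2, 3, 4, 8, 9, 5, 4, 8, 6, 5, 4, 7, 6, 3, 4, 8, 5, 4, 6, 3, 2, 3, 4, 8, 5, 11, 9, 8, 4, 5, 6, 7, 3, 4, 8, 9, 5, 4, 6, 2, 3, 4, 8, 9, 11, 5, 4, 8, 9, 6, 5, 3, 4, 8, 2, 3, 4, 5, 6, 7, 10, 7, 6, 5, 4, 8, 9, 11, 3, 4, 8, 9, 5, 4, 8, 6, 7, 2, 3, 4, 8, 9, 5, 4, 8, 6, 5, 7, 6, 3, 4, 5, 2, 3, 4, 8, 9, 11, 10]⟩ : Fct))))) (ndA (nat_lit 556) (ndA (nat_lit 554) (ndA (nat_lit 553) (lfA (⟨28, [], 27, [7, 6, 3, 4, 5, 2, 3, 4, 8, 9, 7, 6, 5, 2, 3, 4, 8,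 1, 2, 3, 4, 5, 6, 7, 4, 8, 9, 5, 4, 8, 3, 4, 5, 2, 3, 4, 8, 9, 5, 4, 8, 4, 5, 6, 3, 4, 5, 2, 3, 4, 8, 2, 3, 4, 2, 3, 2]⟩ : Fct)) (lfA (⟨28, [10, 7, 6, 5, 4, 8, 9, 11], 26, [1, 2, 1, 4, 3, 2, 1, 5, 6, 8, 4, 3, 2, 1, 5, 4, 3, 2, 6, 5, 4, 3, 8, 4, 3, 5, 6, 9, 7, 6, 5, 4, 3, 2, 8, 4, 3, 5, 4, 6, 5, 7, 6, 9, 8, 4, 3, 5, 4, 6, 8, 10, 7, 6, 5, 4, 3, 2, 8, 4, 5, 6]⟩ : Fct))) (ndA (nat_lit 555) (lfA (⟨28, [10, 7, 6, 5, 4, 3, 2, 8, 4, 3, 5, 6, 9, 8, 4, 5, 11, 9, 8, 4, 3, 2, 6, 4, 5, 9, 8, 4, 3, 7, 6, 5, 4, 8, 9, 11], 34, [4, 3, 5, 6, 5, 4, 3, 2, 1, 8, 4, 3, 2, 1, 5, 4, 3, 2, 6, 5, 4, 8, 9, 8, 4, 3, 2, 1, 5, 4, 3, 2, 6, 5, 8, 4, 3, 9, 8, 4, 7, 6, 5,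 4, 3, 2, 1, 8, 4, 3, 2, 5, 6, 9, 8, 4, 3, 2, 5, 4, 3, 6, 5, 7, 6, 8, 4, 3, 2, 5, 4, 6, 7, 9, 8, 4, 10, 7, 6, 5, 4, 3, 2, 1, 8, 4, 3, 2, 5, 4, 3, 6, 5, 8, 9, 8, 4, 3, 2, 5, 4, 3, 6, 5, 7, 6, 8, 4, 3, 5, 4, 6, 9, 8, 4, 3, 2, 1, 5, 4, 3, 2, 8]⟩ : Fct)) (lfA (⟨29, [10, 7, 6, 5, 4, 3, 2, 1], 21, [8, 4, 8, 9, 5, 4, 6, 5, 7, 3, 4, 8, 5, 4, 6, 5, 3, 4, 8, 9, 2, 3, 4, 8, 9, 5, 4, 8, 6, 5, 4, 7, 6, 3, 4, 8, 11, 9, 8, 4, 5, 6, 7, 3, 4, 8, 9, 5, 4, 2, 3, 4, 8, 9, 5, 4, 6, 5, 3, 4, 8, 9, 11, 10, 7, 6, 5, 4, 8, 9, 11, 3, 4, 8, 9, 5, 6, 7, 2, 3, 4, 8, 9, 11, 5, 4, 6, 5, 3, 4, 8, 2, 3, 10]⟩ : Fct)))) (ndA (nat_lit 558) (ndA (nat_lit 557) (lfA (⟨29, [10,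 9, 6, 4, 5, 2, 3, 4, 8, 7, 6, 5, 4, 3, 2, 1], 24, [10, 2, 5, 4, 3, 6, 7, 5, 6, 9, 8, 4, 5, 11, 9, 8, 4, 3, 2, 5, 6, 4, 5, 9, 8, 4, 3, 11, 9, 8, 4, 5, 6, 7, 10, 3, 6, 7, 4, 5, 6, 8, 4, 5, 11, 9, 8, 4, 3, 2, 8, 4, 5, 9, 8, 4, 3, 11, 9, 8, 4, 5, 6, 7, 3, 2, 5, 6, 4, 5, 9, 8, 4, 3, 4, 5, 6, 8, 4, 5, 9, 8, 4, 3, 2, 5, 4, 3, 5, 6, 8, 4, 5, 9, 8, 4, 3, 5, 11, 9, 8, 4, 9]⟩ : Fct)) (lfA (⟨29, [], 30, [9, 8, 4, 8, 5, 4, 8, 9, 6, 5, 4, 7, 6, 5, 3, 4, 8, 5, 4, 6, 5, 7, 6, 3, 4, 8, 5, 2, 3, 4, 11, 9, 8, 4, 5, 6, 7, 3, 4, 8, 5, 4, 6, 5, 3, 2, 3, 4, 8, 5, 4, 3]⟩ : Fct))) (ndA (nat_lit 559) (lfA (⟨29, [10, 9, 4, 8, 7, 6, 5, 4, 3, 2, 1], 30, [11, 4, 8, 9,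 5, 4, 8, 9, 11, 3, 4, 8, 9, 5, 4, 8, 3, 2, 3, 4, 8, 9, 11, 5, 4, 8, 9, 6, 5, 4, 3, 4, 8, 9, 5, 4, 8, 3, 2, 3, 4, 7, 6, 5, 4, 8, 9, 11, 3, 4, 8, 9, 5, 4, 8, 2, 3, 4, 8, 5, 4, 6, 10, 7, 6, 5, 4, 8, 9, 11, 3, 4, 8, 9, 2, 3, 4, 8, 5, 4, 6, 5, 7, 6, 10, 7]⟩ : Fct)) (lfA (⟨29, [10, 7, 6, 5, 4, 8, 9, 3, 4, 8, 4, 5, 6, 2, 3, 4, 5, 1, 2, 3, 4, 8, 9, 6, 4, 5, 2, 3, 4, 8, 7, 6, 5, 4, 3, 2, 1], 30, [3, 7, 6, 4, 5, 8, 4, 3, 2, 4, 3, 5, 6, 4, 5, 9, 8, 4, 3, 11, 9, 8, 4, 5, 6, 7, 10, 6, 7, 5, 6, 4, 5, 8, 4, 3, 2, 4, 5, 8, 4, 3, 9, 8, 4, 5, 6, 7, 11, 9, 8, 4, 3, 2, 5, 8, 4, 3, 4, 5, 6, 9, 8, 4, 5, 11, 9, 8, 4, 3, 2, 3, 9, 8, 4, 5, 11, 9, 8, 4, 3, 9, 8, 4,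 5, 6, 11, 9, 8, 4, 5, 8, 4, 8, 11]⟩ : Fct))))))
noncomputable def FT35 : ℕ → Fct := (ndA (nat_lit 568) (ndA (nat_lit 564) (ndA (nat_lit 562) (ndA (nat_lit 561) (lfA (⟨29, [9, 4, 8, 6, 5, 4, 3, 2, 1], 32, [10, 7, 6, 5, 4, 3, 8, 4, 5, 6, 7, 10, 4, 3, 2, 11, 9, 8, 4, 3, 5, 6, 7, 4, 5, 6, 8, 4, 5, 9, 8, 4, 3, 2, 6, 4, 5, 9, 8, 4, 3, 11, 9, 8, 4, 5, 6, 7, 2, 5, 9, 8, 4, 3, 8, 4, 5, 6, 9, 8, 4, 5, 11, 9, 8, 4, 3, 2, 11, 9, 8, 4, 3, 9, 8, 4, 5, 6, 9, 8, 4, 5, 9, 8, 4, 9, 8, 11, 9]⟩ : Fct)) (lfA (⟨29, [10, 6, 4, 5, 2, 3, 4, 8, 7, 6, 5, 4, 3, 2, 1], 32, [4, 8, 9, 5, 7, 6, 5, 3, 4, 8, 9, 5, 4, 8, 6, 5, 4, 7, 6, 5, 3, 4, 8, 9, 5, 4, 8, 6, 5, 4, 7, 6,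 5, 3, 4, 8, 9, 5, 4, 6, 5, 7, 3, 4, 2, 11, 9, 8, 4, 5, 10, 7, 6, 5, 4, 8, 9, 11, 3, 4, 8, 5, 4, 6, 5, 7, 6, 3, 4, 8, 5, 4, 3, 10, 7, 6, 5, 4, 8, 9]⟩ : Fct))) (ndA (nat_lit 563) (lfA (⟨29, [10, 7, 6, 5, 4, 8, 9, 3, 4, 8, 5, 6, 2, 3, 4, 5, 1, 2, 3, 4, 8, 9, 6, 4, 5, 2, 3, 4, 8, 7, 6, 5, 4, 3, 2, 1], 33, [2, 6, 4, 5, 9, 8, 4, 3, 11, 9, 8, 4, 5, 6, 7, 10, 3, 2, 5, 9, 8, 4, 3, 5, 6, 9, 8, 4, 5, 11, 9, 8, 4, 3, 2, 3, 6, 4, 5, 9, 8, 4, 3, 7, 6, 5, 4, 8, 9, 11, 10, 6, 5, 9, 8, 4, 3, 2, 3, 7, 6, 4, 5, 8, 4, 3, 9, 8, 4, 5, 6, 7, 10, 2, 7, 6, 5, 8, 4, 3, 5, 6, 8, 4, 5, 9, 8, 4, 3, 2, 7, 6, 4, 5, 9, 8, 4, 3, 5, 6, 7, 9, 8, 4, 5, 6, 9, 8, 4, 5, 8, 4,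 9]⟩ : Fct)) (lfA (⟨30, [], 29, [3, 2, 4, 5, 4, 6, 7, 6, 5, 4, 8, 4, 3, 2, 5, 4, 3, 6, 5, 7, 6, 8, 4, 3, 2, 5, 4, 3, 6, 7, 8, 4, 5, 9, 8, 4, 3, 2, 5, 4, 6, 5, 7, 6, 8, 4, 3, 5, 4, 8, 9, 8, 4, 3, 5, 1, 2, 3, 4, 5, 6, 7, 8, 4, 3, 5, 6, 9, 8, 4, 3, 5, 4]⟩ : Fct)))) (ndA (nat_lit 566) (ndA (nat_lit 565) (lfA (⟨30, [10, 2, 4, 3, 7, 6, 5, 4, 8, 9, 11], 29, [9, 8, 4, 5, 3, 4, 8, 6, 7, 5, 6, 3, 4, 5, 2, 3, 4, 8, 9, 6, 5, 2, 3, 4, 8, 1, 2, 3, 4, 5, 6, 7, 10, 8, 9, 4, 8, 3, 4, 5, 6, 7, 3, 4, 5, 2, 3, 4, 8, 9, 4, 5, 1, 2, 3, 4, 8, 5, 6, 2, 3, 4, 5, 1, 2, 3, 4, 8, 9, 5, 4, 8, 3, 4, 5, 6, 2, 3, 4, 5, 1, 2, 3, 4, 8, 4, 5, 6, 3, 4, 5, 2, 3, 4, 1, 2, 3, 2]⟩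 : Fct)) (lfA (⟨30, [10, 2, 6, 4, 5, 9, 8, 4, 3, 7, 6, 5, 4, 8, 9, 11], 23, [6, 7, 10, 8, 9, 5, 3, 4, 8, 6, 7, 5, 6, 3, 4, 5, 2, 3, 4, 8, 9, 8, 6, 4, 5, 2, 3, 4, 8, 1, 2, 3, 4, 5, 6, 7, 10, 8, 9, 5, 4, 8, 5, 6, 3, 4, 5, 2, 3, 4, 8, 9, 5, 6, 4, 5, 2, 3, 4, 8, 1, 2, 3, 4, 5, 6, 7, 4, 5, 3, 4, 8, 9, 6, 5, 1, 2, 3, 4, 8, 5, 6, 2, 3, 4, 5, 1, 2, 3, 4, 8, 9, 8, 6, 4, 5, 2, 3, 4, 8, 4, 5, 6, 1, 2, 3, 4, 5, 1, 2, 3, 1, 2, 1]⟩ : Fct))) (ndA (nat_lit 567) (lfA (⟨30, [10, 7, 6, 5, 4, 8, 9, 11], 22, [2, 4, 3, 2, 5, 4, 3, 2, 6, 5, 4, 7, 6, 5, 4, 8, 4, 3, 5, 4, 6, 7, 9, 8, 4, 3, 5, 4, 6, 5, 7, 1, 2, 3, 4, 5, 6, 7, 8, 4, 3, 5, 4, 6, 5, 8, 4, 3, 9, 8, 4,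 5, 10, 7, 6, 5, 4, 3, 2, 1, 8, 4, 3, 2, 5, 4, 6, 7, 9, 8, 4, 3, 2, 5, 4, 3, 6, 5, 7, 6, 8, 4, 3, 2, 5, 9, 8, 4, 3]⟩ : Fct)) (lfA (⟨30, [10, 7, 6, 5, 4, 3, 2, 8, 4, 3, 4, 5, 6, 9, 8, 4, 5, 11, 9, 8, 4, 3, 2, 6, 4, 5, 9, 8, 4, 3, 7, 6, 5, 4, 8, 9, 11], 29, [10, 7, 6, 5, 3, 4, 8, 9, 8, 7, 6, 4, 5, 3, 4, 8, 2, 3, 4, 5, 6, 7, 10, 5, 6, 4, 5, 1, 2, 3, 4, 8, 9, 7, 4, 5, 6, 3, 4, 5, 2, 3, 4, 8, 1, 2, 3, 4, 5, 6, 7, 5, 2, 3, 4, 8, 9, 5, 2, 3, 4, 8, 4, 5, 6, 3, 4, 5, 1, 2, 3, 4, 8, 9, 5, 1, 2, 3, 4, 8, 5, 6, 3, 4, 5, 2, 3, 4, 8, 1, 2, 3, 4, 5, 2, 3, 4, 3]⟩ : Fct))))) (ndA (nat_lit 572) (ndA (nat_lit 570) (ndA (nat_lit 569) (lfA (⟨30, [2, 4, 3, 6, 5,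 4, 8, 9, 11], 31, [2, 3, 4, 8, 9, 4, 5, 3, 4, 8, 6, 5, 4, 3, 2, 1, 5, 6, 7, 10, 8, 4, 5, 3, 4, 8, 6, 7, 5, 6, 4, 5, 3, 4, 8, 2, 3, 4, 5, 6, 7, 10, 8, 9, 6, 5, 4, 8, 5, 6, 3, 4, 5, 2, 3, 4, 8, 9, 6, 7, 5, 6, 4, 5, 3, 4, 8, 4, 5, 6, 3, 4, 5, 2, 3, 4, 8, 2, 3, 4, 5, 6, 2, 3, 4, 5, 4]⟩ : Fct)) (lfA (⟨30, [10, 6, 4, 5, 9, 8, 4, 3, 7, 6, 5, 4, 8, 9, 11], 31, [2, 3, 4, 3, 2, 5, 6, 5, 7, 6, 5, 8, 4, 3, 2, 5, 4, 3, 6, 5, 7, 6, 8, 4, 9, 8, 4, 3, 2, 5, 4, 3, 6, 1, 2, 3, 4, 5, 6, 7, 8, 4, 3, 2, 5, 4, 6, 5, 9, 8, 4, 3, 5, 4, 6, 5, 8, 4, 3, 9, 10, 7, 6, 5, 4, 3, 2, 1, 8, 4, 3, 5, 4, 6, 5, 7, 6, 8, 4, 3, 5, 4, 8, 10, 7, 6, 5, 4, 3, 2]⟩ : Fct))) (ndA (nat_lit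 571) (lfA (⟨30, [10, 7, 6, 5, 4, 3, 2, 8, 4, 3, 5, 6, 9, 8, 4, 5, 11, 9, 8, 4, 3, 2, 6, 4, 5, 9, 8, 4, 3, 7, 6, 5, 4, 8, 9, 11], 34, [1, 3, 4, 3, 5, 4, 8, 4, 3, 2, 1, 5, 4, 3, 2, 6, 5, 8, 4, 3, 5, 4, 6, 5, 8, 4, 3, 2, 1, 9, 8, 4, 3, 2, 1, 5, 4, 3, 2, 6, 5, 4, 8, 4, 3, 5, 6, 9, 7, 6, 5, 4, 3, 2, 1, 8, 4, 3, 2, 5, 4, 3, 6, 5, 8, 9, 8, 4, 3, 2, 5, 4, 3, 6, 7, 8, 4, 5, 6, 9, 8, 4, 10, 7, 6, 5, 4, 3, 2, 1, 8, 4, 3, 2, 5, 4, 3, 6, 7, 9, 8, 4, 3, 2, 5, 4, 3, 6, 5, 7, 6, 8, 4, 3, 5, 6, 9, 8, 4, 3, 2, 5, 4, 8]⟩ : Fct)) (lfA (⟨31, [10, 7, 6, 5, 4, 3, 2, 1], 25, [9, 8, 4, 8, 5, 6, 5, 4, 3, 4, 8, 9, 11, 5, 4, 8, 9, 6, 3, 4, 8, 5, 4, 6, 2, 3, 4, 8, 9,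 5, 4, 8, 6, 5, 4, 3, 4, 8, 5, 4, 2, 7, 6, 5, 4, 8, 3, 4, 5, 2, 10, 7, 6, 5, 4, 8, 9, 11, 3, 4, 8, 9, 5, 4, 6, 7, 2, 3, 4, 8, 9, 5, 4, 8, 6, 5, 7, 6, 3, 4, 8, 9, 5, 2, 3, 4, 8]⟩ : Fct)))) (ndA (nat_lit 574) (ndA (nat_lit 573) (lfA (⟨31, [10, 9, 6, 4, 5, 2, 3, 4, 8, 7, 6, 5, 4, 3, 2, 1], 24, [9, 8, 4, 3, 2, 5, 8, 4, 3, 11, 9, 8, 4, 5, 6, 7, 10, 5, 4, 3, 2, 8, 4, 3, 5, 6, 9, 8, 4, 5, 11, 9, 8, 4, 3, 2, 6, 4, 5, 9, 8, 4, 3, 7, 6, 5, 4, 8, 9, 11, 10, 4, 3, 7, 5, 6, 4, 5, 8, 4, 3, 9, 8, 4, 5, 6, 7, 10, 5, 8, 4, 3, 2, 6, 5, 8, 4, 3, 7, 5, 6, 8, 4, 5, 9, 8, 4, 3, 2, 4, 3, 8, 4, 5, 9, 8, 4, 3, 5, 6, 7, 4, 5, 6, 8, 4, 5, 9, 8, 4, 3, 5]⟩ : Fct)) (lfA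 (⟨31, [9, 4, 8, 6, 5, 4, 3, 2, 1], 30, [10, 2, 3, 4, 5, 8, 4, 3, 2, 4, 3, 7, 5, 6, 4, 5, 9, 8, 4, 3, 11, 9, 8, 4, 5, 6, 7, 10, 2, 3, 5, 6, 4, 5, 8, 4, 3, 2, 3, 6, 4, 5, 8, 4, 3, 11, 9, 8, 4, 5, 6, 7, 5, 6, 4, 5, 8, 4, 3, 2, 5, 6, 4, 5, 9, 8, 4, 3, 5, 6, 9, 8, 4, 5, 11, 9, 8, 4, 3, 2, 6, 5, 8, 4, 3, 6, 11, 9, 8, 4, 5, 11, 9, 8, 4, 9, 8, 11, 9, 11]⟩ : Fct))) (ndA (nat_lit 575) (lfA (⟨31, [10, 6, 4, 5, 2, 3, 4, 8, 7, 6, 5, 4, 3, 2, 1], 30, [10, 4, 3, 5, 6, 8, 4, 5, 9, 8, 4, 3, 2, 7, 5, 6, 8, 4, 5, 9, 8, 4, 3, 11, 9, 8, 4, 5, 6, 7, 10, 7, 4, 5, 6, 9, 8, 4, 5, 11, 9, 8, 4, 3, 2, 4, 5, 8, 4, 3, 9, 8, 4, 5, 6, 7, 3, 2, 11, 9, 8, 4, 3, 4, 5, 6, 8,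 4, 5, 9, 8, 4, 3, 2, 6, 5, 9, 8, 4, 3, 8, 4, 5, 6, 9, 8, 4, 5, 11, 9, 8, 4, 3, 5, 6, 4, 5, 9, 11]⟩ : Fct)) (lfA (⟨31, [], 32, [9, 8, 9, 4, 8, 6, 5, 7, 6, 3, 4, 8, 5, 4, 6, 5, 7, 6, 3, 4, 8, 9, 5, 4, 8, 2, 3, 4, 8, 5, 4, 6, 5, 7, 6, 3, 4, 8, 2, 3, 4, 11, 9, 8, 4, 5, 6, 7, 3, 4, 8, 9, 5, 4, 6, 5, 2, 3, 4, 8, 9, 5, 4, 8, 3, 4, 5, 2]⟩ : Fct))))))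
noncomputable def FT36 : ℕ → Fct := (ndA (nat_lit 584) (ndA (nat_lit 580) (ndA (nat_lit 578) (ndA (nat_lit 577) (lfA (⟨31, [10, 9, 4, 8, 7, 6, 5, 4, 3, 2, 1], 32, [3, 2, 4, 3, 5, 6, 4, 5, 8, 4, 3, 2, 6, 7, 5, 6, 4, 5, 9, 8, 4, 3, 11, 9, 8, 4, 5, 6, 7, 10, 8, 4, 3, 5, 6, 4, 5, 8, 4, 3, 2, 9, 8, 4, 3, 11, 9, 8, 4, 5, 6, 7, 8, 4, 5, 9, 8, 4, 3, 2, 6, 4, 5, 11, 9, 8, 4, 3, 4, 5, 6, 9, 8, 4, 5, 11, 9, 8, 4, 3, 2, 3, 8, 4, 5, 6, 9, 8, 4, 5, 11, 9, 8, 4, 3, 4, 5, 6, 8, 4, 5, 9, 8, 4, 3, 6, 5, 4, 8, 11, 9]⟩ : Fct)) (lfA (⟨31, [10, 7, 6, 5, 4, 8, 9, 3, 4, 8, 4, 5, 6, 2, 3, 4, 5, 1, 2, 3, 4, 8, 9, 6, 4, 5, 2, 3, 4, 8, 7, 6, 5, 4, 3, 2, 1], 32, [5,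 4, 3, 11, 9, 8, 4, 5, 6, 7, 10, 7, 6, 5, 4, 3, 2, 5, 8, 4, 3, 4, 5, 6, 9, 8, 4, 5, 11, 9, 8, 4, 3, 2, 6, 4, 5, 9, 8, 4, 3, 7, 6, 5, 4, 8, 9, 11, 10, 7, 5, 6, 4, 5, 9, 8, 4, 3, 2, 3, 6, 4, 5, 8, 4, 3, 9, 8, 4, 5, 6, 7, 10, 2, 9, 8, 4, 3, 5, 6, 4, 5, 9, 8, 4, 3, 2, 6, 5, 9, 8, 4, 3, 5, 6, 8, 4, 5, 9, 8, 4, 3, 5, 6, 7, 5, 4, 9, 8]⟩ : Fct))) (ndA (nat_lit 579) (lfA (⟨31, [10, 7, 6, 5, 4, 8, 9, 3, 4, 8, 5, 6, 2, 3, 4, 5, 1, 2, 3, 4, 8, 9, 6, 4, 5, 2, 3, 4, 8, 7, 6, 5, 4, 3, 2, 1], 33, [3, 7, 6, 4, 5, 8, 4, 3, 11, 9, 8, 4, 5, 6, 7, 10, 3, 2, 4, 3, 5, 6, 8, 4, 5, 11, 9, 8, 4, 3, 2, 6, 4, 5, 11, 9, 8, 4, 3, 7, 6, 5, 4, 8, 9, 11, 5, 4, 3, 2, 7, 6,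 4, 5, 8, 4, 3, 9, 8, 4, 5, 6, 7, 10, 3, 2, 7, 6, 4, 5, 8, 4, 3, 5, 6, 7, 4, 5, 6, 8, 4, 5, 9, 8, 4, 3, 2, 4, 3, 7, 4, 5, 6, 8, 4, 5, 9, 8, 4, 3, 5, 6, 7, 4, 5, 6, 8, 4, 5, 9, 8, 4, 3, 5, 6, 7, 4, 5, 6, 5, 8, 4, 9]⟩ : Fct)) (lfA (⟨32, [], 31, [5, 6, 5, 4, 3, 7, 6, 8, 4, 3, 5, 4, 6, 5, 7, 6, 8, 4, 3, 5, 4, 9, 8, 4, 3, 2, 5, 4, 3, 6, 5, 4, 7, 6, 5, 8, 4, 3, 2, 9, 8, 4, 3, 1, 2, 3, 4, 5, 6, 7, 8, 4, 3, 5, 4, 6, 5, 9, 8, 4]⟩ : Fct)))) (ndA (nat_lit 582) (ndA (nat_lit 581) (lfA (⟨32, [10, 2, 6, 4, 5, 9, 8, 4, 3, 7, 6, 5, 4, 8, 9, 11], 23, [1, 2, 3, 2, 5, 4, 3, 6, 5, 4, 3, 2, 1, 8, 4, 3, 2, 1, 5, 4, 3, 6, 5, 4, 8, 4, 3, 2, 1, 5, 4, 9, 8, 4, 3, 2,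 1, 5, 4, 6, 5, 8, 4, 9, 8, 7, 6, 5, 4, 3, 2, 1, 8, 4, 3, 2, 5, 4, 3, 6, 9, 8, 4, 3, 2, 5, 4, 6, 5, 7, 6, 8, 4, 5, 9, 8, 4, 10, 7, 6, 5, 4, 3, 2, 1, 8, 4, 3, 2, 5, 4, 6, 5, 9, 8, 4, 3, 5, 4, 6, 5, 7, 6, 8, 9]⟩ : Fct)) (lfA (⟨32, [10, 2, 4, 3, 7, 6, 5, 4, 8, 9, 11], 31, [9, 5, 4, 8, 3, 4, 5, 6, 7, 10, 6, 5, 4, 8, 9, 5, 6, 4, 5, 3, 4, 8, 4, 5, 6, 2, 3, 4, 5, 1, 2, 3, 4, 8, 9, 6, 4, 5, 1, 2, 3, 4, 8, 7, 6, 5, 4, 3, 2, 1, 10, 6, 5, 2, 3, 4, 8, 9, 6, 7, 5, 6, 4, 5, 3, 4, 8, 2, 3, 4, 5, 6, 7, 10, 9, 8, 4, 5, 6, 3, 4, 5, 2, 3, 4, 8, 9, 4, 5, 3, 4, 8, 2, 3, 4, 5, 6, 7, 3, 4, 5, 6, 2, 3, 4, 5]⟩ : Fct))) (ndA (nat_lit 583) (lfA (⟨32, [2, 4, 3, 6, 5,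 4, 8, 9, 11], 29, [3, 4, 8, 9, 5, 4, 8, 5, 6, 3, 4, 5, 1, 2, 3, 4, 8, 9, 6, 3, 4, 5, 2, 3, 4, 8, 7, 6, 5, 4, 3, 2, 1, 7, 10, 5, 4, 8, 9, 4, 8, 6, 7, 5, 6, 4, 5, 3, 4, 8, 2, 3, 4, 5, 6, 7, 10, 4, 8, 9, 6, 5, 2, 3, 4, 8, 6, 7, 4, 5, 6, 3, 4, 5, 2, 3, 4, 8, 9, 4, 5, 6, 3, 4, 5, 2, 3, 4, 8, 5, 6, 7, 4, 5, 6, 3, 4, 5, 2, 3, 4, 8, 6, 7, 4, 5, 6, 5, 4]⟩ : Fct)) (lfA (⟨32, [10, 7, 6, 5, 4, 8, 9, 11], 26, [4, 8, 3, 4, 5, 6, 7, 10, 7, 6, 5, 3, 4, 8, 9, 6, 5, 3, 4, 8, 3, 4, 5, 6, 2, 3, 4, 5, 1, 2, 3, 4, 8, 9, 5, 6, 4, 5, 2, 3, 4, 8, 7, 6, 5, 4, 3, 2, 1, 3, 4, 8, 9, 5, 3, 4, 8, 2, 3, 4, 5, 6, 7, 10, 4, 5, 6, 3, 4, 5, 2, 3, 4, 8, 9, 3, 4, 8, 5, 6, 7,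 6, 5, 3, 4, 2, 3]⟩ : Fct))))) (ndA (nat_lit 588) (ndA (nat_lit 586) (ndA (nat_lit 585) (lfA (⟨32, [10, 6, 4, 5, 9, 8, 4, 3, 7, 6, 5, 4, 8, 9, 11], 29, [3, 4, 5, 4, 3, 6, 5, 4, 3, 7, 6, 8, 4, 3, 5, 6, 7, 9, 8, 4, 3, 2, 5, 6, 10, 7, 6, 5, 4, 3, 2, 8, 4, 3, 5, 4, 6, 5, 7, 6, 8, 4, 3, 2, 5, 4, 3, 8, 10, 7, 6, 5, 1, 2, 3, 4, 5, 6, 7, 8, 4, 3, 5, 4, 9, 8, 4, 3, 2, 1, 5, 4, 3, 2, 6, 5, 4, 3, 8, 4, 5, 9, 8, 10, 7, 6, 5, 4, 8]⟩ : Fct)) (lfA (⟨32, [10, 7, 6, 5, 4, 3, 2, 8, 4, 3, 4, 5, 6, 9, 8, 4, 5, 11, 9, 8, 4, 3, 2, 6, 4, 5, 9, 8, 4, 3, 7, 6, 5, 4, 8, 9, 11], 31, [10, 7, 6, 5, 2, 3, 4, 8, 9, 8, 5, 6, 4, 5, 3, 4, 8, 1, 2, 3, 4, 5, 6, 7, 10, 8, 7,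 5, 6, 4, 5, 1, 2, 3, 4, 8, 9, 7, 6, 3, 4, 5, 2, 3, 4, 8, 1, 2, 3, 4, 5, 6, 7, 9, 8, 6, 4, 5, 3, 4, 8, 9, 8, 6, 4, 5, 3, 4, 8, 3, 4, 5, 6, 2, 3, 4, 5, 1, 2, 3, 4, 8, 9, 6, 5, 4, 8, 2, 3, 4, 5, 6, 2, 3, 4, 5, 2, 3, 4, 2, 3, 2, 1]⟩ : Fct))) (ndA (nat_lit 587) (lfA (⟨32, [10, 7, 6, 5, 4, 3, 2, 8, 4, 3, 5, 6, 9, 8, 4, 5, 11, 9, 8, 4, 3, 2, 6, 4, 5, 9, 8, 4, 3, 7, 6, 5, 4, 8, 9, 11], 34, [9, 6, 5, 3, 4, 8, 1, 2, 3, 4, 5, 6, 7, 10, 4, 8, 9, 7, 6, 5, 3, 4, 8, 5, 6, 2, 3, 4, 5, 1, 2, 3, 4, 8, 9, 5, 6, 3, 4, 5, 2, 3, 4, 8, 7, 6, 5, 4, 3, 2, 1, 7, 6, 5, 4, 8, 9, 4, 8, 7, 5, 6, 4, 5, 3, 4, 8, 2, 3, 4, 5, 6, 7, 10, 4, 5, 3, 4, 8, 9, 7, 6, 4, 5, 3, 4,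 8, 5, 6, 7, 4, 5, 6, 3, 4, 5, 2, 3, 4, 8, 9, 5, 4, 8, 5, 6, 3, 4, 5, 2, 3, 4, 8, 3, 4, 5, 6, 7, 4, 5, 6, 5, 4, 2, 3, 2]⟩ : Fct)) (lfA (⟨33, [11, 9, 8, 4, 5, 6, 7, 10, 3, 2, 4, 3, 5, 6, 8, 4, 5, 9, 8, 4, 3, 2, 6, 4, 5, 9, 8, 4, 3, 7, 6, 5, 4, 8, 9, 11], 29, [9, 8, 3, 4, 5, 6, 7, 10, 7, 6, 4, 5, 3, 4, 8, 9, 6, 4, 5, 3, 4, 8, 3, 4, 5, 6, 2, 3, 4, 5, 1, 2, 3, 4, 8, 9, 6, 4, 5, 1, 2, 3, 4, 8, 7, 6, 5, 4, 3, 2, 1, 6, 5, 3, 4, 8, 9, 8, 5, 6, 4, 5, 3, 4, 8, 2, 3, 4, 5, 6, 7, 10, 9, 4, 8, 7, 5, 6, 3, 4, 5, 2, 3, 4, 8, 9, 3, 4, 8, 5, 6, 3, 4, 5, 2, 3, 4, 8, 5, 6, 2, 3, 4, 5, 4, 3]⟩ : Fct)))) (ndA (nat_lit 590) (ndA (nat_lit 589) (lfA (⟨33, [11, 9,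 8, 4, 3, 2, 5, 4, 3, 6, 5, 4, 8, 9, 11], 23, [7, 10, 7, 6, 5, 3, 4, 8, 9, 8, 7, 5, 6, 3, 4, 5, 2, 3, 4, 8, 1, 2, 3, 4, 5, 6, 7, 10, 5, 4, 8, 1, 2, 3, 4, 5, 6, 7, 3, 4, 8, 5, 6, 4, 5, 3, 4, 8, 2, 3, 4, 5, 1, 2, 3, 4, 8, 9, 5, 6, 4, 5, 3, 4, 8, 4, 5, 6, 3, 4, 5, 2, 3, 4, 8, 6, 1, 2, 3, 4, 1]⟩ : Fct)) (lfA (⟨33, [11, 9, 8, 4, 5, 6, 7, 10, 3, 2, 4, 3, 5, 6, 8, 4, 5, 9, 8, 4, 3, 2, 6, 8, 4, 5, 9, 8, 4, 3, 7, 6, 5, 4, 8, 9, 11], 31, [8, 2, 3, 4, 5, 6, 7, 10, 7, 6, 5, 2, 3, 4, 8, 9, 5, 1, 2, 3, 4, 8, 4, 5, 6, 2, 3, 4, 5, 1, 2, 3, 4, 8, 9, 6, 4, 5, 2, 3, 4, 8, 7, 6, 5, 4, 3, 2, 1, 9, 6, 7, 5, 6, 4, 5, 3, 4, 8, 2, 3, 4, 5, 6, 7, 10, 4, 5, 3, 4, 8,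 9, 4, 5, 3, 4, 8, 5, 6, 7, 4, 5, 6, 3, 4, 5, 2, 3, 4, 8, 9, 3, 4, 8, 5, 6, 4, 5, 2, 3, 4, 8, 6, 7, 4, 5, 6, 2, 3, 4]⟩ : Fct))) (ndA (nat_lit 591) (lfA (⟨33, [11], 34, [7, 10, 6, 4, 5, 3, 4, 8, 9, 7, 6, 5, 4, 8, 3, 4, 5, 6, 7, 10, 7, 6, 4, 5, 2, 3, 4, 8, 9, 8, 7, 6, 4, 5, 3, 4, 8, 2, 3, 4, 5, 6, 7, 9, 3, 4, 8, 5, 6, 4, 5, 3, 4, 8, 9, 4, 8, 6, 3, 4, 5, 1, 2, 3, 4, 8, 4, 5, 1, 2, 3, 4, 2, 3, 1, 2, 1]⟩ : Fct)) (lfA (⟨33, [11, 9, 8, 4, 3, 2, 6, 5, 4, 3, 7, 6, 5, 4, 8, 9, 11], 34, [8, 7, 6, 4, 5, 3, 4, 8, 9, 8, 6, 4, 5, 3, 4, 8, 2, 3, 4, 5, 6, 7, 10, 8, 5, 6, 4, 5, 3, 4, 8, 9, 6, 7, 5, 6, 4, 5, 3, 4, 8, 2, 3, 4, 5, 6, 7, 3, 4, 8, 9, 6, 5, 2, 3,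 4, 8, 5, 6, 3, 4, 5, 1, 2, 3, 4, 8, 9, 5, 6, 4, 5, 3, 4, 8, 5, 6, 2, 3, 4, 5, 1, 2, 3, 4, 8, 2, 3, 4, 5, 6, 1, 2, 3, 4, 2]⟩ : Fct))))))
noncomputable def FT37 : ℕ → Fct := (ndA (nat_lit 597) (ndA (nat_lit 594) (ndA (nat_lit 593) (lfA (⟨33, [11, 9, 8, 4, 3, 2, 5, 4, 3, 6, 7, 5, 6, 8, 4, 5, 9, 8, 4, 3, 2, 6, 4, 5, 9, 8, 4, 3, 11, 9, 8, 4, 5, 6, 7, 10, 7, 6, 5, 4, 3, 2, 8, 4, 3, 5, 6, 9, 8, 4, 5, 11, 9, 8, 4, 3, 2, 6, 4, 5, 9, 8, 4, 3, 7, 6, 5, 4, 8, 9, 11], 0, [8, 6, 7, 5, 6, 4, 5, 3, 4, 8, 9, 5, 6, 4, 5, 2, 3, 4, 8, 1, 2, 3, 4, 5, 6, 7, 10, 7, 6, 4, 5, 3, 4, 8, 9, 4, 5, 6, 3, 4, 5, 2, 3, 4, 8, 1, 2, 3, 4, 5, 6, 7, 8, 4, 5, 3, 4, 8, 9, 5, 2,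 3, 4, 8, 4, 5, 6, 3, 4, 5, 1, 2, 3, 4, 8, 9, 6, 5, 2, 3, 4, 8, 4, 5, 6, 2, 3, 4, 5, 1, 2, 3, 4, 8, 2, 3, 4, 5, 6, 5, 3, 4, 2, 3]⟩ : Fct)) (lfA (⟨33, [11, 9, 8, 4, 3, 2, 5, 4, 3, 6, 7, 5, 6, 8, 4, 5, 9, 8, 4, 3, 2, 6, 8, 4, 5, 9, 8, 4, 3, 11, 9, 8, 4, 5, 6, 7, 10, 7, 6, 5, 4, 3, 2, 8, 4, 3, 5, 6, 9, 8, 4, 5, 11, 9, 8, 4, 3, 2, 6, 4, 5, 9, 8, 4, 3, 7, 6, 5, 4, 8, 9, 11], 27, [2, 3, 4, 3, 2, 5, 7, 8, 4, 5, 6, 9, 8, 4, 3, 2, 5, 4, 3, 6, 5, 4, 7, 8, 4, 5, 6, 7, 1, 2, 3, 4, 5, 6, 7, 8, 4, 3, 2, 5, 4, 6, 9, 8, 4, 3, 2, 5, 4, 3, 8, 4, 5, 9, 8, 4, 3, 10, 7, 6, 5, 4, 3, 2, 1, 8, 4, 3, 2, 5, 4, 6, 8, 9, 8, 4, 3, 2, 5, 4, 3, 6, 5, 7, 6, 8, 4, 3, 5, 9,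 8, 4, 3, 2, 1, 10]⟩ : Fct))) (ndA (nat_lit 595) (lfA (⟨33, [], 34, [10, 7, 6, 5, 2, 3, 4, 8, 9, 8, 4, 5, 3, 4, 8, 2, 3, 4, 5, 6, 7, 10, 5, 4, 8, 9, 6, 5, 3, 4, 8, 7, 5, 6, 3, 4, 5, 2, 3, 4, 8, 9, 6, 4, 5, 3, 4, 8, 4, 5, 6, 3, 4, 5, 2, 3, 4, 8, 7, 3, 4, 5, 6, 4, 5]⟩ : Fct)) (ndA (nat_lit 596) (lfA (⟨34, [1, 2, 3, 4, 5, 6, 7, 10, 8, 9, 4, 8, 5, 6, 3, 4, 5, 2, 3, 4, 8, 9, 6, 4, 5, 2, 3, 4, 8, 7, 6, 5, 4, 3, 2, 1], 30, [5, 6, 7, 10, 7, 6, 4, 5, 8, 4, 3, 2, 4, 5, 9, 8, 4, 3, 5, 6, 9, 8, 4, 5, 11, 9, 8, 4, 3, 2, 6, 8, 4, 5, 9, 8, 4, 3, 7, 6, 5, 4, 8, 9, 11, 4, 5, 9, 8, 4, 3, 2, 6, 5, 4, 3, 9, 8, 4, 5, 6, 7, 10, 8, 4, 5, 9, 8, 4, 3, 2, 3, 6, 4,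 5, 8, 4, 3, 6, 7, 5, 6, 8, 4, 5, 9, 8, 4, 3, 2, 6, 5, 9, 8, 4, 3, 5, 6, 8, 4, 5, 9, 8, 4, 3, 8, 4, 5, 6, 7, 6, 4, 5, 9, 8, 9]⟩ : Fct)) (lfA (⟨34, [1, 2, 3, 4, 8, 9, 5, 4, 8, 6, 5, 4, 3, 2, 1], 24, [3, 2, 6, 5, 4, 3, 8, 4, 5, 9, 8, 4, 3, 2, 3, 6, 8, 4, 5, 9, 8, 4, 3, 11, 9, 8, 4, 5, 6, 7, 10, 9, 8, 4, 5, 6, 7, 5, 11, 9, 8, 4, 3, 2, 6, 5, 4, 3, 8, 4, 5, 6, 9, 8, 4, 5, 11, 9, 8, 4, 3, 5, 11, 9, 8, 9]⟩ : Fct))))) (ndA (nat_lit 600) (ndA (nat_lit 598) (lfA (⟨34, [1, 2, 3, 4, 5, 6, 7, 10, 8, 9, 4, 8, 5, 6, 3, 4, 5, 2, 3, 4, 8, 9, 6, 3, 4, 5, 2, 3, 4, 8, 7, 6, 5, 4, 3, 2, 1], 32, [9, 4, 8, 6, 5, 4, 8, 7, 6, 5, 2, 3, 4, 8, 9, 5, 4, 8, 6, 5, 4, 7,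 6, 3, 4, 5, 6, 2, 3, 4, 8, 9, 5, 10, 7, 6, 5, 4, 8, 9, 3, 4, 8, 5, 4, 6, 7, 2, 3, 4, 8, 9, 5, 10, 11, 9, 8, 4, 5, 6, 7, 3, 4, 8, 9, 5, 4, 8, 6, 5, 2, 3, 4, 8, 9, 5, 4, 8, 6, 5, 4, 3, 4, 2, 3, 10, 7, 6, 5, 4, 8, 9, 11, 3, 4, 8, 9, 5, 4, 8, 6, 5, 4]⟩ : Fct)) (ndA (nat_lit 599) (lfA (⟨34, [1], 33, [8, 9, 5, 4, 6, 5, 4, 8, 9, 3, 4, 8, 9, 5, 4, 8, 6, 5, 4, 2, 3, 4, 8, 9, 5, 4, 8, 6, 5, 3, 7, 6, 5, 4, 8, 9, 3, 4, 8, 5, 4, 6, 2, 3, 4, 8, 5, 4, 6, 7, 10, 7, 6, 5, 4, 8, 9, 11, 3, 4, 8, 9, 5, 4, 2, 3, 4, 8, 9, 5, 4, 8, 6, 5, 4, 7, 3, 4, 8, 9, 11]⟩ : Fct)) (lfA (⟨34, [1, 2, 3, 4, 8, 9, 6, 5, 4, 8, 7, 6, 5, 4, 3, 2, 1], 33, [4, 5, 6, 5, 7, 6, 3, 4, 8,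 9, 5, 4, 3, 2, 3, 4, 8, 9, 5, 4, 8, 6, 5, 4, 7, 6, 5, 3, 4, 11, 9, 8, 4, 5, 6, 3, 4, 8, 5, 4, 3, 2, 3, 4, 10, 7, 6, 5, 4, 8, 9, 11, 3, 4, 8, 9, 5, 4, 8, 6, 7, 2, 3, 4, 8, 9, 5, 4, 6, 5, 3, 4, 8, 9, 11, 2]⟩ : Fct)))) (ndA (nat_lit 601) (lfA (⟨34, [1, 2, 3, 4, 8, 9, 5, 4, 8, 6, 7, 5, 6, 3, 4, 5, 2, 3, 4, 8, 9, 6, 4, 5, 2, 3, 4, 8, 1, 2, 3, 4, 5, 6, 7, 10, 7, 6, 5, 4, 8, 9, 3, 4, 8, 5, 6, 2, 3, 4, 5, 1, 2, 3, 4, 8, 9, 6, 4, 5, 2, 3, 4, 8, 7, 6, 5, 4, 3, 2, 1], 1, [10, 7, 5, 6, 8, 4, 5, 9, 8, 4, 3, 2, 7, 6, 5, 9, 8, 4, 3, 11, 9, 8, 4, 5, 6, 7, 10, 6, 4, 5, 11, 9, 8, 4, 3, 2, 8, 4, 5, 9, 8, 4, 3, 6, 5, 4, 8, 9, 11, 6, 5, 4, 3, 2, 7, 6, 5, 9, 8,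 4, 3, 6, 7, 5, 6, 8, 4, 5, 9, 8, 4, 3, 2, 9, 8, 4, 3, 5, 6, 8, 4, 5, 9, 8, 4, 3, 8, 4, 5, 6, 7, 5, 4, 8, 9]⟩ : Fct)) (ndA (nat_lit 602) (lfA (⟨34, [1, 2, 3, 4, 8, 9, 5, 4, 8, 6, 7, 5, 6, 3, 4, 5, 2, 3, 4, 8, 9, 6, 3, 4, 5, 2, 3, 4, 8, 1, 2, 3, 4, 5, 6, 7, 10, 7, 6, 5, 4, 8, 9, 3, 4, 8, 5, 6, 2, 3, 4, 5, 1, 2, 3, 4, 8, 9, 6, 4, 5, 2, 3, 4, 8, 7, 6, 5, 4, 3, 2, 1], 28, [2, 3, 4, 5, 6, 7, 10, 7, 6, 5, 4, 3, 2, 4, 5, 9, 8, 4, 3, 4, 5, 6, 9, 8, 4, 5, 11, 9, 8, 4, 3, 2, 6, 4, 5, 9, 8, 4, 3, 7, 6, 5, 4, 8, 9, 11, 10, 3, 6, 4, 5, 8, 4, 3, 2, 7, 6, 5, 4, 3, 9, 8, 4, 5, 6, 7, 10, 6, 5, 4, 3, 2, 8, 4, 3, 5, 6, 7, 4, 5, 6, 8, 4, 5, 9, 8, 4, 3, 2, 3,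 9, 8, 4, 5, 6, 7, 8, 4, 5, 6, 9, 8, 4, 5, 4, 8, 9]⟩ : Fct)) (lfA (⟨34, [], 33, [9, 5, 4, 6, 5, 4, 8, 7, 6, 5, 4, 8, 9, 3, 4, 8, 9, 5, 4, 6, 3, 2, 3, 4, 8, 9, 5, 4, 8, 6, 5, 7, 6, 3, 4, 8, 5, 6, 7, 2, 3, 10, 7, 6, 5, 4, 8, 9, 3, 4, 8, 5, 4, 3, 2, 3, 4, 8, 9, 5, 6, 7, 10]⟩ : Fct))))))
noncomputable def FT : ℕ → Fct := (ndA (nat_lit 304) (ndA (nat_lit 144) (ndA (nat_lit 64) (ndA (nat_lit 32) (ndA (nat_lit 16) FT0 FT1) (ndA (nat_lit 48) FT2 FT3)) (ndA (nat_lit 96) (ndA (nat_lit 80) FT4 FT5) (ndA (nat_lit 112) FT6 (ndA (nat_lit 128) FT7 FT8)))) (ndA (nat_lit 224) (ndA (nat_lit 176) (ndA (nat_lit 160) FT9 FT10) (ndA (nat_lit 192) FT11 (ndA (nat_lit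 208) FT12 FT13))) (ndA (nat_lit 256) (ndA (nat_lit 240) FT14 FT15) (ndA (nat_lit 272) FT16 (ndA (nat_lit 288) FT17 FT18))))) (ndA (nat_lit 448) (ndA (nat_lit 368) (ndA (nat_lit 336) (ndA (nat_lit 320) FT19 FT20) (ndA (nat_lit 352) FT21 FT22)) (ndA (nat_lit 400) (ndA (nat_lit 384) FT23 FT24) (ndA (nat_lit 416) FT25 (ndA (nat_lit 432) FT26 FT27)))) (ndA (nat_lit 528) (ndA (nat_lit 480) (ndA (nat_lit 464) FT28 FT29) (ndA (nat_lit 496) FT30 (ndA (nat_lit 512) FT31 FT32))) (ndA (nat_lit 560) (ndA (nat_lit 544) FT33 FT34) (ndA (nat_lit 576) FT35 (ndA (nat_lit 592) FT36 FT37))))))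

noncomputable def DT0 : ℕ → Der := (ndA (nat_lit 8) (ndA (nat_lit 4) (ndA (nat_lit 2) (ndA (nat_lit 1) (lfA (⟨1, 0, 0, [], [], 0⟩ : Der)) (lfA (⟨1, 0, 0, [], [], 0⟩ : Der))) (ndA (nat_lit 3) (lfA (⟨1, 0, 0, [], [], 0⟩ : Der)) (lfA (⟨1, 0, 0, [], [], 0⟩ : Der)))) (ndA (nat_lit 6) (ndA (nat_lit 5) (lfA (⟨1, 0, 0, [], [], 0⟩ : Der)) (lfA (⟨1, 0, 0, [], [], 0⟩ : Der))) (ndA (nat_lit 7) (lfA (⟨1, 0, 0, [], [], 0⟩ : Der)) (lfA (⟨1, 0, 0, [], [], 0⟩ : Der))))) (ndA (nat_lit 12) (ndA (nat_lit 10) (ndA (nat_lit 9) (lfA (⟨1, 0, 0, [], [], 0⟩ : Der)) (lfA (⟨0, 0, 0, [], [], 1⟩ : Der))) (ndA (nat_lit 11) (lfA (⟨1, 0, 0, [], [], 1⟩ : Der)) (lfA (⟨1,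 0, 0, [], [], 1⟩ : Der)))) (ndA (nat_lit 14) (ndA (nat_lit 13) (lfA (⟨1, 0, 0, [], [], 1⟩ : Der)) (lfA (⟨1, 0, 0, [], [], 1⟩ : Der))) (ndA (nat_lit 15) (lfA (⟨1, 0, 0, [], [], 1⟩ : Der)) (lfA (⟨1, 0, 0, [], [], 1⟩ : Der))))))
noncomputable def DT1 : ℕ → Der := (ndA (nat_lit 24) (ndA (nat_lit 20) (ndA (nat_lit 18) (ndA (nat_lit 17) (lfA (⟨1, 0, 0, [], [], 1⟩ : Der)) (lfA (⟨1, 0, 0, [], [], 1⟩ : Der))) (ndA (nat_lit 19) (lfA (⟨1, 0, 0, [], [], 1⟩ : Der)) (lfA (⟨0, 0, 0, [], [], 1⟩ : Der)))) (ndA (nat_lit 22) (ndA (nat_lit 21) (lfA (⟨2, 0, 0, [], [⟨0, [], 39, 1, [2]⟩, ⟨0, [0], 38, 0, []⟩], 1⟩ : Der)) (lfA (⟨2, 0, 0, [], [⟨0, [], 39, 1, [3]⟩,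 ⟨0, [2], 38, 0, []⟩], 1⟩ : Der))) (ndA (nat_lit 23) (lfA (⟨2, 0, 0, [], [⟨0, [], 39, 1, [4]⟩, ⟨0, [4], 38, 0, []⟩], 1⟩ : Der)) (lfA (⟨2, 0, 0, [], [⟨0, [], 39, 1, [5]⟩, ⟨0, [6], 38, 0, []⟩], 1⟩ : Der))))) (ndA (nat_lit 28) (ndA (nat_lit 26) (ndA (nat_lit 25) (lfA (⟨2, 0, 0, [], [⟨0, [], 39, 1, [6]⟩, ⟨0, [8], 38, 0, []⟩], 1⟩ : Der)) (lfA (⟨2, 0, 0, [], [⟨0, [], 39, 1, [7]⟩, ⟨0, [10], 38, 0, []⟩], 1⟩ : Der))) (ndA (nat_lit 27) (lfA (⟨2, 0, 0, [], [⟨0, [], 39, 1, [10]⟩, ⟨0, [12], 38, 0, []⟩], 1⟩ : Der)) (lfA (⟨2, 0, 0, [], [⟨0, [], 39, 1, [9]⟩, ⟨0, [16], 38, 0, []⟩], 1⟩ : Der)))) (ndA (nat_lit 30) (ndA (nat_lit 29) (lfA (⟨2, 0, 0, [], [⟨0, [],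 39, 1, [9, 8, 9, 4, 8, 9, 5, 4, 8, 9, 6, 5, 4, 8, 9, 3, 4, 8, 9, 5, 4, 8, 6, 5, 4, 3, 4, 8, 9, 5, 4, 8, 6, 5, 4, 3, 2, 3, 4, 8, 9, 5, 4, 8, 3, 4, 5, 2, 3, 4, 8, 9]⟩, ⟨0, [14, 6, 4, 2, 0, 8, 6, 4, 15, 7, 9, 3, 5, 7, 15], 38, 0, []⟩], 1⟩ : Der)) (lfA (⟨2, 1, 2, [], [⟨1, [], 18, 0, [2, 3, 5, 4, 6, 5, 4, 7, 6, 5, 4, 8, 4, 3, 2, 5, 4, 3, 6, 5, 4, 7, 6, 8, 4, 3, 2, 5, 4, 3, 6, 5, 4, 7, 6, 5, 8, 4, 5, 6, 10, 7, 6, 5, 4, 3, 2, 8, 4, 3, 5, 4, 6, 5, 7, 6, 8, 4, 10, 7]⟩, ⟨1, [37], 19, 1, [9, 8, 9, 4, 5, 4, 8, 6, 5, 4, 8, 7, 6, 5, 4, 8, 3, 4, 8, 9, 5, 4, 8, 6, 5, 4, 7, 6, 5, 3, 4, 8, 9, 5, 4, 8, 6, 5, 4, 7, 6, 5, 3, 4, 8, 9, 5, 4, 2, 3, 4, 8, 5, 4, 3,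 2, 10, 7, 6, 5, 4, 8, 3, 4, 5, 6, 7, 2, 3, 4, 8, 5, 4, 6, 10, 7]⟩, ⟨1, [3, 5, 7, 15], 38, 0, [3, 4, 3, 2, 5, 4, 6, 7, 8, 4, 3, 2, 5, 4, 3, 6, 5, 4, 7, 6, 8, 4, 3, 2, 5, 4, 3, 6, 5, 4, 8, 4, 5, 6, 7, 10, 7, 6, 5, 4, 3, 2, 8, 4, 3, 5, 4, 6, 5, 7, 6, 8, 4, 3, 2, 5, 10]⟩], 1⟩ : Der))) (ndA (nat_lit 31) (lfA (⟨2, 0, 0, [], [⟨0, [], 58, 0, []⟩], 1⟩ : Der)) (lfA (⟨2, 0, 0, [4, 8, 9, 5, 3, 4, 8, 9, 5, 4, 8, 6, 5, 4, 7, 6, 5, 3, 4, 8, 9, 5, 4, 8, 6, 5, 4, 3, 4, 8, 5, 4, 6, 5, 7, 10, 7, 6, 5, 4, 8, 9, 3, 4, 8, 5, 4, 6, 5, 7, 6, 3, 4, 8, 9, 5, 10], [⟨0, [], 61, 1, []⟩, ⟨0, [3, 5, 7, 15], 38, 0, [3, 4, 3, 2, 5, 4, 6, 7, 8, 4, 3, 2, 5, 4, 3, 6, 5, 4,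 7, 6, 8, 4, 3, 2, 5, 4, 3, 6, 5, 4, 8, 4, 5, 6, 7, 10, 7, 6, 5, 4, 3, 2, 8, 4, 3, 5, 4, 6, 5, 7, 6, 8, 4, 3, 2, 5, 10]⟩], 1⟩ : Der))))))
noncomputable def DT2 : ℕ → Der := (ndA (nat_lit 40) (ndA (nat_lit 36) (ndA (nat_lit 34) (ndA (nat_lit 33) (lfA (⟨0, 0, 0, [], [], 0⟩ : Der)) (lfA (⟨2, 0, 0, [], [⟨0, [], 65, 0, [2]⟩, ⟨0, [20], 64, 1, []⟩], 0⟩ : Der))) (ndA (nat_lit 35) (lfA (⟨2, 0, 0, [], [⟨0, [], 65, 0, [5]⟩, ⟨0, [24], 64, 1, []⟩], 0⟩ : Der)) (lfA (⟨2, 0, 0, [], [⟨0, [], 65, 0, [6]⟩, ⟨0, [26], 64, 1, []⟩], 0⟩ : Der)))) (ndA (nat_lit 38) (ndA (nat_lit 37) (lfA (⟨2, 0, 0, [], [⟨0, [], 65, 0, [7]⟩, ⟨0, [28], 64, 1, []⟩], 0⟩ : Der)) (lfA (⟨2,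 0, 0, [], [⟨0, [], 65, 0, [10]⟩, ⟨0, [30], 64, 1, []⟩], 0⟩ : Der))) (ndA (nat_lit 39) (lfA (⟨2, 0, 0, [], [⟨0, [], 65, 0, [4]⟩, ⟨0, [32], 64, 1, []⟩], 0⟩ : Der)) (lfA (⟨2, 0, 0, [], [⟨0, [], 65, 0, [8]⟩, ⟨0, [34], 64, 1, []⟩], 0⟩ : Der))))) (ndA (nat_lit 44) (ndA (nat_lit 42) (ndA (nat_lit 41) (lfA (⟨2, 0, 0, [], [⟨0, [], 65, 0, [9]⟩, ⟨0, [36], 64, 1, []⟩], 0⟩ : Der)) (lfA (⟨2, 0, 0, [], [⟨0, [], 65, 0, [2, 3, 2, 4, 3, 2, 5, 4, 3, 2, 6, 5, 4, 3, 2, 8, 4, 3, 2, 5, 4, 3, 6, 5, 4, 8, 4, 3, 2, 5, 4, 3, 6, 5, 4, 8, 9, 8, 4, 3, 2, 5, 4, 3, 8, 4, 5, 9, 8, 4, 3, 2]⟩, ⟨0, [22, 24, 26, 32, 24, 22, 34, 32, 37, 35, 25, 33, 27, 25, 23], 64, 1, []⟩], 0⟩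 : Der))) (ndA (nat_lit 43) (lfA (⟨2, 1, 2, [], [⟨1, [], 65, 0, [2, 3, 2, 4, 3, 6, 5, 7, 6, 5, 4, 8, 4, 3, 2, 5, 4, 3, 6, 5, 4, 7, 8, 4, 3, 2, 5, 4, 3, 6, 5, 9, 8, 4, 3, 2, 5, 4, 3, 6, 5, 4, 7, 8, 4, 3, 2, 5, 4, 3, 10, 7, 6, 5, 4, 3, 2, 8, 4, 3, 5, 4, 6, 5, 7, 6, 9, 8, 4, 3]⟩, ⟨1, [27, 25, 33, 35, 31, 29, 23, 25, 27, 21, 23, 25, 33, 29, 31, 27, 29, 23, 25, 27, 21, 23, 25, 33, 35, 37], 19, 1, [6, 7, 10, 2, 5, 4, 3, 6, 7, 5, 6, 4, 5, 8, 4, 3, 9, 8, 4, 5, 6, 7, 10, 4, 5, 8, 4, 3, 2, 4, 5, 8, 4, 3, 6, 7, 5, 6, 8, 4, 5, 9, 8, 4, 3, 2, 5, 9, 8, 4, 3, 5, 6, 8, 4, 5, 9, 8, 4, 3, 5, 6, 7, 5, 6, 5, 8, 4, 9, 8]⟩, ⟨1, [7, 9, 3, 5, 7, 15, 17, 7, 9, 11,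 5, 7, 9, 3, 5, 7, 15], 38, 0, [4, 3, 6, 5, 4, 7, 6, 5, 4, 8, 4, 3, 5, 4, 6, 5, 8, 4, 3, 9, 8, 4, 3, 5, 4, 6, 5, 8, 4, 3, 9, 8, 4, 10, 7, 6, 5, 4, 3, 8, 4, 5, 6, 7, 9, 8, 4, 3, 5, 4, 6, 5, 8, 4, 3, 10, 7, 6]⟩], 1⟩ : Der)) (lfA (⟨2, 0, 0, [], [⟨0, [], 84, 0, []⟩], 1⟩ : Der)))) (ndA (nat_lit 46) (ndA (nat_lit 45) (lfA (⟨2, 1, 3, [], [⟨1, [], 64, 1, [5, 8, 4, 3, 2, 5, 6, 4, 5, 8, 4, 3, 9, 8, 4, 5, 6, 7, 10, 6, 4, 5, 9, 8, 4, 3, 2, 4, 5, 8, 4, 3, 6, 7, 4, 5, 6, 8, 4, 5, 9, 8, 4, 3, 2, 4, 3, 8, 4, 5, 9, 8, 4, 3, 6, 7, 5, 6, 8, 4, 5, 9, 8, 4, 3, 8, 4, 5, 6, 9, 8, 4, 5, 8, 4, 9, 8, 9]⟩, ⟨1, [75, 73, 83, 77, 75, 71, 69, 67], 86, 0, [2, 3, 4, 3, 5,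 4, 3, 2, 6, 5, 4, 7, 6, 5, 4, 8, 4, 3, 2, 5, 4, 3, 6, 5, 4, 7, 6, 8, 4, 3, 2, 5, 4, 3, 6, 5, 4, 7, 6, 5, 8, 4, 3, 2, 5, 6, 9, 8, 4, 3, 5, 4, 6, 5, 8, 10, 7, 6, 5, 4, 3, 8, 4, 5, 6, 7, 9, 8, 4, 5, 6]⟩, ⟨1, [41, 43, 45, 47, 49, 51, 57, 53, 51, 57, 41], 87, 1, [9, 4, 8, 5, 6, 7, 3, 4, 8, 9, 5, 4, 8, 6, 7, 2, 3, 4, 8, 9, 5, 4, 8, 6, 5, 7, 6, 3, 4, 8, 5, 4, 10, 7, 6, 5, 4, 8, 9, 3, 4, 8, 5, 4, 6, 5, 7, 6, 3, 4, 8, 9, 5, 10, 7, 6]⟩], 0⟩ : Der)) (lfA (⟨2, 0, 0, [], [⟨0, [], 88, 1, []⟩], 0⟩ : Der))) (ndA (nat_lit 47) (lfA (⟨2, 0, 0, [4, 7, 8, 4, 3, 2, 5, 4, 3, 6, 5, 4, 8, 4, 3, 5, 6, 7, 9, 8, 4, 3, 2, 5, 4, 6, 5, 7, 8, 4, 9, 8, 10, 7, 6, 5, 4, 3,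 2, 8, 4, 3, 5, 4, 6, 5, 7, 6, 8, 4, 3, 10, 7], [⟨0, [], 91, 0, []⟩, ⟨0, [33, 35, 37, 31, 29, 27, 23, 25, 33, 35, 31, 27, 29, 25, 27, 23, 25, 33, 29, 25, 27, 23, 25, 21, 23], 64, 1, [8, 4, 8, 5, 7, 6, 3, 4, 8, 9, 5, 4, 8, 2, 3, 4, 8, 9, 5, 4, 6, 5, 7, 6, 3, 4, 8, 9, 5, 4, 8, 2, 10, 7, 6, 5, 4, 8, 3, 4, 5, 6, 7, 2, 3, 4, 8, 5, 4, 6, 3, 10, 7]⟩], 0⟩ : Der)) (lfA (⟨0, 0, 0, [], [], 0⟩ : Der))))))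
noncomputable def DT3 : ℕ → Der := (ndA (nat_lit 56) (ndA (nat_lit 52) (ndA (nat_lit 50) (ndA (nat_lit 49) (lfA (⟨2, 0, 0, [], [⟨0, [], 95, 0, [2, 3, 2, 4, 3, 2, 5, 4, 3, 2, 8, 4, 3, 2, 5, 4, 3, 8, 4, 5, 9, 8, 4, 3, 2, 5, 4, 3, 8, 4, 5, 9, 8, 4, 3, 2]⟩, ⟨0, [44, 50, 55], 94, 1, []⟩], 0⟩ : Der)) (lfA (⟨2, 0, 0, [], [⟨0, [], 95, 0, [2, 4, 3, 2, 6, 5, 4, 3, 2, 8, 4, 3, 2, 5, 4, 3, 8, 4, 5, 9, 8, 4, 3, 2, 5, 4, 3, 8, 4, 5, 6, 9, 8, 4]⟩, ⟨0, [42, 48, 54, 56, 51, 57, 55], 94, 1, []⟩], 0⟩ : Der))) (ndA (nat_lit 51) (lfA (⟨2, 0, 0, [], [⟨0, [], 95, 0, [3, 4, 5, 4, 3, 6, 7, 8, 4, 3, 2, 5, 4, 3, 6, 5, 4, 7, 6, 5, 8, 4, 3, 2, 5, 4, 3, 6, 5, 4, 7, 6,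 5, 8, 4, 3, 2, 5, 4, 6, 5, 7, 6, 8, 4, 3, 5, 4, 8, 9, 8, 4, 3, 5, 4, 6, 5, 7, 6, 8, 4, 3, 2, 9]⟩, ⟨0, [42, 56, 54, 62, 57, 55, 57, 43], 94, 1, []⟩], 0⟩ : Der)) (lfA (⟨2, 0, 0, [], [⟨0, [], 95, 0, [3, 4, 3, 5, 4, 6, 5, 4, 7, 6, 5, 4, 3, 8, 4, 3, 2, 5, 4, 3, 6, 5, 4, 7, 6, 5, 8, 4, 3, 2, 5, 4, 3, 6, 5, 4, 7, 6, 8, 4, 3, 5, 6, 7, 9, 8, 4, 3, 2, 5, 4, 3, 6, 5, 7, 6, 8, 4, 3, 2, 5, 4, 3, 6, 8, 9, 10, 7, 6, 5, 4, 3, 2, 8, 4, 3, 5, 4, 6, 5, 7, 6, 9, 8, 4, 3, 5, 4, 8, 10]⟩, ⟨0, [40, 52, 50, 56, 54, 62, 55, 51, 57, 51, 53, 41], 94, 1, []⟩], 0⟩ : Der)))) (ndA (nat_lit 54) (ndA (nat_lit 53) (lfA (⟨2, 1, 3, [], [⟨1, [], 87, 1, [7, 6, 4, 5, 9, 8, 4, 3,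 2, 7, 6, 5, 8, 4, 3, 9, 8, 4, 5, 6, 7, 10, 5, 9, 8, 4, 3, 5, 6, 7, 4, 5, 6, 8, 4, 5, 9, 8, 4, 3, 2, 8, 4, 3, 5, 6, 8, 4, 5, 9, 8, 4, 3, 6, 8, 4, 9, 8]⟩, ⟨1, [79, 75, 71, 93, 69], 86, 0, [5, 6, 4, 5, 3, 4, 8, 9, 5, 6, 4, 5, 3, 4, 8, 2, 3, 4, 5, 6, 7, 10, 3, 4, 8, 9, 7, 6, 5, 2, 3, 4, 8, 6, 7, 4, 5, 6, 3, 4, 5, 2, 3, 4, 8, 9, 8, 3, 4, 5, 2, 3, 4, 8, 6, 7, 4, 5, 6, 3, 4, 5, 2, 3, 4, 8, 4, 5, 6, 7, 6, 5, 4, 3]⟩, ⟨1, [55, 63, 51, 53, 49, 51, 57, 43, 41], 94, 1, [10, 5, 4, 3, 2, 7, 6, 5, 8, 4, 3, 9, 8, 4, 5, 6, 7, 10, 5, 6, 4, 5, 8, 4, 3, 2, 3, 6, 4, 5, 8, 4, 3, 6, 7, 5, 6, 8, 4, 5, 9, 8, 4, 3, 2, 7, 6, 5, 4, 3, 5, 6, 8, 4, 5, 9, 8, 4, 3, 5, 6,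 7, 4, 5, 6, 8, 4, 5, 9, 8, 4, 3, 5, 6, 7, 5, 6, 4, 5, 9, 8, 9]⟩], 0⟩ : Der)) (lfA (⟨2, 0, 0, [], [⟨0, [], 104, 1, []⟩], 0⟩ : Der))) (ndA (nat_lit 55) (lfA (⟨2, 0, 0, [3, 6, 5, 4, 3, 2, 7, 6, 5, 4, 3, 2, 8, 4, 3, 2, 5, 4, 3, 6, 5, 4, 7, 6, 5, 8, 4, 3, 2, 5, 4, 3, 6, 5, 4, 7, 8, 4, 3, 5, 4, 6, 5, 7, 6, 9, 8, 4, 3, 5, 4, 6, 5, 7, 6, 8, 4, 9, 8, 10, 7, 6], [⟨0, [], 107, 0, []⟩, ⟨0, [51, 53, 51, 49, 47, 43], 94, 1, [9, 8, 9, 4, 5, 7, 6, 5, 4, 8, 9, 3, 4, 8, 9, 5, 4, 8, 6, 5, 4, 7, 6, 3, 4, 8, 9, 5, 4, 8, 6, 7, 3, 4, 5, 6, 7, 2, 3, 4, 8, 5, 4, 6, 5, 7, 6, 3, 4, 2, 3, 10, 7, 6]⟩], 0⟩ : Der)) (lfA (⟨0, 0, 0, [], [], 1⟩ : Der))))) (ndA (nat_lit 60)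 (ndA (nat_lit 58) (ndA (nat_lit 57) (lfA (⟨2, 0, 0, [], [⟨0, [], 111, 1, [9, 8, 9, 4, 8, 9, 5, 4, 8, 9, 3, 4, 8, 9, 5, 4, 8, 3, 4, 5, 2, 3, 4, 8, 9, 5, 4, 8, 3, 4, 5, 2, 3, 4, 8, 9]⟩, ⟨0, [66, 72, 77], 110, 0, []⟩], 1⟩ : Der)) (lfA (⟨2, 0, 0, [], [⟨0, [], 111, 1, [9, 8, 4, 8, 5, 4, 6, 5, 4, 8, 9, 7, 6, 5, 4, 8, 3, 4, 8, 9, 5, 4, 8, 6, 5, 4, 7, 6, 5, 3, 4, 8, 5, 4, 6, 7, 2, 3, 4, 8, 9, 5, 4, 8, 6, 5, 7, 6, 3, 4, 8, 5, 4, 6, 2, 3, 4, 8, 9, 5, 4, 6, 7, 10, 7, 6, 5, 4, 8, 9, 3, 4, 8, 5, 4, 6, 5, 7, 6, 3, 4, 8, 5, 4, 10, 7]⟩, ⟨0, [93, 74, 71, 92], 110, 0, []⟩], 1⟩ : Der))) (ndA (nat_lit 59) (lfA (⟨2, 0, 0, [], [⟨0, [], 111, 1, [8, 4, 8, 5, 4,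 6, 5, 7, 6, 5, 4, 8, 3, 4, 8, 9, 5, 4, 8, 2, 3, 4, 8, 9, 5, 4, 8, 6, 5, 7, 6, 3, 4, 8, 5, 4, 3, 2, 3, 4, 8, 9, 5, 4, 6, 3, 10, 7, 6, 5, 4, 8, 9, 3, 4, 8, 5, 4, 6, 5, 7, 6, 3, 4, 5, 2, 3, 4, 10, 7]⟩, ⟨0, [66, 93, 76, 71, 92, 67], 110, 0, []⟩], 1⟩ : Der)) (lfA (⟨2, 0, 0, [], [⟨0, [], 111, 1, [9, 4, 5, 4, 7, 6, 5, 4, 3, 4, 8, 9, 5, 4, 8, 6, 5, 4, 7, 6, 3, 4, 8, 9, 5, 4, 8, 6, 5, 4, 7, 6, 5, 3, 4, 8, 9, 5, 6, 7, 2, 3, 4, 8, 9, 5, 4, 8, 6, 5, 3, 4, 8, 5, 2, 10, 7, 6, 5, 4, 8, 9, 3, 4, 8, 5, 4, 6, 5, 7, 6, 3, 4, 8, 9, 5, 4, 3]⟩, ⟨0, [72, 93, 72, 93, 81, 73], 110, 0, []⟩], 1⟩ : Der)))) (ndA (nat_lit 62) (ndA (nat_lit 61) (lfA (⟨2, 0, 0, [], [⟨0,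 [], 111, 1, [9, 8, 9, 4, 6, 5, 4, 8, 7, 6, 5, 4, 3, 4, 8, 9, 5, 4, 8, 6, 5, 4, 7, 6, 5, 3, 4, 8, 9, 5, 4, 8, 6, 5, 4, 7, 6, 5, 3, 2, 3, 4, 8, 9, 5, 4, 8, 6, 5, 4, 7, 6, 3, 4, 8, 5, 6, 2, 3, 4, 8, 9, 5, 4, 6, 3, 2, 10, 7, 6, 5, 4, 8, 9, 3, 4, 8, 5, 4, 6, 5, 7, 6, 3, 2, 3, 10, 7]⟩, ⟨0, [66, 68, 74, 78, 92, 83, 93], 110, 0, []⟩], 1⟩ : Der)) (lfA (⟨2, 0, 0, [], [⟨0, [], 111, 1, [3, 2, 8, 4, 3, 9, 8, 4, 5, 6, 7, 10, 6, 5, 9, 8, 4, 3, 4, 5, 6, 8, 4, 5, 9, 8, 4, 3, 2, 8, 4, 3, 7, 5, 6, 4, 5, 9, 8, 4, 3, 5, 6, 7, 4, 5, 6, 8, 4, 5, 9, 8, 4, 3, 5, 6, 7, 4, 5, 6, 8, 4, 5, 9, 8, 4, 3, 6, 4, 5, 8, 9]⟩, ⟨0, [66, 78, 76, 82, 67, 92, 92], 110, 0, []⟩], 1⟩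 : Der))) (ndA (nat_lit 63) (lfA (⟨2, 2, 3, [], [⟨1, [], 95, 0, [2, 4, 5, 4, 6, 5, 7, 6, 5, 4, 8, 4, 3, 5, 4, 6, 5, 9, 8, 4, 3, 2, 5, 4, 3, 6, 5, 4, 7, 6, 8, 4, 3, 2, 5, 4, 6, 9, 8, 4, 10, 7, 6, 5, 4, 3, 2, 8, 4, 5, 6]⟩, ⟨1, [49, 51, 57, 51, 53], 87, 1, [8, 4, 5, 6, 5, 3, 4, 8, 5, 4, 6, 5, 7, 6, 3, 4, 8, 9, 5, 2, 3, 4, 8, 9, 5, 4, 8, 6, 5, 4, 7, 6, 5, 3, 4, 8, 5, 2, 10, 7, 6, 5, 4, 8, 9, 3, 4, 8, 5, 4, 6, 7, 3, 2, 3, 4, 8, 9, 5, 4, 6, 5, 10]⟩, ⟨1, [93, 71, 67, 92, 77], 110, 0, [2, 3, 4, 5, 8, 4, 3, 2, 5, 4, 3, 6, 5, 4, 7, 6, 8, 4, 9, 8, 4, 3, 2, 5, 4, 3, 6, 8, 4, 5, 9, 8, 4, 10, 7, 6, 5, 4, 3, 8, 4, 5, 6, 7, 9, 8, 4, 3, 5, 4, 6, 8]⟩], 1⟩ :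 Der)) (lfA (⟨2, 0, 0, [], [⟨0, [], 124, 0, []⟩], 1⟩ : Der))))))
noncomputable def DT4 : ℕ → Der := (ndA (nat_lit 72) (ndA (nat_lit 68) (ndA (nat_lit 66) (ndA (nat_lit 65) (lfA (⟨2, 1, 0, [], [⟨1, [], 126, 0, [5, 6, 5, 7, 6, 5, 4, 3, 2, 8, 4, 3, 2, 5, 4, 3, 6, 5, 4, 7, 6, 5, 8, 4, 3, 2, 5, 4, 3, 6, 5, 7, 6, 8, 10, 7, 6, 5, 4, 3, 2, 8, 4, 3, 5, 4, 6, 5, 7, 6, 8, 4, 3, 2, 5]⟩, ⟨1, [], 111, 1, [10, 6, 5, 4, 3, 2, 3, 7, 5, 6, 4, 5, 8, 4, 3, 9, 8, 4, 5, 6, 7, 10, 2, 3, 4, 5, 8, 4, 3, 2, 6, 4, 5, 8, 4, 3, 6, 7, 4, 5, 6, 8, 4, 5, 9, 8, 4, 3, 2, 4, 3, 8, 4, 5, 9, 8, 4, 3, 6, 7, 5, 6, 4, 5, 9, 8, 4, 3, 9, 8, 4, 5, 6, 9, 8, 4, 5, 4, 9]⟩, ⟨1, [92, 67,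 92, 92, 79, 71], 110, 0, [9, 4, 8, 2, 3, 4, 5, 6, 7, 10, 4, 8, 9, 3, 4, 8, 7, 5, 6, 4, 5, 3, 4, 8, 9, 5, 4, 8, 3, 4, 5, 2, 3, 4, 8, 6, 7, 5, 6, 4, 5, 2, 3, 4, 8, 3, 4, 5, 6, 2, 3, 4, 5, 2, 3, 4, 2, 3]⟩], 1⟩ : Der)) (lfA (⟨2, 0, 0, [], [⟨0, [], 128, 0, []⟩], 1⟩ : Der))) (ndA (nat_lit 67) (lfA (⟨2, 2, 3, [], [⟨1, [], 110, 0, [2, 4, 3, 2, 5, 6, 5, 4, 3, 7, 6, 8, 4, 3, 2, 5, 4, 3, 6, 5, 7, 6, 8, 4, 3, 5, 4, 6, 9, 8, 4, 3, 2, 5, 4, 3, 6, 5, 4, 7, 6, 5, 8, 4, 3, 2, 5, 4, 6, 5, 9, 8, 4, 3, 2, 5, 4, 3, 8, 4, 9, 10, 7, 6, 5, 4, 3, 2, 8, 4, 5, 6, 7, 9, 8, 4, 3, 10]⟩, ⟨1, [117, 113, 122, 117, 115], 131, 1, [5, 4, 8, 6, 5, 4, 8, 7, 3, 4, 8, 9, 5, 4,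 8, 6, 5, 7, 3, 4, 8, 9, 5, 6, 2, 3, 4, 8, 9, 5, 4, 8, 6, 5, 3, 4, 5, 6, 10, 7, 6, 5, 4, 8, 9, 3, 4, 8, 5, 4, 6, 5, 7, 6, 3, 4, 8, 9, 5, 10]⟩, ⟨1, [109, 101, 99, 101, 97, 103], 126, 0, [5, 4, 6, 5, 4, 3, 2, 7, 6, 5, 4, 8, 4, 3, 2, 5, 4, 3, 6, 5, 4, 7, 6, 5, 8, 4, 5, 6, 9, 8, 4, 3, 2, 5, 4, 3, 6, 5, 7, 6, 8, 4, 3, 2, 5, 4, 3, 6, 7, 9, 8, 4, 3, 2, 5, 4, 6, 10, 7, 6, 5, 4, 3, 2, 8, 4, 3, 5, 4, 6, 5, 7, 6, 8, 4, 3, 5, 9]⟩], 1⟩ : Der)) (lfA (⟨2, 0, 0, [], [⟨0, [], 132, 0, []⟩], 1⟩ : Der)))) (ndA (nat_lit 70) (ndA (nat_lit 69) (lfA (⟨2, 0, 0, [8, 4, 8, 9, 5, 6, 5, 4, 7, 3, 4, 8, 9, 5, 4, 8, 6, 5, 4, 7, 6, 5, 3, 4, 8, 9, 5, 4, 8, 6, 5, 7, 6, 3, 4,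 8, 5, 6, 7, 2, 3, 4, 8, 9, 5, 4, 8, 10, 7, 6, 5, 4, 8, 9, 3, 4, 5, 6, 7, 2, 3, 4, 5], [⟨0, [], 135, 1, []⟩, ⟨0, [83, 75, 67, 93, 83, 75, 69], 110, 0, [3, 4, 3, 2, 6, 5, 4, 8, 4, 3, 2, 5, 4, 3, 6, 5, 4, 7, 6, 5, 8, 4, 3, 2, 5, 4, 3, 6, 5, 4, 8, 4, 3, 5, 4, 6, 7, 9, 8, 4, 3, 2, 5, 4, 3, 6, 5, 4, 8, 4, 5, 6, 9, 10, 7, 6, 5, 4, 3, 2, 8, 4, 3, 5, 4, 6, 5, 7, 9]⟩], 1⟩ : Der)) (lfA (⟨2, 2, 3, [], [⟨1, [], 126, 0, [4, 6, 5, 4, 7, 6, 5, 4, 3, 8, 4, 3, 2, 5, 4, 3, 6, 5, 4, 7, 6, 5, 8, 4, 3, 5, 4, 6, 7, 9, 8, 4, 3, 2, 5, 4, 3, 6, 5, 4, 7, 6, 5, 8, 4, 3, 2, 5, 6, 9, 8, 4, 3, 2, 5, 4, 3, 8, 4, 5, 6, 10, 7, 6, 5, 4, 3, 2, 8, 4, 3, 5, 4, 6, 5, 7, 10]⟩,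 ⟨1, [122, 121, 136, 119, 137, 119], 127, 1, [8, 9, 4, 5, 4, 7, 6, 5, 4, 3, 4, 8, 5, 4, 6, 5, 7, 3, 4, 2, 3, 4, 8, 9, 5, 4, 8, 6, 5, 7, 3, 4, 5, 2, 3, 10, 7, 6, 5, 4, 8, 9, 3]⟩, ⟨1, [99, 101, 108, 99, 97, 101], 130, 0, [3, 4, 3, 5, 6, 5, 4, 7, 8, 4, 3, 2, 5, 4, 6, 5, 7, 8, 4, 9, 8, 4, 3, 2, 5, 4, 3, 6, 5, 4, 7, 6, 5, 8, 4, 3, 5, 4, 8, 9, 8, 4, 3, 2, 5, 4, 6, 5, 10, 7, 6, 5, 4, 8]⟩], 1⟩ : Der))) (ndA (nat_lit 71) (lfA (⟨2, 0, 0, [], [⟨0, [], 138, 0, []⟩], 1⟩ : Der)) (lfA (⟨2, 2, 2, [], [⟨1, [], 127, 1, [6, 4, 5, 8, 4, 3, 2, 6, 5, 8, 4, 3, 9, 8, 4, 5, 6, 7, 10, 4, 5, 8, 4, 3, 2, 6, 4, 5, 9, 8, 4, 3, 5, 6, 7, 4, 5, 6, 8, 4, 5, 9, 8, 4, 3, 2,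 6, 5, 4, 3, 7, 5, 6, 8, 4, 5, 9, 8, 4, 3, 5, 6, 7, 4, 5, 6, 8, 4, 5, 9, 8, 4, 3, 7, 5, 4, 9]⟩, ⟨1, [99, 109, 99, 109, 101, 108], 126, 0, [10, 8, 9, 7, 6, 5, 4, 8, 3, 4, 5, 6, 7, 10, 8, 6, 7, 4, 5, 6, 3, 4, 5, 2, 3, 4, 8, 9, 8, 6, 7, 5, 6, 3, 4, 5, 2, 3, 4, 8, 6, 7, 4, 5, 6, 3, 4, 5, 2, 3, 4, 8, 4, 5, 6, 7, 3, 4, 5, 6, 2, 3, 4, 5, 4, 3]⟩, ⟨1, [136, 123, 119, 113, 123], 141, 1, [10, 5, 6, 4, 5, 9, 8, 4, 3, 2, 7, 6, 5, 8, 4, 3, 9, 8, 4, 5, 6, 7, 10, 3, 2, 6, 5, 8, 4, 3, 7, 5, 6, 8, 4, 5, 9, 8, 4, 3, 2, 6, 7, 5, 6, 4, 5, 8, 4, 3, 7, 4, 5, 6, 9]⟩], 0⟩ : Der))))) (ndA (nat_lit 76) (ndA (nat_lit 74) (ndA (nat_lit 73) (lfA (⟨2, 0, 0, [], [⟨0, [],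 142, 1, []⟩], 0⟩ : Der)) (lfA (⟨0, 0, 0, [], [], 1⟩ : Der))) (ndA (nat_lit 75) (lfA (⟨2, 0, 0, [], [⟨0, [], 147, 1, [9, 8, 4, 8, 5, 4, 6, 5, 4, 7, 6, 5, 4, 3, 4, 8, 9, 5, 4, 8, 6, 5, 4, 7, 6, 5, 3, 4, 8, 9, 5, 4, 6, 5, 3, 4, 2, 3, 4, 8, 9, 5, 4, 8, 6, 5, 4, 3, 4, 8, 5, 6, 7, 2, 10, 7, 6, 5, 4, 8, 9, 3, 4, 8, 5, 4, 6, 7, 3, 2, 3, 4, 8, 5, 4, 6, 7, 3]⟩, ⟨0, [66, 92, 73, 67], 146, 0, []⟩], 1⟩ : Der)) (lfA (⟨2, 0, 0, [], [⟨0, [], 147, 1, [5, 6, 5, 4, 8, 9, 7, 6, 5, 4, 8, 9, 3, 4, 8, 9, 5, 4, 8, 6, 5, 4, 7, 6, 5, 3, 4, 8, 9, 5, 4, 8, 6, 5, 4, 7, 6, 5, 3, 4, 8, 9, 5, 4, 6, 5, 7, 6, 3, 2, 3, 4, 8, 9, 5, 4, 8, 6, 5, 4, 7, 6, 5, 3, 4, 8, 9, 2, 3,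 4, 8, 5, 4, 3, 2, 10, 7, 6, 5, 4, 8, 9, 3, 4, 8, 5, 4, 6, 5, 7, 3, 4, 2, 3, 4, 10]⟩, ⟨0, [68, 76, 71, 69], 146, 0, []⟩], 1⟩ : Der)))) (ndA (nat_lit 78) (ndA (nat_lit 77) (lfA (⟨2, 0, 0, [], [⟨0, [], 147, 1, [9, 4, 8, 9, 5, 4, 8, 6, 5, 4, 8, 9, 7, 3, 4, 8, 9, 5, 4, 8, 6, 5, 4, 7, 6, 5, 3, 4, 8, 9, 5, 4, 8, 6, 5, 4, 7, 6, 5, 3, 4, 8, 9, 5, 4, 6, 5, 3, 4, 2, 3, 4, 8, 5, 4, 6, 5, 7, 10, 7, 6, 5, 4, 8, 9, 3, 4, 5, 6, 7, 2, 3, 4, 8, 5, 6, 10, 7]⟩, ⟨0, [68, 78, 71, 69], 146, 0, []⟩], 1⟩ : Der)) (lfA (⟨2, 1, 2, [], [⟨1, [], 140, 0, [6, 5, 4, 7, 8, 4, 3, 2, 5, 4, 3, 6, 5, 4, 7, 6, 8, 4, 3, 2, 5, 4, 3, 6, 8, 4, 5, 6, 9, 8, 4, 3, 2, 5, 10, 7, 6, 5,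 4, 3, 2, 8, 4, 3, 5, 4, 6, 8, 9, 8, 4, 3]⟩, ⟨1, [120, 113, 137], 111, 1, [9, 8, 9, 4, 8, 6, 5, 4, 8, 9, 7, 6, 5, 3, 4, 8, 9, 5, 4, 8, 6, 5, 4, 7, 6, 3, 4, 8, 9, 5, 4, 8, 6, 5, 4, 7, 6, 5, 3, 4, 5, 6, 2, 3, 4, 8, 9, 5, 4, 8, 6, 5, 4, 7, 6, 5, 3, 4, 8, 9, 5, 4, 6, 5, 2, 3, 4, 8, 5, 4, 6, 10, 7, 6, 5, 4, 8, 9, 3, 4, 5, 6, 7, 2, 3, 4, 8, 5, 6]⟩, ⟨1, [92, 81, 73], 146, 0, [7, 10, 8, 9, 8, 6, 7, 5, 6, 4, 5, 3, 4, 8, 2, 3, 4, 5, 6, 7, 10, 6, 5, 3, 4, 8, 9, 8, 6, 4, 5, 3, 4, 8, 5, 6, 7, 4, 5, 6, 3, 4, 5, 2, 3, 4, 8, 9, 2, 3, 4, 8, 6, 7, 5, 6, 4, 5, 3, 4, 8, 4, 5, 6, 7, 6, 4, 5, 2, 3, 4, 2, 3, 2]⟩], 1⟩ : Der))) (ndA (nat_lit 79) (lfA (⟨2, 0, 0, [],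 [⟨0, [], 154, 0, []⟩], 1⟩ : Der)) (lfA (⟨2, 0, 0, [8, 9, 5, 4, 8, 6, 5, 4, 7, 6, 5, 4, 8, 9, 3, 4, 8, 5, 4, 6, 5, 2, 3, 4, 8, 9, 5, 4, 8, 6, 5, 7, 6, 3, 4, 8, 9, 5, 4, 6, 3, 2, 3, 4, 8, 9, 5, 4, 8, 6, 3, 11, 10, 7, 6, 5, 4, 8, 3, 4, 5, 6, 7, 2, 3, 4, 8, 5, 4, 6, 5, 3, 10, 7, 6], [⟨0, [], 157, 1, [9, 8, 9, 4, 8, 9, 5, 4, 8, 9, 6, 7, 6, 5, 4, 3, 4, 8, 9, 5, 4, 8, 6, 5, 4, 3, 4, 8, 5, 4, 6, 2, 3, 4, 8, 9, 5, 4, 8, 6, 5, 7, 6, 3, 4, 8, 9, 5, 4, 8, 6, 2, 3, 4, 8, 9, 5, 10, 7, 6, 5, 4, 8, 9, 3, 4, 8, 5, 4, 6, 5, 7, 6, 3, 10, 7]⟩, ⟨0, [102], 156, 0, []⟩], 1⟩ : Der))))))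
noncomputable def DT5 : ℕ → Der := (ndA (nat_lit 88) (ndA (nat_lit 84) (ndA (nat_lit 82) (ndA (nat_lit 81) (lfA (⟨0, 0, 0, [], [], 0⟩ : Der)) (lfA (⟨2, 0, 0, [], [⟨0, [], 161, 0, [4, 3, 5, 4, 3, 6, 7, 6, 5, 4, 8, 4, 3, 2, 5, 4, 3, 6, 5, 4, 7, 6, 8, 4, 3, 2, 5, 4, 3, 6, 5, 7, 8, 4, 9, 8, 4, 3, 2, 5, 4, 3, 6, 5, 4, 8, 4, 3, 2, 5, 4, 3, 6, 7, 9, 8, 4, 10, 7, 6, 5, 4, 3, 2, 8, 4, 3, 5, 4, 6, 5, 7, 6, 9, 8, 4, 5, 10]⟩, ⟨0, [148, 158, 150, 152, 151, 159, 149], 160, 1, []⟩], 0⟩ : Der))) (ndA (nat_lit 83) (lfA (⟨2, 0, 0, [], [⟨0, [], 161, 0, [4, 3, 5, 4, 6, 5, 7, 6, 5, 4, 3, 2, 8, 4, 3, 2, 5, 4, 3, 6, 5, 4, 7, 6, 8, 4, 3, 2, 5, 4, 3, 6, 5, 8, 4,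 5, 9, 8, 4, 3, 2, 5, 4, 3, 6, 5, 4, 7, 6, 8, 4, 3, 5, 4, 8, 9, 8, 4, 3, 2, 5, 4, 3, 8, 10, 7, 6, 5, 4, 3, 2, 8, 4, 3, 5, 4, 6, 5, 7, 6, 8, 9, 8, 4, 3, 5, 4, 10]⟩, ⟨0, [150, 152, 158, 152, 159, 153, 151], 160, 1, []⟩], 0⟩ : Der)) (lfA (⟨2, 0, 0, [], [⟨0, [], 161, 0, [4, 5, 6, 5, 4, 3, 2, 7, 6, 5, 4, 3, 8, 4, 3, 2, 5, 4, 3, 6, 5, 4, 7, 6, 5, 8, 4, 3, 2, 5, 4, 3, 6, 5, 4, 7, 6, 8, 4, 3, 5, 4, 6, 5, 7, 6]⟩, ⟨0, [152, 149, 149, 158, 148, 148, 153], 160, 1, []⟩], 0⟩ : Der)))) (ndA (nat_lit 86) (ndA (nat_lit 85) (lfA (⟨2, 0, 0, [], [⟨0, [], 161, 0, [2, 3, 4, 3, 2, 5, 4, 3, 6, 5, 4, 3, 2, 7, 6, 5, 4, 3, 2, 8, 4, 3, 2, 5, 4, 3, 6, 7, 8, 4, 5, 6, 9,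 8, 4, 3, 2, 5, 4, 3, 6, 5, 7, 6, 8, 4, 5, 9, 10, 7, 6, 5, 4, 3, 2, 8, 4, 3, 5, 4, 6, 5, 7, 6, 8, 9, 8, 4, 3, 5, 4, 10, 7]⟩, ⟨0, [158, 149, 150, 148, 151, 149, 159, 151], 160, 1, []⟩], 0⟩ : Der)) (lfA (⟨2, 2, 0, [], [⟨1, [], 127, 1, [3, 4, 5, 8, 4, 3, 2, 7, 6, 5, 4, 3, 9, 8, 4, 5, 6, 7, 10, 6, 4, 5, 8, 4, 3, 2, 8, 4, 5, 9, 8, 4, 3, 6, 7, 4, 5, 6, 8, 4, 5, 9, 8, 4, 3, 2, 9, 8, 4, 3, 6, 7, 4, 5, 6, 8, 4, 5, 9, 8, 4, 3, 6, 7, 4, 5, 6, 5, 8, 9]⟩, ⟨1, [103, 97, 99, 109], 156, 0, [6, 7, 10, 8, 4, 5, 2, 3, 4, 8, 6, 7, 5, 6, 4, 5, 3, 4, 8, 2, 3, 4, 5, 6, 7, 10, 9, 4, 5, 3, 4, 8, 5, 6, 7, 4, 5, 6, 3, 4, 5, 2, 3, 4, 8, 9, 3, 4, 8, 5, 6, 7, 4, 5, 6,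 3, 4, 5, 2, 3, 4, 8, 7, 6, 4, 5, 2, 3, 4, 3]⟩, ⟨1, [151, 148, 153, 151, 148, 153, 149, 149], 160, 1, [8, 9, 4, 8, 5, 4, 8, 6, 5, 4, 8, 7, 6, 3, 4, 8, 9, 5, 4, 8, 6, 5, 4, 7, 6, 3, 4, 8, 9, 5, 2, 3, 4, 8, 9, 5, 4, 8, 6, 5, 7, 6, 3, 4, 8, 5, 4, 3, 2, 3, 4, 8, 5, 4, 6, 5, 10, 7, 6, 5, 4, 8, 9, 3, 4, 8, 5, 4, 6, 7, 3, 2, 3, 4, 8, 5, 4, 6, 3, 10]⟩], 0⟩ : Der))) (ndA (nat_lit 87) (lfA (⟨2, 0, 0, [], [⟨0, [], 170, 1, []⟩], 0⟩ : Der)) (lfA (⟨2, 1, 3, [], [⟨1, [], 157, 1, [9, 8, 4, 6, 5, 7, 6, 5, 3, 4, 8, 9, 5, 4, 6, 5, 7, 3, 4, 2, 3, 4, 8, 9, 5, 4, 8, 6, 5, 4, 7, 3, 4, 8, 5, 6, 2, 3, 4, 8, 5, 4, 3, 2, 10, 7, 6, 5, 4, 8, 9]⟩, ⟨1, [101, 109, 101, 99],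 156, 0, [8, 4, 5, 3, 4, 8, 9, 6, 5, 3, 4, 8, 2, 3, 4, 5, 6, 7, 10, 9, 8, 4, 5, 3, 4, 8, 9, 6, 5, 3, 4, 8, 6, 7, 4, 5, 6, 3, 4, 5, 2, 3, 4, 8, 9, 7, 5, 6, 4, 5, 3, 4, 8, 5, 6, 7, 4, 5, 6, 3, 4, 5, 2, 3, 4, 8, 6, 7, 4, 5, 6, 5, 2, 3, 2]⟩, ⟨1, [148, 153, 148, 151, 153, 148], 160, 1, [9, 5, 6, 5, 4, 8, 7, 6, 3, 4, 8, 9, 5, 4, 8, 6, 5, 7, 6, 3, 4, 8, 9, 5, 4, 6, 7, 3, 2, 3, 4, 8, 9, 5, 4, 8, 6, 5, 7, 6, 3, 4, 8, 5, 4, 6, 3, 2, 3, 4, 8, 9, 5, 4, 8, 6, 3, 10, 7, 6, 5, 4, 8]⟩], 0⟩ : Der))))) (ndA (nat_lit 92) (ndA (nat_lit 90) (ndA (nat_lit 89) (lfA (⟨2, 0, 0, [], [⟨0, [], 174, 1, []⟩], 0⟩ : Der)) (lfA (⟨2, 0, 0, [10, 7, 6, 5, 2, 3, 4, 8, 9, 8, 6,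 4, 5, 3, 4, 8, 2, 3, 4, 5, 6, 7, 10, 4, 8, 9, 8, 7, 6, 4, 5, 3, 4, 8, 2, 3, 4, 5, 6, 7, 3, 4, 8, 9, 5, 4, 8, 6, 3, 4, 5, 2, 3, 4, 8, 9, 6, 5, 4, 8, 4, 5, 6, 3, 4, 5, 2, 3, 4, 8, 2, 3, 4, 5, 2, 3], [⟨0, [], 177, 0, []⟩, ⟨0, [159, 151, 153, 148], 160, 1, [6, 5, 7, 6, 3, 4, 8, 9, 5, 4, 8, 6, 5, 4, 7, 6, 5, 3, 4, 8, 9, 5, 4, 8, 6, 3, 4, 5, 6, 7, 2, 3, 4, 8, 9, 5, 4, 8, 6, 5, 4, 7, 6, 5, 3, 4, 8, 9, 5, 4, 6, 3, 2, 3, 4, 8, 9, 5, 4, 6, 5, 10, 7, 6, 5, 4, 8, 9, 3, 4, 8, 5, 4, 6, 7, 3, 2, 3, 4, 8, 5, 4, 6, 5]⟩], 0⟩ : Der))) (ndA (nat_lit 91) (lfA (⟨0, 0, 0, [], [], 0⟩ : Der)) (lfA (⟨2, 0, 0, [], [⟨0, [], 181, 0, [2, 4, 3, 5, 6, 5, 4, 3, 2, 7, 6,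 5, 4, 8, 4, 3, 2, 5, 4, 3, 6, 5, 4, 7, 6, 5, 8, 4, 3, 2, 5, 4, 6, 5, 7, 8, 4, 9, 8, 4, 3, 2, 5, 4, 3, 6, 5, 4, 7, 6, 5, 8, 4, 3, 5, 4, 9, 8, 4, 5, 6, 7, 10, 7, 6, 5, 4, 3, 2, 8, 4, 3, 5, 4, 6, 5, 7, 9, 8, 4, 3, 5, 4, 6, 10, 7]⟩, ⟨0, [150, 158, 151], 180, 1, []⟩], 0⟩ : Der)))) (ndA (nat_lit 94) (ndA (nat_lit 93) (lfA (⟨2, 0, 0, [], [⟨0, [], 181, 0, [10, 9, 8, 7, 5, 6, 4, 5, 3, 4, 8, 2, 3, 4, 5, 6, 7, 10, 6, 4, 5, 3, 4, 8, 9, 8, 7, 6, 4, 5, 2, 3, 4, 8, 6, 7, 5, 6, 3, 4, 5, 2, 3, 4, 8, 9, 2, 3, 4, 8, 5, 6, 4, 5, 2, 3, 4, 8, 2, 3, 4, 5, 6, 7, 4, 5, 6, 2, 3, 4, 5, 3, 2]⟩, ⟨0, [148, 148, 148, 159, 153], 180, 1, []⟩], 0⟩ : Der)) (lfA (⟨2, 2, 2,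 [], [⟨1, [], 160, 1, [9, 8, 4, 5, 4, 8, 9, 6, 5, 4, 8, 7, 6, 5, 4, 3, 4, 8, 9, 5, 4, 8, 6, 5, 4, 7, 3, 4, 8, 5, 6, 7, 2, 3, 4, 8, 9, 5, 4, 8, 6, 5, 4, 7, 6, 5, 3, 4, 8, 5, 4, 6, 7, 2, 3, 4, 8, 5, 4, 3, 10, 7, 6, 5, 4, 8, 9, 3, 4, 8, 5, 4, 6, 5, 7, 3, 2, 3, 4, 8]⟩, ⟨1, [178, 168, 165, 168, 163, 178], 161, 0, [4, 5, 4, 7, 6, 5, 8, 4, 3, 2, 5, 4, 3, 6, 5, 4, 7, 6, 5, 8, 4, 3, 2, 5, 4, 3, 8, 4, 9, 8, 4, 3, 2, 5, 4, 3, 6, 5, 4, 7, 6, 8, 4, 3, 5, 4, 6, 5, 9, 8, 4, 3, 5, 6, 10, 7, 6, 5, 4, 3, 2, 8, 4, 3, 5, 4, 6, 5, 7, 6, 9, 8, 4, 3, 5, 4, 10, 7]⟩, ⟨1, [148, 153, 149, 159], 180, 1, [5, 4, 3, 2, 5, 6, 4, 5, 8, 4, 3, 9, 8, 4, 5, 6, 7, 10, 2, 3, 8,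 4, 5, 9, 8, 4, 3, 2, 3, 5, 6, 4, 5, 8, 4, 3, 6, 7, 4, 5, 6, 8, 4, 5, 9, 8, 4, 3, 2, 3, 4, 5, 9, 8, 4, 3, 6, 7, 5, 6, 4, 5, 9, 8, 4, 3, 6, 7, 4, 5, 8, 4, 8]⟩], 0⟩ : Der))) (ndA (nat_lit 95) (lfA (⟨2, 0, 0, [], [⟨0, [], 186, 1, []⟩], 0⟩ : Der)) (lfA (⟨2, 0, 0, [7, 10, 5, 4, 8, 6, 7, 5, 6, 4, 5, 3, 4, 8, 2, 3, 4, 5, 6, 7, 10, 5, 3, 4, 8, 9, 7, 6, 5, 4, 8, 3, 4, 5, 6, 7, 3, 4, 8, 4, 5, 6, 3, 4, 5, 2, 3, 4, 8, 9, 5, 3, 4, 8, 3, 4, 5, 6, 4, 2, 3], [⟨0, [], 189, 0, []⟩, ⟨0, [149, 153, 159], 180, 1, [8, 9, 4, 5, 4, 7, 3, 4, 8, 9, 5, 4, 8, 6, 7, 3, 4, 5, 6, 2, 3, 4, 8, 9, 5, 4, 8, 6, 5, 4, 7, 3, 4, 8, 5, 4, 6, 5, 2, 3, 4, 8, 9, 5, 4, 6, 3, 10, 7,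 6, 5, 4, 8, 3, 4, 5, 6, 7, 2, 3, 4, 8, 5, 4, 6, 5, 3, 10, 7]⟩], 0⟩ : Der))))))
noncomputable def DT6 : ℕ → Der := (ndA (nat_lit 104) (ndA (nat_lit 100) (ndA (nat_lit 98) (ndA (nat_lit 97) (lfA (⟨0, 0, 0, [], [], 1⟩ : Der)) (lfA (⟨2, 0, 0, [], [⟨0, [], 193, 1, [3, 7, 5, 6, 4, 5, 8, 4, 3, 9, 8, 4, 5, 6, 7, 10, 6, 5, 9, 8, 4, 3, 2, 6, 5, 9, 8, 4, 3, 6, 7, 5, 6, 8, 4, 5, 9, 8, 4, 3, 2, 6, 5, 8, 4, 3, 6, 7, 4, 5, 6, 8, 4, 5, 9, 8, 4, 3, 8, 4, 5, 6, 7, 9, 8, 4, 5, 6, 8, 4, 5, 8, 4]⟩, ⟨0, [182, 185, 185, 182, 190, 190, 185], 192, 0, []⟩], 1⟩ : Der))) (ndA (nat_lit 99) (lfA (⟨2, 0, 0, [], [⟨0, [], 193, 1, [4, 8, 5, 4, 8, 6, 5, 3, 4, 8, 5, 4, 6, 5,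 7, 3, 4, 8, 2, 3, 4, 8, 9, 5, 4, 8, 6, 5, 7, 6, 3, 4, 8, 9, 5, 4, 8, 6, 7, 2, 3, 4, 10, 7, 6, 5, 4, 8, 9, 3, 4, 8, 5, 6, 7, 2, 3, 4, 8, 5, 4, 6, 5, 3, 4]⟩, ⟨0, [184, 184, 184, 182, 184, 191, 184, 183], 192, 0, []⟩], 1⟩ : Der)) (lfA (⟨2, 0, 0, [], [⟨0, [], 193, 1, [3, 5, 6, 4, 5, 8, 4, 3, 2, 7, 6, 5, 8, 4, 3, 9, 8, 4, 5, 6, 7, 10, 6, 5, 4, 3, 2, 4, 5, 9, 8, 4, 3, 5, 6, 7, 4, 5, 6, 8, 4, 5, 9, 8, 4, 3, 2, 6, 5, 8, 4, 3, 4, 5, 6, 8, 4, 5, 9, 8, 4, 3, 5, 6, 4, 5, 9, 8, 4, 8]⟩, ⟨0, [184, 190, 184, 182, 185, 191, 184, 183], 192, 0, []⟩], 1⟩ : Der)))) (ndA (nat_lit 102) (ndA (nat_lit 101) (lfA (⟨2, 1, 3, [], [⟨1, [], 193, 1, [9, 8, 9, 4, 5, 4, 8,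 9, 6, 5, 4, 8, 3, 4, 8, 9, 5, 4, 8, 6, 5, 4, 7, 6, 5, 3, 4, 8, 9, 5, 4, 6, 5, 7, 6, 3, 4, 8, 2, 3, 4, 8, 9, 5, 4, 8, 6, 5, 4, 7, 6, 3, 4, 8, 5, 4, 6, 2, 3, 4, 8, 9, 5, 4, 8, 10, 7, 6, 5, 4, 8, 9, 3, 4, 8, 5, 4, 6, 5, 2, 3, 4]⟩, ⟨1, [191, 185, 190, 183, 185, 190, 190, 184, 190], 181, 0, [10, 4, 5, 2, 3, 4, 8, 9, 7, 6, 5, 3, 4, 8, 2, 3, 4, 5, 6, 7, 10, 4, 5, 3, 4, 8, 9, 6, 5, 3, 4, 8, 6, 7, 4, 5, 6, 3, 4, 5, 2, 3, 4, 8, 9, 7, 5, 6, 4, 5, 3, 4, 8, 6, 7, 4, 5, 6, 3, 4, 5, 2, 3, 4, 8, 5, 6, 5, 4, 3]⟩, ⟨1, [151, 148, 151, 153, 148, 151, 149], 160, 1, [10, 7, 5, 6, 4, 5, 8, 4, 3, 2, 4, 5, 8, 4, 3, 9, 8, 4, 5, 6, 7, 10, 2, 4, 3, 6, 7, 5, 6, 4, 5,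 9, 8, 4, 3, 2, 9, 8, 4, 3, 5, 6, 8, 4, 5, 9, 8, 4, 3, 5, 6, 7, 9, 8, 4, 5, 6, 5, 9, 8, 4, 8, 9]⟩], 0⟩ : Der)) (lfA (⟨2, 0, 0, [], [⟨0, [], 200, 1, []⟩], 0⟩ : Der))) (ndA (nat_lit 103) (lfA (⟨2, 2, 3, [], [⟨1, [], 192, 0, [2, 4, 5, 4, 3, 7, 6, 5, 4, 3, 8, 4, 3, 5, 4, 6, 5, 7, 8, 4, 9, 8, 4, 3, 2, 5, 4, 3, 6, 5, 7, 6, 8, 4, 3, 2, 5, 4, 9, 8, 4, 5, 6, 10, 7, 6, 5, 4, 3]⟩, ⟨1, [194, 198, 196, 199, 196, 195], 202, 1, [8, 7, 6, 5, 4, 8, 3, 4, 8, 5, 4, 6, 5, 3, 4, 8, 2, 3, 4, 8, 5, 4, 6, 3, 2, 10, 7, 6, 5, 4, 8, 3, 4, 5, 6, 7, 2]⟩, ⟨1, [165, 169, 163], 203, 0, [7, 10, 6, 5, 4, 8, 9, 7, 6, 5, 4, 8, 3, 4, 5, 6, 7, 10, 5, 4, 8, 9, 5, 3, 4, 8, 6, 7,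 5, 6, 4, 5, 2, 3, 4, 8, 5, 6, 7, 4, 5, 6, 3, 4, 5, 2, 3, 4, 8, 4, 5, 6, 7, 6, 3, 4, 5, 3, 4, 3]⟩], 1⟩ : Der)) (lfA (⟨2, 0, 0, [], [⟨0, [], 204, 0, []⟩], 1⟩ : Der))))) (ndA (nat_lit 108) (ndA (nat_lit 106) (ndA (nat_lit 105) (lfA (⟨2, 0, 0, [8, 5, 4, 6, 7, 6, 5, 3, 4, 8, 9, 5, 4, 8, 6, 5, 7, 3, 2, 3, 4, 8, 9, 5, 4, 8, 6, 5, 3, 4, 8, 5, 6, 7, 10, 7, 6, 5, 4, 8, 9, 3, 4, 8, 5, 6, 7, 2, 3, 4, 8, 5, 4, 6, 5, 3, 4], [⟨0, [], 207, 1, []⟩, ⟨0, [184, 184, 191, 191, 185, 183, 184], 192, 0, [3, 2, 5, 4, 6, 7, 6, 5, 8, 4, 3, 2, 5, 4, 3, 6, 5, 4, 7, 8, 4, 3, 5, 6, 9, 8, 4, 3, 5, 4, 6, 5, 7, 8, 10, 7, 6, 5, 4, 3, 2, 8, 4, 3, 5, 4, 6, 5, 7, 6, 9, 8, 4,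 3, 5, 4, 6]⟩], 1⟩ : Der)) (lfA (⟨0, 0, 0, [], [], 0⟩ : Der))) (ndA (nat_lit 107) (lfA (⟨2, 0, 0, [], [⟨0, [], 211, 0, [5]⟩, ⟨0, [40], 210, 1, []⟩], 0⟩ : Der)) (lfA (⟨2, 0, 0, [], [⟨0, [], 211, 0, [8]⟩, ⟨0, [44], 210, 1, []⟩], 0⟩ : Der)))) (ndA (nat_lit 110) (ndA (nat_lit 109) (lfA (⟨2, 0, 0, [], [⟨0, [], 211, 0, [3]⟩, ⟨0, [48], 210, 1, []⟩], 0⟩ : Der)) (lfA (⟨2, 0, 0, [], [⟨0, [], 211, 0, [10]⟩, ⟨0, [52], 210, 1, []⟩], 0⟩ : Der))) (ndA (nat_lit 111) (lfA (⟨2, 0, 0, [], [⟨0, [], 211, 0, [6, 5, 4, 3, 8, 4, 5, 6, 9, 8, 4, 3, 2, 5, 4, 3, 8, 4, 5, 9, 8, 4, 3, 2]⟩, ⟨0, [62, 57], 210, 1, []⟩], 0⟩ : Der)) (lfA (⟨2, 0, 0, [], [⟨0, [], 211, 0, [2,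 3, 2, 4, 3, 2, 5, 4, 3, 2, 6, 5, 4, 3, 2, 8, 4, 3, 2, 5, 4, 3, 6, 5, 4, 8, 4, 3, 2, 5, 4, 3, 6, 5, 4, 8, 9, 8, 4, 3, 2, 5, 4, 3, 8, 4, 5, 9, 8, 4, 3, 2]⟩, ⟨0, [42, 40, 44, 63, 43], 210, 1, []⟩], 0⟩ : Der))))))
noncomputable def DT7 : ℕ → Der := (ndA (nat_lit 120) (ndA (nat_lit 116) (ndA (nat_lit 114) (ndA (nat_lit 113) (lfA (⟨2, 0, 0, [], [⟨0, [], 211, 0, [2, 3, 2, 4, 3, 5, 4, 3, 7, 6, 5, 4, 3, 2, 8, 4, 3, 2, 5, 4, 3, 6, 5, 4, 8, 4, 3, 2, 5, 4, 3, 6, 5, 7, 9, 8, 4, 3, 2, 5, 4, 3, 8, 4, 5, 9, 8, 4, 3, 2]⟩, ⟨0, [50, 48, 54, 56, 54, 57, 55, 63, 51], 210, 1, []⟩], 0⟩ : Der)) (lfA (⟨2, 0, 0, [], [⟨0, [], 211, 0, [3, 4, 5, 7, 8, 4, 3, 2, 5, 4,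 3, 6, 5, 4, 7, 6, 5, 8, 4, 3, 2, 5, 4, 3, 6, 5, 4, 7, 8, 4, 3, 5, 4, 6, 10, 7, 6, 5, 4, 3, 2, 8, 4, 3, 5, 4, 6, 5, 7, 6, 8, 4, 3, 2, 5, 4, 3, 10, 7, 6]⟩, ⟨0, [46, 50, 48, 52, 50, 56, 51, 53, 49, 51, 57, 43], 210, 1, []⟩], 0⟩ : Der))) (ndA (nat_lit 115) (lfA (⟨2, 0, 0, [], [⟨0, [], 211, 0, [3, 2, 4, 3, 5, 4, 6, 5, 7, 8, 4, 3, 5, 4, 6, 5, 7, 6, 8, 4, 3, 5, 4, 9, 8, 4, 3, 5, 4, 6, 5, 7, 6, 8, 4, 3, 2, 5, 4, 3, 8, 10, 7, 6, 5, 4, 3, 2, 8, 4, 3, 5, 4, 6, 5, 7, 6, 8, 4, 5, 9, 8, 4, 5, 10, 7, 6, 5]⟩, ⟨0, [56, 54, 56, 50, 48, 52, 50, 57, 55, 63, 51, 53, 49, 51], 210, 1, []⟩], 0⟩ : Der)) (lfA (⟨2, 2, 0, [], [⟨1, [], 127, 1, [5, 4, 6, 5, 7, 6, 5, 4,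 8, 9, 3, 4, 8, 9, 5, 4, 8, 6, 5, 4, 7, 3, 4, 8, 5, 4, 10, 7, 6, 5, 4, 8, 9, 3]⟩, ⟨1, [], 95, 0, [4, 3, 5, 6, 7, 6, 5, 4, 3, 2, 8, 4, 3, 2, 5, 4, 3, 6, 5, 4, 7, 8, 4, 3, 2, 5, 4, 3, 6, 5, 4, 8, 9, 8, 4, 3, 2, 5, 4, 3, 6, 5, 4, 7, 8, 4, 3, 2, 5, 4, 6, 9, 8, 4, 5, 10, 7, 6, 5, 4, 3, 2, 8, 4, 3, 5, 4, 6, 7, 9, 8, 4, 3, 5, 4, 6, 10]⟩, ⟨1, [63, 57, 55, 47, 49, 51, 57, 55, 51, 57, 53, 49, 51], 210, 1, [9, 4, 6, 7, 6, 5, 3, 4, 2, 3, 4, 8, 9, 5, 4, 8, 6, 5, 7, 6, 3, 4, 8, 5, 4, 6, 3, 2, 3, 4, 8, 9, 5, 4, 6, 5, 10, 7, 6, 5, 4, 8, 9, 3, 4, 5, 6, 2]⟩], 0⟩ : Der)))) (ndA (nat_lit 118) (ndA (nat_lit 117) (lfA (⟨2, 0, 0, [], [⟨0, [], 230, 1, []⟩], 0⟩ :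 Der)) (lfA (⟨2, 1, 1, [], [⟨1, [], 210, 1, [7, 10, 7, 6, 4, 5, 9, 8, 4, 3, 2, 7, 6, 5, 8, 4, 3, 9, 8, 4, 5, 6, 7, 10, 6, 5, 8, 4, 3, 2, 7, 5, 6, 4, 5, 9, 8, 4, 3, 7, 4, 5, 6, 8, 4, 5, 9, 8, 4, 3, 2, 7, 4, 5, 6, 8, 4, 5, 9, 8, 4, 3, 6, 7, 9, 8, 4, 5, 6, 8, 4, 5, 8]⟩, ⟨1, [226, 228, 217, 226, 213], 233, 0, [3, 4, 3, 6, 5, 4, 3, 7, 6, 5, 4, 8, 4, 3, 5, 4, 6, 5, 7, 6, 8, 4, 3, 2, 5, 4, 3, 8, 4, 5, 6, 9, 8, 4, 3, 2, 5, 4, 3, 6, 5, 4, 8, 4, 5, 6, 7, 10, 7, 6, 5, 4, 3, 2, 8, 4, 3, 5, 4, 6, 5, 7, 6, 8, 4, 3, 2, 5, 4, 3, 8]⟩, ⟨1, [113, 122, 113, 136, 122, 113], 232, 1, [9, 4, 6, 5, 7, 3, 4, 8, 9, 5, 4, 6, 5, 7, 6, 3, 2, 3, 4, 8, 9, 5, 4, 8, 6, 5,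 4, 7, 6, 3, 4, 8, 9, 5, 4, 8, 2, 3, 4, 8, 9, 5, 4, 6, 10, 7, 6, 5, 4, 8, 9, 3, 4, 8, 5, 4, 6, 5, 7, 3]⟩], 0⟩ : Der))) (ndA (nat_lit 119) (lfA (⟨2, 0, 0, [], [⟨0, [], 234, 1, []⟩], 0⟩ : Der)) (lfA (⟨2, 0, 0, [10, 8, 9, 7, 6, 5, 3, 4, 8, 2, 3, 4, 5, 6, 7, 10, 9, 5, 2, 3, 4, 8, 5, 6, 3, 4, 5, 2, 3, 4, 8, 9, 5, 4, 8, 7, 4, 5, 6, 3, 4, 5, 2, 3, 4, 8, 6, 7, 4, 5, 6, 3, 4, 5, 2, 3, 4, 8, 6, 2, 3, 4, 5, 2, 3, 2], [⟨0, [], 237, 0, []⟩, ⟨0, [57, 53, 47, 49, 51, 57, 55, 63, 53, 51, 57, 55, 57, 51, 53, 49, 51, 47, 43], 210, 1, [9, 8, 4, 8, 9, 6, 5, 4, 8, 9, 7, 6, 5, 3, 4, 8, 9, 5, 4, 8, 6, 5, 4, 7, 6, 5, 3, 4, 8, 9, 5, 4, 6, 5, 7, 3, 4, 8, 2, 3, 4, 8,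 9, 5, 4, 6, 5, 7, 3, 4, 8, 2, 3, 4, 5, 10, 7, 6, 5, 4, 8, 9, 3, 4, 8, 5, 6, 7, 2, 3, 4, 8, 9, 5, 6, 10]⟩], 0⟩ : Der))))) (ndA (nat_lit 124) (ndA (nat_lit 122) (ndA (nat_lit 121) (lfA (⟨0, 0, 0, [], [], 1⟩ : Der)) (lfA (⟨2, 0, 0, [], [⟨0, [], 241, 1, [9]⟩, ⟨0, [214], 240, 0, []⟩], 1⟩ : Der))) (ndA (nat_lit 123) (lfA (⟨2, 0, 0, [], [⟨0, [], 241, 1, [4]⟩, ⟨0, [216], 240, 0, []⟩], 1⟩ : Der)) (lfA (⟨2, 0, 0, [], [⟨0, [], 241, 1, [10]⟩, ⟨0, [218], 240, 0, []⟩], 1⟩ : Der)))) (ndA (nat_lit 126) (ndA (nat_lit 125) (lfA (⟨2, 0, 0, [], [⟨0, [], 241, 1, [9, 4, 6, 5, 4, 8, 9, 7, 6, 5, 4, 8, 3, 4, 8, 9, 5, 4, 8, 6, 5, 4, 7, 6, 5, 3, 4, 8, 9, 5, 4, 8, 6,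 5, 4, 3, 4, 8, 5, 4, 6, 5, 7, 6]⟩, ⟨0, [220, 224, 221], 240, 0, []⟩], 1⟩ : Der)) (lfA (⟨2, 0, 0, [], [⟨0, [], 241, 1, [5, 4, 8, 9, 3, 4, 8, 9, 5, 4, 8, 3, 4, 5]⟩, ⟨0, [222, 220, 223], 240, 0, []⟩], 1⟩ : Der))) (ndA (nat_lit 127) (lfA (⟨2, 0, 0, [], [⟨0, [], 241, 1, [5, 4, 8, 6, 5, 4, 7, 6, 5, 3, 4, 8, 9, 5, 4, 6, 5, 7, 6, 3, 4, 8, 9, 5, 4, 8, 3, 4, 10, 7, 6, 5, 4, 8, 9, 3, 4, 8, 5, 4, 6, 5, 7, 6, 3, 4, 8, 9, 5, 4, 3, 10, 7, 6, 5, 4]⟩, ⟨0, [224, 226, 225], 240, 0, []⟩], 1⟩ : Der)) (lfA (⟨2, 0, 0, [], [⟨0, [], 241, 1, [8, 9, 4, 8, 9, 7, 6, 5, 4, 3, 4, 8, 9, 5, 4, 8, 6, 5, 4, 3, 4, 5, 10, 7, 6, 5, 4, 8, 9, 3, 4, 8, 5, 4, 6, 5, 7, 6, 3, 4, 8,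 10, 7]⟩, ⟨0, [229, 222, 228, 213], 240, 0, []⟩], 1⟩ : Der))))))
noncomputable def DT8 : ℕ → Der := (ndA (nat_lit 136) (ndA (nat_lit 132) (ndA (nat_lit 130) (ndA (nat_lit 129) (lfA (⟨2, 0, 0, [], [⟨0, [], 241, 1, [4, 5, 4, 8, 7, 6, 5, 4, 8, 9, 3, 4, 8, 5, 4, 6, 5, 7, 6, 3, 4, 8, 9, 5, 4, 8, 3, 4, 5, 6, 7, 2, 3, 4, 8, 9, 5, 4, 6, 5, 3, 4, 8, 10, 7, 6, 5, 4, 8, 9, 3, 4, 8, 5, 6, 7, 2, 3, 4, 8, 5, 4, 6, 5, 10, 7]⟩, ⟨0, [239, 222, 238], 240, 0, []⟩], 1⟩ : Der)) (lfA (⟨2, 1, 3, [], [⟨1, [], 241, 1, [9, 4, 5, 4, 8, 6, 7, 6, 5, 4, 8, 9, 3, 4, 8, 9, 5, 4, 8, 6, 5, 4, 7, 6, 5, 3, 4, 8, 9, 5, 4, 6, 5, 3, 4, 8, 2, 3, 4, 8, 9, 5, 4, 8, 6, 5, 7, 10, 7,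 6, 5, 4, 8, 9, 3, 4, 8, 5, 4, 6, 5, 7, 6, 3, 10]⟩, ⟨1, [238, 228, 239], 211, 0, [4, 8, 7, 5, 6, 4, 5, 3, 4, 8, 9, 8, 6, 4, 5, 3, 4, 8, 2, 3, 4, 5, 6, 7, 10, 9, 7, 6, 5, 3, 4, 8, 4, 5, 6, 3, 4, 5, 2, 3, 4, 8, 9, 3, 4, 8, 7, 5, 6, 3, 4, 5, 2, 3, 4, 8, 5, 6, 7, 5, 6, 4, 5, 4, 3]⟩, ⟨1, [63, 55, 57, 55, 51, 57, 55, 51, 53, 49, 51, 45, 47], 210, 1, [8, 4, 8, 5, 3, 4, 8, 9, 5, 4, 8, 6, 7, 2, 3, 4, 8, 9, 5, 4, 8, 6, 7, 3, 4, 5, 2, 3, 4, 8, 9, 10, 7, 6, 5, 4, 8, 9, 3, 4, 8, 5, 6, 7, 2, 3, 4, 8, 9, 5, 4, 6, 5, 7, 10]⟩], 0⟩ : Der))) (ndA (nat_lit 131) (lfA (⟨2, 0, 0, [], [⟨0, [], 258, 1, []⟩], 0⟩ : Der)) (lfA (⟨2, 1, 2, [], [⟨1, [], 261, 0, [10, 7,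 6, 4, 5, 2, 3, 4, 8, 9, 8, 4, 5, 3, 4, 8, 2, 3, 4, 5, 6, 7, 10, 8, 3, 4, 5, 2, 3, 4, 8, 6, 7, 5, 6, 4, 5, 2, 3, 4, 8, 9, 7, 6, 5, 3, 4, 8, 7, 5, 6, 3, 4, 5, 2, 3, 4, 8, 7, 6, 4, 5]⟩, ⟨1, [255, 257, 251, 257, 253, 247], 260, 1, [8, 4, 8, 5, 4, 8, 6, 5, 4, 7, 3, 4, 8, 5, 4, 6, 5, 3, 2, 3, 4, 8, 9, 5, 4, 8, 6, 5, 4, 7, 6, 5, 3, 4, 8, 5, 4, 6, 7, 10, 7, 6, 5, 4, 8, 9, 3, 4, 8, 5, 6, 7, 2, 3, 4, 8, 5, 4, 3, 10]⟩, ⟨1, [227, 228, 226, 213], 240, 0, [5, 3, 4, 8, 9, 6, 7, 5, 6, 4, 5, 3, 4, 8, 2, 3, 4, 5, 6, 7, 10, 6, 5, 4, 8, 9, 5, 3, 4, 8, 5, 6, 7, 4, 5, 6, 3, 4, 5, 2, 3, 4, 8, 9, 5, 6, 4, 5, 2, 3, 4, 8, 5, 6, 7, 4, 5, 6, 3, 4, 5, 2, 3, 4, 8, 3,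 4, 5, 6, 7, 5, 2, 3, 4, 2]⟩], 1⟩ : Der)))) (ndA (nat_lit 134) (ndA (nat_lit 133) (lfA (⟨2, 0, 0, [], [⟨0, [], 262, 0, []⟩], 1⟩ : Der)) (lfA (⟨2, 0, 0, [10, 2, 4, 5, 8, 4, 3, 5, 6, 7, 4, 5, 6, 8, 4, 5, 9, 8, 4, 3, 2, 5, 6, 8, 4, 5, 9, 8, 4, 3, 11, 9, 8, 4, 5, 6, 7, 10, 3, 8, 4, 5, 11, 9, 8, 4, 3, 2, 7, 6, 4, 5, 9, 8, 4, 3, 11, 9, 8, 4, 5, 6, 7, 3, 6, 4, 5, 8, 4, 3, 2, 4, 5, 8, 4, 3, 4, 5, 6, 4, 5, 8, 4, 11], [⟨0, [], 265, 1, []⟩, ⟨0, [225, 221, 229, 221, 213], 261, 0, [8, 9, 8, 7, 5, 6, 4, 5, 3, 4, 8, 2, 3, 4, 5, 6, 7, 10, 9, 4, 8, 3, 4, 5, 2, 3, 4, 8, 6, 7, 5, 6, 4, 5, 2, 3, 4, 8, 9, 7, 6, 5, 3, 4, 8, 5, 6, 7, 4, 5, 6, 3, 4, 5, 2, 3, 4, 8,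 4, 5, 6, 7, 3, 4, 5, 6, 3, 4, 5, 2, 3, 4, 3]⟩], 1⟩ : Der))) (ndA (nat_lit 135) (lfA (⟨2, 1, 0, [], [⟨1, [], 126, 0, [4, 8, 9, 5, 4, 8, 2, 3, 4, 5, 6, 7, 10, 5, 3, 4, 8, 9, 6, 4, 5, 2, 3, 4, 8, 6, 7, 5, 6, 3, 4, 5, 2, 3, 4, 8, 9, 5, 4, 8, 7, 5, 6, 3, 4, 5, 2, 3, 4, 8, 4, 5, 6, 7, 6, 4, 5, 2, 3, 4, 2]⟩, ⟨1, [136, 120, 119, 115], 232, 1, [5, 4, 8, 6, 7, 3, 4, 8, 9, 5, 4, 8, 6, 5, 4, 7, 6, 5, 3, 4, 8, 5, 4, 2, 3, 4, 8, 9, 5, 4, 8, 6, 5, 7, 6, 3, 4, 8, 5, 4, 2, 3, 4, 8, 5, 6, 10, 7, 6, 5, 4, 8, 9, 3, 4, 8, 5, 6, 2, 3, 4, 8, 5, 4]⟩, ⟨1, [238, 227, 239, 223], 240, 0, [7, 6, 4, 5, 2, 3, 4, 8, 9, 8, 7, 6, 4, 5, 3, 4, 8, 2, 3, 4, 5, 6, 7, 10, 7, 6,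 5, 2, 3, 4, 8, 9, 8, 5, 6, 4, 5, 3, 4, 8, 6, 7, 4, 5, 6, 3, 4, 5, 2, 3, 4, 8, 9, 4, 5, 6, 3, 4, 5, 2, 3, 4, 8, 4, 5, 6, 3, 4, 5, 2, 3, 4, 8, 4, 5, 6, 7, 6, 4, 5, 2, 3, 4, 2, 3]⟩], 1⟩ : Der)) (lfA (⟨2, 0, 0, [], [⟨0, [], 268, 0, []⟩], 1⟩ : Der))))) (ndA (nat_lit 140) (ndA (nat_lit 138) (ndA (nat_lit 137) (lfA (⟨2, 2, 3, [], [⟨1, [], 86, 0, [2, 3, 2, 4, 3, 2, 5, 4, 3, 2, 6, 5, 7, 6, 5, 4, 8, 4, 3, 2, 5, 4, 3, 6, 5, 4, 7, 6, 5, 8, 4, 3, 2, 5, 4, 3, 6, 8, 4, 5, 6, 9, 8, 4, 3, 2, 10, 7, 6, 5, 4, 3, 2, 8, 4, 3, 5, 4, 9, 8, 4, 5, 6, 7, 10]⟩, ⟨1, [53, 47, 49, 51, 47, 43], 210, 1, [8, 6, 5, 3, 4, 8, 9, 5, 4, 6, 5, 2, 3, 4, 8, 9, 5, 4, 8, 6, 5, 4,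 7, 3, 4, 8, 9, 5, 2, 10, 7, 6, 5, 4, 8, 3, 4, 5, 6, 7, 2, 3, 4, 8, 5, 4, 10]⟩, ⟨1, [225, 221, 228], 240, 0, [2, 3, 2, 4, 3, 5, 4, 6, 5, 7, 6, 5, 8, 4, 3, 2, 5, 4, 3, 6, 5, 4, 7, 6, 5, 8, 4, 3, 2, 5, 4, 3, 6, 5, 4, 7, 6, 5, 8, 4, 3, 2, 5, 4, 6, 5, 7, 8, 4, 9, 8, 4, 3, 5, 4, 6, 5, 7, 6, 8, 9, 10, 7, 6, 5, 4, 3, 8, 4, 5, 6, 7, 9, 8, 4, 3, 5, 4, 6, 5, 8, 4, 10, 7]⟩], 1⟩ : Der)) (lfA (⟨2, 0, 0, [], [⟨0, [], 272, 0, []⟩], 1⟩ : Der))) (ndA (nat_lit 139) (lfA (⟨2, 2, 1, [], [⟨1, [], 261, 0, [3, 2, 4, 3, 2, 5, 4, 3, 2, 6, 5, 4, 3, 7, 8, 4, 3, 2, 5, 4, 3, 6, 5, 4, 7, 8, 4, 3, 5, 4, 6, 9, 8, 4, 3, 2, 5, 4, 6, 5, 7, 6, 8, 4, 3, 5, 4, 9, 10, 7, 6, 5,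 4, 3, 2, 8, 4, 3, 5, 4, 6, 5, 7, 6, 8, 4, 3, 2, 5, 10, 7]⟩, ⟨1, [267, 253, 266, 253, 257, 243], 260, 1, [9, 4, 8, 9, 5, 4, 7, 2, 3, 4, 8, 9, 5, 4, 8, 6, 5, 4, 7, 6, 5, 3, 4, 8, 9, 5, 4, 6, 3, 2, 3, 4, 8, 9, 5, 10, 7, 6, 5, 4, 8, 9, 3, 4, 8, 5, 4, 6, 5, 7, 2, 3, 4, 8, 5, 4, 6, 5, 10]⟩, ⟨1, [215, 227, 238, 225, 227], 261, 0, [3, 2, 5, 4, 3, 6, 5, 7, 6, 5, 4, 8, 4, 3, 2, 5, 4, 3, 6, 5, 7, 8, 4, 3, 2, 5, 6, 9, 8, 4, 3, 2, 5, 4, 3, 6, 5, 4, 7, 6, 8, 4, 3, 5, 6, 9, 8, 4, 3, 2, 5, 4, 6, 8, 9, 10, 7, 6, 5, 4, 3, 2, 8, 4, 3, 5, 4, 6, 5, 7, 6, 8, 9, 8, 4, 3, 5, 4]⟩], 1⟩ : Der)) (lfA (⟨2, 0, 0, [], [⟨0, [], 276, 0, []⟩], 1⟩ : Der)))) (ndA (nat_lit 142)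 (ndA (nat_lit 141) (lfA (⟨0, 0, 0, [], [], 0⟩ : Der)) (lfA (⟨2, 0, 0, [], [⟨0, [], 281, 0, [5, 6, 5, 8, 4, 3, 2, 5, 4, 3, 6, 5, 4, 7, 6, 5, 8, 4, 3, 2, 5, 4, 3, 6, 5, 4, 7, 6, 5, 8, 4, 3, 10, 7, 6, 5, 4, 3, 2, 8, 4, 3, 5, 4, 6, 5, 7, 6, 8, 4, 3, 2, 5, 4, 3, 10, 7, 6, 5, 4]⟩, ⟨0, [149, 149, 150, 148, 148], 280, 1, []⟩], 0⟩ : Der))) (ndA (nat_lit 143) (lfA (⟨2, 0, 0, [], [⟨0, [], 281, 0, [2, 3, 2, 4, 5, 4, 3, 2, 6, 7, 6, 8, 4, 3, 2, 5, 4, 3, 6, 5, 7, 6, 8, 4, 10, 7, 6, 5, 4, 3, 2, 8, 4, 3, 5, 4, 6, 5, 8, 4, 3, 2]⟩, ⟨0, [148, 148, 152, 148, 148, 153], 280, 1, []⟩], 0⟩ : Der)) (lfA (⟨2, 0, 0, [], [⟨0, [], 281, 0, [3, 2, 4, 3, 5, 4, 3, 6, 5, 4,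 3, 2, 7, 6, 8, 4, 3, 2, 5, 4, 3, 6, 5, 4, 7, 6, 5, 8, 4, 3, 2, 5, 4, 3, 6, 7, 8, 4, 5, 6, 9, 8, 4, 3, 2, 5, 4, 3, 6, 5, 8, 4, 5, 6, 7, 9, 8, 4]⟩, ⟨0, [148, 148, 152, 158, 153, 149, 149], 280, 1, []⟩], 0⟩ : Der))))))
noncomputable def DT9 : ℕ → Der := (ndA (nat_lit 152) (ndA (nat_lit 148) (ndA (nat_lit 146) (ndA (nat_lit 145) (lfA (⟨2, 0, 0, [], [⟨0, [], 281, 0, [2, 3, 4, 3, 2, 5, 4, 3, 6, 5, 4, 7, 6, 5, 4, 3, 8, 4, 3, 2, 5, 4, 3, 6, 5, 4, 7, 6, 5, 8, 4, 3, 2, 5, 4, 3, 6, 5, 4, 7, 6, 5, 10, 7, 6, 5, 4, 3, 2, 8, 4, 3, 5, 4, 6, 5, 7, 6, 8, 10]⟩, ⟨0, [148, 148, 148, 152, 150, 149, 149, 153, 149], 280, 1, []⟩], 0⟩ : Der)) (lfA (⟨2, 0, 0, [], [⟨0,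 [], 281, 0, [5, 4, 7, 6, 5, 4, 3, 8, 4, 3, 2, 5, 4, 3, 6, 5, 4, 7, 6, 8, 4, 3, 2, 5, 4, 6, 9, 8, 4, 3, 2, 5, 4, 6, 5, 7, 8, 10, 7, 6, 5, 4, 3, 2, 8, 4, 3, 5, 4, 6, 5, 7, 6, 8, 4, 3, 5, 4, 8, 10, 7, 6, 5]⟩, ⟨0, [152, 158, 150, 149, 152, 151, 159, 149, 149, 149], 280, 1, []⟩], 0⟩ : Der))) (ndA (nat_lit 147) (lfA (⟨2, 1, 1, [], [⟨1, [], 172, 1, [4, 8, 9, 5, 6, 5, 4, 3, 4, 8, 9, 5, 4, 8, 6, 5, 7, 6, 3, 4, 8, 9, 5, 4, 8, 6, 3, 10, 7, 6, 5, 4, 8, 9, 3, 4, 8, 5, 4, 6, 5, 7, 6, 10]⟩, ⟨1, [], 161, 0, [8, 5, 6, 4, 5, 3, 4, 8, 9, 8, 4, 5, 3, 4, 8, 2, 3, 4, 5, 6, 7, 10, 5, 2, 3, 4, 8, 9, 5, 3, 4, 8, 6, 7, 5, 6, 3, 4, 5, 2, 3, 4, 8, 9, 7, 6, 5, 4, 8,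 6, 3, 4, 5, 2, 3, 4, 8, 6, 7, 4, 5, 6, 3, 4, 5, 2, 3, 4, 8, 2, 3, 4, 5, 6, 4, 5, 4, 2, 3, 2]⟩, ⟨1, [149, 153, 148, 148, 151, 153, 148, 153, 149], 280, 1, [10, 7, 5, 6, 4, 5, 9, 8, 4, 3, 2, 3, 6, 4, 5, 8, 4, 3, 9, 8, 4, 5, 6, 7, 10, 5, 4, 3, 2, 5, 8, 4, 3, 7, 5, 6, 8, 4, 5, 9, 8, 4, 3, 2, 4, 3, 5, 6, 7, 4, 5, 6, 8, 4, 5, 9, 8, 4, 3, 5, 6, 7, 4, 5, 6, 8, 4, 5, 9, 8, 4]⟩], 0⟩ : Der)) (lfA (⟨2, 0, 0, [], [⟨0, [], 292, 1, []⟩], 0⟩ : Der)))) (ndA (nat_lit 150) (ndA (nat_lit 149) (lfA (⟨2, 2, 2, [], [⟨1, [], 280, 1, [6, 5, 4, 3, 2, 4, 5, 8, 4, 3, 9, 8, 4, 5, 6, 7, 10, 2, 3, 4, 5, 9, 8, 4, 3, 2, 6, 4, 5, 8, 4, 3, 6, 7, 5, 6, 8, 4, 5, 9, 8, 4, 3,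 2, 3, 4, 5, 8, 4, 3, 5, 6, 7, 4, 5, 6, 8, 4, 5, 9, 8, 4, 3, 6, 7, 9, 8, 4, 5, 9, 8, 4, 8]⟩, ⟨1, [284, 290, 283, 287, 283], 295, 0, [4, 6, 5, 4, 3, 9, 8, 4, 3, 5, 4, 6, 5, 7, 8, 9, 10, 7, 6, 5, 4, 3, 8, 4, 5, 6, 7, 9, 8, 4, 3, 5, 4, 6, 8, 10, 7]⟩, ⟨1, [136, 117, 113, 136, 119], 294, 1, [6, 5, 9, 8, 4, 3, 2, 6, 5, 8, 4, 3, 9, 8, 4, 5, 6, 7, 10, 4, 3, 2, 6, 4, 5, 9, 8, 4, 3, 4, 5, 6, 8, 4, 5, 9, 8, 4, 3, 2, 7, 6, 5, 4, 3, 7, 6, 8, 4, 5, 9, 8, 4, 3, 5, 6, 7, 4, 5, 6, 8, 4, 5, 9, 8, 4, 3, 6, 7, 5, 6, 8, 4, 9, 8, 9]⟩], 0⟩ : Der)) (lfA (⟨2, 0, 0, [], [⟨0, [], 296, 1, []⟩], 0⟩ : Der))) (ndA (nat_lit 151) (lfA (⟨2, 0, 0, [7, 10, 4, 5, 3, 4, 8, 6,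 7, 5, 6, 4, 5, 3, 4, 8, 2, 3, 4, 5, 6, 7, 10, 4, 8, 7, 5, 6, 4, 5, 3, 4, 8, 2, 3, 4, 5, 6, 7, 3, 4, 8, 9, 2, 3, 4, 8, 5, 6, 3, 4, 5, 2, 3, 4, 8, 9, 8, 5, 6, 4, 5, 3, 4, 8, 2, 3, 4, 5, 6, 4, 5, 2, 3, 4], [⟨0, [], 299, 0, []⟩, ⟨0, [151, 148, 148, 148, 153, 159, 153, 159, 153], 280, 1, [8, 4, 5, 4, 8, 7, 6, 5, 3, 4, 8, 9, 5, 4, 8, 6, 5, 4, 7, 6, 5, 3, 4, 8, 9, 5, 4, 8, 6, 5, 4, 7, 3, 4, 8, 5, 4, 6, 7, 2, 3, 4, 8, 9, 5, 4, 8, 6, 5, 7, 6, 3, 4, 8, 9, 5, 4, 6, 3, 2, 3, 4, 8, 9, 5, 4, 10, 7, 6, 5, 4, 8, 3, 4, 5, 6, 7, 2, 3, 4, 8, 5, 4, 6, 5, 3, 4, 8, 10, 7, 6, 5, 4]⟩], 0⟩ : Der)) (lfA (⟨2, 2, 3, [], [⟨1, [], 281, 0, [5, 6, 4, 5, 3, 4, 8, 9, 4, 5,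 3, 4, 8, 2, 3, 4, 5, 6, 7, 10, 3, 4, 8, 9, 8, 4, 5, 3, 4, 8, 6, 7, 5, 6, 4, 5, 2, 3, 4, 8, 9, 8, 6, 7, 5, 6, 4, 5, 3, 4, 8, 5, 6, 7, 4, 5, 6, 3, 4, 5, 2, 3, 4, 8, 5, 6, 7, 4, 5, 6, 2, 3, 4, 5, 4, 3]⟩, ⟨1, [148, 148, 153, 151, 148, 153, 151, 149], 157, 1, [9, 8, 9, 4, 8, 5, 4, 8, 9, 6, 5, 4, 8, 7, 6, 3, 4, 8, 9, 5, 4, 8, 6, 5, 4, 3, 4, 8, 9, 5, 4, 8, 6, 5, 4, 7, 6, 5, 3, 2, 3, 4, 8, 9, 5, 4, 8, 6, 5, 7, 6, 3, 4, 8, 5, 4, 3, 10, 7, 6, 5, 4, 8, 9, 3, 4, 8, 5, 4, 6, 5, 2, 3, 4, 8, 5, 4]⟩, ⟨1, [103, 108, 103, 99, 109, 97, 103], 270, 0, [8, 6, 4, 5, 3, 4, 8, 2, 3, 4, 5, 6, 7, 10, 9, 8, 6, 4, 5, 2, 3, 4, 8, 9, 7, 6, 5, 3, 4, 8, 5, 6, 7, 4, 5, 6,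 3, 4, 5, 2, 3, 4, 8, 9, 5, 4, 8, 6, 3, 4, 5, 2, 3, 4, 8, 5, 6, 7, 2, 3, 4, 5, 6, 4, 3, 2]⟩], 1⟩ : Der))))) (ndA (nat_lit 156) (ndA (nat_lit 154) (ndA (nat_lit 153) (lfA (⟨2, 0, 0, [], [⟨0, [], 302, 0, []⟩], 1⟩ : Der)) (lfA (⟨2, 1, 1, [], [⟨1, [], 305, 1, [9, 8, 9, 5, 7, 6, 5, 4, 3, 4, 8, 9, 5, 4, 8, 6, 5, 7, 6, 3, 4, 8, 9, 5, 4, 8, 3, 4, 5, 6, 10, 7, 6, 5, 4, 8, 9, 3, 4, 5]⟩, ⟨1, [], 281, 0, [3, 4, 6, 5, 4, 3, 7, 6, 5, 8, 4, 3, 5, 4, 6, 9, 8, 4, 3, 5, 4, 6, 5, 7, 6, 8, 4, 9, 8, 10, 7, 6, 5, 4, 3, 2, 8, 4, 3, 5, 4, 8, 9, 8, 4, 3, 2, 5, 4, 6, 5, 7, 8, 4]⟩, ⟨1, [148, 159, 148, 151, 153, 159, 148, 151, 159], 280, 1, [6, 7, 10, 5, 6, 4, 5, 9,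 8, 4, 3, 2, 7, 6, 5, 4, 3, 9, 8, 4, 5, 6, 7, 10, 6, 5, 9, 8, 4, 3, 2, 3, 6, 4, 5, 9, 8, 4, 3, 6, 7, 4, 5, 6, 8, 4, 5, 9, 8, 4, 3, 2, 7, 6, 4, 5, 9, 8, 4, 3, 4, 5, 6, 8, 4, 5, 9, 8, 4, 3, 6, 7, 5, 6, 5, 8, 4]⟩], 0⟩ : Der))) (ndA (nat_lit 155) (lfA (⟨2, 0, 0, [], [⟨0, [], 306, 1, []⟩], 0⟩ : Der)) (lfA (⟨0, 0, 0, [], [], 1⟩ : Der)))) (ndA (nat_lit 158) (ndA (nat_lit 157) (lfA (⟨2, 0, 0, [], [⟨0, [], 311, 1, [9, 8, 4, 8, 9, 5, 4, 8, 6, 5, 7, 6, 3, 4, 8, 9, 5, 4, 8, 6, 5, 4, 7, 3, 4, 8, 9, 5, 4, 8, 6, 5, 4, 7, 6, 5, 3, 2, 3, 4, 8, 9, 5, 4, 8, 6, 5, 4, 7, 6, 3, 4, 8, 9, 5, 4, 3, 2, 3, 4, 8, 5, 10, 7, 6, 5, 4, 8, 9, 3, 4, 8, 5, 4, 6, 7, 3, 2, 3,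 4, 8, 10]⟩, ⟨0, [301, 284, 283, 300], 310, 0, []⟩], 1⟩ : Der)) (lfA (⟨2, 0, 0, [], [⟨0, [], 311, 1, [10, 3, 7, 6, 4, 5, 8, 4, 3, 9, 8, 4, 5, 6, 7, 10, 4, 5, 9, 8, 4, 3, 2, 4, 5, 9, 8, 4, 3, 6, 7, 4, 5, 6, 8, 4, 5, 9, 8, 4, 3, 2, 7, 5, 6, 4, 5, 8, 4, 3, 4, 5, 6, 8, 4, 5, 9, 8, 4, 3, 8, 4, 5, 6, 8, 4, 9]⟩, ⟨0, [282, 284, 286, 301, 284], 310, 0, []⟩], 1⟩ : Der))) (ndA (nat_lit 159) (lfA (⟨2, 0, 0, [], [⟨0, [], 311, 1, [4, 8, 5, 4, 8, 9, 6, 5, 4, 8, 7, 3, 4, 8, 9, 5, 4, 8, 6, 5, 4, 7, 6, 3, 4, 8, 9, 5, 4, 8, 6, 5, 4, 7, 6, 3, 4, 5, 6, 2, 3, 4, 8, 9, 5, 4, 8, 6, 5, 4, 7, 6, 3, 4, 8, 5, 6, 7, 2, 3, 4, 5, 6, 7, 10, 7, 6, 5, 4, 8, 9, 3, 4, 8, 5,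 6, 2, 3, 4, 8, 9, 5]⟩, ⟨0, [282, 290, 282, 290, 301], 310, 0, []⟩], 1⟩ : Der)) (lfA (⟨2, 1, 1, [], [⟨1, [], 311, 1, [9, 8, 4, 8, 9, 5, 4, 6, 5, 7, 3, 4, 8, 9, 5, 4, 8, 6, 5, 4, 3, 4, 8, 5, 4, 6, 5, 7, 6, 2, 3, 4, 8, 9, 5, 4, 8, 6, 5, 4, 7, 6, 3, 4, 8, 5, 4, 6, 7, 2, 3, 4, 8, 9, 5, 10, 7, 6, 5, 4, 8, 9, 3, 4, 8, 5, 4, 6, 7, 2, 3, 4, 5, 10]⟩, ⟨1, [291, 301, 285, 300, 285, 290, 284], 295, 0, [7, 10, 8, 6, 7, 5, 6, 4, 5, 3, 4, 8, 2, 3, 4, 5, 6, 7, 10, 6, 5, 4, 8, 9, 4, 5, 2, 3, 4, 8, 6, 7, 4, 5, 6, 3, 4, 5, 2, 3, 4, 8, 9, 7, 6, 4, 5, 3, 4, 8, 6, 7, 5, 6, 3, 4, 5, 2, 3, 4, 8, 4, 5, 6, 7, 6]⟩, ⟨1, [113, 137, 121, 113, 136, 123], 127, 1, [5, 4,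 3, 2, 7, 6, 5, 8, 4, 3, 9, 8, 4, 5, 6, 7, 10, 8, 4, 3, 2, 6, 5, 9, 8, 4, 3, 7, 5, 6, 8, 4, 5, 9, 8, 4, 3, 2, 6, 5, 4, 3, 7, 6, 8, 4, 5, 9, 8, 4, 3, 6, 7, 5, 6, 8, 4, 5, 9, 8, 4, 3, 6, 7, 6, 8, 4, 5, 8, 4]⟩], 0⟩ : Der))))))
noncomputable def DT10 : ℕ → Der := (ndA (nat_lit 168) (ndA (nat_lit 164) (ndA (nat_lit 162) (ndA (nat_lit 161) (lfA (⟨2, 0, 0, [], [⟨0, [], 318, 1, []⟩], 0⟩ : Der)) (lfA (⟨2, 1, 2, [], [⟨1, [], 310, 0, [10, 7, 6, 5, 3, 4, 8, 2, 3, 4, 5, 6, 7, 10, 6, 5, 4, 8, 9, 8, 7, 6, 4, 5, 3, 4, 8, 6, 7, 5, 6, 3, 4, 5, 2, 3, 4, 8, 9, 8, 5, 6, 4, 5, 3, 4, 8, 6, 7, 4, 5, 6, 3, 4, 5, 2, 3, 4, 8, 4, 5, 6, 7, 3, 4, 5, 6, 2, 3, 4, 5, 2, 3]⟩,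 ⟨1, [315, 315, 315, 315, 317], 320, 1, [9, 8, 9, 4, 8, 5, 4, 8, 9, 6, 5, 4, 8, 9, 7, 6, 5, 4, 8, 9, 3, 4, 8, 9, 5, 4, 8, 6, 5, 4, 7, 6, 5, 3, 4, 8, 9, 5, 4, 8, 6, 5, 4, 3, 4, 8, 5, 4, 6, 5, 7, 2, 3, 4, 8, 9, 5, 4, 8, 6, 5, 4, 3, 4, 8, 9, 5, 4, 8, 6, 10, 7, 6, 5, 4, 8, 9, 3, 4, 8, 5, 4, 6, 5, 7, 6, 3, 4, 8, 9, 5, 4, 8, 3, 4]⟩, ⟨1, [103, 101, 108, 103, 109, 103], 321, 0, [7, 10, 8, 9, 5, 4, 8, 6, 7, 5, 6, 4, 5, 3, 4, 8, 2, 3, 4, 5, 6, 7, 10, 8, 9, 3, 4, 8, 5, 6, 4, 5, 2, 3, 4, 8, 9, 8, 4, 5, 2, 3, 4, 8, 3, 4, 5, 6, 7, 2, 3, 4, 5, 4, 2, 3]⟩], 1⟩ : Der))) (ndA (nat_lit 163) (lfA (⟨2, 0, 0, [], [⟨0, [], 322, 0, []⟩], 1⟩ : Der)) (lfA (⟨2, 1, 0,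 [], [⟨1, [], 321, 0, [2, 3, 2, 4, 3, 2, 5, 4, 3, 2, 6, 5, 4, 3, 7, 6, 5, 4, 8, 4, 3, 2, 5, 4, 6, 5, 7, 6, 8, 4, 3, 5, 4, 10, 7, 6, 5, 4, 3, 2, 8, 4, 3, 5, 4, 6, 5, 8]⟩, ⟨1, [], 311, 1, [9, 8, 4, 8, 5, 4, 8, 9, 6, 7, 6, 5, 4, 8, 9, 3, 4, 8, 5, 4, 6, 5, 7, 6, 3, 4, 8, 5, 2, 3, 4, 8, 9, 5, 4, 8, 6, 5, 4, 7, 6, 5, 3, 4, 8, 5, 4, 6, 7, 2, 3, 4, 8, 9, 10, 7, 6, 5, 4, 8, 9, 3, 4, 8, 5, 4, 6, 5, 7, 6, 3, 4, 2, 3, 10, 7]⟩, ⟨1, [287, 289, 301, 283, 287, 300], 324, 0, [3, 2, 4, 3, 2, 5, 4, 6, 5, 7, 6, 5, 8, 4, 3, 2, 5, 4, 3, 6, 5, 4, 7, 6, 8, 4, 3, 9, 8, 4, 3, 2, 5, 4, 3, 6, 5, 4, 7, 6, 8, 4, 3, 5, 4, 9, 8, 4, 3, 5, 6, 7, 10, 7, 6, 5, 4, 3, 2, 8, 4,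 3, 5, 4, 6, 5, 7, 9, 8, 4, 5, 6]⟩], 1⟩ : Der)))) (ndA (nat_lit 166) (ndA (nat_lit 165) (lfA (⟨2, 0, 0, [], [⟨0, [], 326, 0, []⟩], 1⟩ : Der)) (lfA (⟨2, 0, 0, [8, 9, 5, 4, 8, 9, 6, 5, 4, 8, 9, 3, 4, 8, 9, 5, 4, 6, 5, 7, 6, 3, 4, 8, 9, 5, 4, 8, 3, 4, 5, 6, 2, 3, 4, 8, 9, 5, 4, 8, 6, 5, 3, 4, 10, 7, 6, 5, 4, 8, 3, 4, 5, 6, 2, 3, 4, 8, 9, 11, 9, 8, 4, 5, 6, 7, 3, 4, 8, 5, 4, 6, 3, 2, 3, 4, 8, 9, 5, 4, 8, 3, 4, 5, 2, 3, 4, 10], [⟨0, [], 329, 1, []⟩, ⟨0, [109, 109, 103, 109, 101], 321, 0, [3, 2, 5, 4, 6, 5, 7, 8, 4, 3, 2, 5, 4, 3, 6, 5, 4, 7, 8, 4, 3, 5, 6, 9, 8, 4, 3, 2, 5, 4, 3, 6, 5, 4, 7, 6, 5, 8, 4, 3, 2, 5, 6, 9, 8, 4, 5, 6, 7, 10, 7, 6, 5,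 4, 3, 2, 8, 4, 3, 5, 4, 6, 5, 7, 6, 8, 9]⟩], 1⟩ : Der))) (ndA (nat_lit 167) (lfA (⟨2, 1, 0, [], [⟨1, [], 233, 0, [2, 5, 4, 3, 6, 5, 7, 6, 5, 4, 3, 8, 4, 3, 2, 5, 4, 3, 6, 5, 4, 7, 6, 8, 4, 3, 5, 4, 8, 9, 8, 4, 3, 2, 5, 4, 3, 6, 5, 4, 8, 4, 3, 5, 4, 6, 5, 9, 8, 10, 7, 6, 5, 4, 3, 2, 8, 4, 3, 5, 4, 6, 5, 9, 8, 4, 5]⟩, ⟨1, [113, 121, 117, 136, 115], 294, 1, [9, 8, 4, 8, 9, 5, 4, 8, 9, 6, 5, 4, 7, 3, 4, 8, 9, 5, 4, 8, 6, 5, 4, 3, 4, 8, 9, 5, 4, 8, 6, 5, 4, 7, 6, 5, 3, 4, 2, 3, 4, 8, 9, 5, 4, 8, 6, 5, 4, 3, 4, 8, 9, 5, 4, 10, 7, 6, 5, 4, 8, 9, 3, 4, 8, 5, 4, 6, 5, 7, 6, 3, 4, 8, 9, 5, 4]⟩, ⟨1, [284], 310, 0, [6, 5, 4, 8, 2, 3, 4, 5, 6, 7, 10,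 4, 8, 9, 8, 4, 5, 3, 4, 8, 6, 7, 5, 6, 4, 5, 2, 3, 4, 8, 9, 4, 5, 3, 4, 8, 6, 7, 5, 6, 3, 4, 5, 2, 3, 4, 8, 5, 6, 7, 4, 5, 6, 3, 4, 5, 2, 3, 4, 8, 3, 4, 5, 6, 7, 3, 4, 5, 4, 3]⟩], 1⟩ : Der)) (lfA (⟨2, 0, 0, [], [⟨0, [], 332, 0, []⟩], 1⟩ : Der))))) (ndA (nat_lit 172) (ndA (nat_lit 170) (ndA (nat_lit 169) (lfA (⟨2, 2, 3, [], [⟨1, [], 173, 0, [6, 4, 5, 3, 4, 8, 9, 7, 5, 6, 4, 5, 3, 4, 8, 2, 3, 4, 5, 6, 7, 10, 8, 9, 6, 4, 5, 3, 4, 8, 5, 6, 7, 4, 5, 6, 3, 4, 5, 2, 3, 4, 8, 9, 7, 5, 6, 4, 5, 3, 4, 8, 7, 4, 5, 6, 3, 4, 5, 2, 3, 4, 8, 6, 7, 2, 3, 4, 5, 6, 3, 4, 5, 4, 3]⟩, ⟨1, [119, 122, 113, 137], 294, 1, [9, 8, 4, 3, 2, 3, 7, 6, 4, 5, 8, 4, 3, 9,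 8, 4, 5, 6, 7, 10, 9, 8, 4, 3, 2, 4, 5, 6, 8, 4, 5, 9, 8, 4, 3, 7, 4, 5, 6, 8, 4, 5, 9, 8, 4, 3, 2, 6, 7, 4, 5, 6, 8, 4, 5, 9, 8, 4, 3, 9, 8, 4, 5, 6, 7, 5, 8, 4, 8]⟩, ⟨1, [285, 289, 287, 301, 285], 310, 0, [6, 5, 3, 4, 8, 9, 8, 6, 7, 5, 6, 4, 5, 3, 4, 8, 2, 3, 4, 5, 6, 7, 10, 3, 4, 8, 9, 8, 4, 5, 3, 4, 8, 5, 6, 7, 4, 5, 6, 3, 4, 5, 2, 3, 4, 8, 9, 7, 6, 4, 5, 3, 4, 8, 5, 6, 7, 4, 5, 6, 3, 4, 5, 2, 3, 4, 8, 3, 4, 5, 6, 7, 6, 3, 4, 2, 3, 2]⟩], 1⟩ : Der)) (lfA (⟨2, 0, 0, [], [⟨0, [], 336, 0, []⟩], 1⟩ : Der))) (ndA (nat_lit 171) (lfA (⟨2, 2, 2, [], [⟨1, [], 311, 1, [3, 6, 4, 5, 8, 4, 3, 2, 5, 6, 4, 5, 8, 4, 3, 9, 8, 4, 5, 6, 7, 10, 6, 5, 9, 8,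 4, 3, 2, 6, 5, 8, 4, 3, 5, 6, 7, 4, 5, 6, 8, 4, 5, 9, 8, 4, 3, 2, 7, 6, 5, 4, 3, 6, 8, 4, 5, 9, 8, 4, 3, 5, 6, 7, 6, 9, 8, 4, 8]⟩, ⟨1, [301, 287, 289, 290, 285, 283], 324, 0, [3, 2, 4, 3, 2, 5, 6, 5, 4, 3, 2, 7, 6, 5, 4, 3, 2, 8, 4, 3, 2, 5, 4, 3, 6, 5, 4, 7, 6, 5, 8, 4, 3, 2, 5, 4, 3, 6, 5, 8, 4, 5, 9, 8, 4, 3, 2, 5, 4, 3, 6, 5, 7, 8, 4, 5, 6, 9, 10, 7, 6, 5, 4, 3, 2, 8, 4, 3, 5, 6, 7, 9, 8, 4, 3, 5, 6, 10]⟩, ⟨1, [330, 313, 315, 331, 331, 317], 335, 1, [8, 4, 7, 3, 4, 8, 9, 5, 4, 8, 6, 5, 4, 7, 3, 4, 8, 9, 5, 4, 8, 6, 5, 4, 7, 6, 5, 3, 4, 2, 3, 4, 8, 9, 5, 4, 8, 6, 5, 4, 7, 6, 3, 4, 8, 5, 4, 6, 5, 2, 3, 4, 8, 9, 5, 4, 8, 6, 10, 7, 6, 5,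 4, 8, 3, 4, 5, 6, 7, 2, 3, 4, 5, 6]⟩], 0⟩ : Der)) (lfA (⟨2, 0, 0, [], [⟨0, [], 340, 1, []⟩], 0⟩ : Der)))) (ndA (nat_lit 174) (ndA (nat_lit 173) (lfA (⟨2, 1, 3, [], [⟨1, [], 320, 1, [8, 4, 3, 7, 5, 6, 4, 5, 8, 4, 3, 9, 8, 4, 5, 6, 7, 10, 4, 3, 2, 6, 5, 8, 4, 3, 7, 4, 5, 6, 8, 4, 5, 9, 8, 4, 3, 2, 9, 8, 4, 3, 6, 7, 5, 6, 8, 4, 5, 9, 8, 4, 3, 4, 5, 6, 7, 4, 5, 6, 4, 5, 8, 9]⟩, ⟨1, [101, 109, 99, 101, 109, 97, 108], 126, 0, [10, 8, 9, 8, 7, 5, 6, 4, 5, 3, 4, 8, 2, 3, 4, 5, 6, 7, 10, 8, 4, 5, 3, 4, 8, 9, 6, 5, 3, 4, 8, 6, 7, 4, 5, 6, 3, 4, 5, 2, 3, 4, 8, 9, 5, 2, 3, 4, 8, 6, 7, 5, 6, 3, 4, 5, 2, 3, 4, 8, 4, 5, 6, 7, 3, 4, 2]⟩, ⟨1, [113, 123, 137,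 119, 120, 119, 115], 294, 1, [7, 6, 4, 5, 9, 8, 4, 3, 2, 7, 6, 5, 8, 4, 3, 9, 8, 4, 5, 6, 7, 10, 5, 6, 4, 5, 9, 8, 4, 3, 5, 6, 7, 4, 5, 6, 8, 4, 5, 9, 8, 4, 3, 2, 3, 7, 6, 8, 4, 5, 9, 8, 4, 3, 7, 5, 6, 9, 8, 4, 5, 4, 9, 8, 9]⟩], 0⟩ : Der)) (lfA (⟨2, 0, 0, [], [⟨0, [], 344, 1, []⟩], 0⟩ : Der))) (ndA (nat_lit 175) (lfA (⟨2, 1, 3, [], [⟨1, [], 94, 1, [8, 6, 5, 7, 6, 3, 4, 8, 9, 5, 4, 8, 6, 5, 4, 7, 3, 4, 8, 9, 5, 4, 8, 6, 5, 4, 7, 6, 3, 2, 3, 4, 8, 9, 5, 4, 8, 6, 5, 7, 6, 3, 4, 8, 9, 5, 4, 6, 10, 7, 6, 5, 4, 8, 9, 3, 4, 8, 5, 4, 6, 5, 7, 6, 2, 3, 4, 8, 5, 6, 10, 7]⟩, ⟨1, [108, 101, 99, 108, 108], 321, 0, [3, 4, 5, 4, 3, 6, 5, 4, 3, 7, 6, 5,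 4, 8, 4, 3, 2, 5, 4, 3, 6, 5, 7, 6, 8, 4, 3, 2, 5, 4, 3, 8, 4, 5, 6, 7, 9, 8, 4, 3, 2, 5, 4, 6, 5, 7, 6, 8, 4, 3, 5, 4, 9, 8, 4, 10, 7, 6, 5, 4, 3, 8, 4, 5, 6, 7, 10]⟩, ⟨1, [314, 314], 339, 1, [10, 5, 4, 3, 2, 3, 6, 7, 5, 6, 4, 5, 8, 4, 3, 9, 8, 4, 5, 6, 7, 10, 9, 8, 4, 3, 2, 6, 5, 8, 4, 3, 5, 6, 7, 4, 5, 6, 8, 4, 5, 9, 8, 4, 3, 8, 4, 5, 6, 7, 9, 8, 4, 5, 6, 9, 8, 4, 5, 4, 8]⟩], 0⟩ : Der)) (lfA (⟨2, 0, 0, [], [⟨0, [], 348, 1, []⟩], 0⟩ : Der))))))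
noncomputable def DT11 : ℕ → Der := (ndA (nat_lit 184) (ndA (nat_lit 180) (ndA (nat_lit 178) (ndA (nat_lit 177) (lfA (⟨0, 0, 0, [], [], 1⟩ : Der)) (lfA (⟨2, 0, 0, [], [⟨0, [], 353, 1, [9, 8, 4, 8, 5, 4, 8, 6, 5, 7, 6, 5, 3, 4, 8, 9, 5, 4, 8, 6, 5, 4, 7, 6, 3, 4, 8, 9, 5, 4, 8, 6, 5, 4, 7, 6, 5, 3, 4, 8, 9, 5, 6, 7]⟩, ⟨0, [222, 221], 352, 0, []⟩], 1⟩ : Der))) (ndA (nat_lit 179) (lfA (⟨2, 0, 0, [], [⟨0, [], 353, 1, [9, 8, 9, 4, 5, 4, 8, 9, 6, 5, 4, 8, 7, 6, 3, 4, 8, 9, 5, 4, 8, 6, 5, 4, 7, 6, 5, 3, 4, 8, 9, 5, 4, 8, 6, 5, 4, 7, 6, 5, 3, 4, 8, 9, 5, 4, 6, 3, 10, 7, 6, 5, 4, 8, 3, 4, 5, 6, 7, 10]⟩, ⟨0, [212, 218, 226], 352, 0, []⟩], 1⟩ : Der))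 (lfA (⟨2, 0, 0, [], [⟨0, [], 353, 1, [4, 5, 4, 8, 9, 6, 3, 4, 8, 9, 5, 4, 8, 6, 5, 4, 7, 6, 5, 3, 4, 8, 9, 5, 4, 8, 6, 3, 4, 5, 6, 10, 7, 6, 5, 4, 8, 9, 3, 4, 8, 5, 4, 6, 5, 7, 6, 3, 4, 8, 9, 5, 4, 8, 3, 10]⟩, ⟨0, [212, 228, 225, 213], 352, 0, []⟩], 1⟩ : Der)))) (ndA (nat_lit 182) (ndA (nat_lit 181) (lfA (⟨2, 0, 0, [], [⟨0, [], 353, 1, [9, 8, 4, 5, 4, 6, 5, 4, 7, 6, 3, 4, 8, 9, 5, 4, 8, 6, 5, 4, 7, 6, 3, 4, 8, 9, 5, 4, 8, 6, 5, 4, 7, 6, 5, 3, 4, 8, 9, 5, 2, 3, 4, 8, 5, 4, 6, 5, 7, 3, 2, 10, 7, 6, 5, 4, 3, 2]⟩, ⟨0, [238, 214, 239, 226], 352, 0, []⟩], 1⟩ : Der)) (lfA (⟨2, 0, 0, [], [⟨0, [], 353, 1, [9, 8, 9, 4, 5, 4, 8, 9, 6, 5, 4, 8, 7, 6,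 5, 4, 8, 3, 4, 8, 9, 5, 4, 8, 6, 5, 4, 7, 6, 5, 3, 4, 8, 9, 5, 4, 8, 6, 5, 4, 7, 6, 5, 3, 4, 8, 9, 5, 4, 3, 2, 3, 4, 8, 5, 10, 7, 6, 5, 4, 8, 3, 4, 5, 6, 7, 2, 3, 4, 10]⟩, ⟨0, [212, 238, 226, 221, 239, 213], 352, 0, []⟩], 1⟩ : Der))) (ndA (nat_lit 183) (lfA (⟨2, 1, 3, [], [⟨1, [], 353, 1, [10, 8, 4, 3, 2, 7, 6, 5, 4, 3, 8, 4, 5, 6, 7, 10, 4, 5, 8, 4, 3, 2, 3, 7, 6, 4, 5, 8, 4, 3, 6, 7, 5, 6, 8, 4, 5, 9, 8, 4, 3, 2, 6, 5, 4, 3, 7, 4, 5, 6, 8, 4, 5, 9, 8, 4, 3, 5, 6, 7, 4, 5, 6, 8, 4, 5, 9, 8, 4, 3, 6, 7, 5, 6]⟩, ⟨1, [213, 239, 223, 239, 215, 213], 233, 0, [2, 4, 5, 4, 3, 2, 6, 5, 7, 8, 4, 3, 2, 5, 4, 3, 6, 5, 4, 7, 6, 5, 8, 4, 3, 2, 5, 4,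 6, 8, 9, 8, 4, 3, 2, 5, 4, 3, 6, 5, 4, 7, 6, 5, 8, 4, 3, 5, 4, 6, 7, 9, 8, 4, 3, 2, 5, 4, 6, 5, 7, 10, 7, 6, 5, 4, 3, 8, 4, 5, 6, 7, 9, 8, 4, 3, 5, 4, 6, 5, 8, 4, 10, 7, 6, 5]⟩, ⟨1, [137, 121, 136, 122, 122, 136, 113], 127, 1, [5, 6, 4, 5, 8, 4, 3, 2, 3, 7, 6, 4, 5, 8, 4, 3, 9, 8, 4, 5, 6, 7, 10, 4, 3, 2, 7, 6, 5, 9, 8, 4, 3, 6, 7, 5, 6, 8, 4, 5, 9, 8, 4, 3, 2, 9, 8, 4, 3, 5, 6, 4, 5, 8, 4, 3, 7, 5, 4, 9]⟩], 0⟩ : Der)) (lfA (⟨2, 0, 0, [], [⟨0, [], 364, 1, []⟩], 0⟩ : Der))))) (ndA (nat_lit 188) (ndA (nat_lit 186) (ndA (nat_lit 185) (lfA (⟨2, 1, 2, [], [⟨1, [], 270, 0, [10, 6, 4, 5, 3, 4, 8, 9, 7, 6, 5, 4, 8, 2, 3, 4, 5, 6, 7, 10, 5, 6, 3,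 4, 5, 2, 3, 4, 8, 9, 7, 6, 5, 3, 4, 8, 5, 6, 7, 4, 5, 6, 3, 4, 5, 2, 3, 4, 8, 9, 8, 7, 5, 6, 4, 5, 2, 3, 4, 8, 6, 7, 4, 5, 6, 3, 4, 5, 2, 3, 4, 8, 4, 5, 6, 7, 4, 5, 6, 3, 4, 5, 4, 3]⟩, ⟨1, [249, 255, 267, 267, 249], 260, 1, [10, 6, 5, 9, 8, 4, 3, 2, 7, 6, 5, 4, 3, 8, 4, 5, 6, 7, 10, 8, 4, 3, 2, 5, 8, 4, 3, 7, 5, 6, 8, 4, 5, 9, 8, 4, 3, 2, 5, 6, 8, 4, 5, 9, 8, 4, 3, 6, 7, 4, 5, 6, 8, 4, 5, 9, 8, 4, 3, 9, 8, 4, 5, 6, 7, 6, 9, 8, 4, 5, 8, 4, 8, 9]⟩, ⟨1, [238, 221, 213, 239, 227], 352, 0, [7, 6, 5, 3, 4, 8, 9, 8, 6, 7, 5, 6, 4, 5, 3, 4, 8, 2, 3, 4, 5, 6, 7, 10, 4, 8, 9, 7, 6, 5, 4, 8, 5, 6, 7, 4, 5, 6, 3, 4, 5, 2, 3, 4, 8, 9, 4, 5, 6, 3, 4, 5,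 2, 3, 4, 8, 7, 4, 5, 6, 3, 4, 5, 2, 3, 4, 8, 7, 4, 5, 6, 5, 3, 4, 2, 3, 2]⟩], 1⟩ : Der)) (lfA (⟨2, 0, 0, [], [⟨0, [], 368, 0, []⟩], 1⟩ : Der))) (ndA (nat_lit 187) (lfA (⟨2, 0, 0, [11, 9, 8, 9, 4, 8, 5, 4, 6, 5, 4, 8, 9, 3, 4, 8, 9, 11, 5, 4, 8, 9, 6, 5, 4, 8, 3, 4, 8, 5, 6, 2, 3, 4, 8, 9, 11, 5, 4, 8, 9, 6, 5, 4, 8, 3, 4, 8, 9, 5, 4, 2, 3, 4, 5, 7, 6, 5, 4, 8, 9, 11, 3, 4, 8, 5, 6, 2, 3, 4, 8, 5, 4, 6, 7, 10, 7, 6, 5, 4, 8, 9, 11, 3, 4, 8, 5, 6, 7, 2, 3, 10], [⟨0, [], 371, 1, []⟩, ⟨0, [109, 109, 103, 99, 108, 101], 367, 0, [4, 8, 5, 6, 4, 5, 3, 4, 8, 9, 7, 6, 5, 4, 8, 3, 4, 5, 6, 7, 10, 5, 6, 4, 5, 2, 3, 4, 8, 9, 4, 5, 2, 3, 4, 8, 5, 6, 7,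 4, 5, 6, 3, 4, 5, 2, 3, 4, 8, 7, 3, 4, 5, 3, 4, 2, 3]⟩], 1⟩ : Der)) (lfA (⟨2, 2, 0, [], [⟨1, [], 353, 1, [9, 8, 5, 4, 6, 7, 6, 5, 4, 8, 3, 4, 8, 9, 5, 4, 8, 3, 4, 5, 6, 2, 3, 4, 8, 9, 5, 4, 8, 6, 5, 4, 7, 6, 5, 3, 4, 8, 5, 4, 6, 3, 2, 3, 4, 8, 9, 5, 4, 8, 6, 3, 4, 10, 7, 6, 5, 4, 8, 9, 3, 4, 8, 5, 6, 2, 3, 4, 8, 9]⟩, ⟨1, [226, 238, 225, 213, 239, 225], 233, 0, [8, 2, 3, 4, 5, 6, 7, 10, 8, 9, 5, 6, 4, 5, 2, 3, 4, 8, 5, 6, 7, 4, 5, 6, 3, 4, 5, 2, 3, 4, 8, 9, 7, 6, 3, 4, 5, 2, 3, 4, 8, 2, 3, 4, 5, 6, 7, 2, 3, 4, 5, 6, 4, 5, 3, 4, 2]⟩, ⟨1, [117, 122, 136, 122, 119, 115], 294, 1, [9, 4, 5, 4, 6, 5, 4, 7, 6, 5, 4, 8, 3, 4, 8, 9, 5, 4, 8, 6, 5,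 7, 3, 4, 8, 5, 6, 7, 2, 3, 4, 8, 9, 5, 4, 8, 6, 5, 4, 7, 6, 5, 3, 4, 8, 5, 4, 6, 2, 3, 4, 8, 9, 5, 6, 7, 10, 7, 6, 5, 4, 8, 9, 3, 4, 8, 5, 4, 3, 2, 3, 4, 8, 5, 4, 6]⟩], 0⟩ : Der)))) (ndA (nat_lit 190) (ndA (nat_lit 189) (lfA (⟨2, 0, 0, [], [⟨0, [], 374, 1, []⟩], 0⟩ : Der)) (lfA (⟨0, 0, 0, [], [], 0⟩ : Der))) (ndA (nat_lit 191) (lfA (⟨2, 0, 0, [], [⟨0, [], 379, 0, [3, 6, 7, 6, 8, 4, 3, 5, 4, 6, 5, 7, 6, 8, 4, 3, 5, 4, 8, 9, 8, 4, 3, 5, 4, 6, 5, 7, 6, 8, 4, 5, 10, 7, 6, 5, 4, 3, 8, 4, 5, 6, 7, 9, 8, 4, 3, 5, 4, 6, 5, 8, 4, 3, 10, 7, 6, 5, 4, 8]⟩, ⟨0, [242, 246, 253], 378, 1, []⟩], 0⟩ : Der)) (lfA (⟨2, 0, 0, [], [⟨0, [], 379, 0, [2, 3, 4, 5,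 4, 3, 6, 7, 8, 4, 3, 2, 5, 4, 3, 6, 5, 4, 7, 6, 5, 8, 4, 3, 2, 5, 4, 3, 6, 5, 4, 8, 4, 5, 6, 7, 9, 8, 4, 3, 2, 5, 4, 3, 6, 5, 4, 8, 4, 3, 2, 5, 4, 3, 6, 5, 4, 10, 7, 6, 5, 4, 3, 2, 8, 4, 3, 5, 4, 6, 5, 7, 6, 8, 4, 3, 2, 5, 4, 8]⟩, ⟨0, [266, 244, 267, 253], 378, 1, []⟩], 0⟩ : Der))))))
noncomputable def DT12 : ℕ → Der := (ndA (nat_lit 200) (ndA (nat_lit 196) (ndA (nat_lit 194) (ndA (nat_lit 193) (lfA (⟨2, 0, 0, [], [⟨0, [], 379, 0, [2, 4, 7, 6, 5, 4, 8, 4, 3, 2, 5, 4, 6, 5, 8, 4, 3, 2, 9, 8, 4, 3, 2, 5, 4, 3, 8, 4, 5, 9, 8, 4, 3, 10, 7, 6, 5, 4, 3, 2, 8, 4, 3, 5, 4, 6, 5, 7, 6, 8, 4, 3, 2, 5, 4, 3, 8, 4]⟩, ⟨0, [244, 256, 248, 255, 267, 243],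 378, 1, []⟩], 0⟩ : Der)) (lfA (⟨2, 1, 1, [], [⟨1, [], 131, 1, [9, 8, 4, 8, 5, 4, 6, 5, 7, 3, 4, 8, 9, 5, 4, 8, 6, 2, 3, 4, 8, 9, 5, 4, 8, 6, 5, 4, 7, 6, 5, 3, 4, 8, 9, 5, 6, 7, 2, 3, 4, 8, 9, 5, 4, 8, 6, 5, 4, 10, 7, 6, 5, 4, 8, 9, 3, 4, 8, 5, 4, 6, 5, 7, 2, 3, 4]⟩, ⟨1, [108, 103, 109, 99, 108], 270, 0, [7, 6, 5, 3, 4, 8, 9, 4, 5, 3, 4, 8, 2, 3, 4, 5, 6, 7, 10, 3, 4, 8, 9, 6, 4, 5, 2, 3, 4, 8, 4, 5, 6, 3, 4, 5, 2, 3, 4, 8, 9, 7, 5, 6, 4, 5, 3, 4, 8, 6, 7, 4, 5, 6, 3, 4, 5, 2, 3, 4, 8, 5, 6, 7, 4, 5, 6, 3, 4, 5, 2, 3, 4, 8, 7, 4, 5, 4, 2, 3, 2]⟩, ⟨1, [257, 251, 253], 378, 1, [9, 8, 5, 4, 6, 5, 7, 3, 4, 8, 9, 5, 4, 8, 6, 5, 4, 7, 6, 5, 3, 4,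 8, 9, 5, 4, 6, 5, 3, 4, 8, 2, 3, 4, 8, 9, 5, 4, 8, 6, 5, 4, 7, 6, 3, 4, 8, 5, 4, 6, 2, 3, 4, 8, 9, 5, 4, 3, 2, 10, 7, 6, 5, 4, 8, 9, 3, 4, 8, 5, 6, 7, 10]⟩], 0⟩ : Der))) (ndA (nat_lit 195) (lfA (⟨2, 0, 0, [], [⟨0, [], 386, 1, []⟩], 0⟩ : Der)) (lfA (⟨2, 1, 3, [], [⟨1, [], 271, 1, [5, 8, 4, 3, 2, 7, 5, 6, 4, 5, 8, 4, 3, 9, 8, 4, 5, 6, 7, 10, 2, 7, 6, 4, 5, 9, 8, 4, 3, 7, 4, 5, 6, 8, 4, 5, 9, 8, 4, 3, 2, 3, 6, 4, 5, 9, 8, 4, 3, 9, 8, 4, 5, 6, 7, 6]⟩, ⟨1, [101, 109, 109, 101], 270, 0, [2, 3, 4, 5, 6, 5, 7, 6, 5, 4, 8, 4, 3, 2, 5, 4, 6, 5, 7, 6, 8, 9, 8, 4, 3, 2, 5, 4, 3, 6, 5, 4, 7, 6, 8, 4, 3, 5, 4, 6, 9, 8, 4, 3, 2, 5, 4, 3, 6, 8, 10, 7, 6,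 5, 4, 3, 2, 8, 4, 3, 5, 4, 6, 9, 8, 4, 5, 6, 7, 10]⟩, ⟨1, [255, 266, 243], 378, 1, [9, 8, 9, 4, 8, 5, 6, 5, 4, 8, 7, 6, 3, 4, 8, 9, 5, 4, 8, 6, 5, 4, 7, 6, 5, 3, 4, 8, 9, 5, 4, 8, 6, 5, 7, 6, 3, 4, 2, 3, 4, 8, 9, 5, 4, 8, 6, 5, 3, 4, 8, 9, 5, 6, 10, 7, 6, 5, 4, 8, 9, 3, 4, 8, 5, 4, 6, 7, 3, 2, 3, 4, 8, 5, 10]⟩], 0⟩ : Der)))) (ndA (nat_lit 198) (ndA (nat_lit 197) (lfA (⟨2, 0, 0, [], [⟨0, [], 390, 1, []⟩], 0⟩ : Der)) (lfA (⟨2, 0, 0, [7, 6, 5, 4, 8, 3, 4, 5, 2, 3, 4, 8, 6, 7, 5, 6, 4, 5, 3, 4, 8, 2, 3, 4, 5, 6, 7, 10, 5, 2, 3, 4, 8, 9, 8, 4, 5, 3, 4, 8, 2, 3, 4, 5, 6, 7, 9, 8, 5, 6, 4, 5, 2, 3, 4, 8, 9, 2, 3, 4, 8, 5, 6, 3, 4, 5, 2, 3, 4, 8,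 4], [⟨0, [], 393, 0, []⟩, ⟨0, [255, 247, 266, 247], 378, 1, [9, 8, 6, 5, 4, 8, 7, 6, 5, 4, 8, 9, 3, 4, 8, 9, 5, 4, 8, 6, 5, 7, 6, 3, 4, 8, 9, 5, 4, 8, 6, 7, 3, 4, 5, 6, 7, 2, 3, 4, 8, 5, 4, 10, 7, 6, 5, 4, 8, 9, 3, 4, 8, 5, 4, 6, 5, 2, 3, 4, 8]⟩], 0⟩ : Der))) (ndA (nat_lit 199) (lfA (⟨2, 2, 1, [], [⟨1, [], 379, 0, [5, 4, 8, 9, 7, 6, 5, 3, 4, 8, 2, 3, 4, 5, 6, 7, 10, 4, 5, 6, 3, 4, 5, 2, 3, 4, 8, 9, 3, 4, 5, 2, 3, 4, 8, 5, 6, 7, 4, 5, 6, 3, 4, 5, 2, 3, 4, 8, 9, 5, 4, 8, 7, 4, 5, 6, 3, 4, 5, 2, 3, 4, 8, 5, 6, 7, 6, 2, 3, 4, 5, 4, 2, 3]⟩, ⟨1, [253, 257, 267, 249, 266, 255, 243], 271, 1, [4, 8, 9, 5, 4, 8, 6, 5, 4, 8, 9, 7, 6, 5, 3, 4, 8, 9,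 5, 4, 8, 6, 5, 4, 7, 6, 5, 3, 4, 8, 9, 5, 4, 8, 6, 5, 4, 7, 6, 3, 4, 8, 2, 3, 4, 8, 9, 5, 4, 8, 3, 10, 7, 6, 5, 4, 8, 9, 3, 4, 8, 5, 4, 6, 5, 7, 6, 3, 4, 8, 9, 5, 4, 8, 3, 4, 5, 6, 10]⟩, ⟨1, [109, 109, 101, 109, 99, 108, 99, 101], 321, 0, [3, 2, 4, 5, 4, 3, 6, 5, 4, 3, 7, 6, 5, 4, 3, 8, 4, 3, 2, 5, 4, 3, 6, 5, 4, 7, 6, 8, 4, 3, 2, 5, 4, 3, 6, 5, 8, 9, 8, 4, 3, 2, 5, 4, 3, 6, 5, 4, 7, 6, 8, 4, 3, 2, 5, 4, 9, 8, 10, 7, 6, 5, 4, 3, 2, 8, 4, 3, 5, 4, 6, 7, 8, 9, 8, 4, 3, 2, 5, 4, 6, 10, 7]⟩], 1⟩ : Der)) (lfA (⟨2, 0, 0, [], [⟨0, [], 396, 0, []⟩], 1⟩ : Der))))) (ndA (nat_lit 204) (ndA (nat_lit 202) (ndA (nat_lit 201) (lfA (⟨2, 1, 3, [], [⟨1, [],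 366, 1, [5, 4, 8, 6, 7, 6, 3, 4, 8, 9, 5, 4, 8, 6, 5, 7, 3, 4, 5, 2, 3, 4, 8, 9, 5, 4, 8, 6, 5, 7, 6, 3, 4, 8, 5, 4, 6, 3, 2, 3, 4, 8, 9, 5, 4, 8, 6, 3, 4, 2, 10, 7, 6, 5, 4, 8, 9, 3, 4, 8, 5, 4, 2, 3, 4, 8, 9, 5, 4, 8, 6]⟩, ⟨1, [108, 101, 108], 270, 0, [2, 3, 2, 4, 5, 6, 5, 4, 3, 7, 6, 5, 4, 3, 2, 8, 4, 3, 2, 5, 4, 3, 6, 5, 7, 6, 8, 4, 3, 2, 5, 4, 6, 7, 9, 8, 4, 3, 2, 5, 4, 3, 6, 5, 4, 7, 6, 5, 8, 4, 3, 2, 5, 4, 6, 7, 9, 8, 4, 3, 5, 4, 6, 8, 10, 7, 6, 5, 4, 3, 2, 8, 4, 3, 5, 4, 6, 7, 10]⟩, ⟨1, [255, 247, 243, 257], 378, 1, [9, 5, 6, 5, 4, 8, 7, 6, 5, 4, 3, 4, 8, 2, 3, 4, 8, 9, 5, 4, 8, 6, 5, 4, 7, 6, 3, 4, 8, 9, 5, 4, 8, 6, 5, 2, 3, 4, 8,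 9, 5, 4, 8, 3, 4, 10, 7, 6, 5, 4, 8, 9, 3, 4, 8, 5, 6, 7, 2, 3, 4, 8, 9, 5, 6, 10]⟩], 0⟩ : Der)) (lfA (⟨2, 0, 0, [], [⟨0, [], 400, 1, []⟩], 0⟩ : Der))) (ndA (nat_lit 203) (lfA (⟨2, 2, 1, [], [⟨1, [], 379, 0, [10, 7, 6, 5, 4, 8, 3, 4, 5, 6, 7, 10, 8, 6, 4, 5, 3, 4, 8, 9, 6, 5, 3, 4, 8, 7, 5, 6, 3, 4, 5, 2, 3, 4, 8, 9, 3, 4, 5, 2, 3, 4, 8, 6, 7, 5, 6, 4, 5, 3, 4, 8, 5, 6, 7, 5, 6, 5, 2, 3, 4, 2, 3, 2]⟩, ⟨1, [266, 255, 266, 266, 255, 249], 271, 1, [8, 4, 5, 4, 8, 9, 6, 5, 4, 7, 6, 3, 4, 8, 9, 5, 4, 8, 6, 5, 7, 3, 4, 8, 5, 6, 2, 3, 4, 8, 9, 5, 4, 8, 6, 5, 7, 6, 3, 4, 8, 5, 4, 3, 2, 3, 4, 5, 6, 7, 10, 7, 6, 5, 4, 8, 9, 3, 4, 8, 5, 4, 6, 5, 7,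 6, 3, 4, 2, 3, 4, 5, 10]⟩, ⟨1, [103, 109, 97, 109, 109, 99, 103], 367, 0, [10, 9, 7, 6, 5, 4, 8, 2, 3, 4, 5, 6, 7, 10, 7, 6, 5, 4, 8, 9, 8, 6, 4, 5, 3, 4, 8, 6, 7, 4, 5, 6, 3, 4, 5, 2, 3, 4, 8, 9, 8, 5, 6, 4, 5, 3, 4, 8, 6, 7, 4, 5, 6, 3, 4, 5, 2, 3, 4, 8, 5, 6, 7, 4, 5, 6, 3, 4, 5, 2, 3, 4, 8, 6, 7, 6, 3]⟩], 1⟩ : Der)) (lfA (⟨2, 0, 0, [], [⟨0, [], 404, 0, []⟩], 1⟩ : Der)))) (ndA (nat_lit 206) (ndA (nat_lit 205) (lfA (⟨0, 0, 0, [], [], 1⟩ : Der)) (lfA (⟨2, 1, 2, [], [⟨1, [], 211, 0, [3, 2, 4, 5, 7, 6, 5, 4, 8, 4, 3, 2, 5, 4, 3, 6, 5, 4, 8, 4, 3, 2, 5, 4, 3, 6, 5, 4, 7, 6, 5, 8, 10, 7, 6, 5, 4, 3, 2, 8, 4, 3, 5, 4, 6, 5, 7, 6, 8, 4, 3, 2,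 5, 4, 3, 10, 7, 6, 5, 4]⟩, ⟨1, [], 39, 1, [6, 7, 10, 3, 2, 5, 4, 3, 6, 7, 5, 6, 4, 5, 8, 4, 3, 9, 8, 4, 5, 6, 7, 10, 7, 6, 4, 5, 8, 4, 3, 2, 7, 6, 4, 5, 9, 8, 4, 3, 5, 6, 7, 4, 5, 6, 8, 4, 5, 9, 8, 4, 3, 2, 3, 4, 5, 6, 8, 4, 5, 9, 8, 4, 3, 6, 7, 4, 5, 6, 8, 4, 5, 9, 8, 4, 3, 7, 5, 6, 5, 8, 4, 8]⟩, ⟨1, [5], 408, 0, [3, 2, 6, 7, 6, 5, 8, 4, 3, 2, 5, 4, 3, 6, 5, 7, 6, 8, 4, 3, 2, 5, 4, 3, 6, 8, 4, 5, 6, 7, 10, 7, 6, 5, 4, 3, 2, 8, 4, 3, 5, 4, 6, 5, 7, 6, 8, 4, 3, 2, 5, 4, 3, 10, 7, 6, 5, 4]⟩], 1⟩ : Der))) (ndA (nat_lit 207) (lfA (⟨2, 0, 0, [], [⟨0, [], 410, 0, []⟩], 1⟩ : Der)) (lfA (⟨2, 0, 0, [8, 9, 4, 6, 7, 6, 5, 4, 3, 4, 8, 9, 5, 4, 6, 5,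 7, 6, 3, 4, 8, 9, 5, 4, 8, 3, 4, 5, 6, 7, 10, 7, 6, 5, 4, 8, 9, 3, 4, 8, 5, 4, 6, 5, 7, 6, 3, 4, 8, 9, 5, 4, 3, 10, 7, 6, 5, 4], [⟨0, [], 413, 1, []⟩, ⟨0, [215], 352, 0, [3, 2, 6, 7, 6, 5, 8, 4, 3, 2, 5, 4, 3, 6, 5, 7, 6, 8, 4, 3, 2, 5, 4, 3, 6, 8, 4, 5, 6, 7, 10, 7, 6, 5, 4, 3, 2, 8, 4, 3, 5, 4, 6, 5, 7, 6, 8, 4, 3, 2, 5, 4, 3, 10, 7, 6, 5, 4]⟩], 1⟩ : Der))))))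
noncomputable def DT13 : ℕ → Der := (ndA (nat_lit 216) (ndA (nat_lit 212) (ndA (nat_lit 210) (ndA (nat_lit 209) (lfA (⟨2, 0, 0, [], [⟨0, [], 414, 1, [11]⟩], 1⟩ : Der)) (lfA (⟨2, 0, 0, [], [⟨0, [], 417, 1, []⟩, ⟨0, [], 409, 1, []⟩], 0⟩ : Der))) (ndA (nat_lit 211) (lfA (⟨0, 0, 0, [], [], 0⟩ : Der)) (lfA (⟨2, 1, 1, [], [⟨1, [], 275, 1, [9, 8, 9, 5, 4, 6, 5, 3, 4, 8, 5, 4, 6, 5, 3, 4, 8, 2, 3, 4, 8, 9, 5, 4, 8, 6, 5, 4, 3, 4, 5, 2, 3, 10, 7, 6, 5, 4, 8, 9, 3, 4, 8, 5, 6, 7, 2, 3, 4, 8, 9, 5, 4, 6, 7, 10]⟩, ⟨1, [67, 83, 93], 65, 0, [8, 5, 6, 4, 5, 3, 4, 8, 9, 5, 6, 4, 5, 3, 4, 8, 2, 3, 4, 5, 6, 7, 10, 4, 8, 9, 3, 4, 8, 7, 5, 6, 3, 4, 5, 2, 3,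 4, 8, 9, 6, 7, 4, 5, 6, 3, 4, 5, 2, 3, 4, 8, 7, 4, 5, 6, 3, 4, 5, 2, 3, 4, 8, 5, 6, 7, 5, 6, 3, 4, 5, 2, 3, 2]⟩, ⟨1, [33, 35, 37, 31, 27, 29], 420, 1, [4, 8, 9, 5, 4, 8, 7, 3, 4, 8, 9, 5, 4, 6, 2, 3, 4, 8, 9, 5, 4, 8, 6, 5, 4, 3, 4, 8, 9, 5, 4, 8, 6, 5, 4, 7, 10, 7, 6, 5, 4, 8, 9, 3, 4, 8, 5, 4, 6, 5, 7, 6, 3, 4, 8, 9, 5]⟩], 0⟩ : Der)))) (ndA (nat_lit 214) (ndA (nat_lit 213) (lfA (⟨2, 0, 0, [], [⟨0, [], 422, 1, []⟩], 0⟩ : Der)) (lfA (⟨2, 0, 0, [10, 5, 4, 8, 9, 7, 6, 5, 4, 8, 3, 4, 5, 6, 7, 10, 5, 4, 8, 9, 3, 4, 8, 7, 5, 6, 4, 5, 3, 4, 8, 9, 8, 5, 6, 4, 5, 3, 4, 8, 4, 5, 6, 7, 6, 5, 4], [⟨0, [], 425, 0, []⟩, ⟨0, [247, 249, 266, 252], 378,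 1, [9, 4, 8, 9, 5, 4, 8, 9, 7, 3, 4, 8, 5, 4, 6, 5, 3, 4, 8, 10, 7, 6, 5, 4, 8, 9, 3, 4, 8, 5, 4, 6, 5, 7, 6, 3, 4, 8, 9, 5, 4, 8, 10, 7, 6, 5, 4]⟩], 0⟩ : Der))) (ndA (nat_lit 215) (lfA (⟨2, 0, 0, [], [⟨0, [], 426, 0, [1, 3, 5, 6, 9, 7, 6, 5, 4, 3, 2, 8, 4, 3, 5, 4, 6, 5, 7, 6, 9, 8, 4, 3, 2, 5, 4, 3, 6, 5, 8, 10, 7, 6, 5, 4, 3, 2, 8, 4, 3, 5, 4, 6, 5, 7, 6, 8, 4, 3, 2, 5, 10]⟩], 0⟩ : Der)) (lfA (⟨2, 0, 0, [], [⟨0, [], 429, 0, []⟩, ⟨0, [], 421, 0, []⟩], 1⟩ : Der))))) (ndA (nat_lit 220) (ndA (nat_lit 218) (ndA (nat_lit 217) (lfA (⟨0, 0, 0, [], [], 1⟩ : Der)) (lfA (⟨2, 1, 2, [], [⟨1, [], 281, 0, [7, 10, 7, 6, 5, 2, 3, 4, 8, 9, 7, 6, 4, 5, 3,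 4, 8, 2, 3, 4, 5, 6, 7, 10, 8, 6, 3, 4, 5, 2, 3, 4, 8, 9, 7, 6, 4, 5, 2, 3, 4, 8, 5, 6, 7, 4, 5, 6, 3, 4, 5, 2, 3, 4, 8, 9, 4, 5, 3, 4, 8, 6, 7, 5, 6, 4, 5, 3, 4, 8, 4, 5, 6, 7, 2, 3, 4, 5, 6, 5]⟩, ⟨1, [159, 151, 149, 149], 180, 1, [9, 8, 4, 3, 2, 4, 5, 8, 4, 3, 9, 8, 4, 5, 6, 7, 10, 6, 5, 4, 3, 7, 5, 6, 8, 4, 5, 9, 8, 4, 3, 2, 5, 4, 3, 7, 5, 6, 8, 4, 5, 9, 8, 4, 3, 6, 7, 4, 5, 6, 8, 4, 5, 9, 8, 4, 3, 6, 7, 8, 4, 5, 6, 4, 5, 8, 4, 9, 8]⟩, ⟨1, [185, 183], 432, 0, [3, 2, 4, 3, 7, 8, 4, 3, 2, 5, 4, 3, 6, 5, 4, 9, 8, 4, 3, 2, 5, 4, 3, 6, 5, 4, 8, 4, 3, 2, 5, 4, 3, 6, 7, 10, 7, 6, 5, 4, 3, 2, 8, 4, 3, 5, 4, 6, 5, 7, 6, 8, 4, 3, 2, 5, 4, 3, 8,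 4, 5]⟩], 1⟩ : Der))) (ndA (nat_lit 219) (lfA (⟨2, 0, 0, [], [⟨0, [], 434, 0, []⟩], 1⟩ : Der)) (lfA (⟨2, 0, 0, [7, 10, 9, 8, 4, 3, 2, 6, 5, 4, 3, 6, 7, 5, 6, 8, 4, 5, 9, 8, 4, 3, 2, 6, 8, 4, 5, 9, 8, 4, 3, 11, 9, 8, 4, 5, 6, 7, 10, 3, 2, 4, 3, 7, 5, 6, 4, 5, 9, 8, 4, 3, 2, 4, 3, 7, 6, 8, 4, 5, 9, 8, 4, 3, 11, 9, 8, 4, 5, 6, 7, 9, 8, 4, 3, 2, 5, 9, 8, 4, 3, 5, 6, 8, 4, 5, 11, 9, 8, 4, 3, 2, 6, 4, 5, 9, 8, 4, 3, 4, 5, 6, 8, 4, 5, 9, 8, 4, 3, 4, 5, 6, 4, 8], [⟨0, [], 437, 1, []⟩, ⟨0, [301, 287, 301, 285], 377, 0, [2, 3, 4, 5, 4, 6, 5, 4, 3, 2, 7, 6, 5, 4, 3, 2, 8, 4, 3, 2, 5, 4, 3, 6, 5, 4, 7, 6, 8, 4, 5, 6, 9, 8, 4, 3, 2, 5, 4, 3, 6, 5, 4, 7,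 6, 5, 8, 4, 3, 5, 4, 6, 9, 8, 4, 3, 2, 5, 4, 3, 6, 5, 4, 7, 10, 7, 6, 5, 4, 3, 2, 8, 4, 3, 5, 4, 6, 5, 7, 9]⟩], 1⟩ : Der)))) (ndA (nat_lit 222) (ndA (nat_lit 221) (lfA (⟨2, 0, 0, [], [⟨0, [], 438, 1, [10, 5, 9, 8, 4, 3, 2, 4, 5, 8, 4, 3, 6, 7, 4, 5, 6, 8, 4, 5, 9, 8, 4, 3, 2, 5, 6, 4, 5, 9, 8, 4, 3, 11, 9, 8, 4, 5, 6, 7, 10, 5, 6, 4, 5, 9, 8, 4, 3, 2, 3, 6, 4, 5, 8, 4, 3, 6, 7, 5, 6, 8, 4, 5, 9, 8, 4, 3, 2, 7, 6, 8, 4, 5, 9, 8, 4, 3, 11, 9, 8, 4, 5, 6, 7, 3, 4, 5, 8, 4, 3, 2, 6, 5, 11, 9, 8, 4, 3, 5, 6, 8, 4, 5, 9, 8, 4, 3, 4, 5, 6, 11, 9, 8, 4, 5, 9, 8, 11]⟩], 1⟩ : Der)) (lfA (⟨2, 0, 0, [], [⟨0, [], 441, 1, []⟩, ⟨0, [], 433, 1, []⟩], 0⟩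 : Der))) (ndA (nat_lit 223) (lfA (⟨0, 0, 0, [], [], 0⟩ : Der)) (lfA (⟨2, 1, 1, [], [⟨1, [], 339, 1, [5, 9, 8, 4, 3, 6, 7, 5, 6, 4, 5, 8, 4, 3, 9, 8, 4, 5, 6, 7, 10, 3, 6, 8, 4, 5, 9, 8, 4, 3, 2, 6, 5, 8, 4, 3, 5, 6, 7, 4, 5, 6, 8, 4, 5, 9, 8, 4, 3, 2, 9, 8, 4, 3, 5, 6, 4, 5, 9, 8, 4, 3, 6, 7, 5, 6, 9, 8, 4, 5, 9, 8, 4, 9, 8, 9]⟩, ⟨1, [168, 178, 169], 203, 0, [2, 3, 4, 5, 4, 3, 7, 6, 8, 4, 3, 2, 5, 4, 3, 6, 5, 4, 7, 6, 5, 8, 4, 3, 5, 4, 6, 5, 8, 9, 8, 4, 3, 2, 5, 4, 3, 6, 5, 4, 7, 6, 8, 4, 3, 5, 6, 9, 8, 4, 3, 2, 5, 6, 10, 7, 6, 5, 4, 3, 2, 8, 4, 3, 5, 4, 6, 5, 7, 6, 8, 9, 8, 4, 3, 5, 6, 10, 7]⟩, ⟨1, [197, 199, 199, 194, 208, 195], 444, 1,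 [8, 9, 4, 8, 5, 4, 8, 9, 7, 6, 3, 4, 8, 9, 5, 4, 8, 6, 5, 3, 2, 3, 4, 8, 9, 5, 4, 8, 6, 5, 7, 3, 4, 8, 2, 10, 7, 6, 5, 4, 8, 9, 3, 4, 8, 5, 4, 6, 5, 7, 2, 3, 4, 8, 5, 6]⟩], 0⟩ : Der))))))
noncomputable def DT14 : ℕ → Der := (ndA (nat_lit 232) (ndA (nat_lit 228) (ndA (nat_lit 226) (ndA (nat_lit 225) (lfA (⟨2, 0, 0, [], [⟨0, [], 446, 1, []⟩], 0⟩ : Der)) (lfA (⟨2, 0, 0, [2, 3, 4, 8, 9, 8, 4, 5, 3, 4, 8, 6, 7, 5, 6, 3, 4, 5, 2, 3, 4, 8, 9, 7, 6, 4, 5, 2, 3, 4, 8, 1, 2, 3, 4, 5, 6, 7, 10, 4, 5, 3, 4, 8, 6, 7, 5, 6, 3, 4, 5, 1, 2, 3, 4, 8, 9, 6, 3, 4, 5, 2, 3, 4, 8, 1, 2, 3, 4, 5, 6, 7, 8, 4, 5, 6, 3, 4, 5, 2, 3, 4, 8, 9, 2, 3, 4, 8, 3, 4, 5, 6,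 2, 3, 4, 5, 1, 2, 3, 4, 8, 4, 5, 6, 1, 2, 3, 4, 5, 2, 3, 4, 2, 3], [⟨0, [], 449, 0, []⟩, ⟨0, [315, 331, 316], 399, 1, [4, 8, 9, 5, 4, 8, 9, 6, 5, 3, 4, 8, 9, 5, 4, 8, 6, 5, 4, 7, 6, 5, 3, 4, 5, 6, 2, 3, 4, 8, 9, 5, 4, 8, 6, 5, 4, 7, 6, 3, 4, 8, 9, 5, 4, 6, 3, 2, 3, 4, 8, 9, 5, 4, 8, 6, 10, 7, 6, 5, 4, 8, 9, 3, 4, 8, 5, 4, 6, 5, 2, 3, 4, 8, 9, 5, 4, 6, 5, 3, 4]⟩], 0⟩ : Der))) (ndA (nat_lit 227) (lfA (⟨2, 0, 0, [], [⟨0, [], 450, 0, [3, 4, 5, 4, 3, 6, 5, 4, 3, 2, 7, 6, 5, 4, 8, 4, 3, 2, 5, 4, 3, 6, 5, 4, 7, 9, 8, 4, 3, 2, 5, 4, 3, 6, 5, 7, 6, 8, 4, 3, 2, 9, 1, 2, 3, 4, 5, 6, 7, 8, 4, 3, 2, 5, 4, 6, 9, 8, 4, 3, 2, 1, 5, 4, 3, 2, 6, 5, 4, 8, 4,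 3, 5, 9, 8, 4, 5, 6, 7, 10, 7, 6, 5, 4, 3, 2, 1, 8, 4, 3, 2, 5, 4, 3, 6, 8, 9, 8, 4, 3, 2, 1, 5, 4, 3, 6, 5, 7, 6, 8, 4, 5, 9, 8, 4, 3, 2, 1]⟩], 0⟩ : Der)) (lfA (⟨2, 0, 0, [], [⟨0, [], 453, 0, []⟩, ⟨0, [], 445, 0, []⟩], 1⟩ : Der)))) (ndA (nat_lit 230) (ndA (nat_lit 229) (lfA (⟨0, 0, 0, [], [], 0⟩ : Der)) (lfA (⟨2, 1, 1, [], [⟨1, [], 402, 1, [9, 8, 9, 5, 4, 8, 6, 5, 3, 4, 8, 9, 5, 4, 8, 6, 5, 4, 7, 6, 5, 3, 4, 8, 5, 4, 2, 3, 4, 8, 9, 5, 4, 8, 6, 5, 4, 7, 6, 5, 3, 4, 8, 9, 5, 4, 2, 3, 4, 8, 10, 7, 6, 5, 4, 8, 9, 3, 4, 8, 5, 4, 6, 5, 7, 3, 2, 3, 4, 5]⟩, ⟨1, [395, 382, 381, 395, 381], 403, 0, [3, 2, 5, 4, 3, 6, 5, 4, 3, 7, 6, 5, 4, 8, 4, 3, 2,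 5, 4, 3, 6, 5, 4, 7, 6, 8, 4, 3, 5, 6, 7, 9, 8, 4, 3, 2, 5, 4, 3, 6, 5, 4, 7, 8, 4, 5, 9, 8, 4, 10, 7, 6, 5, 4, 3, 2, 8, 4, 3, 5, 4, 6, 5, 7, 8, 9, 8, 4, 3, 10]⟩, ⟨1, [], 456, 1, [8, 9, 4, 8, 5, 4, 7, 3, 4, 8, 9, 5, 4, 8, 6, 5, 4, 7, 6, 5, 3, 4, 8, 9, 5, 4, 8, 6, 5, 4, 7, 2, 3, 4, 8, 9, 5, 4, 8, 6, 5, 4, 7, 6, 5, 3, 4, 8, 5, 4, 6, 5, 2, 3, 10, 7, 6, 5, 4, 8, 9, 3, 4, 8, 5, 4, 6, 5, 7, 6, 3, 2, 3, 4, 5, 10]⟩], 0⟩ : Der))) (ndA (nat_lit 231) (lfA (⟨2, 0, 0, [], [⟨0, [], 458, 1, []⟩], 0⟩ : Der)) (lfA (⟨2, 0, 0, [1, 2, 1, 4, 3, 5, 6, 5, 4, 8, 4, 3, 2, 1, 5, 4, 3, 6, 5, 4, 8, 4, 3, 5, 9, 8, 4, 3, 2, 5, 4, 3, 6, 5, 8, 4, 3, 5, 9, 7, 6, 5, 4, 3,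 2, 1, 8, 4, 3, 2, 5, 4, 3, 6, 7, 9, 8, 4, 3, 2, 5, 6, 7, 10, 7, 6, 5, 4, 3, 2, 1, 8, 4, 3, 2, 5, 4, 3, 6, 9, 8, 4, 3, 2, 1, 5, 4, 3, 6, 5, 7, 6, 8, 4, 5, 6, 9, 8, 4, 3, 2, 5, 10, 7, 6], [⟨0, [], 461, 0, []⟩, ⟨0, [358, 356, 373, 357, 354], 402, 1, [3, 2, 6, 5, 8, 4, 3, 9, 8, 4, 5, 6, 7, 10, 8, 4, 5, 9, 8, 4, 3, 2, 7, 6, 4, 5, 8, 4, 3, 5, 6, 7, 4, 5, 6, 8, 4, 5, 9, 8, 4, 3, 2, 6, 4, 5, 8, 4, 3, 7, 4, 5, 6, 8, 4, 5, 9, 8, 4, 3, 9, 8, 4, 5, 6, 7, 6, 9, 8, 4, 5, 8]⟩], 0⟩ : Der))))) (ndA (nat_lit 236) (ndA (nat_lit 234) (ndA (nat_lit 233) (lfA (⟨2, 0, 0, [], [⟨0, [], 462, 0, [2, 3, 4, 8, 9, 5, 4, 8, 6, 7, 4, 5, 6, 2, 3, 4, 5, 1, 2, 3, 4, 8, 9,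 7, 6, 3, 4, 5, 2, 3, 4, 8, 1, 2, 3, 4, 5, 6, 7, 10, 8, 4, 5, 2, 3, 4, 8, 6, 7, 5, 6, 4, 5, 1, 2, 3, 4, 8, 9, 7, 6, 4, 5, 2, 3, 4, 8, 1, 2, 3, 4, 5, 6, 7, 9, 8, 4, 5, 3, 4, 8, 9, 6, 4, 5, 1, 2, 3, 4, 8, 4, 5, 6, 2, 3, 4, 5, 1, 2, 3, 4, 8, 9, 4, 8, 3, 4, 5, 2, 3, 4, 8, 3, 4, 5, 1, 2, 3, 4, 2, 1]⟩], 0⟩ : Der)) (lfA (⟨2, 0, 0, [], [⟨0, [], 465, 0, []⟩, ⟨0, [], 457, 0, []⟩], 1⟩ : Der))) (ndA (nat_lit 235) (lfA (⟨0, 0, 0, [], [], 1⟩ : Der)) (lfA (⟨2, 0, 0, [], [⟨0, [], 469, 1, [11, 8, 9, 5, 4, 8, 3, 4, 5, 6, 7, 10, 7, 6, 5, 4, 8, 9, 11, 3, 4, 8, 5]⟩, ⟨0, [40], 468, 1, []⟩], 1⟩ : Der)))) (ndA (nat_lit 238) (ndA (nat_lit 237) (lfA (⟨2, 0, 0, [],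 [⟨0, [], 469, 1, [9, 8, 5, 4, 6, 5, 3, 4, 8, 9, 7, 6, 5, 4, 8, 3, 4, 5, 6, 7, 10, 7, 6, 5, 4, 8, 9, 3, 4, 8, 5, 4, 6, 5, 7, 6, 3, 4, 8, 9, 5]⟩, ⟨0, [42], 468, 1, []⟩], 1⟩ : Der)) (lfA (⟨2, 0, 0, [], [⟨0, [], 469, 1, [9, 3, 4, 8, 5, 4, 6, 5, 3, 4, 8, 9, 7, 6, 5, 4, 8, 3, 4, 5, 6, 7, 10, 7, 6, 5, 4, 8, 9, 3, 4, 8, 5, 4, 6, 5, 7, 6, 3, 4, 8, 9, 5, 4, 3]⟩, ⟨0, [44], 468, 1, []⟩], 1⟩ : Der))) (ndA (nat_lit 239) (lfA (⟨2, 0, 0, [], [⟨0, [], 469, 1, [11, 3, 4, 8, 9, 5, 4, 8, 3, 4, 5, 6, 7, 6, 5, 4, 8, 9, 11, 3, 4, 8, 5, 4, 3]⟩, ⟨0, [46], 468, 1, []⟩], 1⟩ : Der)) (lfA (⟨2, 0, 0, [], [⟨0, [], 469, 1, [7]⟩, ⟨0, [48], 468, 1, []⟩], 1⟩ : Der))))))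
noncomputable def DT15 : ℕ → Der := (ndA (nat_lit 248) (ndA (nat_lit 244) (ndA (nat_lit 242) (ndA (nat_lit 241) (lfA (⟨2, 0, 0, [], [⟨0, [], 469, 1, [5, 4, 8, 6, 5, 4, 3, 4, 8, 5, 4, 6, 5]⟩, ⟨0, [50], 468, 1, []⟩], 1⟩ : Der)) (lfA (⟨2, 0, 0, [], [⟨0, [], 469, 1, [11, 9, 8, 4, 8, 9, 11]⟩, ⟨0, [52], 468, 1, []⟩], 1⟩ : Der))) (ndA (nat_lit 243) (lfA (⟨2, 0, 0, [], [⟨0, [], 469, 1, [8, 9, 4, 8, 5, 4, 3, 4, 8, 9, 5, 4, 8]⟩, ⟨0, [54], 468, 1, []⟩], 1⟩ : Der)) (lfA (⟨2, 0, 0, [], [⟨0, [], 469, 1, [9, 8, 9, 4, 8, 9, 5, 7, 6, 5, 4, 3, 4, 8, 9, 5, 4, 6, 5, 7, 6, 3, 4, 8, 5, 4, 3, 11, 9, 8, 4, 5, 6, 7, 3, 4, 10, 7, 6, 5, 4, 8, 9, 11, 3, 4, 8, 9, 5,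 4, 6, 5, 3, 4]⟩, ⟨0, [56], 468, 1, []⟩], 1⟩ : Der)))) (ndA (nat_lit 246) (ndA (nat_lit 245) (lfA (⟨2, 0, 0, [], [⟨0, [], 469, 1, [11, 8, 4, 6, 5, 3, 4, 8, 9, 7, 6, 5, 4, 8, 3, 4, 5, 6, 7, 10, 7, 6, 5, 4, 8, 9, 11, 3, 4, 8, 5, 4, 6, 5, 7, 6, 3, 4, 8]⟩, ⟨0, [62], 468, 1, []⟩], 1⟩ : Der)) (lfA (⟨2, 0, 0, [], [⟨0, [], 478, 1, []⟩], 1⟩ : Der))) (ndA (nat_lit 247) (lfA (⟨2, 0, 0, [], [⟨0, [483, 481, 479, 476, 478, 480], 482, 1, []⟩], 1⟩ : Der)) (lfA (⟨2, 0, 0, [], [⟨0, [473, 493, 474, 492], 472, 1, []⟩], 1⟩ : Der))))) (ndA (nat_lit 252) (ndA (nat_lit 250) (ndA (nat_lit 249) (lfA (⟨2, 0, 0, [], [⟨0, [479, 481, 483, 495, 470, 494, 482, 480], 478,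 1, []⟩], 1⟩ : Der)) (lfA (⟨2, 0, 0, [], [⟨0, [485, 495, 487, 493, 482, 492, 486, 494], 484, 1, []⟩], 1⟩ : Der))) (ndA (nat_lit 251) (lfA (⟨2, 0, 0, [], [⟨0, [471, 479, 481, 483, 499, 495, 472, 494, 498, 482, 480, 478], 470, 1, []⟩], 1⟩ : Der)) (lfA (⟨2, 0, 0, [], [⟨0, [483, 493, 495, 499, 501, 479, 481, 497, 479, 501, 488, 500, 478, 496, 480, 478, 500, 498, 494, 492], 482, 1, []⟩], 1⟩ : Der)))) (ndA (nat_lit 254) (ndA (nat_lit 253) (lfA (⟨2, 0, 0, [], [⟨0, [499, 495, 493, 503, 495, 499, 484, 498, 494, 502, 492, 494], 498, 1, []⟩], 1⟩ : Der)) (lfA (⟨2, 0, 0, [], [⟨0, [505, 499, 495, 482, 494, 498], 504, 1, []⟩], 1⟩ : Der))) (ndA (nat_lit 255)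 (lfA (⟨0, 0, 0, [], [], 0⟩ : Der)) (lfA (⟨2, 0, 0, [], [⟨0, [], 509, 0, [4, 5, 6, 7, 10, 7, 6, 5, 4]⟩, ⟨0, [66], 508, 0, []⟩], 0⟩ : Der))))))
noncomputable def DT16 : ℕ → Der := (ndA (nat_lit 264) (ndA (nat_lit 260) (ndA (nat_lit 258) (ndA (nat_lit 257) (lfA (⟨2, 0, 0, [], [⟨0, [], 509, 0, [1, 3, 2, 5, 4, 3, 8, 4, 5, 6, 7, 10, 7, 6, 5, 4, 3, 2, 1, 8, 4, 3, 5]⟩, ⟨0, [68], 508, 0, []⟩], 0⟩ : Der)) (lfA (⟨2, 0, 0, [], [⟨0, [], 509, 0, [3, 4, 5, 4, 3]⟩, ⟨0, [70], 508, 0, []⟩], 0⟩ : Der))) (ndA (nat_lit 259) (lfA (⟨2, 0, 0, [], [⟨0, [], 509, 0, [2, 1, 3, 2, 4, 3, 8, 4, 5, 6, 7, 10, 7, 6, 5, 4, 3, 2, 1, 8, 4, 3, 2]⟩, ⟨0, [72], 508, 0, []⟩], 0⟩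 : Der)) (lfA (⟨2, 0, 0, [], [⟨0, [], 509, 0, [3, 2, 4, 3, 8, 4, 5, 6, 7, 10, 7, 6, 5, 4, 3, 2, 8, 4, 3]⟩, ⟨0, [74], 508, 0, []⟩], 0⟩ : Der)))) (ndA (nat_lit 262) (ndA (nat_lit 261) (lfA (⟨2, 0, 0, [], [⟨0, [], 509, 0, [1, 3, 2, 7, 6, 5, 4, 3, 8, 4, 5, 6, 7, 10, 7, 6, 5, 4, 3, 2, 1, 8, 4, 3, 5, 6, 7]⟩, ⟨0, [76], 508, 0, []⟩], 0⟩ : Der)) (lfA (⟨2, 0, 0, [], [⟨0, [], 509, 0, [3, 2, 1, 8, 4, 3, 2, 5, 4, 3, 6, 5, 4, 8, 4, 3, 2, 1, 5, 4, 3, 2, 6, 5, 4, 3, 8]⟩, ⟨0, [78], 508, 0, []⟩], 0⟩ : Der))) (ndA (nat_lit 263) (lfA (⟨2, 0, 0, [], [⟨0, [], 509, 0, [3, 2, 1, 8, 4, 3, 2, 5, 4, 3, 8, 4, 5, 6, 7, 6, 5, 4, 3, 2, 1, 8, 4, 3, 2, 5, 4, 3, 8]⟩, ⟨0, [80],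 508, 0, []⟩], 0⟩ : Der)) (lfA (⟨2, 0, 0, [], [⟨0, [], 509, 0, [1, 2, 4, 3, 5, 6, 8, 4, 3, 2, 5, 4, 3, 6, 5, 4, 8, 4, 3, 5, 4, 6, 7, 6, 5, 4, 3, 2, 1, 8, 4, 3, 2, 5, 4, 6, 8, 10, 7, 6, 5, 4, 3, 2, 8, 4, 5]⟩, ⟨0, [92], 508, 0, []⟩], 0⟩ : Der))))) (ndA (nat_lit 268) (ndA (nat_lit 266) (ndA (nat_lit 265) (lfA (⟨2, 0, 0, [], [⟨0, [523, 524], 522, 0, []⟩], 0⟩ : Der)) (lfA (⟨2, 0, 0, [], [⟨0, [513, 529, 520, 528], 512, 0, []⟩], 0⟩ : Der))) (ndA (nat_lit 267) (lfA (⟨2, 0, 0, [], [⟨0, [527, 528], 526, 0, []⟩], 0⟩ : Der)) (lfA (⟨2, 0, 0, [], [⟨0, [515, 531, 529, 533, 510, 532, 528, 530], 514, 0, []⟩], 0⟩ : Der)))) (ndA (nat_lit 270) (ndA (nat_lit 269)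 (lfA (⟨2, 0, 0, [], [⟨0, [515, 517, 533, 524, 532, 516], 514, 0, []⟩], 0⟩ : Der)) (lfA (⟨2, 0, 0, [], [⟨0, [535, 526, 535, 531, 537, 514, 536, 530, 534, 527], 534, 0, []⟩], 0⟩ : Der))) (ndA (nat_lit 271) (lfA (⟨2, 0, 0, [], [⟨0, [537, 515, 531, 529, 533, 539, 535, 518, 534, 538, 532, 528, 530, 514], 536, 0, []⟩], 0⟩ : Der)) (lfA (⟨2, 0, 0, [], [⟨0, [541, 535, 514, 534], 540, 0, []⟩], 0⟩ : Der))))))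
noncomputable def DT17 : ℕ → Der := (ndA (nat_lit 280) (ndA (nat_lit 276) (ndA (nat_lit 274) (ndA (nat_lit 273) (lfA (⟨2, 0, 0, [], [⟨0, [539, 535, 541, 537, 543, 541, 535, 539, 531, 529, 533, 516, 532, 528, 530, 538, 534, 540, 542, 536, 540, 534], 538, 0, []⟩], 0⟩ : Der)) (lfA (⟨0, 0, 0, [], [], 0⟩ : Der))) (ndA (nat_lit 275) (lfA (⟨2, 0, 0, [], [⟨0, [], 547, 0, [2, 1, 3, 8, 4, 3, 2, 9, 8, 7]⟩, ⟨0, [96], 546, 0, []⟩], 0⟩ : Der)) (lfA (⟨2, 0, 0, [], [⟨0, [], 547, 0, [4, 3, 2, 1, 5, 8, 4, 3, 2, 1, 5, 9, 8, 4, 3, 2, 1, 5, 4, 3, 2, 6, 5, 4, 3, 8, 4, 3, 5, 4, 6, 5, 9, 8, 4, 3, 5, 4, 6, 8, 9, 10, 7, 6, 5, 4, 3, 2, 8, 4, 3, 5, 4, 6, 5, 7, 6, 8,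 4, 3, 2, 5, 4, 3, 8, 4, 5, 6, 10]⟩, ⟨0, [100], 546, 0, []⟩], 0⟩ : Der)))) (ndA (nat_lit 278) (ndA (nat_lit 277) (lfA (⟨2, 0, 0, [], [⟨0, [], 547, 0, [2, 3, 2, 8, 4, 3, 9, 8, 4, 10, 7, 6, 5, 4, 3, 2, 8, 4, 3, 5, 4, 8, 1, 2, 3, 4, 5, 6, 7, 8, 4, 3, 2, 1, 9, 8, 10]⟩, ⟨0, [102], 546, 0, []⟩], 0⟩ : Der)) (lfA (⟨2, 0, 0, [], [⟨0, [], 547, 0, [2, 1, 3, 2, 1, 4, 3, 6, 8, 4, 3, 2, 1, 5, 4, 3, 8, 4, 5, 9, 8, 4, 3, 5, 4, 8, 7, 6, 5, 4, 8, 9, 10, 7, 6, 5, 4, 3, 2, 1, 8, 4, 3, 2, 5, 4, 3, 6, 5, 4, 7, 6, 5, 9, 8, 4, 3, 2, 1]⟩, ⟨0, [108], 546, 0, []⟩], 0⟩ : Der))) (ndA (nat_lit 279) (lfA (⟨2, 0, 0, [], [⟨0, [555, 551, 549, 552, 548, 550], 554, 0, []⟩],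 0⟩ : Der)) (lfA (⟨2, 0, 0, [], [⟨0, [557, 549, 553, 549, 556, 548, 552, 548], 556, 0, []⟩], 0⟩ : Der))))) (ndA (nat_lit 284) (ndA (nat_lit 282) (ndA (nat_lit 281) (lfA (⟨2, 0, 0, [], [⟨0, [557, 553, 557, 559, 552, 558, 556, 552], 556, 0, []⟩], 0⟩ : Der)) (lfA (⟨2, 0, 0, [], [⟨0, [551, 560], 550, 0, []⟩], 0⟩ : Der))) (ndA (nat_lit 283) (lfA (⟨2, 0, 0, [], [⟨0, [563, 557, 562, 556], 562, 0, []⟩], 0⟩ : Der)) (lfA (⟨2, 0, 0, [], [⟨0, [557, 559, 564, 558], 556, 0, []⟩], 0⟩ : Der)))) (ndA (nat_lit 286) (ndA (nat_lit 285) (lfA (⟨2, 0, 0, [], [⟨0, [561, 557, 549, 566, 548, 556], 560, 0, []⟩], 0⟩ : Der)) (lfA (⟨2, 0, 0, [], [⟨0, [557, 563, 568, 562],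 556, 0, []⟩], 0⟩ : Der))) (ndA (nat_lit 287) (lfA (⟨2, 0, 0, [], [⟨0, [559, 571, 566, 570], 558, 0, []⟩], 0⟩ : Der)) (lfA (⟨2, 0, 0, [], [⟨0, [569, 549, 557, 558, 556, 548], 568, 0, []⟩], 0⟩ : Der))))))
noncomputable def DT18 : ℕ → Der := (ndA (nat_lit 296) (ndA (nat_lit 292) (ndA (nat_lit 290) (ndA (nat_lit 289) (lfA (⟨2, 0, 0, [], [⟨0, [563, 575, 566, 574], 562, 0, []⟩], 0⟩ : Der)) (lfA (⟨2, 0, 0, [], [⟨0, [567, 577, 564, 576], 566, 0, []⟩], 0⟩ : Der))) (ndA (nat_lit 291) (lfA (⟨2, 0, 0, [], [⟨0, [565, 579, 562, 578], 564, 0, []⟩], 0⟩ : Der)) (lfA (⟨2, 0, 0, [], [⟨0, [555, 567, 569, 578, 568, 566], 554, 0, []⟩], 0⟩ : Der)))) (ndA (nat_lit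 294) (ndA (nat_lit 293) (lfA (⟨2, 0, 0, [], [⟨0, [575, 583, 563, 574, 562, 582], 574, 0, []⟩], 0⟩ : Der)) (lfA (⟨2, 0, 0, [], [⟨0, [585, 557, 554, 570, 555, 556], 584, 0, []⟩], 0⟩ : Der))) (ndA (nat_lit 295) (lfA (⟨2, 0, 0, [], [⟨0, [557, 583, 587, 563, 577, 573, 559, 552, 558, 572, 576, 562, 586, 582], 556, 0, []⟩], 0⟩ : Der)) (lfA (⟨2, 0, 0, [], [⟨0, [575, 569, 589, 574, 588, 568], 574, 0, []⟩], 0⟩ : Der))))) (ndA (nat_lit 300) (ndA (nat_lit 298) (ndA (nat_lit 297) (lfA (⟨2, 0, 0, [], [⟨0, [563, 587, 577, 573, 579, 590, 578, 572, 576, 586], 562, 0, []⟩], 0⟩ : Der)) (lfA (⟨2, 0, 0, [], [⟨0, [587, 583, 592, 582], 586, 0, []⟩], 0⟩ : Der)))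 (ndA (nat_lit 299) (lfA (⟨2, 0, 0, [], [⟨0, [561, 554, 591, 556, 590, 555], 560, 0, []⟩], 0⟩ : Der)) (lfA (⟨2, 0, 0, [], [⟨0, [561, 597, 588, 596], 560, 0, []⟩], 0⟩ : Der)))) (ndA (nat_lit 302) (ndA (nat_lit 301) (lfA (⟨0, 0, 0, [], [], 1⟩ : Der)) (lfA (⟨2, 0, 0, [], [⟨0, [], 601, 1, [11, 9, 8, 9, 11, 4, 8, 9, 11, 6, 5, 4, 8, 9, 11, 2, 7, 6, 5, 4, 8, 9, 11, 3, 4, 8, 5, 4, 6, 5, 3, 4, 8, 10, 7, 6, 5, 4, 8, 9, 11, 3, 4, 8, 9, 5, 4, 8, 6, 5, 4, 7, 6, 5, 2, 10, 7, 6]⟩, ⟨0, [112], 600, 1, []⟩], 1⟩ : Der))) (ndA (nat_lit 303) (lfA (⟨2, 0, 0, [], [⟨0, [], 601, 1, [9, 8, 9, 5, 4, 6, 5, 7, 6, 2, 3, 4, 8, 9, 5, 4, 8, 6, 3, 4, 10, 7, 6, 5, 4, 8, 9,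 3, 4, 8, 11, 9, 8, 4, 5, 6, 7, 3, 4, 8, 5, 4, 6, 5, 3, 4, 2, 10, 7, 6, 5]⟩, ⟨0, [114], 600, 1, []⟩], 1⟩ : Der)) (lfA (⟨2, 0, 0, [], [⟨0, [], 601, 1, [6, 7, 6, 5, 4, 8, 9, 3, 4, 8, 5, 4, 6, 5, 7, 6, 3, 4, 8, 9, 5, 4, 8, 3, 4, 5, 6, 7, 2, 3, 4, 8, 5, 4, 6, 5, 3, 4, 8, 9, 11, 9, 8, 4, 5, 6, 3, 4, 8, 9, 5, 4, 3, 2, 10, 7, 6, 5, 4, 8, 9, 3, 4, 8, 5, 4, 6, 5, 7, 6, 3, 4, 8, 9, 5, 4, 8, 3, 4, 5, 6, 7]⟩, ⟨0, [116], 600, 1, []⟩], 1⟩ : Der))))))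
noncomputable def DT19 : ℕ → Der := (ndA (nat_lit 312) (ndA (nat_lit 308) (ndA (nat_lit 306) (ndA (nat_lit 305) (lfA (⟨2, 0, 0, [], [⟨0, [], 601, 1, [7, 10, 2, 5, 6, 7, 4, 5, 6, 8, 4, 5, 9, 8, 4, 3, 11, 9, 8, 4, 5, 6, 7, 4, 5, 6, 8, 4, 5, 9, 8, 4, 3, 4, 5, 6, 8, 4, 5, 9, 8, 4, 3, 2, 9, 8, 4, 5, 6, 9, 8, 4, 5, 8, 4, 11, 9, 8, 11, 9, 11]⟩, ⟨0, [120], 600, 1, []⟩], 1⟩ : Der)) (lfA (⟨2, 0, 0, [], [⟨0, [], 601, 1, [10, 2, 3, 7, 6, 5, 4, 8, 9, 11, 5, 6, 7, 10, 3, 8, 4, 5, 9, 8, 4, 3, 6, 7, 5, 6, 4, 5, 8, 4, 3, 9, 8, 4, 5, 6, 7, 10, 7, 6, 4, 5, 9, 8, 4, 3, 6, 7, 5, 6, 8, 4, 5, 9, 8, 4, 3, 2, 5, 6, 7, 4, 5, 6, 8, 4, 5, 8, 4]⟩, ⟨0, [122], 600, 1,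 []⟩], 1⟩ : Der))) (ndA (nat_lit 307) (lfA (⟨2, 0, 0, [], [⟨0, [], 601, 1, [8, 9, 4, 5, 4, 8, 9, 6, 5, 4, 8, 9, 3, 4, 8, 5, 4, 6, 5, 7, 6, 3, 4, 8, 9, 5, 4, 8, 3, 4, 5, 6, 2, 3, 4, 8, 9, 5, 4, 8, 6, 5, 3, 4, 8, 9, 5, 6, 7, 10, 7, 6, 5, 4, 8, 3, 4, 5, 6, 7, 2, 3, 4, 5, 6, 10, 7, 11, 9, 8, 4, 5, 6, 3, 4, 8, 5, 4, 3, 2, 3, 4, 8, 9, 11, 5, 4, 6, 5, 7, 10]⟩, ⟨0, [136], 600, 1, []⟩], 1⟩ : Der)) (lfA (⟨2, 0, 0, [], [⟨0, [603, 606], 602, 1, []⟩], 1⟩ : Der)))) (ndA (nat_lit 310) (ndA (nat_lit 309) (lfA (⟨2, 0, 0, [], [⟨0, [609, 611, 614, 610], 608, 1, []⟩], 1⟩ : Der)) (lfA (⟨2, 0, 0, [], [⟨0, [617, 605, 617, 609, 616, 608, 616, 604], 616, 1, []⟩],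 1⟩ : Der))) (ndA (nat_lit 311) (lfA (⟨2, 0, 0, [], [⟨0, [619, 603, 617, 618, 616, 602], 618, 1, []⟩], 1⟩ : Der)) (lfA (⟨2, 0, 0, [], [⟨0, [621, 605, 617, 612, 617, 620, 616, 613, 616, 604], 620, 1, []⟩], 1⟩ : Der))))) (ndA (nat_lit 316) (ndA (nat_lit 314) (ndA (nat_lit 313) (lfA (⟨2, 0, 0, [], [⟨0, [621, 617, 622, 616], 620, 1, []⟩], 1⟩ : Der)) (lfA (⟨2, 0, 0, [], [⟨0, [625, 619, 625, 622, 624, 618], 624, 1, []⟩], 1⟩ : Der))) (ndA (nat_lit 315) (lfA (⟨2, 0, 0, [], [⟨0, [605, 626], 604, 1, []⟩], 1⟩ : Der)) (lfA (⟨2, 0, 0, [], [⟨0, [623, 617, 605, 617, 618, 616, 604, 616], 622, 1, []⟩], 1⟩ : Der)))) (ndA (nat_lit 318) (ndA (nat_lit 317) (lfA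 (⟨2, 0, 0, [], [⟨0, [623, 625, 630, 624], 622, 1, []⟩], 1⟩ : Der)) (lfA (⟨2, 0, 0, [], [⟨0, [625, 633, 626, 632], 624, 1, []⟩], 1⟩ : Der))) (ndA (nat_lit 319) (lfA (⟨2, 0, 0, [], [⟨0, [619, 621, 634, 620], 618, 1, []⟩], 1⟩ : Der)) (lfA (⟨2, 0, 0, [], [⟨0, [631, 608, 614, 609], 630, 1, []⟩], 1⟩ : Der))))))
noncomputable def DT20 : ℕ → Der := (ndA (nat_lit 328) (ndA (nat_lit 324) (ndA (nat_lit 322) (ndA (nat_lit 321) (lfA (⟨2, 0, 0, [], [⟨0, [629, 631, 638, 630], 628, 1, []⟩], 1⟩ : Der)) (lfA (⟨2, 0, 0, [], [⟨0, [621, 627, 637, 623, 640, 622, 636, 626], 620, 1, []⟩], 1⟩ : Der))) (ndA (nat_lit 323) (lfA (⟨2, 0, 0, [], [⟨0, [605, 642], 604, 1,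 []⟩], 1⟩ : Der)) (lfA (⟨2, 0, 0, [], [⟨0, [619, 617, 619, 617, 644, 616, 618, 616], 618, 1, []⟩], 1⟩ : Der)))) (ndA (nat_lit 326) (ndA (nat_lit 325) (lfA (⟨2, 0, 0, [], [⟨0, [608, 627, 646, 626], 609, 1, [11, 9, 11, 8, 9, 11, 4, 8, 5, 4, 8, 9, 6, 5, 4, 8, 9, 2, 3, 4, 8, 9, 5, 4, 8, 6, 5, 4, 3, 4, 8, 9, 5, 4, 8, 6, 5, 4, 7, 6, 5, 4, 8, 9, 11, 3, 4, 8, 9, 5, 4, 8, 6, 5, 4, 7, 6, 5, 2, 10, 7]⟩], 1⟩ : Der)) (lfA (⟨2, 0, 0, [], [⟨0, [619, 649, 630, 648], 618, 1, []⟩], 1⟩ : Der))) (ndA (nat_lit 327) (lfA (⟨2, 0, 0, [], [⟨0, [645, 610, 626, 611], 644, 1, []⟩], 1⟩ : Der)) (lfA (⟨2, 0, 0, [], [⟨0, [623, 617, 652, 616], 622, 1, []⟩], 1⟩ : Der)))))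 (ndA (nat_lit 332) (ndA (nat_lit 330) (ndA (nat_lit 329) (lfA (⟨2, 0, 0, [], [⟨0, [645, 617, 653, 644, 652, 616], 644, 1, []⟩], 1⟩ : Der)) (lfA (⟨0, 0, 0, [], [], 1⟩ : Der))) (ndA (nat_lit 331) (lfA (⟨2, 0, 0, [], [⟨0, [], 659, 1, [5, 4, 8, 6, 5, 7, 6, 5, 4, 8, 3, 4, 8, 9, 5, 4, 8, 6, 5, 7, 6, 3, 4, 8, 11, 9, 8, 4, 5, 6, 3, 4, 10, 7, 6, 5, 4, 8, 9, 11, 3, 4, 8, 5, 4, 6, 5, 7, 3, 4, 10]⟩, ⟨0, [148], 658, 1, []⟩], 1⟩ : Der)) (lfA (⟨2, 0, 0, [], [⟨0, [], 659, 1, [9, 8, 4, 8, 5, 4, 8, 9, 11, 6, 3, 4, 8, 9, 11, 5, 4, 8, 6, 5, 4, 3, 4, 8, 9, 5, 4, 8, 6, 5, 4, 7, 6, 5, 4, 8, 3, 4, 5, 6, 7, 10, 7, 6, 5, 4, 8, 9, 11, 3, 4, 8, 9, 5, 4, 6, 5, 7, 6,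 3, 4, 5, 10]⟩, ⟨0, [150], 658, 1, []⟩], 1⟩ : Der)))) (ndA (nat_lit 334) (ndA (nat_lit 333) (lfA (⟨2, 0, 0, [], [⟨0, [], 659, 1, [9, 11, 8, 9, 5, 4, 6, 5, 4, 3, 4, 8, 9, 11, 5, 4, 8, 6, 5, 4, 3, 7, 6, 5, 4, 8, 9, 11, 3, 4, 8, 9, 5, 4, 6, 5, 7, 6, 3, 4, 10, 7, 6, 5, 4, 8, 9, 3, 4, 8, 5, 4, 6, 5, 7, 6, 3, 4, 8, 9, 5, 4, 3, 10]⟩, ⟨0, [152], 658, 1, []⟩], 1⟩ : Der)) (lfA (⟨2, 0, 0, [], [⟨0, [], 659, 1, [9, 11, 8, 9, 5, 4, 8, 9, 11, 6, 5, 4, 8, 3, 4, 8, 9, 11, 5, 4, 8, 6, 5, 3, 4, 8, 9, 11, 10, 7, 6, 5, 4, 8, 9, 3, 4, 8, 5, 4, 6, 5, 7, 3, 4, 10]⟩, ⟨0, [158], 658, 1, []⟩], 1⟩ : Der))) (ndA (nat_lit 335) (lfA (⟨2, 0, 0, [], [⟨0, [666, 661, 666, 661,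 666, 661, 666, 661, 666, 661, 666, 661, 666, 661, 666, 661, 666], 661, 1, [10, 4, 3, 7, 5, 6, 4, 5, 8, 4, 3, 11, 9, 8, 4, 5, 6, 7, 10, 4, 3, 6, 5, 4, 8, 9, 11, 8, 4, 3, 6, 7, 5, 6, 8, 4, 5, 9, 8, 4, 3, 8, 4, 5, 6, 7, 5, 6, 8, 4, 5]⟩], 1⟩ : Der)) (lfA (⟨2, 0, 0, [], [⟨0, [667, 665, 668, 664], 666, 1, []⟩], 1⟩ : Der))))))
noncomputable def DT21 : ℕ → Der := (ndA (nat_lit 344) (ndA (nat_lit 340) (ndA (nat_lit 338) (ndA (nat_lit 337) (lfA (⟨2, 0, 0, [], [⟨0, [667, 660, 670, 661], 666, 1, []⟩], 1⟩ : Der)) (lfA (⟨2, 0, 0, [], [⟨0, [671, 665, 673, 668, 672, 664], 670, 1, []⟩], 1⟩ : Der))) (ndA (nat_lit 339) (lfA (⟨2, 0, 0, [], [⟨0, [671, 675, 660,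 668, 661, 674], 670, 1, []⟩], 1⟩ : Der)) (lfA (⟨2, 0, 0, [], [⟨0, [675, 663, 676, 662], 674, 1, []⟩], 1⟩ : Der)))) (ndA (nat_lit 342) (ndA (nat_lit 341) (lfA (⟨2, 0, 0, [], [⟨0, [679, 675, 667, 677, 671, 674, 670, 676, 666, 674], 678, 1, []⟩], 1⟩ : Der)) (lfA (⟨2, 0, 0, [], [⟨0, [679, 675, 671, 677, 661, 679, 680, 678, 660, 676, 670, 674], 678, 1, []⟩], 1⟩ : Der))) (ndA (nat_lit 343) (lfA (⟨2, 0, 0, [], [⟨0, [673, 683, 679, 681, 675, 679, 683, 673, 671, 675, 679, 681, 677, 671, 675, 679, 668, 678, 674, 670, 676, 680, 678, 674, 670, 672, 682, 678, 674, 680, 678, 682], 672, 1, []⟩], 1⟩ : Der)) (lfA (⟨2, 0, 0, [], [⟨0, [685, 673, 683, 667, 676,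 666, 682, 672], 684, 1, []⟩], 1⟩ : Der))))) (ndA (nat_lit 348) (ndA (nat_lit 346) (ndA (nat_lit 345) (lfA (⟨0, 0, 0, [], [], 0⟩ : Der)) (lfA (⟨2, 0, 0, [], [⟨0, [], 689, 0, [3, 2, 1, 4, 3, 2, 1, 5, 4, 3, 8, 4, 3, 2, 1, 5, 4, 3, 8, 4, 5, 7, 6, 5, 4, 3, 2, 8, 4, 3, 5, 4, 6, 10, 7, 6, 5, 4, 3, 2, 8, 4, 3, 5, 4, 6, 5, 7, 6, 8, 4, 3, 2, 10, 7]⟩, ⟨0, [162], 688, 0, []⟩], 0⟩ : Der))) (ndA (nat_lit 347) (lfA (⟨2, 0, 0, [], [⟨0, [], 689, 0, [1, 2, 4, 3, 2, 1, 6, 5, 4, 3, 2, 8, 4, 3, 2, 1, 5, 4, 3, 6, 5, 4, 8, 4, 3, 2, 5, 4, 3, 6, 5, 7, 6, 5, 4, 3, 8, 4, 5, 6, 7, 10, 7, 6, 5, 4, 3, 2, 8, 4, 3, 5, 4, 6, 5, 7, 6, 8, 4, 3, 2, 5, 4, 3, 10]⟩, ⟨0, [166],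 688, 0, []⟩], 0⟩ : Der)) (lfA (⟨2, 0, 0, [], [⟨0, [], 689, 0, [7, 10, 5, 2, 3, 4, 8, 6, 7, 5, 6, 4, 5, 3, 4, 8, 2, 3, 4, 5, 6, 7, 10, 6, 4, 5, 3, 4, 8, 2, 3, 4, 5, 6, 7, 5, 6, 4, 5, 1, 2, 3, 4, 8, 6, 3, 4, 5, 1, 2, 3]⟩, ⟨0, [168], 688, 0, []⟩], 0⟩ : Der)))) (ndA (nat_lit 350) (ndA (nat_lit 349) (lfA (⟨2, 0, 0, [], [⟨0, [], 689, 0, [10, 7, 6, 5, 2, 3, 4, 8, 1, 2, 3, 4, 5, 6, 7, 10, 4, 8, 5, 6, 4, 5, 3, 4, 8, 2, 3, 4, 5, 6, 7, 2, 3, 4, 8, 5, 6, 4, 5, 3, 4, 8, 5, 6, 2, 3, 4, 5, 1, 2, 3, 4, 8, 1, 2, 3, 4, 5, 1, 2, 3, 2]⟩, ⟨0, [178], 688, 0, []⟩], 0⟩ : Der)) (lfA (⟨2, 0, 0, [], [⟨0, [690, 694, 694, 694, 690, 694, 694, 694, 690, 694, 694], 694,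 0, []⟩], 0⟩ : Der))) (ndA (nat_lit 351) (lfA (⟨2, 0, 0, [], [⟨0, [691, 698], 690, 0, []⟩], 0⟩ : Der)) (lfA (⟨2, 0, 0, [], [⟨0, [691, 693, 700, 692], 690, 0, []⟩], 0⟩ : Der))))))
noncomputable def DT22 : ℕ → Der := (ndA (nat_lit 360) (ndA (nat_lit 356) (ndA (nat_lit 354) (ndA (nat_lit 353) (lfA (⟨2, 0, 0, [], [⟨0, [694, 702], 695, 0, [3, 2, 1, 5, 4, 3, 6, 8, 4, 3, 2, 1, 5, 4, 6, 5, 7, 6, 5, 4, 3, 2, 8, 4, 3, 5, 4, 6, 10, 7, 6, 5, 4, 3, 2, 8, 4, 3, 5, 4, 6, 5, 7, 6, 8, 4, 3, 2, 5, 10, 7]⟩], 0⟩ : Der)) (lfA (⟨2, 0, 0, [], [⟨0, [705, 691, 702, 690], 704, 0, []⟩], 0⟩ : Der))) (ndA (nat_lit 355) (lfA (⟨2, 0, 0, [], [⟨0, [705, 707, 701, 697, 698,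 696, 700, 706], 704, 0, []⟩], 0⟩ : Der)) (lfA (⟨2, 0, 0, [], [⟨0, [691, 709, 704, 708], 690, 0, []⟩], 0⟩ : Der)))) (ndA (nat_lit 358) (ndA (nat_lit 357) (lfA (⟨2, 0, 0, [], [⟨0, [705, 709, 701, 694, 711, 701, 708, 700, 710, 695, 700, 708], 704, 0, []⟩], 0⟩ : Der)) (lfA (⟨2, 0, 0, [], [⟨0, [707, 705, 713, 709, 701, 695, 702, 694, 700, 708, 712, 704], 706, 0, []⟩], 0⟩ : Der))) (ndA (nat_lit 359) (lfA (⟨2, 0, 0, [], [⟨0, [715, 694, 707, 714, 706, 695], 714, 0, []⟩], 0⟩ : Der)) (lfA (⟨0, 0, 0, [], [], 0⟩ : Der))))) (ndA (nat_lit 364) (ndA (nat_lit 362) (ndA (nat_lit 361) (lfA (⟨2, 0, 0, [], [⟨0, [], 719, 0, [2, 3, 4, 3, 2, 5, 4, 6, 5, 8, 4, 3,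 2, 1, 5, 4, 3, 6, 5, 4, 8, 4, 3, 2, 1, 5, 4, 3, 6, 9, 8, 4, 3, 2, 1, 5, 4, 3, 2, 6, 5, 4, 8, 4, 3, 2, 5, 4, 3, 6, 9, 8, 4, 3, 2, 7, 6, 5, 4, 3, 2, 1, 8, 4, 3, 2, 5, 6, 7, 9, 8, 4, 3, 2, 1, 5, 4, 3, 6, 5, 8, 9]⟩, ⟨0, [182], 718, 0, []⟩], 0⟩ : Der)) (lfA (⟨2, 0, 0, [], [⟨0, [], 719, 0, [3, 2, 5, 4, 3, 2, 6, 7, 6, 5, 4, 3, 2, 8, 4, 3, 2, 5, 4, 3, 6, 5, 4, 7, 8, 4, 3, 2, 5, 4, 3, 6, 5, 7, 9, 8, 4, 3, 2, 5, 4, 3, 6, 5, 4, 8, 4, 5, 9, 8, 1, 2, 3, 4, 5, 6, 7, 8, 4, 3, 5, 4, 6, 9, 8, 4, 3, 2, 1, 5, 4, 3, 2, 6, 5, 4, 3, 8, 4, 3, 5]⟩, ⟨0, [184], 718, 0, []⟩], 0⟩ : Der))) (ndA (nat_lit 363) (lfA (⟨2, 0, 0, [], [⟨0, [], 719, 0, [5, 4, 8, 9, 4, 5, 2,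 3, 4, 8, 6, 7, 5, 6, 3, 4, 5, 2, 3, 4, 8, 9, 8, 5, 6, 3, 4, 5, 2, 3, 4, 8, 1, 2, 3, 4, 5, 6, 7, 4, 8, 9, 5, 4, 8, 5, 6, 2, 3, 4, 5, 1, 2, 3, 4, 8, 9, 6, 5, 4, 8, 3, 4, 5, 1, 2, 3, 4, 8, 6, 2, 3, 4, 5, 3, 4, 1]⟩, ⟨0, [190], 718, 0, []⟩], 0⟩ : Der)) (lfA (⟨2, 0, 0, [], [⟨0, [722, 722, 722, 722, 722, 722, 722, 722], 722, 0, []⟩], 0⟩ : Der)))) (ndA (nat_lit 366) (ndA (nat_lit 365) (lfA (⟨2, 0, 0, [], [⟨0, [727, 721, 727, 724, 724, 726, 725, 725, 726, 720], 726, 0, []⟩], 0⟩ : Der)) (lfA (⟨2, 0, 0, [], [⟨0, [723, 721, 729, 722, 729, 726, 728, 723, 728, 720], 722, 0, []⟩], 0⟩ : Der))) (ndA (nat_lit 367) (lfA (⟨2, 0, 0, [], [⟨0, [731, 729, 725, 729,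 731, 729, 726, 728, 730, 728, 724, 728], 730, 0, []⟩], 0⟩ : Der)) (lfA (⟨2, 0, 0, [], [⟨0, [729, 731, 733, 722, 729, 731, 729, 726, 728, 730, 728, 723, 732, 730], 728, 0, []⟩], 0⟩ : Der))))))
noncomputable def DT23 : ℕ → Der := (ndA (nat_lit 376) (ndA (nat_lit 372) (ndA (nat_lit 370) (ndA (nat_lit 369) (lfA (⟨2, 0, 0, [], [⟨0, [731, 729, 727, 733, 735, 729, 731, 724, 732, 725, 730, 728, 734, 732, 726, 728], 730, 0, []⟩], 0⟩ : Der)) (lfA (⟨2, 0, 0, [], [⟨0, [724, 729, 731, 729, 737, 735, 729, 726, 728, 734, 736, 728, 730, 728], 725, 0, [1, 4, 3, 5, 4, 3, 2, 6, 8, 4, 3, 2, 1, 5, 4, 3, 8, 4, 5, 6, 9, 8, 4, 3, 2, 1, 5, 4, 3, 2, 6, 5, 8, 4, 5,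 9, 8, 4, 7, 6, 5, 4, 3, 2, 1, 8, 4, 3, 2, 5, 4, 3, 6, 5, 8, 9, 8, 4, 3, 2, 5, 4, 3, 6, 5, 7, 6, 8, 4, 3, 2, 5, 4, 9, 8, 4, 5]⟩], 0⟩ : Der))) (ndA (nat_lit 371) (lfA (⟨2, 0, 0, [], [⟨0, [737, 727, 729, 739, 731, 737, 729, 735, 726, 734, 728, 736, 730, 738, 728, 726], 736, 0, []⟩], 0⟩ : Der)) (lfA (⟨2, 0, 0, [], [⟨0, [727, 733, 737, 731, 741, 735, 737, 733, 726, 732, 736, 734, 740, 730, 736, 732], 726, 0, []⟩], 0⟩ : Der)))) (ndA (nat_lit 374) (ndA (nat_lit 373) (lfA (⟨2, 0, 0, [], [⟨0, [733, 731, 729, 737, 731, 733, 727, 739, 729, 737, 726, 736, 728, 738, 726, 732, 730, 736, 728, 730], 732, 0, []⟩], 0⟩ : Der)) (lfA (⟨0, 0, 0, [], [], 1⟩ : Der)))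 (ndA (nat_lit 375) (lfA (⟨2, 0, 0, [], [⟨0, [], 747, 1, [11, 8, 9, 11, 5, 4, 6, 5, 4, 3, 4, 8, 9, 11, 5, 4, 8, 6, 5, 4, 3, 4, 8, 9, 5, 4, 8, 2, 3, 4, 8, 9, 11, 5, 4, 8, 6, 3, 4, 5, 6, 2, 7, 6, 5, 4, 8, 9, 11, 3, 4, 8, 9, 5, 4, 8, 6, 2, 3, 4, 8, 9, 11, 5, 4, 8, 6, 5, 7, 3, 4, 5, 2, 3, 4, 8]⟩, ⟨0, [194], 746, 1, []⟩], 1⟩ : Der)) (lfA (⟨2, 0, 0, [], [⟨0, [], 747, 1, [8, 4, 8, 9, 5, 6, 5, 4, 8, 3, 2, 3, 4, 8, 9, 11, 5, 4, 8, 9, 6, 3, 4, 8, 5, 4, 6, 5, 3, 4, 8, 9, 2, 7, 6, 5, 4, 8, 9, 11, 3, 4, 8, 9, 5, 4, 8, 6, 5, 4, 2, 3, 4, 8, 9, 5, 4, 8, 6, 3, 2]⟩, ⟨0, [196], 746, 1, []⟩], 1⟩ : Der))))) (ndA (nat_lit 380) (ndA (nat_lit 378) (ndA (nat_lit 377)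 (lfA (⟨2, 0, 0, [], [⟨0, [], 747, 1, [9, 11, 5, 4, 8, 6, 5, 4, 8, 9, 3, 4, 8, 9, 11, 5, 4, 8, 9, 6, 3, 4, 8, 5, 4, 6, 5, 3, 4, 8, 9, 2, 3, 4, 8, 9, 11, 5, 4, 8, 9, 6, 5, 4, 3, 4, 8, 9, 5, 6, 2, 3, 4, 8, 7, 6, 5, 4, 8, 9, 11, 3, 4, 8, 5, 4, 6, 5, 7, 6, 2, 3, 4, 8, 5, 4, 6, 5]⟩, ⟨0, [198], 746, 1, []⟩], 1⟩ : Der)) (lfA (⟨2, 0, 0, [], [⟨0, [], 747, 1, [4, 3, 6, 7, 5, 6, 4, 5, 8, 4, 3, 2, 6, 7, 5, 6, 4, 5, 9, 8, 4, 3, 11, 9, 8, 4, 5, 6, 7, 3, 2, 6, 5, 9, 8, 4, 3, 5, 6, 9, 8, 4, 5, 11, 9, 8, 4, 3, 2, 6, 8, 4, 5, 11, 9, 8, 4, 3, 4, 5, 6, 8, 4, 5, 9, 8, 4, 3, 8, 4, 5, 6, 8, 4, 5, 9, 8, 4, 9, 11]⟩, ⟨0, [208], 746, 1, []⟩], 1⟩ : Der))) (ndA (nat_lit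 379) (lfA (⟨2, 0, 0, [], [⟨0, [751, 751], 751, 1, [2, 3, 6, 8, 4, 5, 9, 8, 4, 3, 2, 4, 5, 6, 8, 4, 5, 9, 8, 4, 3, 11, 9, 8, 4, 5, 6, 7, 2, 9, 8, 4, 3, 5, 6, 4, 5, 8, 4, 3, 6, 9, 8, 4, 5, 11, 9, 8, 4, 3, 2, 3, 8, 4, 5, 6, 5, 9, 8, 4, 8]⟩], 1⟩ : Der)) (lfA (⟨2, 0, 0, [], [⟨0, [750, 757, 749, 756, 748, 756], 751, 1, [2, 3, 6, 8, 4, 5, 9, 8, 4, 3, 2, 4, 5, 6, 8, 4, 5, 9, 8, 4, 3, 11, 9, 8, 4, 5, 6, 7, 2, 9, 8, 4, 3, 5, 6, 4, 5, 8, 4, 3, 6, 9, 8, 4, 5, 11, 9, 8, 4, 3, 2, 3, 8, 4, 5, 6, 5, 9, 8, 4, 8]⟩], 1⟩ : Der)))) (ndA (nat_lit 382) (ndA (nat_lit 381) (lfA (⟨2, 0, 0, [], [⟨0, [748, 748, 759, 756, 758, 749], 749, 1, [8, 4, 3, 2, 5, 4, 3, 7, 5,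 6, 8, 4, 5, 11, 9, 8, 4, 3, 2, 6, 8, 4, 5, 9, 8, 4, 3, 11, 9, 8, 4, 5, 6, 7, 2, 6, 5, 4, 3, 6, 8, 4, 5, 11, 9, 8, 4, 3, 2, 8, 4, 5, 9, 8, 4, 3, 4, 5, 6, 8, 4, 5, 11, 9, 8, 4, 3, 4, 5, 6, 4, 5, 11, 9, 8, 11]⟩], 1⟩ : Der)) (lfA (⟨2, 0, 0, [], [⟨0, [752, 757, 752, 758, 753, 756], 753, 1, [5, 6, 4, 5, 8, 4, 3, 2, 6, 7, 5, 6, 4, 5, 8, 4, 3, 11, 9, 8, 4, 5, 6, 7, 8, 4, 3, 2, 6, 5, 9, 8, 4, 3, 4, 5, 6, 9, 8, 4, 5, 11, 9, 8, 4, 3, 2, 9, 8, 4, 3, 5, 6, 4, 5, 8, 4, 3, 6, 9, 8, 4, 5, 11, 9, 8, 4, 3, 9, 8, 4, 5, 6, 8, 4, 5, 11, 9]⟩], 1⟩ : Der))) (ndA (nat_lit 383) (lfA (⟨2, 0, 0, [], [⟨0, [748, 757, 761, 755, 760, 754, 760, 756], 749, 1, [8, 4, 3, 2,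 5, 4, 3, 7, 5, 6, 8, 4, 5, 11, 9, 8, 4, 3, 2, 6, 8, 4, 5, 9, 8, 4, 3, 11, 9, 8, 4, 5, 6, 7, 2, 6, 5, 4, 3, 6, 8, 4, 5, 11, 9, 8, 4, 3, 2, 8, 4, 5, 9, 8, 4, 3, 4, 5, 6, 8, 4, 5, 11, 9, 8, 4, 3, 4, 5, 6, 4, 5, 11, 9, 8, 11]⟩], 1⟩ : Der)) (lfA (⟨2, 0, 0, [], [⟨0, [750, 765, 748, 762, 749, 764], 751, 1, [2, 3, 6, 8, 4, 5, 9, 8, 4, 3, 2, 4, 5, 6, 8, 4, 5, 9, 8, 4, 3, 11, 9, 8, 4, 5, 6, 7, 2, 9, 8, 4, 3, 5, 6, 4, 5, 8, 4, 3, 6, 9, 8, 4, 5, 11, 9, 8, 4, 3, 2, 3, 8, 4, 5, 6, 5, 9, 8, 4, 8]⟩], 1⟩ : Der))))))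
noncomputable def DT24 : ℕ → Der := (ndA (nat_lit 392) (ndA (nat_lit 388) (ndA (nat_lit 386) (ndA (nat_lit 385) (lfA (⟨2, 0, 0, [], [⟨0, [753, 767, 761, 765, 756, 764, 760, 766], 752, 1, []⟩], 1⟩ : Der)) (lfA (⟨2, 0, 0, [], [⟨0, [757, 765, 767, 769, 749, 768, 748, 768, 766, 764], 756, 1, []⟩], 1⟩ : Der))) (ndA (nat_lit 387) (lfA (⟨2, 0, 0, [], [⟨0, [750, 759, 767, 765, 769, 771, 756, 770, 768, 764, 766, 758], 751, 1, [2, 3, 6, 8, 4, 5, 9, 8, 4, 3, 2, 4, 5, 6, 8, 4, 5, 9, 8, 4, 3, 11, 9, 8, 4, 5, 6, 7, 2, 9, 8, 4, 3, 5, 6, 4, 5, 8, 4, 3, 6, 9, 8, 4, 5, 11, 9, 8, 4, 3, 2, 3, 8, 4, 5, 6, 5, 9, 8, 4, 8]⟩], 1⟩ : Der)) (lfA (⟨2, 0, 0, [], [⟨0,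 [759, 773, 765, 757, 759, 767, 769, 773, 765, 756, 764, 772, 768, 766, 758, 756, 764, 772], 758, 1, []⟩], 1⟩ : Der)))) (ndA (nat_lit 390) (ndA (nat_lit 389) (lfA (⟨0, 0, 0, [], [], 0⟩ : Der)) (lfA (⟨2, 0, 0, [], [⟨0, [], 777, 0, [1]⟩, ⟨0, [218], 776, 0, []⟩], 0⟩ : Der))) (ndA (nat_lit 391) (lfA (⟨2, 0, 0, [], [⟨0, [], 777, 0, [2, 3, 4, 5, 7, 6, 5, 4, 3, 2, 8, 4, 3, 2, 5, 4, 3, 6, 5, 8, 4, 3, 2, 5, 6, 7, 9, 8, 4, 3, 2, 5, 4, 3, 8, 4, 5, 9, 8, 4, 3, 2]⟩, ⟨0, [220], 776, 0, []⟩], 0⟩ : Der)) (lfA (⟨2, 0, 0, [], [⟨0, [], 777, 0, [2, 1, 4, 5, 4, 6, 9, 8, 4, 3, 2, 1, 5, 4, 3, 8, 4, 5, 6, 7, 6, 5, 4, 3, 2, 1, 8, 4, 3, 2, 5, 4, 6, 5, 8, 4, 9]⟩, ⟨0,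 [222], 776, 0, []⟩], 0⟩ : Der))))) (ndA (nat_lit 396) (ndA (nat_lit 394) (ndA (nat_lit 393) (lfA (⟨2, 0, 0, [], [⟨0, [], 777, 0, [1, 3, 2, 1, 4, 3, 2, 5, 4, 3, 2, 6, 5, 4, 3, 2, 1, 8, 4, 3, 2, 1, 5, 4, 3, 2, 8, 4, 5, 9, 8, 4, 3, 2, 1, 5, 4, 8, 7, 6, 5, 4, 3, 2, 1, 8, 4, 3, 5, 4, 6, 5, 7, 6, 9, 8, 4, 3, 2, 1, 5, 4, 3]⟩, ⟨0, [224], 776, 0, []⟩], 0⟩ : Der)) (lfA (⟨2, 0, 0, [], [⟨0, [], 777, 0, [2, 3, 4, 8, 9, 5, 4, 8, 6, 7, 5, 6, 3, 4, 5, 2, 3, 4, 8, 9, 8, 6, 4, 5, 2, 3, 4, 8, 1, 2, 3, 4, 5, 6, 7, 5, 4, 8, 9, 5, 2, 3, 4, 8, 5, 6, 3, 4, 5, 1, 2, 3, 4, 8, 9, 5, 4, 8, 5, 3, 1]⟩, ⟨0, [228], 776, 0, []⟩], 0⟩ : Der))) (ndA (nat_lit 395) (lfA (⟨2,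 0, 0, [], [⟨0, [], 777, 0, [1, 4, 3, 2, 5, 4, 3, 2, 6, 5, 4, 3, 2, 1, 8, 4, 3, 2, 5, 4, 3, 6, 5, 4, 9, 8, 4, 3, 2, 1, 5, 4, 3, 2, 8, 9, 7, 6, 5, 4, 3, 2, 1, 8, 4, 3, 2, 5, 4, 6, 5, 9, 8, 4, 3, 5, 4, 6, 5, 8, 4, 3, 9, 8]⟩, ⟨0, [238], 776, 0, []⟩], 0⟩ : Der)) (lfA (⟨2, 0, 0, [], [⟨0, [], 778, 0, []⟩], 0⟩ : Der)))) (ndA (nat_lit 398) (ndA (nat_lit 397) (lfA (⟨2, 0, 0, [], [⟨0, [785, 778], 784, 0, []⟩], 0⟩ : Der)) (lfA (⟨2, 0, 0, [], [⟨0, [786, 792], 787, 0, [1, 3, 5, 8, 4, 5, 9, 8, 4, 3, 2, 1, 5, 4, 3, 6, 5, 8, 4, 3, 2, 5, 9, 8, 4, 5, 7, 6, 5, 4, 3, 2, 1, 8, 4, 3, 2, 5, 4, 6, 8, 9, 8, 4, 3, 2, 5, 4, 3, 6, 5, 7, 6, 8, 4, 5, 9, 8, 4, 3, 2]⟩],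 0⟩ : Der))) (ndA (nat_lit 399) (lfA (⟨2, 0, 0, [], [⟨0, [789, 794], 788, 0, []⟩], 0⟩ : Der)) (lfA (⟨2, 0, 0, [], [⟨0, [781, 796], 780, 0, []⟩], 0⟩ : Der))))))
noncomputable def DT25 : ℕ → Der := (ndA (nat_lit 408) (ndA (nat_lit 404) (ndA (nat_lit 402) (ndA (nat_lit 401) (lfA (⟨2, 0, 0, [], [⟨0, [789, 781, 799, 795, 789, 780, 788, 794, 798, 780], 788, 0, []⟩], 0⟩ : Der)) (lfA (⟨2, 0, 0, [], [⟨0, [787, 801, 783, 801, 797, 780, 796, 800, 782, 800], 786, 0, []⟩], 0⟩ : Der))) (ndA (nat_lit 403) (lfA (⟨2, 0, 0, [], [⟨0, [803, 797, 779, 788, 801, 793, 780, 792, 800, 789, 778, 796], 802, 0, []⟩], 0⟩ : Der)) (lfA (⟨2, 0, 0, [], [⟨0, [803, 805, 801,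 805, 803, 800, 802, 804, 800, 804], 802, 0, []⟩], 0⟩ : Der)))) (ndA (nat_lit 406) (ndA (nat_lit 405) (lfA (⟨2, 0, 0, [], [⟨0, [801, 805, 803, 783, 801, 807, 803, 780, 802, 806, 800, 782, 802, 804], 800, 0, []⟩], 0⟩ : Der)) (lfA (⟨0, 0, 0, [], [], 1⟩ : Der))) (ndA (nat_lit 407) (lfA (⟨2, 0, 0, [], [⟨0, [], 811, 1, [8]⟩, ⟨0, [244], 810, 1, []⟩], 1⟩ : Der)) (lfA (⟨2, 0, 0, [], [⟨0, [], 811, 1, [11]⟩, ⟨0, [246], 810, 1, []⟩], 1⟩ : Der))))) (ndA (nat_lit 412) (ndA (nat_lit 410) (ndA (nat_lit 409) (lfA (⟨2, 0, 0, [], [⟨0, [], 811, 1, [6, 5, 4, 8, 3, 4, 8, 9, 11, 5, 4, 8, 9, 6, 3, 4, 8, 5, 4, 6, 5, 3, 4, 8, 9, 11, 2, 3, 4, 8, 9, 11, 5, 4, 8, 6,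 5, 4, 3, 4, 8, 5, 4, 6, 5, 2, 3, 4, 8, 7, 6, 5, 4, 8, 9, 3, 4, 8, 5, 2, 3, 4, 8, 9, 5]⟩, ⟨0, [248], 810, 1, []⟩], 1⟩ : Der)) (lfA (⟨2, 0, 0, [], [⟨0, [], 811, 1, [4, 5, 4, 3, 4, 5]⟩, ⟨0, [250], 810, 1, []⟩], 1⟩ : Der))) (ndA (nat_lit 411) (lfA (⟨2, 0, 0, [], [⟨0, [], 811, 1, [4, 8, 9, 11, 5, 4, 8, 9, 3, 4, 8, 9, 11, 5, 4, 8, 9, 6, 5, 4, 8, 3, 4, 5, 6, 2, 3, 4, 8, 9, 11, 5, 4, 8, 9, 6, 3, 4, 8, 5, 4, 6, 5, 3, 4, 8, 2, 7, 6, 5, 4, 8, 9, 11, 3, 4, 8, 9, 5, 4, 8, 6, 5, 7, 6, 2, 3, 4, 8, 5, 4, 6, 5, 7, 3]⟩, ⟨0, [254], 810, 1, []⟩], 1⟩ : Der)) (lfA (⟨2, 0, 0, [], [⟨0, [], 811, 1, [11, 9, 11, 8, 9, 11, 5, 4, 8, 9, 11, 6, 3, 4, 8, 9, 5, 2, 3, 4,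 8, 5, 4, 6, 5, 3, 4, 2, 3, 7, 6, 5, 4, 8, 9, 11, 3, 4, 8, 5, 4, 6, 7, 2, 3, 4, 8, 9, 11, 5, 4, 8, 6, 5, 4, 7, 6, 5]⟩, ⟨0, [256], 810, 1, []⟩], 1⟩ : Der)))) (ndA (nat_lit 414) (ndA (nat_lit 413) (lfA (⟨2, 0, 0, [], [⟨0, [], 811, 1, [9, 8, 9, 5, 4, 6, 5, 7, 6, 5, 3, 4, 8, 9, 5, 2, 3, 4, 8, 9, 5, 4, 8, 6, 5, 4, 3, 4, 8, 9, 5, 4, 8, 6, 5, 7, 6, 2, 3, 11, 9, 8, 4, 5, 3, 4, 8, 9, 11, 2, 3, 4]⟩, ⟨0, [266], 810, 1, []⟩], 1⟩ : Der)) (lfA (⟨2, 0, 0, [], [⟨0, [], 812, 1, []⟩], 1⟩ : Der))) (ndA (nat_lit 415) (lfA (⟨2, 0, 0, [], [⟨0, [], 814, 1, []⟩], 1⟩ : Der)) (lfA (⟨2, 0, 0, [], [⟨0, [823, 814], 822, 1, []⟩], 1⟩ : Der))))))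
noncomputable def DT26 : ℕ → Der := (ndA (nat_lit 424) (ndA (nat_lit 420) (ndA (nat_lit 418) (ndA (nat_lit 417) (lfA (⟨2, 0, 0, [], [⟨0, [824, 830], 825, 1, [4, 3, 2, 11, 9, 8, 4, 3, 5, 4, 8, 9, 11, 3, 2, 6, 7, 5, 6, 8, 4, 5, 9, 8, 4, 3, 4, 5, 6, 8, 4, 5, 9, 8, 4, 3, 2, 5, 9, 8, 4, 3, 5, 6, 7, 5, 6, 4, 5, 9, 8, 9]⟩], 1⟩ : Der)) (lfA (⟨2, 0, 0, [], [⟨0, [819, 832], 818, 1, []⟩], 1⟩ : Der))) (ndA (nat_lit 419) (lfA (⟨2, 0, 0, [], [⟨0, [817, 824, 813, 818, 812, 825], 816, 1, []⟩], 1⟩ : Der)) (lfA (⟨2, 0, 0, [], [⟨0, [837, 833, 818, 832], 836, 1, []⟩], 1⟩ : Der)))) (ndA (nat_lit 422) (ndA (nat_lit 421) (lfA (⟨2, 0, 0, [], [⟨0, [824, 839, 835,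 825, 839, 836, 838, 824, 834, 838], 825, 1, [4, 3, 2, 11, 9, 8, 4, 3, 5, 4, 8, 9, 11, 3, 2, 6, 7, 5, 6, 8, 4, 5, 9, 8, 4, 3, 4, 5, 6, 8, 4, 5, 9, 8, 4, 3, 2, 5, 9, 8, 4, 3, 5, 6, 7, 5, 6, 4, 5, 9, 8, 9]⟩], 1⟩ : Der)) (lfA (⟨2, 0, 0, [], [⟨0, [824, 815, 835, 821, 838, 820, 834, 814], 825, 1, [4, 3, 2, 11, 9, 8, 4, 3, 5, 4, 8, 9, 11, 3, 2, 6, 7, 5, 6, 8, 4, 5, 9, 8, 4, 3, 4, 5, 6, 8, 4, 5, 9, 8, 4, 3, 2, 5, 9, 8, 4, 3, 5, 6, 7, 5, 6, 4, 5, 9, 8, 9]⟩], 1⟩ : Der))) (ndA (nat_lit 423) (lfA (⟨2, 0, 0, [], [⟨0, [841, 843, 837, 843, 839, 843, 813, 825, 840, 824, 812, 842, 838, 842, 836, 842], 840, 1, []⟩], 1⟩ : Der)) (lfA (⟨0, 0, 0, [], [], 0⟩ :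 Der))))) (ndA (nat_lit 428) (ndA (nat_lit 426) (ndA (nat_lit 425) (lfA (⟨2, 0, 0, [], [⟨0, [], 847, 0, [1, 2, 3, 2, 1, 4, 5, 4, 6, 5, 4, 3, 8, 4, 3, 2, 1, 5, 4, 3, 6, 5, 4, 8, 4, 5, 6, 9, 8, 4, 3, 2, 1, 5, 4, 6, 5, 8, 4, 3, 2, 9, 8, 4, 3, 5, 4, 8, 9, 7, 6, 5, 4, 3, 2, 1, 8, 4, 3, 2, 5, 4, 3, 6, 7, 8, 9, 8, 4, 3, 2, 1, 5, 4, 3, 2, 6, 8]⟩, ⟨0, [282], 846, 0, []⟩], 0⟩ : Der)) (lfA (⟨2, 0, 0, [], [⟨0, [], 847, 0, [2, 4, 3, 2, 1, 5, 4, 8, 4, 3, 2, 1, 5, 4, 6, 8, 9, 8, 4, 3, 2, 1, 5, 4, 3, 6, 5, 4, 8, 4, 3, 5, 4, 6, 5, 7, 6, 5, 4, 3, 2, 1, 8, 4, 3, 2, 5, 4, 3, 6, 5, 7, 8, 9, 8, 4, 3, 2, 5, 4, 3, 8, 4]⟩, ⟨0, [286], 846, 0, []⟩], 0⟩ : Der))) (ndA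 (nat_lit 427) (lfA (⟨2, 0, 0, [], [⟨0, [], 847, 0, [1, 3, 4, 3, 2, 5, 4, 3, 2, 6, 8, 4, 3, 2, 1, 5, 4, 3, 2, 6, 5, 4, 8, 4, 3, 2, 5, 4, 3, 6, 5, 9, 8, 4, 3, 2, 5, 4, 3, 6, 5, 4, 8, 4, 3, 5, 4, 9, 8, 4, 3, 7, 6, 5, 4, 3, 2, 1, 8, 4, 5, 6, 7, 9, 8, 4, 3, 5, 4, 6, 5, 8, 4, 3, 2, 9]⟩, ⟨0, [288], 846, 0, []⟩], 0⟩ : Der)) (lfA (⟨2, 0, 0, [], [⟨0, [], 847, 0, [4, 3, 2, 6, 8, 4, 3, 2, 5, 9, 8, 4, 3, 2, 1, 5, 4, 3, 2, 6, 5, 4, 3, 8, 4, 5, 6, 9, 8, 4, 5, 7, 6, 5, 4, 3, 2, 1, 8, 4, 3, 2, 5, 4, 3, 6, 7, 9, 8, 4, 3, 2, 1, 5, 4, 6, 5, 7, 6, 8, 4, 3, 2, 5]⟩, ⟨0, [290], 846, 0, []⟩], 0⟩ : Der)))) (ndA (nat_lit 430) (ndA (nat_lit 429) (lfA (⟨2, 0, 0, [],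 [⟨0, [], 847, 0, [8, 4, 5, 2, 3, 4, 8, 6, 7, 5, 6, 4, 5, 2, 3, 4, 8, 9, 6, 3, 4, 5, 2, 3, 4, 8, 1, 2, 3, 4, 5, 6, 7, 8, 9, 6, 5, 4, 8, 3, 4, 5, 6, 2, 3, 4, 5, 1, 2, 3, 4, 8, 9, 5, 6, 3, 4, 5, 1, 2, 3, 4, 8, 3, 4, 5, 3, 4, 3]⟩, ⟨0, [300], 846, 0, []⟩], 0⟩ : Der)) (lfA (⟨2, 0, 0, [], [⟨0, [856, 850, 854, 856, 850, 854, 856, 850], 854, 0, []⟩], 0⟩ : Der))) (ndA (nat_lit 431) (lfA (⟨2, 0, 0, [], [⟨0, [], 858, 0, []⟩], 0⟩ : Der)) (lfA (⟨2, 0, 0, [], [⟨0, [857, 855, 858, 854], 856, 0, []⟩], 0⟩ : Der))))))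
noncomputable def DT27 : ℕ → Der := (ndA (nat_lit 440) (ndA (nat_lit 436) (ndA (nat_lit 434) (ndA (nat_lit 433) (lfA (⟨2, 0, 0, [], [⟨0, [855, 862], 854, 0, []⟩], 0⟩ : Der)) (lfA (⟨2, 0, 0, [], [⟨0, [853, 862], 852, 0, []⟩], 0⟩ : Der))) (ndA (nat_lit 435) (lfA (⟨2, 0, 0, [], [⟨0, [857, 855, 866, 854], 856, 0, []⟩], 0⟩ : Der)) (lfA (⟨2, 0, 0, [], [⟨0, [851, 856, 869, 854, 848, 855, 868, 857], 850, 0, []⟩], 0⟩ : Der)))) (ndA (nat_lit 438) (ndA (nat_lit 437) (lfA (⟨2, 0, 0, [], [⟨0, [871, 857, 871, 859, 850, 858, 870, 856], 870, 0, []⟩], 0⟩ : Der)) (lfA (⟨2, 0, 0, [], [⟨0, [871, 873, 853, 871, 863, 873, 871, 863, 873, 865, 852, 864, 872, 862,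 870, 872, 862, 870, 852, 872], 870, 0, []⟩], 0⟩ : Der))) (ndA (nat_lit 439) (lfA (⟨2, 0, 0, [], [⟨0, [873, 863, 873, 859, 857, 871, 863, 869, 874, 868, 862, 870, 856, 858, 872, 862], 872, 0, []⟩], 0⟩ : Der)) (lfA (⟨2, 0, 0, [], [⟨0, [871, 873, 877, 875, 877, 873, 871, 875, 877, 869, 875, 871, 863, 865, 852, 864, 862, 870, 874, 868, 876, 874, 870, 872, 876, 874, 876, 872], 870, 0, []⟩], 0⟩ : Der))))) (ndA (nat_lit 444) (ndA (nat_lit 442) (ndA (nat_lit 441) (lfA (⟨0, 0, 0, [], [], 1⟩ : Der)) (lfA (⟨2, 0, 0, [], [⟨0, [], 881, 1, [11, 4, 8, 9, 11, 5, 4, 8, 9, 6, 5, 4, 8, 9, 11, 3, 4, 8, 9, 11, 5, 4, 8, 6, 5, 4]⟩, ⟨0, [312], 880, 1, []⟩], 1⟩ :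 Der))) (ndA (nat_lit 443) (lfA (⟨2, 0, 0, [], [⟨0, [], 881, 1, [2, 3, 4, 5, 8, 4, 3, 2, 3, 5, 6, 4, 5, 9, 8, 4, 3, 11, 9, 8, 4, 5, 6, 7, 6, 5, 9, 8, 4, 3, 2, 11, 9, 8, 4, 3, 5, 6, 9, 8, 4, 5, 11, 9, 8, 4, 3, 2, 4, 5, 11, 9, 8, 4, 3, 11, 9, 8, 4, 5, 8, 11, 9]⟩, ⟨0, [314], 880, 1, []⟩], 1⟩ : Der)) (lfA (⟨2, 0, 0, [], [⟨0, [], 881, 1, [9, 8, 4, 8, 5, 4, 6, 5, 4, 8, 9, 7, 6, 5, 4, 8, 3, 4, 8, 9, 5, 4, 8, 6, 5, 4, 7, 6, 5, 3, 4, 5, 6, 7, 2, 3, 4, 8, 9, 5, 4, 8, 6, 5, 4, 3, 4, 8, 9, 5, 4, 8, 2, 3, 4, 5, 11, 9, 8, 4, 5, 6, 7, 3, 4, 8, 5, 4, 6, 2, 3, 4, 8, 9, 11, 5, 4, 8, 9, 3]⟩, ⟨0, [316], 880, 1, []⟩], 1⟩ : Der)))) (ndA (nat_lit 446) (ndA (nat_lit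 445) (lfA (⟨2, 0, 0, [], [⟨0, [], 881, 1, [2, 11, 9, 8, 4, 3, 6, 7, 5, 6, 8, 4, 5, 9, 8, 4, 3, 2, 6, 5, 9, 8, 4, 3, 11, 9, 8, 4, 5, 6, 7, 8, 4, 5, 6, 9, 8, 4, 5, 11, 9, 8, 4, 3, 2, 5, 8, 4, 3, 5, 6, 8, 4, 5, 9, 8, 4, 3, 4, 5, 6, 9, 8, 4, 5, 11, 9, 8]⟩, ⟨0, [330], 880, 1, []⟩], 1⟩ : Der)) (lfA (⟨2, 0, 0, [], [⟨0, [889, 889, 889, 889], 889, 1, [8, 9, 11, 5, 4, 8, 9, 6, 5, 4, 3, 4, 8, 9, 5, 4, 8, 6, 5, 3, 4, 8, 5, 2, 3, 4, 8, 9, 11, 5, 4, 8, 9, 6, 5, 4, 8, 7, 6, 5, 4, 8, 9, 11, 3, 4, 8, 9, 5, 6, 2, 3, 4, 8, 9, 5, 4, 8, 6, 5, 7, 6, 3, 4, 8, 9, 11, 2]⟩], 1⟩ : Der))) (ndA (nat_lit 447) (lfA (⟨2, 0, 0, [], [⟨0, [884, 883, 890, 882], 885, 1, [9,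 11, 8, 5, 4, 8, 9, 11, 3, 4, 8, 9, 11, 5, 4, 2, 3, 4, 8, 9, 11, 5, 4, 8, 9, 6, 5, 3, 4, 8, 9, 11, 2, 3, 4, 8, 9, 5, 6, 7, 6, 5, 4, 8, 9, 11, 3, 4, 8, 9, 5, 4, 6, 5, 3, 2, 3, 4, 8, 5, 4, 3, 2]⟩], 1⟩ : Der)) (lfA (⟨2, 0, 0, [], [⟨0, [884, 892], 885, 1, [9, 11, 8, 5, 4, 8, 9, 11, 3, 4, 8, 9, 11, 5, 4, 2, 3, 4, 8, 9, 11, 5, 4, 8, 9, 6, 5, 3, 4, 8, 9, 11, 2, 3, 4, 8, 9, 5, 6, 7, 6, 5, 4, 8, 9, 11, 3, 4, 8, 9, 5, 4, 6, 5, 3, 2, 3, 4, 8, 5, 4, 3, 2]⟩], 1⟩ : Der))))))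
noncomputable def DT28 : ℕ → Der := (ndA (nat_lit 456) (ndA (nat_lit 452) (ndA (nat_lit 450) (ndA (nat_lit 449) (lfA (⟨2, 0, 0, [], [⟨0, [888, 892], 889, 1, [8, 9, 11, 5, 4, 8, 9, 6, 5, 4, 3, 4, 8, 9, 5, 4, 8, 6, 5, 3, 4, 8, 5, 2, 3, 4, 8, 9, 11, 5, 4, 8, 9, 6, 5, 4, 8, 7, 6, 5, 4, 8, 9, 11, 3, 4, 8, 9, 5, 6, 2, 3, 4, 8, 9, 5, 4, 8, 6, 5, 7, 6, 3, 4, 8, 9, 11, 2]⟩], 1⟩ : Der)) (lfA (⟨2, 0, 0, [], [⟨0, [885, 883, 892, 882], 884, 1, []⟩], 1⟩ : Der))) (ndA (nat_lit 451) (lfA (⟨2, 0, 0, [], [⟨0, [887, 898], 886, 1, []⟩], 1⟩ : Der)) (lfA (⟨2, 0, 0, [], [⟨0, [884, 884, 887, 895, 882, 894, 886, 885], 885, 1, [9, 11, 8, 5, 4, 8, 9, 11, 3, 4, 8, 9,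 11, 5, 4, 2, 3, 4, 8, 9, 11, 5, 4, 8, 9, 6, 5, 3, 4, 8, 9, 11, 2, 3, 4, 8, 9, 5, 6, 7, 6, 5, 4, 8, 9, 11, 3, 4, 8, 9, 5, 4, 6, 5, 3, 2, 3, 4, 8, 5, 4, 3, 2]⟩], 1⟩ : Der)))) (ndA (nat_lit 454) (ndA (nat_lit 453) (lfA (⟨2, 0, 0, [], [⟨0, [884, 895, 902, 894], 885, 1, [9, 11, 8, 5, 4, 8, 9, 11, 3, 4, 8, 9, 11, 5, 4, 2, 3, 4, 8, 9, 11, 5, 4, 8, 9, 6, 5, 3, 4, 8, 9, 11, 2, 3, 4, 8, 9, 5, 6, 7, 6, 5, 4, 8, 9, 11, 3, 4, 8, 9, 5, 4, 6, 5, 3, 2, 3, 4, 8, 5, 4, 3, 2]⟩], 1⟩ : Der)) (lfA (⟨2, 0, 0, [], [⟨0, [903, 883, 905, 903, 895, 893, 882, 892, 894, 902, 904, 882], 902, 1, []⟩], 1⟩ : Der))) (ndA (nat_lit 455) (lfA (⟨2, 0, 0, [], [⟨0, [907, 903, 905,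 893, 888, 905, 907, 895, 897, 882, 896, 894, 906, 904, 889, 892, 904, 902], 906, 1, []⟩], 1⟩ : Der)) (lfA (⟨2, 0, 0, [], [⟨0, [907, 903, 905, 903, 909, 897, 884, 907, 908, 906, 885, 896, 908, 902, 904, 902], 906, 1, []⟩], 1⟩ : Der))))) (ndA (nat_lit 460) (ndA (nat_lit 458) (ndA (nat_lit 457) (lfA (⟨0, 0, 0, [], [], 1⟩ : Der)) (lfA (⟨2, 0, 0, [], [⟨0, [], 913, 1, [7, 10, 7, 6, 5, 8, 4, 3, 2, 7, 6, 4, 5, 8, 4, 3, 9, 8, 4, 5, 6, 7, 10, 4, 5, 8, 4, 3, 2, 6, 5, 8, 4, 3, 7, 5, 6, 8, 4, 5, 9, 8, 4, 3, 2, 6, 5, 8, 4, 3, 7, 5, 6, 8, 4, 5, 9, 8, 4, 3, 9, 8, 4, 5, 6, 7, 4, 5, 6, 9, 8, 4, 5, 4]⟩, ⟨0, [354], 912, 1, []⟩], 1⟩ : Der))) (ndA (nat_lit 459)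 (lfA (⟨2, 0, 0, [], [⟨0, [], 913, 1, [10, 2, 6, 7, 5, 6, 4, 5, 8, 4, 3, 9, 8, 4, 5, 6, 7, 10, 3, 4, 5, 9, 8, 4, 3, 2, 6, 7, 5, 6, 4, 5, 8, 4, 3, 9, 8, 4, 5, 6, 7, 9, 8, 4, 3, 4, 5, 6, 8, 4, 5, 9, 8, 4, 3, 2, 4, 3, 8, 4, 5, 9, 8, 4, 3, 5, 6, 9, 8, 4, 5, 4, 9, 8]⟩, ⟨0, [356], 912, 1, []⟩], 1⟩ : Der)) (lfA (⟨2, 0, 0, [], [⟨0, [], 913, 1, [8, 5, 4, 8, 7, 6, 5, 3, 4, 8, 9, 5, 4, 8, 6, 5, 4, 3, 4, 8, 9, 5, 4, 8, 6, 5, 2, 3, 4, 8, 9, 5, 4, 8, 6, 5, 4, 7, 6, 3, 4, 8, 5, 4, 6, 5, 3, 2, 3, 4, 8, 9, 5, 6, 7, 10, 7, 6, 5, 4, 8, 9, 3, 4, 8, 5, 4, 6, 3, 2, 3, 4]⟩, ⟨0, [358], 912, 1, []⟩], 1⟩ : Der)))) (ndA (nat_lit 462) (ndA (nat_lit 461) (lfA (⟨2, 0,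 0, [], [⟨0, [], 913, 1, [10, 6, 5, 8, 4, 3, 2, 7, 6, 5, 8, 4, 3, 9, 8, 4, 5, 6, 7, 10, 6, 5, 4, 3, 2, 7, 6, 4, 5, 8, 4, 3, 9, 8, 4, 5, 6, 7, 3, 8, 4, 5, 9, 8, 4, 3, 2, 3, 6, 4, 5, 8, 4, 3, 6, 4, 5, 8]⟩, ⟨0, [360], 912, 1, []⟩], 1⟩ : Der)) (lfA (⟨2, 0, 0, [], [⟨0, [], 913, 1, [8, 4, 8, 5, 4, 8, 6, 5, 4, 8, 7, 6, 5, 4, 3, 4, 8, 9, 5, 4, 8, 6, 3, 4, 2, 3, 4, 8, 9, 5, 4, 8, 6, 5, 4, 7, 6, 3, 4, 8, 9, 5, 4, 8, 2, 3, 4, 8, 5, 4, 10, 7, 6, 5, 4, 8, 9, 3, 4, 8, 5, 4, 6, 5, 7, 6, 3, 2, 3, 4, 8, 10]⟩, ⟨0, [362], 912, 1, []⟩], 1⟩ : Der))) (ndA (nat_lit 463) (lfA (⟨2, 0, 0, [], [⟨0, [], 913, 1, [9, 8, 9, 4, 8, 5, 4, 8, 6, 7, 3, 4, 8, 9, 5, 4, 8, 6, 5,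 4, 7, 6, 3, 4, 8, 9, 5, 4, 6, 7, 2, 3, 4, 8, 9, 5, 4, 8, 6, 5, 4, 7, 6, 5, 3, 4, 8, 9, 5, 4, 6, 5, 2, 3, 4, 8, 5, 4, 6, 10, 7, 6, 5, 4, 8, 9, 3, 4, 8, 5, 4, 6, 5, 7, 6, 3, 4, 5, 2, 10]⟩, ⟨0, [372], 912, 1, []⟩], 1⟩ : Der)) (lfA (⟨2, 0, 0, [], [⟨0, [921, 921, 923, 924, 922, 925, 922, 920], 920, 1, []⟩], 1⟩ : Der))))))
noncomputable def DT29 : ℕ → Der := (ndA (nat_lit 472) (ndA (nat_lit 468) (ndA (nat_lit 466) (ndA (nat_lit 465) (lfA (⟨2, 0, 0, [], [⟨0, [927, 914, 927, 917, 927, 922, 926, 916, 926, 915], 926, 1, []⟩], 1⟩ : Der)) (lfA (⟨2, 0, 0, [], [⟨0, [929, 920, 929, 927, 917, 929, 926, 928, 916, 926, 928, 921], 928, 1, []⟩], 1⟩ : Der)))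 (ndA (nat_lit 467) (lfA (⟨2, 0, 0, [], [⟨0, [929, 927, 931, 929, 927, 930, 926, 928, 930, 926], 928, 1, []⟩], 1⟩ : Der)) (lfA (⟨2, 0, 0, [], [⟨0, [933, 927, 930, 926], 932, 1, []⟩], 1⟩ : Der)))) (ndA (nat_lit 470) (ndA (nat_lit 469) (lfA (⟨2, 0, 0, [], [⟨0, [927, 933, 929, 933, 917, 927, 934, 926, 916, 932, 928, 932], 926, 1, []⟩], 1⟩ : Der)) (lfA (⟨2, 0, 0, [], [⟨0, [933, 937, 932, 936], 932, 1, []⟩], 1⟩ : Der))) (ndA (nat_lit 471) (lfA (⟨2, 0, 0, [], [⟨0, [927, 929, 938, 928], 926, 1, []⟩], 1⟩ : Der)) (lfA (⟨2, 0, 0, [], [⟨0, [937, 927, 936, 926], 936, 1, []⟩], 1⟩ : Der))))) (ndA (nat_lit 476) (ndA (nat_lit 474) (ndA (nat_lit 473) (lfA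 (⟨2, 0, 0, [], [⟨0, [927, 937, 926, 936], 926, 1, []⟩], 1⟩ : Der)) (lfA (⟨2, 0, 0, [], [⟨0, [927, 945, 928, 944], 926, 1, []⟩], 1⟩ : Der))) (ndA (nat_lit 475) (lfA (⟨2, 0, 0, [], [⟨0, [937, 933, 936, 932], 936, 1, []⟩], 1⟩ : Der)) (lfA (⟨2, 0, 0, [], [⟨0, [919, 933, 947, 927, 949, 940, 948, 926, 946, 932], 918, 1, []⟩], 1⟩ : Der)))) (ndA (nat_lit 478) (ndA (nat_lit 477) (lfA (⟨2, 0, 0, [], [⟨0, [937, 927, 950, 926], 936, 1, []⟩], 1⟩ : Der)) (lfA (⟨2, 0, 0, [], [⟨0, [927, 933, 952, 932], 926, 1, []⟩], 1⟩ : Der))) (ndA (nat_lit 479) (lfA (⟨2, 0, 0, [], [⟨0, [949, 947, 954, 946], 948, 1, []⟩], 1⟩ : Der)) (lfA (⟨2, 0, 0, [], [⟨0, [929, 927, 956,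 926], 928, 1, []⟩], 1⟩ : Der))))))
noncomputable def DT30 : ℕ → Der := (ndA (nat_lit 488) (ndA (nat_lit 484) (ndA (nat_lit 482) (ndA (nat_lit 481) (lfA (⟨2, 0, 0, [], [⟨0, [933, 937, 954, 936], 932, 1, []⟩], 1⟩ : Der)) (lfA (⟨0, 0, 0, [], [], 0⟩ : Der))) (ndA (nat_lit 483) (lfA (⟨2, 0, 0, [], [⟨0, [], 963, 0, [7, 10, 9, 4, 8, 6, 7, 5, 6, 4, 5, 3, 4, 8, 2, 3, 4, 5, 6, 7, 10, 5, 3, 4, 8, 9, 6, 5, 3, 4, 8, 2, 3, 4, 5, 6, 7, 8, 9, 6, 5, 4, 8, 3, 4, 5, 2, 3, 4, 8, 9, 5, 4, 8, 6, 3, 4, 5, 2, 3, 4, 8, 4, 5, 6, 3, 4, 5, 2, 3, 4, 2, 3, 2]⟩, ⟨0, [380], 962, 0, []⟩], 0⟩ : Der)) (lfA (⟨2, 0, 0, [], [⟨0, [], 963, 0, [7, 10, 3, 4, 8, 6, 7, 5, 6, 4, 5,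 3, 4, 8, 2, 3, 4, 5, 6, 7, 10, 4, 8, 6, 7, 5, 6, 4, 5, 3, 4, 8, 9, 8, 6, 4, 5, 3, 4, 8, 2, 3, 4, 5, 6, 7, 2, 3, 4, 8, 4, 5, 6, 3, 4, 5, 2, 3, 4, 8, 9, 5, 2, 3, 4, 2, 3, 2]⟩, ⟨0, [382], 962, 0, []⟩], 0⟩ : Der)))) (ndA (nat_lit 486) (ndA (nat_lit 485) (lfA (⟨2, 0, 0, [], [⟨0, [], 963, 0, [10, 5, 6, 4, 5, 2, 3, 4, 8, 9, 7, 6, 5, 3, 4, 8, 2, 3, 4, 5, 6, 7, 10, 3, 4, 8, 9, 8, 4, 5, 3, 4, 8, 2, 3, 4, 5, 6, 7, 9, 8, 6, 4, 5, 3, 4, 8, 9, 8, 6, 4, 5, 3, 4, 8, 5, 6, 2, 3, 4, 5, 2, 3, 4, 3, 2]⟩, ⟨0, [384], 962, 0, []⟩], 0⟩ : Der)) (lfA (⟨2, 0, 0, [], [⟨0, [], 963, 0, [10, 7, 6, 5, 4, 8, 9, 8, 4, 5, 3, 4, 8, 2, 3, 4, 5, 6, 7, 10, 7, 6, 5, 4, 8, 9, 6,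 4, 5, 3, 4, 8, 5, 6, 7, 4, 5, 6, 3, 4, 5, 2, 3, 4, 8, 9, 6, 5, 4, 8, 5, 6, 3, 4, 5, 2, 3, 4, 8, 3, 4, 5, 6, 7, 4, 5, 6, 2, 3, 4, 5, 3, 4, 2]⟩, ⟨0, [394], 962, 0, []⟩], 0⟩ : Der))) (ndA (nat_lit 487) (lfA (⟨2, 0, 0, [], [⟨0, [965, 967, 967], 967, 0, [2, 3, 2, 4, 3, 2, 5, 9, 8, 4, 3, 2, 5, 4, 3, 6, 5, 4, 8, 4, 3, 2, 7, 6, 5, 4, 3, 2, 8, 4, 3, 5, 4, 6, 8, 9, 8, 4, 3, 5, 4, 6, 5, 7, 6, 8, 4, 10, 7, 6, 5, 4, 3, 2, 8, 4, 3, 5, 4, 6, 5, 7, 6, 8, 4, 3, 10, 7]⟩], 0⟩ : Der)) (lfA (⟨2, 0, 0, [], [⟨0, [973, 965, 970, 969, 972, 968, 971, 964], 972, 0, []⟩], 0⟩ : Der))))) (ndA (nat_lit 492) (ndA (nat_lit 490) (ndA (nat_lit 489) (lfA (⟨2, 0, 0, [], [⟨0,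 [975, 973, 975, 968, 975, 971, 975, 972, 974, 970, 974, 969, 974, 972], 974, 0, []⟩], 0⟩ : Der)) (lfA (⟨2, 0, 0, [], [⟨0, [966, 975, 966, 975, 976, 974, 967, 974], 967, 0, [2, 3, 2, 4, 3, 2, 5, 9, 8, 4, 3, 2, 5, 4, 3, 6, 5, 4, 8, 4, 3, 2, 7, 6, 5, 4, 3, 2, 8, 4, 3, 5, 4, 6, 8, 9, 8, 4, 3, 5, 4, 6, 5, 7, 6, 8, 4, 10, 7, 6, 5, 4, 3, 2, 8, 4, 3, 5, 4, 6, 5, 7, 6, 8, 4, 3, 10, 7]⟩], 0⟩ : Der))) (ndA (nat_lit 491) (lfA (⟨2, 0, 0, [], [⟨0, [979, 977, 973, 975, 973, 975, 976, 974, 972, 974, 972, 976], 978, 0, []⟩], 0⟩ : Der)) (lfA (⟨2, 0, 0, [], [⟨0, [981, 979, 980, 978], 980, 0, []⟩], 0⟩ : Der)))) (ndA (nat_lit 494) (ndA (nat_lit 493) (lfA (⟨2,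 0, 0, [], [⟨0, [979, 981, 978, 980], 978, 0, []⟩], 0⟩ : Der)) (lfA (⟨2, 0, 0, [], [⟨0, [977, 985, 981, 976, 980, 984], 976, 0, []⟩], 0⟩ : Der))) (ndA (nat_lit 495) (lfA (⟨2, 0, 0, [], [⟨0, [977, 983, 975, 976, 974, 982], 976, 0, []⟩], 0⟩ : Der)) (lfA (⟨2, 0, 0, [], [⟨0, [979, 981, 988, 980], 978, 0, []⟩], 0⟩ : Der))))))
noncomputable def DT31 : ℕ → Der := (ndA (nat_lit 504) (ndA (nat_lit 500) (ndA (nat_lit 498) (ndA (nat_lit 497) (lfA (⟨2, 0, 0, [], [⟨0, [979, 985, 977, 983, 981, 976, 980, 982, 976, 984], 978, 0, []⟩], 0⟩ : Der)) (lfA (⟨2, 0, 0, [], [⟨0, [993, 981, 976, 980], 992, 0, []⟩], 0⟩ : Der))) (ndA (nat_lit 499) (lfA (⟨2, 0, 0, [],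 [⟨0, [975, 995, 988, 994], 974, 0, []⟩], 0⟩ : Der)) (lfA (⟨2, 0, 0, [], [⟨0, [975, 973, 985, 979, 992, 978, 984, 972], 974, 0, []⟩], 0⟩ : Der)))) (ndA (nat_lit 502) (ndA (nat_lit 501) (lfA (⟨2, 0, 0, [], [⟨0, [975, 999, 974, 998], 974, 0, []⟩], 0⟩ : Der)) (lfA (⟨2, 0, 0, [], [⟨0, [975, 1001, 990, 1000], 974, 0, []⟩], 0⟩ : Der))) (ndA (nat_lit 503) (lfA (⟨2, 0, 0, [], [⟨0, [981, 995, 1002, 994], 980, 0, []⟩], 0⟩ : Der)) (lfA (⟨2, 0, 0, [], [⟨0, [995, 979, 1004, 978], 994, 0, []⟩], 0⟩ : Der))))) (ndA (nat_lit 508) (ndA (nat_lit 506) (ndA (nat_lit 505) (lfA (⟨2, 0, 0, [], [⟨0, [999, 975, 1006, 974], 998, 0, []⟩], 0⟩ : Der)) (lfA (⟨2, 0, 0, [],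 [⟨0, [], 18, 0, []⟩], 1⟩ : Der))) (ndA (nat_lit 507) (lfA (⟨2, 0, 0, [], [⟨0, [], 38, 0, []⟩, ⟨0, [], 468, 1, [11, 8, 9, 4, 5, 4, 8, 9, 3, 4, 8, 9, 11, 5, 4, 8, 6, 3, 4, 5, 2, 3, 4, 8, 5, 4, 6, 5, 3, 4, 8, 7, 6, 5, 4, 8, 3, 4, 2, 10, 7, 6, 5, 4, 8, 9, 11, 3]⟩], 1⟩ : Der)) (lfA (⟨2, 0, 0, [], [⟨0, [], 419, 0, []⟩, ⟨0, [], 912, 1, [11, 9, 4, 8, 9, 5, 4, 8, 6, 5, 3, 4, 2, 3, 4, 8, 9, 5, 4, 8, 6, 5, 3, 4, 8, 9, 11, 2, 7, 6, 5, 4, 8, 9, 11, 3, 4, 8, 9, 5, 4, 8, 6, 7, 2, 3, 4, 8, 9, 11, 5, 4, 8, 9, 6, 5, 4, 7, 3, 4, 2, 3, 10, 7, 6, 5, 4, 8, 9, 11, 3, 4, 8, 9, 5, 4, 8, 6, 7, 3, 2, 3, 4, 8, 9, 11, 5, 4, 8, 6, 5, 4, 7, 6, 3, 4, 5, 2, 3, 4, 8, 9, 11]⟩],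 1⟩ : Der)))) (ndA (nat_lit 510) (ndA (nat_lit 509) (lfA (⟨2, 0, 0, [], [⟨0, [], 19, 1, []⟩], 0⟩ : Der)) (lfA (⟨2, 0, 0, [], [⟨0, [], 64, 1, []⟩, ⟨0, [], 508, 0, [3, 2, 4, 7, 9, 10, 7, 6, 5, 4, 3, 8, 4, 9, 8, 1, 2, 3, 4, 5, 6, 7, 8, 4, 3, 5, 4, 6, 9, 8, 4, 3, 5, 4, 8, 9, 10, 7, 6, 5, 4, 3, 2, 1]⟩], 0⟩ : Der))) (ndA (nat_lit 511) (lfA (⟨2, 0, 0, [], [⟨0, [], 431, 1, []⟩, ⟨0, [], 962, 0, [5, 1, 2, 3, 4, 8, 9, 6, 5, 3, 4, 8, 6, 7, 5, 6, 3, 4, 5, 2, 3, 4, 8, 9, 7, 6, 4, 5, 2, 3, 4, 8, 1, 2, 3, 4, 5, 6, 7, 10, 7, 6, 5, 4, 8, 9, 3, 4, 8, 5, 6, 2, 3, 4, 5, 1, 2, 3, 4, 8, 9, 6, 4, 5, 2, 3, 4, 8, 7, 6, 5, 4, 3, 2, 1, 9, 6, 5, 4, 8, 3, 4, 5, 2, 3, 4,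 8, 9, 5, 2, 3, 4, 8, 6, 7, 5, 6, 4, 5, 3, 4, 8, 5, 6, 7, 4, 5, 6, 2, 3, 4, 5, 3, 4]⟩], 0⟩ : Der)) (lfA (⟨2, 0, 0, [], [⟨0, [506, 504, 498, 494, 502, 500, 490, 496, 492, 494, 502, 500, 490, 498, 494, 502, 500, 492, 494, 502, 504], 469, 1, [9, 5, 4, 6, 5, 3, 4, 8, 7, 6, 5, 4, 3, 10, 7, 6, 5, 4, 8, 9, 11]⟩, ⟨0, [], 39, 1, [10, 4, 3, 2, 7, 6, 5, 4, 3, 9, 8, 4, 5, 6, 7, 10, 3, 4, 5, 8, 4, 3, 6, 7, 5, 6, 4, 5, 8, 4, 3, 2, 9, 8, 4, 3, 7, 4, 5, 6, 8, 4, 5, 9, 8, 4, 3, 9, 8, 4, 5, 6, 9, 8, 4, 5]⟩], 0⟩ : Der))))))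
noncomputable def DT32 : ℕ → Der := (ndA (nat_lit 520) (ndA (nat_lit 516) (ndA (nat_lit 514) (ndA (nat_lit 513) (lfA (⟨2, 0, 0, [], [⟨0, [502, 494, 492, 500, 502, 498, 494, 490, 500, 502, 504, 498, 494, 492, 506, 504, 498, 494, 502, 498, 504, 506, 494], 469, 1, [11, 9, 4, 8, 5, 4, 8, 9, 11, 3, 4, 8, 9, 5, 4, 8, 6, 5, 3, 4, 2, 3, 7, 6, 5, 4, 8, 9, 11]⟩, ⟨0, [], 87, 1, [8, 6, 5, 4, 8, 7, 6, 5, 4, 2, 3, 4, 8, 9, 5, 4, 6, 5, 7, 6, 3, 4, 8, 9, 5, 4, 8, 3, 10, 7, 6, 5, 4, 8, 9, 3, 4, 8, 5, 4, 6, 5, 7, 6, 3, 4, 8, 5, 4, 10, 7, 6, 5]⟩, ⟨0, [], 508, 0, [2, 3, 2, 4, 5, 4, 6, 5, 7, 6, 5, 4, 3, 8, 4, 3, 2, 5, 4, 3, 6, 5, 4, 7, 6, 5, 8, 4, 3, 2, 5, 4,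 6, 7, 8, 10, 7, 6, 5, 4, 3, 2, 8, 4, 3, 5, 4, 6, 9, 1, 2, 3, 4, 5, 6, 7, 8, 4, 3, 2, 1, 9, 8]⟩], 0⟩ : Der)) (lfA (⟨2, 0, 0, [], [⟨0, [500, 502, 494, 498, 492, 500, 502, 494, 504, 498, 506, 504], 469, 1, [9, 11, 8, 9, 4, 8, 5, 6, 3, 4, 5, 6, 2, 3, 4, 8, 9, 11, 5, 4, 8, 9, 6, 5, 4, 3, 4, 8, 9, 5, 4, 7, 6, 5, 4, 8, 3, 4, 2, 3, 10, 7, 6, 5, 4, 8, 9, 11]⟩, ⟨0, [], 94, 1, [9, 4, 8, 9, 7, 6, 5, 4, 8, 3, 4, 8, 5, 4, 3, 2, 3, 4, 8, 9, 5, 4, 8, 6, 5, 4, 7, 6, 5, 3, 4, 8, 9, 5, 4, 2, 3, 4, 8, 9, 5, 4, 3, 2, 10, 7, 6, 5, 4, 8, 9, 3, 4, 8, 5, 4, 6, 5, 7, 6, 2, 3, 10]⟩, ⟨0, [], 546, 0, [2, 4, 6, 5, 4, 7, 8, 4, 3, 2, 5, 4, 3, 6, 5, 7, 8, 4, 3, 5, 9, 8,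 4, 3, 2, 5, 4, 3, 6, 5, 7, 6, 8, 4, 3, 5, 4, 8, 9, 1, 2, 3, 4, 5, 6, 7, 8, 4, 3, 2, 5, 6, 9, 8, 4, 3, 5, 4, 6, 7, 8, 10, 7, 6, 5, 4, 3, 2, 1, 8, 4, 3, 2, 5, 4, 3, 6, 9, 8, 4, 3, 2, 5, 4, 3, 6, 5, 7, 6, 8, 4, 3, 5, 9, 8, 4, 3, 2, 1, 10]⟩], 0⟩ : Der))) (ndA (nat_lit 515) (lfA (⟨2, 0, 0, [], [⟨0, [496, 490, 500, 494, 502, 504, 498, 494, 506, 504, 498, 494, 502, 500, 490, 496], 469, 1, [8, 9, 4, 8, 5, 6, 7, 2, 10, 7, 6, 5, 4, 8, 9, 3, 4, 8, 5, 4, 6, 7, 11, 9, 8, 4, 5, 6, 3, 4, 5, 2, 3, 4, 8, 9, 11]⟩, ⟨0, [], 210, 1, [4, 5, 6, 7, 10, 3, 4, 5, 9, 8, 4, 3, 6, 7, 5, 6, 4, 5, 8, 4, 3, 9, 8, 4, 5, 6, 7, 10, 4, 3, 2, 5, 4, 3, 6, 7, 5, 6, 8, 4, 5, 9,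 8, 4, 3, 2, 3, 6, 8, 4, 5, 9, 8, 4, 3, 6, 7, 5, 6, 8, 4, 5, 9, 8, 4, 3, 4, 5, 6, 7, 4, 5, 6, 8, 4, 5, 4, 9, 8]⟩, ⟨0, [], 776, 0, [10, 2, 3, 4, 8, 7, 5, 6, 4, 5, 3, 4, 8, 2, 3, 4, 5, 6, 7, 10, 6, 7, 5, 6, 4, 5, 2, 3, 4, 8, 9, 4, 5, 3, 4, 8, 6, 5, 4, 3, 2, 1, 4, 5, 3, 4, 8, 9, 6, 5, 4, 8, 7, 6, 3, 4, 5, 2, 3, 4, 8, 9, 5, 6, 4, 5, 2, 3, 4, 8, 7, 4, 5, 6, 3, 4, 5, 2, 3, 4, 8, 7, 2, 3, 4, 5, 6, 4, 5, 3, 4, 2, 3]⟩], 0⟩ : Der)) (lfA (⟨2, 0, 0, [], [⟨0, [500, 494, 502, 496, 506], 469, 1, [11, 5, 4, 6, 2, 3, 4, 8, 9, 11, 5, 4, 8, 9, 6, 5, 3, 4, 8, 2, 3, 4, 5, 6, 7, 10, 7, 6, 5, 4, 8, 9, 11, 3, 4, 8, 9, 5, 4, 6, 2, 3, 4, 8, 9, 5, 4, 8, 6, 5, 7, 6,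 3, 4, 5, 2, 3, 4, 8, 9, 11]⟩, ⟨0, [], 350, 1, [8, 9, 5, 4, 8, 6, 5, 3, 4, 8, 9, 5, 4, 8, 6, 5, 4, 7, 3, 4, 8, 5, 4, 6, 5, 7, 2, 3, 4, 8, 9, 5, 4, 8, 6, 5, 4, 7, 6, 5, 3, 4, 8, 5, 4, 2, 3, 4, 8, 10, 7, 6, 5, 4, 8, 9, 3, 4, 8, 5, 4, 6, 5, 7, 6, 2, 3, 4, 8, 5, 6]⟩, ⟨0, [], 688, 0, [2, 3, 4, 3, 2, 8, 4, 3, 2, 1, 5, 4, 3, 2, 6, 8, 4, 3, 5, 4, 6, 8, 9, 8, 4, 3, 2, 1, 5, 4, 3, 2, 6, 5, 8, 4, 3, 9, 8, 4, 5, 6, 7, 6, 5, 4, 3, 2, 1, 8, 4, 3, 2, 5, 4, 6, 8, 9, 8, 4, 3, 2, 5, 4, 3, 6, 5, 7, 8, 4, 3, 2, 5, 9, 8, 4, 10, 7, 6, 5, 4, 3, 2, 1, 8, 4, 3, 2, 5, 4, 6, 5, 7, 8, 4, 9, 8, 4, 3, 5, 4, 6, 8, 10]⟩], 0⟩ : Der)))) (ndA (nat_lit 518) (ndA (nat_lit 517)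 (lfA (⟨2, 0, 0, [], [⟨0, [544, 538, 534, 540, 536, 542, 540, 530, 542, 528, 530, 534, 540, 542, 538], 509, 0, [2, 5, 4, 3, 6, 5, 4, 8, 7, 6, 5, 4, 3, 2, 1]⟩, ⟨0, [], 65, 0, [4, 8, 9, 7, 6, 5, 4, 8, 3, 4, 5, 6, 7, 10, 8, 4, 5, 3, 4, 8, 6, 7, 5, 6, 4, 5, 3, 4, 8, 9, 6, 5, 4, 8, 7, 4, 5, 6, 3, 4, 5, 2, 3, 4, 8, 6, 7, 4, 5, 6, 3, 4, 5, 2, 3, 4, 8, 2, 3, 4, 5, 6, 7, 2, 3, 4, 5, 6]⟩], 1⟩ : Der)) (lfA (⟨2, 0, 0, [], [⟨0, [542, 530, 528, 532, 540, 542, 534, 540, 536, 538, 534, 540, 542, 530, 528, 534, 540, 542, 544, 538, 540, 534], 509, 0, [3, 2, 1, 4, 5, 4, 3, 7, 6, 5, 4, 3, 2, 8, 4, 3, 5, 4, 9, 8, 10, 7, 6, 5, 4, 3, 2, 1]⟩, ⟨0, [], 86, 0, [3, 4,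 3, 2, 5, 6, 5, 7, 6, 5, 4, 8, 4, 3, 5, 4, 6, 8, 9, 8, 4, 3, 2, 5, 4, 3, 6, 5, 4, 7, 6, 5, 8, 4, 3, 2, 5, 4, 8, 9, 8, 4, 3, 2, 5, 4, 3, 8, 9, 10, 7, 6, 5, 4, 3, 2, 8, 4, 3, 5, 4, 6, 5, 7, 6, 8, 4, 3, 5, 4, 8, 10, 7, 6, 5, 4]⟩, ⟨0, [], 468, 1, [10, 8, 4, 3, 7, 5, 6, 4, 5, 8, 4, 3, 11, 9, 8, 4, 5, 6, 7, 10, 4, 3, 6, 7, 5, 6, 4, 5, 8, 4, 3, 11, 9, 8, 4, 5, 6, 7, 4, 5, 11, 9, 8, 4, 3, 2, 3, 6, 5, 11, 9, 8, 4, 11, 9, 8, 9, 11]⟩], 1⟩ : Der))) (ndA (nat_lit 519) (lfA (⟨2, 0, 0, [], [⟨0, [534, 536, 540, 542, 530, 528, 532, 534, 540, 536, 538, 534, 538, 544, 542], 509, 0, [3, 5, 8, 4, 9, 8, 10, 7, 6, 5, 4, 3, 2, 8, 1, 2, 3, 4, 5, 6, 7, 8, 4, 3, 2,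 1, 5, 4, 6, 9, 8, 4, 3, 2, 5, 4, 3, 6, 5, 8, 4, 9, 8, 10, 7, 6, 5, 4, 3, 2, 1]⟩, ⟨0, [], 110, 0, [6, 7, 10, 6, 5, 4, 8, 9, 6, 7, 5, 6, 4, 5, 3, 4, 8, 2, 3, 4, 5, 6, 7, 10, 8, 9, 7, 6, 4, 5, 2, 3, 4, 8, 6, 7, 5, 6, 3, 4, 5, 2, 3, 4, 8, 9, 8, 4, 3]⟩, ⟨0, [], 600, 1, [9, 11, 8, 4, 8, 9, 5, 4, 6, 5, 4, 2, 3, 4, 8, 9, 11, 5, 4, 8, 9, 6, 5, 4, 3, 4, 8, 9, 5, 2, 3, 4, 8, 9, 7, 6, 5, 4, 8, 9, 11, 3, 4, 8, 5, 2, 3, 4, 8, 5, 6, 7, 10, 7, 6, 5, 4, 8, 9, 11, 3, 4, 8, 9, 5, 4, 8, 6, 2, 3, 4, 8, 9, 5, 4, 8, 6, 5, 7, 6, 3, 4, 8, 9, 5, 4, 2, 3, 4, 8, 9, 11, 10]⟩], 1⟩ : Der)) (lfA (⟨2, 0, 0, [], [⟨0, [538, 540, 534], 509, 0, [3, 2, 4, 9, 8, 4, 3, 2, 1, 5,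 4, 3, 2, 6, 5, 8, 4, 3, 9, 8, 4, 5, 6, 7, 6, 5, 4, 3, 2, 1, 8, 4, 3, 2, 5, 4, 6, 9, 8, 4, 3, 2, 5, 4, 3, 6, 5, 8, 4, 9, 8, 10, 7, 6, 5, 4, 3, 2, 1]⟩, ⟨0, [], 146, 0, [6, 4, 5, 2, 3, 4, 8, 9, 8, 6, 4, 5, 3, 4, 8, 2, 3, 4, 5, 6, 7, 10, 3, 4, 8, 6, 7, 5, 6, 4, 5, 3, 4, 8, 9, 8, 7, 5, 6, 4, 5, 2, 3, 4, 8, 5, 6, 7, 4, 5, 6, 3, 4, 5, 2, 3, 4, 8, 7, 3, 4, 5, 6, 3, 4, 5, 2, 3]⟩, ⟨0, [], 658, 1, [10, 8, 4, 3, 2, 5, 4, 3, 6, 7, 4, 5, 6, 8, 4, 5, 9, 8, 4, 3, 2, 5, 6, 8, 4, 5, 9, 8, 4, 3, 11, 9, 8, 4, 5, 6, 7, 10, 7, 6, 5, 4, 3, 2, 9, 8, 4, 3, 4, 5, 6, 9, 8, 4, 5, 11, 9, 8, 4, 3, 2, 6, 4, 5, 9, 8, 4, 3, 7, 6, 5, 4, 8, 9, 11, 2, 5, 8, 4, 3, 5, 6, 7, 4,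 5, 6, 8, 4, 5, 9, 8, 4, 3, 2, 4, 3, 5, 6, 4, 5, 8, 4, 3, 4, 5, 6, 8, 4, 8]⟩], 1⟩ : Der))))) (ndA (nat_lit 524) (ndA (nat_lit 522) (ndA (nat_lit 521) (lfA (⟨2, 0, 0, [], [⟨0, [532, 530, 528, 538, 540, 534, 536, 540, 542, 538], 509, 0, [2, 5, 4, 3, 2, 8, 4, 9, 8, 4, 3, 2, 5, 4, 7, 6, 5, 4, 3, 8, 4, 9, 8, 10, 7, 6, 5, 4, 3, 2, 1]⟩, ⟨0, [], 274, 0, [2, 3, 5, 4, 3, 7, 6, 5, 4, 8, 4, 3, 2, 5, 4, 3, 6, 5, 4, 7, 6, 8, 4, 3, 2, 5, 4, 3, 6, 5, 4, 7, 6, 5, 8, 4, 3, 5, 6, 7, 9, 8, 4, 3, 2, 5, 4, 3, 6, 5, 4, 8, 4, 3, 2, 5, 6, 9, 10, 7, 6, 5, 4, 3, 2, 8, 4, 3, 5, 4, 6, 5, 7, 8, 4, 3, 2]⟩, ⟨0, [], 810, 1, [9, 8, 9, 4, 8, 9, 6, 5, 4, 7, 6, 5, 4, 3, 4, 8,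 9, 5, 4, 8, 6, 7, 3, 4, 5, 2, 3, 4, 8, 9, 5, 4, 8, 6, 5, 4, 3, 4, 8, 9, 5, 4, 8, 6, 5, 4, 10, 7, 6, 5, 4, 8, 9, 3, 4, 8, 5, 4, 6, 5, 7, 6, 3, 4, 5, 2, 3, 4, 5, 6, 10, 7, 11, 9, 8, 4, 5, 6, 7, 3, 4, 8, 9, 5, 4, 8, 6, 2, 3, 4, 8, 9, 5, 4, 8, 3, 4, 2]⟩], 1⟩ : Der)) (lfA (⟨2, 0, 0, [], [⟨0, [592, 572], 547, 0, [1, 3, 5, 4, 3, 2, 6, 5, 8, 4, 3, 5, 4, 6, 5, 9, 8, 4, 3, 5, 4, 6, 5, 8, 7, 10, 7, 6, 5, 4, 3, 2, 1, 8, 4, 3, 2, 5, 4, 6, 9, 8, 4, 3, 2, 5, 4, 3, 6, 5, 7, 6, 8, 4, 5, 9, 8, 4, 3, 2, 1]⟩, ⟨0, [], 95, 0, [2, 5, 6, 5, 4, 7, 6, 5, 4, 3, 8, 4, 3, 2, 5, 4, 3, 6, 5, 7, 6, 8, 4, 3, 2, 5, 4, 3, 6, 7, 9, 8, 4, 3, 2, 5, 4, 3, 6, 5, 8, 4, 3, 2, 5,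 6, 7, 9, 8, 4, 10, 7, 6, 5, 4, 3, 2, 8, 4, 3, 5, 4, 8, 9, 8, 4, 3, 2, 5, 4, 3, 6]⟩, ⟨0, [], 468, 1, [2, 8, 4, 3, 6, 7, 5, 6, 8, 4, 5, 9, 8, 4, 3, 2, 3, 7, 6, 8, 4, 5, 9, 8, 4, 3, 11, 9, 8, 4, 5, 6, 7, 10, 5, 4, 3, 6, 7, 4, 5, 6, 8, 4, 5, 9, 8, 4, 3, 2, 7, 6, 4, 5, 8, 4, 3, 11, 9, 8, 4, 5, 6, 7, 9, 8, 4, 3, 2, 5, 8, 4, 3, 4, 5, 6, 8, 4, 5, 11, 9, 8, 4, 3, 2, 3, 5, 6, 4, 5, 9, 8, 4, 3, 5, 6, 11, 9, 8, 4, 5, 8, 4, 8, 11]⟩], 1⟩ : Der))) (ndA (nat_lit 523) (lfA (⟨2, 0, 0, [], [⟨0, [598, 556, 582, 570, 574, 564, 592, 584, 574], 547, 0, [3, 4, 3, 6, 7, 6, 5, 4, 3, 2, 8, 4, 3, 2, 5, 4, 9, 8, 4, 3, 2, 5, 4, 3, 6, 5, 7, 6, 8, 4, 3, 5, 4, 8, 9, 8, 10,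 7, 6, 5, 4, 3, 2, 8, 4, 3, 5, 4, 6, 5, 7, 6, 8, 4, 5, 9, 8, 10, 7, 6, 1, 2, 3, 4, 5, 6, 7, 8, 4, 3, 2, 5, 4, 8, 9, 8, 4, 3, 2, 1, 5, 4, 6, 8]⟩, ⟨0, [], 126, 0, [10, 8, 7, 6, 4, 5, 3, 4, 8, 9, 6, 4, 5, 3, 4, 8, 2, 3, 4, 5, 6, 7, 10, 7, 6, 4, 5, 2, 3, 4, 8, 9, 6, 4, 5, 3, 4, 8, 5, 6, 7, 4, 5, 6, 3, 4, 5, 2, 3, 4, 8, 9, 6, 5, 4, 8, 5, 6, 7, 4, 5, 6, 3, 4, 5, 2, 3, 4, 8, 6, 7, 4, 5, 6, 3, 4, 5, 2, 3, 4, 8, 7, 6, 5, 3, 4]⟩, ⟨0, [], 600, 1, [9, 8, 4, 5, 4, 8, 9, 6, 5, 4, 7, 3, 4, 8, 9, 5, 4, 8, 6, 5, 4, 7, 6, 5, 3, 4, 2, 3, 4, 8, 9, 5, 4, 8, 6, 5, 4, 7, 6, 5, 3, 4, 8, 5, 4, 6, 2, 10, 7, 6, 5, 4, 8, 9, 3, 4, 8, 5, 4, 6, 5, 2, 3, 4, 8, 5, 4, 6, 7,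 3, 11, 9, 8, 4, 5, 6, 7, 3, 4, 8, 9, 5, 4, 8, 6, 2, 3, 4, 8, 9, 11, 5, 4, 8, 9, 6, 5, 4, 3, 4, 8, 5, 4, 6, 3, 2, 10, 7, 6, 5, 4, 8, 9]⟩], 1⟩ : Der)) (lfA (⟨2, 0, 0, [], [⟨0, [564, 582, 568, 574, 586, 584, 556], 547, 0, [7, 6, 5, 1, 2, 3, 4, 8, 9, 8, 4, 5, 3, 4, 8, 2, 3, 4, 5, 6, 7, 10, 6, 3, 4, 5, 2, 3, 4, 8, 9, 4, 5, 2, 3, 4, 8, 1, 2, 3, 4, 5, 6, 7, 4, 5, 1, 2, 3, 4, 8, 9, 8, 4, 5, 2, 3, 4, 8, 6, 5, 4, 3, 2, 1]⟩, ⟨0, [], 130, 0, [2, 3, 5, 4, 6, 5, 4, 3, 7, 8, 4, 3, 2, 5, 4, 3, 6, 5, 4, 7, 6, 8, 4, 3, 2, 5, 4, 3, 8, 4, 9, 8, 4, 3, 2, 5, 4, 3, 6, 5, 4, 7, 6, 5, 8, 4, 3, 5, 4, 6, 9, 8, 4, 3, 2, 5, 4, 3, 6, 8, 10, 7, 6, 5, 4, 3, 2, 8, 4, 3,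 5, 4, 6, 8, 9, 8]⟩, ⟨0, [], 600, 1, [8, 9, 4, 5, 4, 8, 7, 6, 5, 4, 8, 3, 4, 8, 9, 5, 4, 6, 3, 2, 3, 4, 8, 9, 5, 4, 6, 5, 3, 4, 8, 11, 9, 8, 4, 5, 6, 7, 3, 4, 8, 9, 5, 4, 2, 3, 4, 8, 9, 11, 5, 4, 8, 9, 6, 5, 4, 8, 3, 4, 5, 6, 7, 2, 3, 4, 10, 7, 6, 5, 4, 8, 9, 11, 3, 4, 8, 9, 5, 6, 2, 3, 4, 8, 9, 5, 4, 8, 6, 5, 7, 6, 3, 4, 8, 5, 4, 6, 7, 2]⟩], 1⟩ : Der)))) (ndA (nat_lit 526) (ndA (nat_lit 525) (lfA (⟨2, 0, 0, [], [⟨0, [568, 576, 584, 592, 572, 574, 584, 592, 584, 574, 570, 582], 547, 0, [1, 6, 5, 8, 4, 3, 2, 1, 9, 8, 4, 3, 2, 1, 5, 4, 3, 8, 4, 5, 6, 9, 8, 4, 3, 7, 6, 5, 4, 3, 2, 1, 8, 4, 3, 2, 5, 4, 3, 6, 5, 8, 9, 10, 7, 6, 5, 4, 3, 8, 4, 5,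 9, 8, 4, 3, 2, 1]⟩, ⟨0, [], 140, 0, [6, 7, 10, 5, 4, 8, 9, 4, 8, 6, 7, 5, 6, 4, 5, 3, 4, 8, 2, 3, 4, 5, 6, 7, 10, 5, 4, 8, 9, 2, 3, 4, 8, 4, 5, 6, 3, 4, 5, 2, 3, 4, 8, 9, 6, 5, 3, 4, 8, 7, 5, 6, 3, 4, 5, 2]⟩, ⟨0, [], 600, 1, [4, 8, 5, 4, 8, 3, 4, 8, 5, 4, 6, 5, 7, 3, 4, 8, 9, 2, 3, 4, 8, 9, 5, 4, 8, 6, 5, 4, 7, 6, 5, 3, 4, 8, 9, 5, 4, 6, 5, 2, 3, 4, 8, 9, 5, 4, 8, 3, 2, 11, 9, 8, 4, 5, 6, 7, 3, 4, 8, 9, 5, 6, 2, 3, 4, 8, 9, 11, 5, 4, 8, 9, 6, 7, 3, 4, 8, 5, 4, 6, 3, 10, 7, 6, 5, 4, 8, 9, 11, 3, 4, 8, 9, 5, 4, 8, 6, 5, 4, 7, 2, 3, 4, 8, 5, 4, 6, 10, 7]⟩], 1⟩ : Der)) (lfA (⟨2, 0, 0, [], [⟨0, [572, 576, 586, 572, 582, 578, 592, 572, 576, 568],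 547, 0, [10, 4, 5, 3, 4, 8, 9, 8, 4, 5, 3, 4, 8, 6, 2, 3, 4, 5, 1, 2, 3, 4, 8, 9, 8, 4, 5, 6, 3, 4, 5, 2, 3, 4, 8, 4, 5, 6, 3, 4, 5, 2, 3, 4, 8, 3, 4, 5, 6, 2, 3, 4, 5, 4, 1]⟩, ⟨0, [], 145, 0, [6, 4, 5, 3, 4, 8, 9, 7, 6, 4, 5, 3, 4, 8, 2, 3, 4, 5, 6, 7, 10, 8, 9, 7, 6, 5, 2, 3, 4, 8, 5, 6, 7, 4, 5, 6, 3, 4, 5, 2, 3, 4, 8, 9, 8, 3, 4, 5, 2, 3, 4, 8, 6, 7, 5, 6, 4, 5, 2, 3, 4, 8, 5]⟩, ⟨0, [], 600, 1, [4, 8, 9, 6, 5, 3, 4, 8, 9, 11, 5, 4, 2, 3, 4, 8, 9, 11, 5, 4, 8, 9, 6, 5, 3, 4, 8, 9, 11, 5, 4, 6, 2, 7, 6, 5, 4, 8, 9, 3, 4, 8, 5, 4, 6, 5, 3, 4, 8, 9, 10, 7, 6, 5, 4, 8, 9, 11, 3, 4, 8, 9, 5, 4, 8, 6, 5, 4, 7, 6, 5, 2, 3, 10]⟩], 1⟩ : Der)))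 (ndA (nat_lit 527) (lfA (⟨2, 0, 0, [], [⟨0, [574, 592, 582, 568, 562, 586], 547, 0, [10, 4, 8, 9, 5, 4, 8, 5, 6, 3, 4, 5, 2, 3, 4, 8, 9, 8, 7, 5, 6, 3, 4, 5, 2, 3, 4, 8, 1, 2, 3, 4, 5, 6, 7, 10, 3, 4, 8, 5, 6, 4, 5, 3, 4, 8, 9, 4, 5, 6, 3, 4, 5, 2, 3, 4, 8, 1, 2, 3, 4, 5, 6, 7, 8, 4, 5, 6, 2, 3, 4, 5, 1, 2, 3, 4, 8, 9, 6, 4, 5, 3, 4, 8, 4, 5, 4, 3, 2, 1]⟩, ⟨0, [], 156, 0, [2, 3, 4, 8, 9, 7, 6, 5, 4, 8, 3, 4, 5, 6, 7, 10, 5, 3, 4, 8, 9, 6, 3, 4, 5, 2, 3, 4, 8, 7, 4, 5, 6, 3, 4, 5, 2, 3, 4, 8, 9, 7, 6, 5, 4, 8, 7, 5, 6, 3, 4, 5, 2, 3, 4, 8, 3, 4, 5, 6, 7, 2, 3, 4, 5, 6, 3, 4, 5, 4, 2]⟩, ⟨0, [], 658, 1, [5, 4, 7, 6, 5, 4, 8, 9, 3, 4, 8, 9, 5,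 4, 8, 6, 5, 7, 6, 3, 4, 8, 9, 5, 4, 6, 3, 2, 3, 4, 8, 9, 5, 4, 8, 6, 5, 4, 7, 6, 3, 4, 8, 9, 2, 3, 4, 5, 10, 7, 6, 5, 4, 8, 9, 3, 4, 8, 5, 6, 7, 2, 3, 4, 8, 9, 5, 4, 6, 5, 7, 11, 9, 8, 4, 5, 6, 7, 3, 4, 8, 9, 11, 5, 6, 2, 3, 4, 8, 9, 11, 5, 4, 8, 6, 3, 4, 5, 2, 10, 7, 6, 5, 4, 8, 9, 3, 4, 8, 5, 4, 3]⟩], 1⟩ : Der)) (lfA (⟨2, 0, 0, [], [⟨0, [590, 576, 568, 584, 580], 547, 0, [9, 8, 2, 3, 4, 5, 6, 7, 10, 5, 4, 8, 1, 2, 3, 4, 5, 6, 7, 8, 6, 4, 5, 2, 3, 4, 8, 9, 3, 4, 5, 2, 3, 4, 8, 6, 5, 4, 3, 2, 1]⟩, ⟨0, [], 270, 0, [7, 10, 3, 4, 8, 9, 6, 7, 5, 6, 4, 5, 3, 4, 8, 2, 3, 4, 5, 6, 7, 10, 3, 4, 8, 9, 6, 4, 5, 2, 3, 4, 8, 6, 7, 4, 5, 6, 3, 4, 5, 2,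 3, 4, 8, 9, 8, 6, 4, 5, 2, 3, 4, 8, 4, 5, 6, 7, 3, 4, 5, 6, 5, 3, 4, 2, 3]⟩, ⟨0, [], 810, 1, [11, 9, 11, 8, 4, 8, 5, 3, 4, 8, 9, 11, 5, 4, 8, 9, 6, 5, 4, 3, 4, 8, 5, 4, 2, 3, 4, 8, 9, 11, 5, 4, 8, 9, 6, 5, 4, 3, 4, 7, 6, 5, 4, 8, 9, 11, 3, 4, 8, 9, 2, 3, 4, 8, 5, 4, 6, 5, 7, 6, 3, 4, 8, 9, 5, 4, 8, 3, 10, 7, 6, 5, 4, 8, 9, 11, 3, 4, 8, 9, 5, 4, 8, 6, 2, 3, 4, 8, 9, 5, 4, 8, 6, 5, 7, 6, 3, 4, 5, 6, 7]⟩], 1⟩ : Der))))))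
noncomputable def DT33 : ℕ → Der := (ndA (nat_lit 536) (ndA (nat_lit 532) (ndA (nat_lit 530) (ndA (nat_lit 529) (lfA (⟨2, 0, 0, [], [⟨0, [566, 578, 572, 586, 564, 576, 584, 592], 547, 0, [1, 3, 2, 5, 4, 3, 2, 6, 5, 4, 3, 8, 4, 3, 2, 1, 5, 4, 3, 2, 8, 4, 3, 5, 4, 6, 5, 8, 9, 8, 4, 3, 2, 1, 5, 4, 3, 2, 6, 5, 8, 4, 3, 2, 1, 5, 4, 6, 8, 9, 8, 4, 3, 5, 6, 7, 6, 5, 10, 7, 6, 5, 4, 3, 8, 4, 5, 9, 8, 4, 3, 2, 1]⟩, ⟨0, [], 321, 0, [2, 3, 5, 4, 6, 5, 4, 3, 2, 8, 4, 3, 2, 5, 4, 3, 6, 5, 4, 7, 6, 5, 8, 4, 3, 2, 5, 4, 3, 6, 5, 7, 8, 4, 3, 5, 6, 9, 8, 4, 3, 2, 5, 4, 6, 5, 7, 6, 8, 4, 3, 5, 4, 9, 8, 4, 3, 5, 10, 7, 6, 5, 4, 3, 2, 8, 4, 3, 5, 4, 6, 5, 8,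 9, 8, 4, 3, 5, 4, 6]⟩, ⟨0, [], 880, 1, [8, 9, 4, 8, 6, 5, 4, 8, 7, 6, 5, 4, 3, 4, 8, 9, 5, 4, 8, 6, 5, 4, 7, 6, 3, 4, 8, 5, 4, 6, 5, 7, 3, 2, 3, 4, 8, 9, 5, 4, 8, 6, 3, 2, 10, 7, 6, 5, 4, 8, 9, 3, 4, 8, 5, 2, 3, 4, 8, 9, 5, 6, 11, 9, 8, 4, 5, 6, 7, 3, 4, 8, 9, 11, 5, 4, 6, 2, 3, 4, 8, 9, 11, 5, 4, 8, 6, 5, 3, 4, 5, 2, 3, 10, 7, 6, 5, 4, 8, 9, 3, 4, 8, 2, 3, 4, 5]⟩], 1⟩ : Der)) (lfA (⟨2, 0, 0, [], [⟨0, [570, 556, 582, 592, 584, 574, 590, 560, 556], 547, 0, [3, 2, 4, 8, 4, 3, 2, 9, 8, 10, 7, 6, 5, 4, 3, 8, 4, 5, 9, 8, 4, 3, 1, 2, 3, 4, 5, 6, 7, 8, 4, 3, 5, 4, 6, 5, 9, 8, 4, 3, 2, 1, 5, 6, 7]⟩, ⟨0, [], 367, 0, [2, 3, 2, 4, 3, 2, 5, 4, 3, 2,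 6, 5, 4, 3, 7, 8, 4, 3, 2, 5, 4, 3, 6, 5, 4, 7, 6, 8, 4, 3, 2, 5, 4, 6, 7, 8, 9, 8, 4, 3, 2, 5, 4, 3, 6, 5, 4, 7, 6, 5, 8, 4, 3, 5, 4, 6, 9, 8, 4, 3, 5, 4, 6, 5, 7, 10, 7, 6, 5, 4, 3, 2, 8, 4, 3, 5, 4, 6, 7, 9, 8, 4, 3, 2, 5, 4, 6, 5, 7]⟩, ⟨0, [], 912, 1, [2, 7, 6, 5, 4, 3, 9, 8, 4, 5, 6, 7, 10, 6, 5, 4, 3, 2, 3, 4, 5, 8, 4, 3, 9, 8, 4, 5, 6, 7, 2, 6, 4, 5, 11, 9, 8, 4, 3, 4, 5, 6, 9, 8, 4, 5, 11, 9, 8, 4, 3, 2, 3, 8, 4, 5, 6, 9, 8, 4, 5, 11, 9, 8, 4, 3, 11, 9, 8, 4, 5, 6, 4, 5, 4, 8, 11]⟩], 1⟩ : Der))) (ndA (nat_lit 531) (lfA (⟨2, 0, 0, [], [⟨0, [636, 652, 644, 650, 638], 601, 1, [5, 4, 3, 2, 6, 5, 4, 3, 7, 4, 5, 6, 8, 4, 5, 9, 8, 4, 3,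 2, 6, 8, 4, 5, 9, 8, 4, 3, 11, 9, 8, 4, 5, 6, 7, 10, 4, 3, 6, 7, 5, 6, 8, 4, 5, 11, 9, 8, 4, 3, 2, 3, 7, 6, 8, 4, 5, 9, 8, 4, 3, 11, 9, 8, 4, 5, 6, 7, 6, 5, 8, 4, 3, 2, 4, 5, 11, 9, 8, 4, 3, 5, 6, 9, 8, 4, 5, 11, 9, 8, 4, 3, 2, 3, 6, 8, 4, 5, 9, 8, 4, 3, 11, 9, 8, 4, 5, 6, 9, 8]⟩, ⟨0, [], 111, 1, [8, 5, 4, 8, 9, 6, 7, 6, 5, 4, 3, 4, 8, 9, 5, 4, 8, 6, 5, 4, 3, 4, 8, 5, 4, 6, 5, 2, 3, 4, 8, 9, 5, 4, 8, 6, 5, 7, 6, 3, 4, 8, 5, 4, 6, 7, 3, 2, 3, 4, 8, 9, 5, 4, 3, 10, 7, 6, 5, 4, 8, 9, 3, 4, 8, 5, 4, 6, 7, 3, 2, 3, 4, 8, 9, 5, 6, 7, 10, 7]⟩, ⟨0, [], 508, 0, [2, 3, 5, 4, 3, 2, 7, 8, 4, 3, 5, 4, 6, 5, 7, 6, 8, 4, 3, 2, 5, 4, 9, 8, 4, 3, 2, 5, 4,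 3, 6, 5, 4, 7, 8, 4, 5, 6, 9, 8, 1, 2, 3, 4, 5, 6, 7, 8, 4, 3, 2, 5, 4, 3, 6, 5, 9, 8, 4, 3, 2, 1, 5, 4, 3, 2, 6, 5, 8, 4, 3, 2, 5, 6, 9, 8, 4, 10, 7, 6, 5, 4, 3, 2, 1, 8, 4, 3, 2, 5, 4, 6, 9, 8, 4, 3, 2, 1, 5, 4, 3, 6, 5, 4, 7, 6, 5, 8, 4, 5, 9, 8, 4, 3]⟩], 0⟩ : Der)) (lfA (⟨2, 0, 0, [], [⟨0, [640, 656, 626, 644, 648, 646, 652, 614], 601, 1, [11, 9, 8, 4, 8, 6, 5, 3, 4, 8, 9, 11, 5, 4, 8, 2, 3, 4, 8, 9, 11, 5, 4, 8, 3, 4, 5, 6, 7, 6, 10, 7, 6, 5, 4, 8, 9, 11, 3, 4, 8, 9, 5, 4, 8, 6, 3, 2, 3, 4, 8, 9, 5, 4, 8, 6, 5, 7, 6, 3, 4, 8, 5, 2, 3, 4, 8, 9, 11]⟩, ⟨0, [], 127, 1, [9, 8, 9, 4, 8, 9, 5, 4, 7, 6, 3, 4, 8, 9, 5, 4, 6, 5, 7, 6, 3, 4, 8,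 9, 5, 4, 8, 3, 4, 5, 6, 2, 3, 4, 8, 9, 5, 4, 8, 6, 5, 4, 7, 3, 4, 8, 5, 4, 6, 5, 7, 6, 2, 3, 4, 10, 7, 6, 5, 4, 8, 9, 3, 4, 5, 6, 2, 3, 4]⟩, ⟨0, [], 546, 0, [2, 4, 3, 5, 4, 6, 7, 6, 5, 8, 4, 3, 2, 5, 4, 3, 6, 5, 4, 7, 8, 4, 3, 5, 4, 6, 5, 9, 8, 4, 3, 5, 4, 6, 5, 7, 6, 8, 4, 3, 9, 8, 10, 7, 6, 5, 4, 3, 2, 8, 4, 3, 5, 4, 6, 5, 7, 8, 4, 3, 10, 1, 2, 3, 4, 5, 6, 7, 8, 4, 3, 5, 4, 6, 5, 9, 8, 4, 3, 2, 1, 5, 4, 6, 8]⟩], 0⟩ : Der)))) (ndA (nat_lit 534) (ndA (nat_lit 533) (lfA (⟨2, 0, 0, [], [⟨0, [654, 614, 648, 618, 652], 601, 1, [11, 8, 5, 4, 8, 9, 3, 4, 8, 9, 5, 4, 8, 3, 2, 3, 4, 8, 9, 5, 4, 8, 6, 5, 4, 3, 4, 5, 2, 7, 6, 5, 4, 8, 9, 11, 3, 4,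 8, 9, 5, 4, 6, 2, 3, 4, 8, 9, 5, 4, 8, 6, 5, 3, 4, 2, 3, 10, 7, 6, 5, 4, 8, 9, 11]⟩, ⟨0, [], 131, 1, [9, 4, 5, 4, 8, 6, 5, 7, 3, 4, 8, 9, 5, 4, 6, 5, 7, 6, 3, 4, 8, 5, 2, 3, 4, 8, 9, 5, 4, 8, 6, 5, 4, 7, 6, 5, 3, 4, 8, 9, 5, 4, 6, 3, 2, 3, 4, 8, 5, 6, 7, 10, 7, 6, 5, 4, 8, 3, 4, 5, 6, 7, 2, 3, 4, 8, 5, 10]⟩, ⟨0, [], 546, 0, [10, 8, 9, 4, 8, 3, 4, 5, 2, 3, 4, 8, 9, 8, 7, 6, 3, 4, 5, 2, 3, 4, 8, 1, 2, 3, 4, 5, 6, 7, 10, 9, 8, 6, 4, 5, 1, 2, 3, 4, 8, 9, 6, 5, 2, 3, 4, 8, 1, 2, 3, 4, 5, 6, 7, 6, 5, 1, 2, 3, 4, 8, 9, 6, 4, 5, 3, 4, 8, 3, 4, 5, 6, 2, 3, 4, 5, 1, 2, 3, 4, 8, 9, 6, 4, 5, 2, 3, 4, 8, 2, 3, 4, 5, 6, 4, 5, 2, 3, 4, 1, 2, 3, 1]⟩], 0⟩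 : Der)) (lfA (⟨2, 0, 0, [], [⟨0, [642, 656, 644, 650, 622, 656, 642, 646, 622, 650, 622], 601, 1, [11, 4, 5, 4, 8, 9, 11, 3, 4, 8, 9, 11, 5, 4, 8, 9, 6, 5, 4, 3, 4, 8, 9, 11, 5, 6, 2, 3, 4, 8, 9, 11, 5, 4, 8, 3, 4, 5, 2, 3, 7, 6, 5, 10, 7, 6, 5, 4, 8, 3, 4, 5, 2, 3, 4, 8, 9, 11]⟩, ⟨0, [], 141, 1, [8, 9, 4, 8, 9, 5, 4, 6, 5, 4, 8, 7, 6, 5, 3, 4, 8, 9, 5, 4, 6, 5, 7, 6, 3, 4, 8, 2, 3, 4, 8, 9, 5, 4, 8, 6, 7, 3, 4, 5, 6, 2, 3, 4, 8, 5, 10, 7, 6, 5, 4, 8, 9, 3, 4, 8, 5, 4, 6, 5, 2, 3, 4, 8, 5, 6, 7]⟩, ⟨0, [], 546, 0, [1, 5, 4, 3, 2, 6, 5, 8, 4, 3, 2, 1, 5, 4, 3, 2, 6, 5, 4, 8, 4, 3, 2, 5, 6, 9, 8, 4, 3, 2, 1, 5, 4, 3, 2, 6, 5, 4, 8, 4, 3, 5,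 4, 6, 5, 9, 7, 6, 5, 4, 3, 2, 1, 8, 4, 3, 2, 5, 6, 7, 9, 8, 4, 3, 2, 1, 5, 4, 6, 5, 7, 6, 8, 4, 3, 5, 4, 8, 9, 10, 7, 6, 5, 4, 3, 2, 1, 8, 4, 3, 2, 5, 4, 3, 6, 7, 8, 9, 8, 4, 3, 2, 5, 4, 3, 8, 4, 5, 9, 8, 10]⟩], 0⟩ : Der))) (ndA (nat_lit 535) (lfA (⟨2, 0, 0, [], [⟨0, [618, 650, 614, 656, 618, 616, 648, 618, 644], 601, 1, [11, 9, 8, 9, 11, 4, 8, 9, 6, 5, 3, 4, 8, 9, 11, 2, 3, 4, 8, 9, 11, 5, 4, 8, 3, 4, 5, 2, 3, 4, 7, 10, 7, 6, 5, 4, 8, 9, 11, 3, 4, 8, 9, 5, 4, 8, 3, 4, 5, 2, 3, 4, 8, 9]⟩, ⟨0, [], 144, 1, [3, 6, 7, 5, 6, 4, 5, 8, 4, 3, 2, 3, 4, 5, 8, 4, 3, 9, 8, 4, 5, 6, 7, 10, 7, 6, 5, 8, 4, 3, 7, 5, 6, 8, 4, 5, 9, 8, 4, 3, 2, 8, 4, 5, 9,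 8, 4, 3, 6, 7, 5, 6, 4, 5, 9, 8, 4, 3, 4, 5, 6, 7, 6, 9, 8, 4, 5, 8, 4, 9]⟩, ⟨0, [], 546, 0, [9, 5, 6, 7, 4, 5, 6, 3, 4, 5, 2, 3, 4, 8, 1, 2, 3, 4, 5, 6, 7, 10, 3, 4, 8, 9, 8, 4, 5, 3, 4, 8, 6, 5, 4, 3, 2, 1, 8, 9, 4, 8, 5, 6, 4, 5, 2, 3, 4, 8, 9, 6, 5, 2, 3, 4, 8, 7, 5, 6, 4, 3, 2]⟩], 0⟩ : Der)) (lfA (⟨2, 0, 0, [], [⟨0, [614, 652, 636], 601, 1, [4, 5, 6, 2, 3, 4, 8, 7, 6, 5, 4, 8, 9, 3, 4, 8, 2, 3, 4, 5, 6, 7, 10, 7, 6, 5, 4, 8, 9, 11, 3, 4, 8, 9, 5, 4, 6, 2, 3, 4, 8, 9, 5, 4, 8, 6, 5, 7, 6, 3, 4, 5, 2, 3, 4, 8, 9, 11]⟩, ⟨0, [], 172, 1, [10, 9, 8, 4, 3, 2, 7, 6, 5, 4, 3, 9, 8, 4, 5, 6, 7, 10, 6, 5, 9, 8, 4, 3, 2, 7, 6, 5, 8, 4, 3, 5, 6,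 7, 4, 5, 6, 8, 4, 5, 9, 8, 4, 3, 2, 7, 6, 8, 4, 5, 9, 8, 4, 3, 7, 4, 5, 6, 8, 4, 5, 9, 8, 4, 3, 6, 7, 6, 4, 5, 4, 9, 8, 9]⟩, ⟨0, [], 688, 0, [4, 3, 5, 6, 7, 8, 4, 3, 2, 5, 4, 3, 6, 5, 4, 7, 6, 8, 4, 3, 2, 5, 4, 3, 8, 4, 5, 6, 7, 9, 8, 4, 3, 2, 5, 4, 3, 6, 5, 4, 7, 6, 8, 4, 3, 5, 4, 6, 8, 9, 8, 4, 3, 2, 5, 4, 8, 1, 2, 3, 4, 5, 6, 7, 8, 4, 3, 2, 5, 4, 3, 9, 8, 4, 3, 5, 4, 6, 5, 10, 7, 6, 5, 4, 3, 2, 1, 8, 4, 3, 2, 5, 4, 3, 6, 8, 9, 8, 4, 3, 2, 5, 4, 3, 6, 5, 4, 7, 6, 8, 4, 5, 9, 10, 7, 6]⟩], 0⟩ : Der))))) (ndA (nat_lit 540) (ndA (nat_lit 538) (ndA (nat_lit 537) (lfA (⟨2, 0, 0, [], [⟨0, [618, 656, 642, 646, 626, 636], 601, 1, [4, 8, 9, 6, 2,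 3, 4, 8, 9, 11, 5, 4, 8, 9, 6, 5, 4, 3, 4, 8, 9, 5, 4, 7, 6, 5, 10, 7, 6, 5, 4, 8, 3, 4, 5, 2, 3, 4, 8, 9, 11]⟩, ⟨0, [], 232, 1, [7, 6, 5, 4, 3, 2, 3, 6, 4, 5, 8, 4, 3, 9, 8, 4, 5, 6, 7, 10, 9, 8, 4, 3, 2, 6, 5, 4, 3, 7, 6, 8, 4, 5, 9, 8, 4, 3, 2, 3, 5, 6, 4, 5, 9, 8, 4, 3, 5, 6, 7, 4, 5, 6, 8, 4, 5, 9, 8, 4, 3, 4, 5, 6, 7, 8, 4, 8]⟩, ⟨0, [], 776, 0, [1, 2, 3, 4, 8, 5, 6, 4, 5, 2, 3, 4, 8, 9, 4, 5, 2, 3, 4, 8, 1, 2, 3, 4, 5, 6, 7, 10, 9, 4, 5, 3, 4, 8, 6, 7, 5, 6, 3, 4, 5, 1, 2, 3, 4, 8, 9, 5, 6, 4, 5, 2, 3, 4, 8, 1, 2, 3, 4, 5, 6, 7, 9, 3, 4, 8, 5, 6, 4, 5, 3, 4, 8, 6, 2, 3, 4, 5, 1, 2, 3, 4, 8, 9, 6, 3, 4, 5, 1, 2, 3, 4, 8, 6, 3, 4, 5,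 1, 2, 3, 4, 1, 2]⟩], 0⟩ : Der)) (lfA (⟨2, 0, 0, [], [⟨0, [656, 618, 650, 624, 618, 616, 626, 646, 648], 601, 1, [3, 2, 11, 9, 8, 4, 3, 5, 6, 4, 5, 11, 9, 8, 4, 3, 2, 6, 5, 9, 8, 4, 3, 11, 9, 8, 4, 5, 6, 7, 10, 4, 5, 8, 4, 3, 2, 4, 3, 8, 4, 5, 9, 8, 4, 3, 11, 9, 8, 4, 5, 6, 7, 6, 4, 5, 11, 9, 8, 4, 3, 2, 8, 4, 5, 11, 9, 8, 4, 3, 6, 5, 8, 4, 8, 9, 11]⟩, ⟨0, [], 294, 1, [10, 7, 6, 5, 8, 4, 3, 2, 5, 8, 4, 3, 9, 8, 4, 5, 6, 7, 10, 5, 9, 8, 4, 3, 2, 7, 6, 8, 4, 5, 9, 8, 4, 3, 6, 7, 4, 5, 6, 8, 4, 5, 9, 8, 4, 3, 2, 4, 3, 6, 7, 4, 5, 6, 8, 4, 5, 9, 8, 4, 3, 5, 6, 7, 6, 4, 8, 9]⟩, ⟨0, [], 846, 0, [2, 4, 3, 2, 1, 6, 5, 4, 8, 4, 3, 2, 1, 5, 4, 3, 6,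 8, 4, 9, 8, 4, 3, 2, 1, 5, 4, 3, 2, 6, 5, 8, 4, 3, 2, 5, 9, 8, 4, 3, 2, 1, 7, 6, 5, 4, 3, 2, 1, 8, 4, 3, 2, 5, 4, 3, 6, 5, 7, 8, 9, 8, 4, 3, 2, 5, 6, 10, 7, 6, 5, 4, 3, 2, 1, 8, 4, 3, 2, 5, 4, 3, 6, 9, 8, 4, 3, 2, 5, 4, 3, 6, 5, 7, 6, 8, 4, 5, 6, 7]⟩], 0⟩ : Der))) (ndA (nat_lit 539) (lfA (⟨2, 0, 0, [], [⟨0, [634, 652, 614, 654, 650, 614], 601, 1, [4, 8, 6, 5, 4, 8, 9, 3, 4, 8, 9, 5, 4, 3, 2, 3, 4, 8, 9, 5, 4, 8, 3, 4, 5, 2, 3, 7, 6, 5, 4, 3, 10, 7, 6, 5, 4, 8, 9, 11, 3]⟩, ⟨0, [], 388, 1, [8, 9, 4, 8, 6, 5, 4, 8, 7, 6, 5, 3, 4, 8, 9, 5, 4, 8, 6, 5, 7, 6, 3, 4, 8, 9, 5, 2, 3, 4, 8, 9, 5, 4, 8, 6, 5, 7, 6, 3, 4, 8, 9, 5, 4, 6, 10, 7, 6, 5, 4,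 8, 9, 3, 4, 8, 5, 4, 6, 2, 3, 4, 5, 6, 7, 10]⟩, ⟨0, [], 962, 0, [3, 5, 4, 3, 7, 6, 5, 8, 4, 3, 2, 5, 4, 3, 6, 5, 4, 7, 6, 5, 8, 4, 3, 2, 5, 4, 6, 5, 7, 6, 8, 4, 9, 8, 4, 3, 2, 5, 4, 3, 6, 5, 7, 8, 1, 2, 3, 4, 5, 8, 4, 3, 9, 8, 10, 7, 6, 5, 4, 3, 2, 1, 8, 4, 3, 2, 5, 6, 9, 8, 4, 3, 2, 1, 5, 4, 3, 6, 5, 8, 4, 3, 2, 9, 8]⟩], 0⟩ : Der)) (lfA (⟨2, 0, 0, [], [⟨0, [672, 682, 678, 676], 659, 1, [11, 4, 5, 6, 2, 3, 4, 8, 9, 11, 5, 4, 8, 9, 6, 5, 3, 4, 8, 2, 3, 4, 5, 6, 7, 6, 5, 4, 8, 9, 11, 3, 4, 8, 9, 5, 4, 6, 2, 3, 4, 8, 9, 5, 4, 8, 6, 5, 3, 4, 2, 3, 10, 7, 6, 5, 4, 8, 9, 11]⟩, ⟨0, [], 147, 1, [8, 5, 4, 8, 6, 5, 4, 8, 3, 4, 8, 9, 5, 4, 6, 5, 7,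 6, 3, 4, 8, 9, 5, 4, 8, 2, 3, 4, 8, 9, 5, 4, 8, 6, 5, 4, 7, 6, 3, 4, 8, 5, 4, 6, 5, 3, 2, 3, 4, 8, 5, 10, 7, 6, 5, 4, 8, 9, 3, 4, 8, 5, 4, 6, 7, 3, 2, 3, 4, 5, 6, 10]⟩, ⟨0, [], 508, 0, [2, 1, 3, 2, 5, 6, 5, 4, 3, 2, 8, 4, 5, 9, 8, 4, 3, 2, 1, 5, 4, 3, 6, 5, 4, 8, 4, 3, 2, 5, 4, 3, 9, 8, 4, 5, 6, 7, 6, 5, 4, 3, 2, 1, 8, 4, 3, 2, 5, 4, 3, 6, 5, 9, 8, 4, 3, 2, 5, 4, 3, 6, 5, 4, 7, 8, 4, 5, 6, 7, 9, 8, 4, 10, 7, 6, 5, 4, 3, 2, 1, 8, 4, 3, 2, 5, 4, 6, 5, 7, 6, 8, 4, 9, 8, 4, 3, 5, 4, 8, 9]⟩], 0⟩ : Der)))) (ndA (nat_lit 542) (ndA (nat_lit 541) (lfA (⟨2, 0, 0, [], [⟨0, [680, 678, 674, 682, 678, 680, 684, 672, 682, 678, 674, 684, 678], 659, 1, [8,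 4, 8, 5, 6, 3, 4, 8, 2, 3, 4, 5, 6, 7, 6, 5, 4, 8, 9, 11, 3, 4, 8, 9, 5, 4, 6, 2, 3, 4, 8, 9, 5, 4, 8, 6, 5, 3, 4, 2, 3, 10, 7, 6, 5, 4, 8, 9, 11]⟩, ⟨0, [], 157, 1, [8, 4, 3, 2, 6, 5, 8, 4, 3, 9, 8, 4, 5, 6, 7, 10, 7, 4, 5, 6, 8, 4, 5, 9, 8, 4, 3, 4, 5, 6, 8, 4, 5, 9, 8, 4, 3, 2, 7, 6, 4, 5, 9, 8, 4, 3, 6, 7, 4, 5, 6, 8, 4, 5, 9, 8, 4, 3, 9, 8, 4, 5, 6, 7, 6, 8, 4, 5, 4, 8]⟩, ⟨0, [], 546, 0, [1, 2, 1, 3, 2, 4, 3, 6, 5, 4, 3, 8, 4, 3, 2, 1, 5, 4, 3, 2, 6, 5, 4, 8, 4, 5, 9, 8, 4, 3, 2, 1, 5, 4, 3, 2, 6, 5, 4, 8, 4, 3, 2, 1, 5, 6, 9, 8, 4, 3, 2, 5, 7, 6, 5, 4, 3, 2, 1, 8, 4, 3, 2, 5, 4, 3, 6, 5, 7, 9, 8, 4, 3, 2, 5, 4, 3, 6, 5, 7, 6, 8, 4, 5,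 6, 9, 8, 4, 3, 10, 7, 6, 5, 4, 3, 2, 1, 8, 4, 3, 2, 5, 4, 6, 8, 9, 8, 4, 3, 2, 5, 4, 3, 6, 5, 7, 6, 8, 4, 5, 9, 8, 4, 3, 2, 10]⟩], 0⟩ : Der)) (lfA (⟨2, 0, 0, [], [⟨0, [682, 672, 684, 686, 678, 682, 672, 684, 680, 674, 678, 682, 672, 670, 674, 678, 682, 680, 678, 674, 682, 678, 676], 659, 1, [11, 8, 4, 8, 5, 4, 6, 3, 4, 8, 9, 5, 4, 8, 3, 2, 7, 6, 5, 4, 3, 10, 7, 6, 5, 4, 8, 9, 11]⟩, ⟨0, [], 160, 1, [9, 8, 9, 4, 8, 5, 6, 5, 4, 8, 7, 6, 5, 4, 3, 4, 8, 9, 5, 4, 8, 6, 5, 4, 7, 6, 3, 4, 8, 2, 3, 4, 8, 9, 5, 4, 6, 5, 7, 6, 10, 7, 6, 5, 4, 8, 9, 3, 4, 8, 5, 4, 6, 5, 2, 3, 4, 5]⟩, ⟨0, [], 688, 0, [6, 7, 10, 4, 8, 3, 4, 5, 2, 3, 4, 8, 6, 7, 5, 6, 4,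 5, 3, 4, 8, 2, 3, 4, 5, 6, 7, 10, 4, 8, 7, 5, 6, 4, 5, 3, 4, 8, 2, 3, 4, 5, 6, 7, 4, 8, 3, 4, 5, 6, 2, 3, 4, 5, 1, 2, 3, 4, 8, 9, 6, 5, 4, 8, 5, 6, 4, 1, 2, 3, 1, 2, 1]⟩], 0⟩ : Der))) (ndA (nat_lit 543) (lfA (⟨2, 0, 0, [], [⟨0, [], 659, 1, []⟩, ⟨0, [], 180, 1, [2, 3, 7, 6, 4, 5, 8, 4, 3, 9, 8, 4, 5, 6, 7, 10, 5, 8, 4, 3, 2, 7, 6, 5, 9, 8, 4, 3, 6, 7, 5, 6, 8, 4, 5, 9, 8, 4, 3, 2, 8, 4, 3, 5, 6, 8, 4, 5, 9, 8, 4, 3, 5, 6, 7, 4, 5, 6, 8, 4, 5, 9, 8, 4, 3, 4, 5, 6, 7, 4, 5, 6, 8, 4, 5, 8, 4]⟩, ⟨0, [], 718, 0, [10, 6, 4, 5, 3, 4, 8, 9, 8, 6, 7, 5, 6, 4, 5, 3, 4, 8, 2, 3, 4, 5, 6, 7, 10, 8, 6, 7, 5, 6, 4, 5, 3, 4, 8, 2, 3, 4, 5, 6, 7, 4, 8, 3,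 4, 5, 6, 2, 3, 4, 5, 1, 2, 3, 4, 8, 9, 8, 2, 3, 4, 5, 1, 2, 3, 4, 8, 3, 4, 5, 6, 2, 3, 4, 5, 1, 2, 3, 4, 8, 5, 6, 2, 3]⟩], 0⟩ : Der)) (lfA (⟨2, 0, 0, [], [⟨0, [686, 684, 672, 678, 682, 676, 670, 674, 678, 680, 674, 670, 682], 659, 1, [9, 8, 5, 3, 4, 8, 9, 11, 5, 4, 6, 2, 3, 4, 8, 9, 5, 4, 8, 3, 2, 7, 6, 5, 4, 3, 10, 7, 6, 5, 4, 8, 9, 11]⟩, ⟨0, [], 280, 1, [9, 8, 9, 5, 4, 8, 6, 5, 7, 6, 5, 4, 3, 4, 8, 9, 5, 4, 8, 6, 5, 4, 7, 6, 5, 3, 4, 8, 9, 2, 3, 4, 8, 9, 5, 4, 8, 6, 5, 4, 7, 6, 5, 3, 4, 8, 5, 6, 2, 3, 4, 8, 5, 4, 6, 3, 10, 7, 6, 5, 4, 8, 9, 3, 4, 8, 5, 4, 6, 5, 7, 6, 3, 4, 8, 10, 7]⟩, ⟨0, [], 846, 0, [1, 2, 3, 4, 3, 2, 1, 5, 4, 3, 2, 8,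 4, 3, 5, 9, 8, 4, 3, 2, 1, 5, 4, 3, 2, 6, 5, 8, 9, 7, 6, 5, 4, 3, 2, 1, 8, 4, 3, 2, 9, 8, 4, 3, 5, 4, 6, 5, 7, 6, 8, 4, 3, 2, 1, 5, 4, 3, 2, 9, 10, 7, 6, 5, 4, 3, 2, 1, 8, 4, 3, 2, 5, 4, 6, 5, 7, 8, 4, 9, 8, 4, 3, 5, 4, 8, 9, 10]⟩], 0⟩ : Der))))))
noncomputable def DT34 : ℕ → Der := (ndA (nat_lit 552) (ndA (nat_lit 548) (ndA (nat_lit 546) (ndA (nat_lit 545) (lfA (⟨2, 0, 0, [], [⟨0, [706, 704, 712, 708, 704, 714, 706, 700, 708, 704, 712], 689, 0, [8, 4, 3, 2, 5, 4, 3, 6, 8, 4, 5, 9, 8, 4, 3, 2, 1]⟩, ⟨0, [], 161, 0, [3, 4, 5, 4, 6, 5, 4, 3, 8, 4, 3, 2, 5, 4, 3, 6, 5, 4, 7, 6, 5, 8, 4, 3, 2, 5, 4, 3, 6, 5, 4, 8, 4, 3, 5, 4, 6, 5, 7, 6, 9, 8,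 4, 3, 2, 5, 4, 3, 6, 5, 4, 7, 8, 4, 3, 2, 5, 4, 3, 9, 8, 4, 5, 6, 10, 7, 6, 5, 4, 3, 2, 8, 4, 3, 5, 4, 6, 9, 8, 4, 3, 5, 6]⟩, ⟨0, [], 658, 1, [10, 9, 8, 4, 3, 7, 5, 6, 4, 5, 8, 4, 3, 9, 8, 4, 5, 6, 7, 10, 7, 6, 5, 4, 3, 8, 4, 5, 6, 7, 5, 11, 9, 8, 4, 3, 4, 5, 6, 8, 4, 5, 11, 9, 8, 4, 3, 2, 5, 9, 8, 4, 3, 6, 5, 9, 8, 4, 11, 9, 8, 9, 11]⟩], 1⟩ : Der)) (lfA (⟨2, 0, 0, [], [⟨0, [712, 704, 708, 706, 704, 712, 716, 714, 706, 704, 708, 714, 704, 712], 689, 0, [3, 4, 5, 6, 5, 8, 4, 3, 5, 4, 6, 5, 8, 9, 8, 4, 3, 2, 1, 5, 4, 3, 2, 6, 5, 8, 4, 3, 5, 7, 6, 5, 4, 3, 2, 8, 4, 3, 5, 4, 9, 8, 10, 7, 6, 5, 4, 3, 2, 1]⟩, ⟨0, [], 173, 0, [2, 4, 3, 2, 5, 6,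 5, 4, 8, 4, 3, 2, 5, 4, 3, 6, 5, 4, 8, 4, 3, 5, 4, 6, 9, 8, 4, 3, 2, 5, 4, 3, 6, 5, 4, 7, 6, 8, 4, 3, 2, 5, 9, 8, 4, 10, 7, 6, 5, 4, 3, 2, 8, 4, 3, 5, 4, 6, 5, 7, 6, 9, 8, 4, 3, 2, 5]⟩, ⟨0, [], 600, 1, [5, 4, 3, 2, 3, 4, 5, 8, 4, 3, 6, 7, 5, 6, 4, 5, 9, 8, 4, 3, 2, 8, 4, 5, 9, 8, 4, 3, 11, 9, 8, 4, 5, 6, 7, 10, 7, 6, 5, 4, 3, 4, 5, 6, 8, 4, 5, 9, 8, 4, 3, 2, 7, 6, 4, 5, 8, 4, 3, 11, 9, 8, 4, 5, 6, 7, 3, 5, 6, 4, 5, 9, 8, 4, 3, 2, 4, 5, 9, 8, 4, 3, 4, 5, 6, 9, 8, 4, 5, 11, 9, 8, 4, 3, 2, 5, 4, 3, 5, 6, 8, 4, 5, 11, 9, 8, 4, 3, 4, 5, 6, 5, 9, 11]⟩], 1⟩ : Der))) (ndA (nat_lit 547) (lfA (⟨2, 0, 0, [], [⟨0, [710, 700, 708, 704, 712, 706, 704],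 689, 0, [4, 5, 8, 4, 3, 2, 1]⟩, ⟨0, [], 203, 0, [7, 10, 4, 5, 2, 3, 4, 8, 6, 7, 5, 6, 4, 5, 3, 4, 8, 2, 3, 4, 5, 6, 7, 10, 4, 8, 6, 7, 5, 6, 4, 5, 2, 3, 4, 8, 9, 5, 6, 7, 4, 5, 6, 3, 4, 5, 2, 3, 4, 8, 7, 4, 5, 6, 4, 5, 4, 3, 2]⟩, ⟨0, [], 746, 1, [10, 3, 2, 3, 7, 5, 6, 8, 4, 5, 9, 8, 4, 3, 11, 9, 8, 4, 5, 6, 7, 10, 4, 3, 2, 5, 9, 8, 4, 3, 7, 6, 5, 4, 8, 9, 11, 6, 5, 8, 4, 3, 2, 3, 4, 5, 9, 8, 4, 3, 5, 6, 7, 4, 5, 6, 8, 4, 5, 9, 8, 4, 3, 2, 4, 3, 7, 5, 6, 4, 5, 8, 4, 3, 5, 6, 7, 4, 5, 6, 8, 4, 5, 9, 8, 4, 3, 7, 5, 6, 5, 8, 9]⟩], 1⟩ : Der)) (lfA (⟨2, 0, 0, [], [⟨0, [702, 714, 716, 700, 708, 704, 706, 714, 704, 712, 708, 704, 706, 710, 700, 708,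 704, 712, 706, 704, 708, 714, 706, 704, 714, 716, 702, 714, 708], 689, 0, [3, 4, 3, 6, 5, 4, 8, 4, 3, 2, 5, 4, 6, 7, 10, 7, 6, 5, 4, 3, 2, 1, 8, 4, 3, 2, 5, 4, 6, 9, 8, 4, 3, 2, 5, 4, 3, 6, 5, 7, 6, 8, 4, 5, 9, 8, 4, 3, 2, 1]⟩, ⟨0, [], 338, 0, [3, 4, 5, 2, 3, 4, 8, 9, 6, 7, 5, 6, 4, 5, 3, 4, 8, 2, 3, 4, 5, 6, 7, 10, 8, 9, 7, 5, 6, 4, 5, 3, 4, 8, 7, 4, 5, 6, 3, 4, 5, 2, 3, 4, 8, 9, 6, 4, 5, 3, 4, 8, 7, 4, 5, 6, 3, 4, 5, 2, 3, 4, 8, 3, 4, 5, 6, 7, 2, 3, 4, 5, 6, 3, 4, 3, 2]⟩, ⟨0, [], 880, 1, [11, 9, 8, 9, 4, 5, 4, 6, 5, 4, 8, 3, 4, 8, 9, 11, 5, 4, 8, 9, 2, 3, 4, 8, 5, 4, 6, 3, 7, 6, 5, 4, 8, 9, 11, 3, 4, 8, 9, 5, 4, 8, 6, 7, 2, 3, 4, 8, 9,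 11, 5, 4, 8, 6, 5, 7, 6, 3, 4, 8, 5, 4, 6, 3, 2, 3, 4, 8, 9, 11, 5, 4, 8, 9, 3, 10, 7, 6, 5, 4, 8, 9, 11, 3, 4, 8, 9, 5, 4, 6, 5, 7, 3, 4, 2, 3, 4, 8, 5, 4, 3, 2, 10]⟩], 1⟩ : Der)))) (ndA (nat_lit 550) (ndA (nat_lit 549) (lfA (⟨2, 0, 0, [], [⟨0, [700, 712, 706], 689, 0, [2, 5, 8, 9, 8, 4, 3, 2, 1, 5, 4, 3, 2, 6, 5, 8, 4, 3, 9, 8, 4, 5, 6, 7, 6, 5, 4, 3, 2, 1, 8, 4, 3, 2, 5, 4, 6, 9, 8, 4, 3, 2, 5, 4, 3, 6, 5, 8, 4, 9, 8, 10, 7, 6, 5, 4, 3, 2, 1]⟩, ⟨0, [], 351, 0, [3, 2, 4, 3, 2, 5, 6, 5, 7, 8, 4, 3, 2, 5, 4, 3, 6, 5, 4, 7, 6, 8, 4, 3, 5, 6, 7, 9, 8, 4, 3, 2, 5, 4, 3, 6, 5, 7, 6, 8, 4, 3, 5, 9, 8, 4, 3, 10, 7, 6, 5, 4, 3, 8, 4, 5, 6, 7, 9,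 8, 4, 3, 2]⟩, ⟨0, [], 468, 1, [9, 8, 4, 6, 7, 3, 4, 8, 9, 5, 4, 8, 6, 5, 4, 7, 6, 5, 3, 4, 5, 2, 3, 4, 8, 9, 5, 4, 8, 6, 5, 3, 4, 8, 9, 2, 3, 4, 11, 9, 8, 4, 5, 6, 7, 3, 4, 5, 6, 2, 3, 4, 8, 9, 5, 4, 8, 3, 4, 5, 2, 3, 4, 8, 10, 7, 6, 5, 4, 8, 9, 11, 3, 4, 8, 9, 5, 4, 8, 6, 7, 2, 3, 4, 8, 9, 5, 4, 8, 6, 5, 4, 7, 6, 5, 3, 4, 5, 6, 2, 3, 4, 8, 9, 11, 5, 4, 8, 9, 10]⟩], 1⟩ : Der)) (lfA (⟨2, 0, 0, [], [⟨0, [728, 730, 732, 744, 742, 734, 728, 736, 730, 732, 744, 740, 736, 730, 732, 728, 738, 740, 736, 730, 742, 744], 719, 0, [4, 3, 2, 1, 5, 6, 5, 8, 4, 3, 2, 5, 4, 7, 6, 5, 4, 3, 8, 4, 9, 8, 10, 7, 6, 5, 4, 3, 2, 1]⟩, ⟨0, [], 181, 0, [6, 4, 5, 2,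 3, 4, 8, 9, 7, 6, 5, 4, 8, 3, 4, 5, 6, 7, 10, 9, 4, 8, 5, 6, 4, 5, 3, 4, 8, 9, 4, 5, 3, 4, 8, 4, 5, 6, 3, 4, 5, 2, 3, 4, 8, 4, 5, 6, 7, 5, 6, 3, 2]⟩, ⟨0, [], 658, 1, [5, 4, 8, 6, 7, 6, 3, 4, 8, 9, 5, 4, 8, 6, 7, 3, 4, 5, 6, 7, 2, 3, 4, 8, 5, 4, 6, 5, 7, 6, 3, 4, 8, 5, 4, 3, 10, 7, 6, 5, 4, 8, 3, 4, 5, 6, 7, 2]⟩], 1⟩ : Der))) (ndA (nat_lit 551) (lfA (⟨2, 0, 0, [], [⟨0, [738, 740, 736, 730], 719, 0, [4, 3, 2, 1]⟩, ⟨0, [], 192, 0, [6, 5, 3, 4, 8, 9, 5, 6, 4, 5, 3, 4, 8, 2, 3, 4, 5, 6, 7, 10, 4, 5, 2, 3, 4, 8, 4, 5, 6, 3, 4, 5, 2, 3, 4, 8, 9, 7, 6, 5, 3, 4, 8, 6, 7, 5, 6, 3, 4, 5, 2, 3, 4, 8, 4, 5, 6, 7, 3, 4, 5, 6]⟩, ⟨0, [], 746, 1, [9, 5, 4,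 6, 7, 6, 5, 4, 3, 4, 8, 9, 5, 4, 8, 6, 3, 4, 2, 3, 4, 8, 9, 5, 4, 8, 6, 5, 4, 7, 6, 3, 4, 8, 5, 4, 6, 5, 3, 2, 3, 4, 8, 5, 4, 11, 9, 8, 4, 5, 6, 7, 3, 4, 8, 5, 4, 2, 3, 4, 8, 9, 5, 4, 6]⟩], 1⟩ : Der)) (lfA (⟨2, 0, 0, [], [⟨0, [742, 744, 732, 730, 736, 740, 730, 732, 736, 730, 744, 736], 719, 0, [2, 3, 2, 4, 3, 2, 5, 6, 5, 4, 3, 7, 10, 7, 6, 5, 4, 3, 2, 1, 8, 4, 3, 2, 5, 4, 6, 9, 8, 4, 3, 2, 5, 4, 3, 6, 5, 7, 6, 8, 4, 5, 9, 8, 4, 3, 2, 1]⟩, ⟨0, [], 443, 0, [4, 3, 5, 4, 3, 2, 6, 5, 4, 8, 4, 3, 2, 5, 4, 3, 6, 5, 4, 7, 6, 5, 8, 4, 3, 2, 5, 4, 3, 6, 5, 7, 6, 8, 4, 3, 5, 9, 8, 4, 3, 2, 5, 4, 3, 6, 7, 8, 4, 5, 6, 9, 8, 4, 3, 5, 4, 10, 7, 6, 5, 4,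 3, 8, 4, 5, 6, 7, 10]⟩, ⟨0, [], 912, 1, [4, 8, 9, 5, 4, 6, 5, 4, 8, 3, 4, 8, 9, 5, 4, 8, 6, 5, 4, 3, 4, 8, 5, 4, 6, 7, 2, 3, 4, 8, 9, 5, 4, 8, 6, 5, 4, 7, 6, 3, 4, 8, 5, 4, 6, 3, 2, 3, 4, 8, 5, 11, 9, 8, 4, 5, 6, 7, 3, 4, 8, 9, 5, 4, 6, 2, 3, 4, 8, 9, 11, 5, 4, 8, 9, 6, 5, 3, 4, 8, 2, 3, 4, 5, 6, 7, 10, 7, 6, 5, 4, 8, 9, 11, 3, 4, 8, 9, 5, 4, 8, 6, 7, 2, 3, 4, 8, 9, 5, 4, 8, 6, 5, 7, 6, 3, 4, 5, 2, 3, 4, 8, 9, 11, 10]⟩], 1⟩ : Der))))) (ndA (nat_lit 556) (ndA (nat_lit 554) (ndA (nat_lit 553) (lfA (⟨2, 0, 0, [], [⟨0, [762, 760, 764, 772, 774, 758, 766, 772, 774, 768, 766, 770], 747, 1, [5, 3, 4, 2, 3, 7, 6, 5, 4, 8, 9, 11]⟩, ⟨0, [], 193, 1,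 [9, 5, 4, 8, 6, 5, 4, 7, 3, 4, 8, 9, 5, 4, 6, 5, 7, 3, 2, 3, 4, 8, 9, 5, 4, 6, 5, 3, 4, 8, 9, 2, 10, 7, 6, 5, 4, 8, 9, 3, 4, 8, 5, 4, 6, 5, 3, 2, 3, 4, 8, 5, 6, 7, 10]⟩, ⟨0, [], 718, 0, [7, 6, 3, 4, 5, 2, 3, 4, 8, 9, 7, 6, 5, 2, 3, 4, 8, 1, 2, 3, 4, 5, 6, 7, 4, 8, 9, 5, 4, 8, 3, 4, 5, 2, 3, 4, 8, 9, 5, 4, 8, 4, 5, 6, 3, 4, 5, 2, 3, 4, 8, 2, 3, 4, 2, 3, 2]⟩], 0⟩ : Der)) (lfA (⟨2, 0, 0, [], [⟨0, [774, 758, 772, 774, 764, 772, 766, 768, 770, 772, 760, 764, 766, 772, 774, 758, 766, 772, 760, 764, 762, 760, 766, 764], 747, 1, [9, 11, 8, 9, 11, 4, 5, 4, 2, 3, 4, 8, 9, 5, 4, 7, 6, 5, 4, 8, 3, 4, 2, 3, 10, 7, 6, 5, 4, 8, 9, 11]⟩, ⟨0, [], 202, 1,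 [9, 8, 5, 6, 5, 4, 8, 3, 4, 8, 9, 5, 4, 8, 6, 5, 4, 7, 6, 5, 3, 4, 8, 9, 5, 4, 8, 6, 5, 7, 6, 3, 4, 8, 5, 4, 2, 3, 4, 8, 9, 5, 4, 8, 6, 5, 7, 6, 3, 4, 8, 2, 3, 4, 5, 10, 7, 6, 5, 4, 8, 9, 3, 4, 8, 5, 4, 6, 5, 7, 2, 3, 4, 8, 9, 5, 4, 6, 3, 10]⟩, ⟨0, [], 688, 0, [1, 2, 1, 4, 3, 2, 1, 5, 6, 8, 4, 3, 2, 1, 5, 4, 3, 2, 6, 5, 4, 3, 8, 4, 3, 5, 6, 9, 7, 6, 5, 4, 3, 2, 8, 4, 3, 5, 4, 6, 5, 7, 6, 9, 8, 4, 3, 5, 4, 6, 8, 10, 7, 6, 5, 4, 3, 2, 8, 4, 5, 6]⟩], 0⟩ : Der))) (ndA (nat_lit 555) (lfA (⟨2, 0, 0, [], [⟨0, [770, 768, 766, 772, 774, 758, 766, 774, 772, 760], 747, 1, [9, 4, 5, 3, 2, 3, 4, 5, 6, 7, 10, 7, 6, 5, 4, 8, 9, 11, 3, 4, 8, 9, 5, 4, 6,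 2, 3, 4, 8, 9, 5, 4, 8, 6, 5, 7, 6, 3, 4, 5, 2, 3, 4, 8, 9, 11]⟩, ⟨0, [], 455, 1, [9, 8, 4, 8, 5, 4, 6, 5, 7, 6, 5, 4, 8, 3, 4, 8, 9, 5, 4, 6, 5, 7, 6, 2, 3, 4, 8, 9, 5, 4, 8, 6, 5, 7, 3, 4, 8, 9, 5, 6, 2, 3, 4, 8, 10, 7, 6, 5, 4, 8, 9, 3, 4, 8, 5, 4, 6, 5, 7, 6, 2, 3, 4, 8, 9, 5, 10]⟩, ⟨0, [], 962, 0, [4, 3, 5, 6, 5, 4, 3, 2, 1, 8, 4, 3, 2, 1, 5, 4, 3, 2, 6, 5, 4, 8, 9, 8, 4, 3, 2, 1, 5, 4, 3, 2, 6, 5, 8, 4, 3, 9, 8, 4, 7, 6, 5, 4, 3, 2, 1, 8, 4, 3, 2, 5, 6, 9, 8, 4, 3, 2, 5, 4, 3, 6, 5, 7, 6, 8, 4, 3, 2, 5, 4, 6, 7, 9, 8, 4, 10, 7, 6, 5, 4, 3, 2, 1, 8, 4, 3, 2, 5, 4, 3, 6, 5, 8, 9, 8, 4, 3, 2, 5, 4, 3, 6, 5, 7, 6, 8, 4, 3, 5, 4, 6, 9, 8,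 4, 3, 2, 1, 5, 4, 3, 2, 8]⟩], 0⟩ : Der)) (lfA (⟨2, 0, 0, [], [⟨0, [804, 796, 794, 808, 804, 800, 808, 804, 806], 777, 0, [4, 5, 4, 6, 5, 4, 8, 4, 5, 6, 9, 8, 4, 3, 5, 4, 6, 8, 7, 6, 5, 4, 3, 8, 4, 5, 6, 9, 8, 4, 10, 7, 6, 5, 4, 3, 2, 1]⟩, ⟨0, [], 211, 0, [2, 3, 4, 3, 2, 5, 4, 6, 8, 4, 3, 2, 5, 4, 3, 6, 5, 4, 8, 4, 3, 5, 6, 7, 9, 8, 4, 3, 2, 5, 4, 3, 6, 5, 7, 6, 8, 4, 3, 2, 5, 4, 6, 7, 9, 8, 4, 3, 2, 5, 4, 3, 8, 10, 7, 6, 5, 4, 3, 2, 8, 4, 3, 5, 4, 6, 5, 7, 6, 8, 4, 3, 5, 4, 10, 7]⟩, ⟨0, [], 468, 1, [8, 4, 8, 9, 5, 4, 6, 5, 7, 3, 4, 8, 5, 4, 6, 5, 3, 4, 8, 9, 2, 3, 4, 8, 9, 5, 4, 8, 6, 5, 4, 7, 6, 3, 4, 8, 11, 9, 8, 4, 5, 6, 7, 3, 4, 8, 9,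 5, 4, 2, 3, 4, 8, 9, 5, 4, 6, 5, 3, 4, 8, 9, 11, 10, 7, 6, 5, 4, 8, 9, 11, 3, 4, 8, 9, 5, 6, 7, 2, 3, 4, 8, 9, 11, 5, 4, 6, 5, 3, 4, 8, 2, 3, 10]⟩], 1⟩ : Der)))) (ndA (nat_lit 558) (ndA (nat_lit 557) (lfA (⟨2, 0, 0, [], [⟨0, [798, 796, 804, 808, 804, 802, 806, 798, 804, 802], 777, 0, [1, 2, 3, 4, 3, 5, 4, 3, 2, 6, 5, 4, 8, 4, 3, 2, 5, 4, 3, 8, 4, 5, 9, 7, 6, 5, 4, 3, 8, 10, 7, 6, 5, 4, 3, 2, 1]⟩, ⟨0, [], 233, 0, [4, 5, 4, 6, 5, 8, 4, 3, 2, 5, 4, 6, 5, 7, 6, 8, 9, 8, 4, 3, 2, 5, 4, 6, 5, 8, 4, 10, 7, 6, 5, 4, 3, 2, 8, 4, 5, 6, 7, 9, 8, 4, 3, 5, 6]⟩, ⟨0, [], 600, 1, [10, 2, 5, 4, 3, 6, 7, 5, 6, 9, 8, 4, 5, 11, 9, 8, 4, 3, 2, 5, 6, 4, 5, 9,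 8, 4, 3, 11, 9, 8, 4, 5, 6, 7, 10, 3, 6, 7, 4, 5, 6, 8, 4, 5, 11, 9, 8, 4, 3, 2, 8, 4, 5, 9, 8, 4, 3, 11, 9, 8, 4, 5, 6, 7, 3, 2, 5, 6, 4, 5, 9, 8, 4, 3, 4, 5, 6, 8, 4, 5, 9, 8, 4, 3, 2, 5, 4, 3, 5, 6, 8, 4, 5, 9, 8, 4, 3, 5, 11, 9, 8, 4, 9]⟩], 1⟩ : Der)) (lfA (⟨2, 0, 0, [], [⟨0, [802, 804, 808, 804, 800, 808, 806, 804], 777, 0, [4, 5, 6, 5, 4, 8, 4, 5, 9, 8, 4, 3, 5, 4, 6, 8, 7, 6, 5, 4, 3, 2, 1, 8, 4, 5, 6, 9, 8, 4, 3, 2]⟩, ⟨0, [], 240, 0, [2, 4, 5, 4, 3, 2, 6, 5, 7, 8, 4, 3, 5, 4, 6, 5, 9, 8, 4, 3, 2, 5, 4, 3, 6, 5, 4, 7, 6, 8, 4, 3, 2, 5, 4, 10, 7, 6, 5, 4, 3, 2, 8, 4, 3, 5, 4, 6, 5, 7, 6, 8, 4]⟩, ⟨0, [], 810, 1, [9, 8, 4, 8, 5, 4, 8,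 9, 6, 5, 4, 7, 6, 5, 3, 4, 8, 5, 4, 6, 5, 7, 6, 3, 4, 8, 5, 2, 3, 4, 11, 9, 8, 4, 5, 6, 7, 3, 4, 8, 5, 4, 6, 5, 3, 2, 3, 4, 8, 5, 4, 3]⟩], 1⟩ : Der))) (ndA (nat_lit 559) (lfA (⟨2, 0, 0, [], [⟨0, [796, 802, 804, 796, 804, 808, 802, 804, 808, 800], 777, 0, [2, 3, 2, 4, 3, 5, 6, 8, 4, 3, 2, 1, 5, 4, 3, 2, 8, 4, 3, 5, 6, 9, 8, 4, 3, 2, 5, 4, 3, 8, 4, 5, 9, 8, 4, 3, 2, 10, 7, 6, 5, 4, 3, 2, 1]⟩, ⟨0, [], 261, 0, [4, 8, 9, 5, 4, 8, 2, 3, 4, 5, 6, 7, 10, 6, 4, 5, 3, 4, 8, 9, 8, 4, 5, 3, 4, 8, 6, 7, 5, 6, 4, 5, 2, 3, 4, 8, 9, 5, 4, 8, 6, 3, 4, 5, 2, 3, 4, 8, 6, 7, 4, 5, 6, 3, 4, 5, 2, 3, 4, 8, 6, 7, 2, 3, 4, 5, 6, 2, 3]⟩, ⟨0, [], 810, 1, [11, 4, 8,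 9, 5, 4, 8, 9, 11, 3, 4, 8, 9, 5, 4, 8, 3, 2, 3, 4, 8, 9, 11, 5, 4, 8, 9, 6, 5, 4, 3, 4, 8, 9, 5, 4, 8, 3, 2, 3, 4, 7, 6, 5, 4, 8, 9, 11, 3, 4, 8, 9, 5, 4, 8, 2, 3, 4, 8, 5, 4, 6, 10, 7, 6, 5, 4, 8, 9, 11, 3, 4, 8, 9, 2, 3, 4, 8, 5, 4, 6, 5, 7, 6, 10, 7]⟩], 1⟩ : Der)) (lfA (⟨2, 0, 0, [], [⟨0, [792, 794, 790, 808, 804, 808, 806, 800], 777, 0, [2, 3, 4, 8, 5, 6, 4, 5, 3, 4, 8, 2, 3, 4, 5, 6, 7, 10, 7, 6, 5, 4, 8, 3, 4, 5, 2, 3, 4, 8, 9, 6, 3, 4, 5, 2, 3, 4, 8, 1, 2, 3, 4, 5, 6, 7, 5, 3, 4, 8, 9, 8, 4, 5, 2, 3, 4, 8, 5, 6, 5, 4, 3, 1, 2, 1]⟩, ⟨0, [], 278, 0, [5, 6, 7, 10, 4, 5, 2, 3, 4, 8, 6, 7, 5, 6, 4, 5, 3, 4, 8, 2, 3, 4, 5, 6, 7, 10, 7,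 6, 5, 4, 8, 3, 4, 5, 2, 3, 4, 8, 9, 8, 6, 7, 5, 6, 4, 5, 3, 4, 8, 6, 7, 4, 5, 6, 3, 4, 5, 2, 3, 4, 8, 4, 5, 6, 7, 4, 5, 6, 4, 5, 4, 2, 3]⟩, ⟨0, [], 810, 1, [3, 7, 6, 4, 5, 8, 4, 3, 2, 4, 3, 5, 6, 4, 5, 9, 8, 4, 3, 11, 9, 8, 4, 5, 6, 7, 10, 6, 7, 5, 6, 4, 5, 8, 4, 3, 2, 4, 5, 8, 4, 3, 9, 8, 4, 5, 6, 7, 11, 9, 8, 4, 3, 2, 5, 8, 4, 3, 4, 5, 6, 9, 8, 4, 5, 11, 9, 8, 4, 3, 2, 3, 9, 8, 4, 5, 11, 9, 8, 4, 3, 9, 8, 4, 5, 6, 11, 9, 8, 4, 5, 8, 4, 8, 11]⟩], 1⟩ : Der))))))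
noncomputable def DT35 : ℕ → Der := (ndA (nat_lit 568) (ndA (nat_lit 564) (ndA (nat_lit 562) (ndA (nat_lit 561) (lfA (⟨2, 0, 0, [], [⟨0, [798, 792, 806, 802, 806, 804, 808, 802, 804, 796, 790, 798, 792, 800], 777, 0, [3, 4, 8, 9, 5, 4, 8, 3, 4, 5, 6, 7, 3, 4, 8, 9, 6, 5, 4, 8, 6, 3, 4, 5, 1, 2, 3, 4, 8, 9, 4, 5, 3, 4, 8, 6, 5, 3, 4, 2, 3, 2, 1]⟩, ⟨0, [], 334, 0, [5, 4, 3, 6, 5, 7, 6, 5, 4, 3, 8, 4, 3, 2, 5, 4, 3, 6, 5, 4, 7, 6, 8, 4, 3, 2, 5, 4, 3, 8, 9, 8, 4, 3, 5, 4, 6, 5, 7, 8, 4, 9, 8, 10, 7, 6, 5, 4, 3, 2, 8, 4, 3, 5, 4, 6, 7, 9, 8, 4, 3, 2, 5, 10]⟩, ⟨0, [], 880, 1, [10, 7, 6, 5, 4, 3, 8, 4, 5, 6, 7, 10, 4, 3, 2, 11, 9, 8, 4, 3, 5, 6,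 7, 4, 5, 6, 8, 4, 5, 9, 8, 4, 3, 2, 6, 4, 5, 9, 8, 4, 3, 11, 9, 8, 4, 5, 6, 7, 2, 5, 9, 8, 4, 3, 8, 4, 5, 6, 9, 8, 4, 5, 11, 9, 8, 4, 3, 2, 11, 9, 8, 4, 3, 9, 8, 4, 5, 6, 9, 8, 4, 5, 9, 8, 4, 9, 8, 11, 9]⟩], 1⟩ : Der)) (lfA (⟨2, 0, 0, [], [⟨0, [800, 808, 804, 802, 806, 798, 792, 800, 802, 804, 808, 804], 777, 0, [4, 3, 6, 8, 4, 3, 2, 1, 5, 4, 3, 2, 6, 8, 4, 3, 9, 8, 4, 3, 2, 1, 5, 6, 7, 6, 5, 4, 3, 2, 1, 8, 4, 3, 2, 5, 4, 3, 6, 9, 8, 4, 3, 2, 5, 4, 3, 8, 4, 9, 8, 10, 7, 6, 5, 4, 3, 2, 1]⟩, ⟨0, [], 343, 0, [3, 2, 4, 3, 6, 7, 6, 5, 8, 4, 3, 2, 5, 4, 3, 6, 5, 4, 7, 6, 5, 8, 4, 3, 2, 5, 4, 3, 8, 9, 8, 4, 3, 2, 5, 4, 3, 6, 5, 7, 6, 8, 4, 3, 2,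 5, 4, 3, 6, 9, 8, 4, 3, 2, 5, 4, 3, 8, 4, 10, 7, 6, 5, 4, 3, 2, 8, 4, 3, 5, 4, 8, 9, 8, 4, 3, 2, 5, 4, 6, 7, 8, 10]⟩, ⟨0, [], 880, 1, [4, 8, 9, 5, 7, 6, 5, 3, 4, 8, 9, 5, 4, 8, 6, 5, 4, 7, 6, 5, 3, 4, 8, 9, 5, 4, 8, 6, 5, 4, 7, 6, 5, 3, 4, 8, 9, 5, 4, 6, 5, 7, 3, 4, 2, 11, 9, 8, 4, 5, 10, 7, 6, 5, 4, 8, 9, 11, 3, 4, 8, 5, 4, 6, 5, 7, 6, 3, 4, 8, 5, 4, 3, 10, 7, 6, 5, 4, 8, 9]⟩], 1⟩ : Der))) (ndA (nat_lit 563) (lfA (⟨2, 0, 0, [], [⟨0, [792, 798, 806, 808, 800], 777, 0, [3, 9, 8, 4, 3, 5, 4, 6, 5, 8, 4, 3, 9, 7, 6, 5, 4, 8, 10, 7, 6, 5, 4, 3, 2, 1, 8, 4, 3, 2, 5, 4, 6, 9, 8, 4, 3, 2, 5, 4, 3, 6, 5, 7, 6, 8, 4, 5, 9, 8, 4, 3, 2, 1]⟩, ⟨0, [],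 352, 0, [2, 3, 4, 3, 5, 4, 6, 5, 4, 3, 2, 7, 6, 8, 4, 3, 2, 5, 4, 3, 6, 5, 4, 7, 6, 5, 8, 4, 3, 2, 5, 4, 3, 6, 5, 4, 7, 6, 5, 8, 4, 3, 2, 5, 4, 6, 7, 10, 7, 6, 5, 4, 3, 2, 8, 4, 5, 6, 7, 10]⟩, ⟨0, [], 912, 1, [2, 6, 4, 5, 9, 8, 4, 3, 11, 9, 8, 4, 5, 6, 7, 10, 3, 2, 5, 9, 8, 4, 3, 5, 6, 9, 8, 4, 5, 11, 9, 8, 4, 3, 2, 3, 6, 4, 5, 9, 8, 4, 3, 7, 6, 5, 4, 8, 9, 11, 10, 6, 5, 9, 8, 4, 3, 2, 3, 7, 6, 4, 5, 8, 4, 3, 9, 8, 4, 5, 6, 7, 10, 2, 7, 6, 5, 8, 4, 3, 5, 6, 8, 4, 5, 9, 8, 4, 3, 2, 7, 6, 4, 5, 9, 8, 4, 3, 5, 6, 7, 9, 8, 4, 5, 6, 9, 8, 4, 5, 8, 4, 9]⟩], 1⟩ : Der)) (lfA (⟨2, 0, 0, [], [⟨0, [828, 844, 840], 811, 1, [4, 8, 9, 11, 5, 4, 8, 9, 11]⟩,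 ⟨0, [], 241, 1, [9, 8, 9, 4, 8, 9, 5, 4, 6, 5, 3, 4, 8, 9, 5, 6, 7, 2, 3, 4, 8, 9, 5, 4, 8, 6, 5, 4, 3, 4, 8, 9, 5, 4, 8, 6, 5, 4, 7, 10, 7, 6, 5, 4, 8, 9, 3, 4, 8, 5, 4, 6, 5, 3, 4, 8]⟩, ⟨0, [], 776, 0, [3, 2, 4, 5, 4, 6, 7, 6, 5, 4, 8, 4, 3, 2, 5, 4, 3, 6, 5, 7, 6, 8, 4, 3, 2, 5, 4, 3, 6, 7, 8, 4, 5, 9, 8, 4, 3, 2, 5, 4, 6, 5, 7, 6, 8, 4, 3, 5, 4, 8, 9, 8, 4, 3, 5, 1, 2, 3, 4, 5, 6, 7, 8, 4, 3, 5, 6, 9, 8, 4, 3, 5, 4]⟩], 0⟩ : Der)))) (ndA (nat_lit 566) (ndA (nat_lit 565) (lfA (⟨2, 0, 0, [], [⟨0, [832, 842, 840, 844, 838, 834, 842, 840, 832, 844], 811, 1, [9, 11, 8, 9, 3, 4, 8, 9, 11, 5, 4, 6, 5, 7, 6, 5, 4, 8, 9, 11, 3, 4, 8, 9, 5, 4, 6,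 5, 7, 6, 3, 4, 2, 3, 10, 7, 6, 5, 4, 8, 9, 11]⟩, ⟨0, [], 260, 1, [9, 8, 4, 8, 9, 5, 4, 6, 5, 4, 8, 9, 3, 4, 8, 9, 5, 4, 8, 6, 5, 4, 7, 6, 5, 3, 4, 8, 9, 5, 4, 6, 5, 7, 3, 4, 8, 2, 3, 4, 8, 5, 4, 6, 5, 3, 4, 8, 2, 3, 4, 10, 7, 6, 5, 4, 8, 9, 3, 4, 8, 5, 6, 7, 2, 3, 4, 8, 5, 4, 6, 5, 3]⟩, ⟨0, [], 776, 0, [9, 8, 4, 5, 3, 4, 8, 6, 7, 5, 6, 3, 4, 5, 2, 3, 4, 8, 9, 6, 5, 2, 3, 4, 8, 1, 2, 3, 4, 5, 6, 7, 10, 8, 9, 4, 8, 3, 4, 5, 6, 7, 3, 4, 5, 2, 3, 4, 8, 9, 4, 5, 1, 2, 3, 4, 8, 5, 6, 2, 3, 4, 5, 1, 2, 3, 4, 8, 9, 5, 4, 8, 3, 4, 5, 6, 2, 3, 4, 5, 1, 2, 3, 4, 8, 4, 5, 6, 3, 4, 5, 2, 3, 4, 1, 2, 3, 2]⟩], 0⟩ : Der)) (lfA (⟨2, 0, 0, [], [⟨0, [834, 838,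 834, 826, 828, 842, 844, 838, 844, 842, 840], 811, 1, [11, 9, 11, 8, 9, 4, 3, 4, 8, 9, 11, 5, 4, 8, 9, 6, 5, 4, 3, 4, 8, 9, 11, 5, 4, 8, 9, 6, 5, 4, 3, 2, 3, 10, 7, 6, 5, 4, 8, 9, 11]⟩, ⟨0, [], 271, 1, [5, 6, 7, 10, 2, 5, 4, 3, 6, 7, 5, 6, 4, 5, 8, 4, 3, 2, 3, 6, 7, 5, 6, 4, 5, 9, 8, 4, 3, 6, 7, 4, 5, 6, 8, 4, 5, 9, 8, 4, 3, 5, 6, 7, 9, 8, 4, 5, 4, 9, 8, 9]⟩, ⟨0, [], 546, 0, [6, 7, 10, 8, 9, 5, 3, 4, 8, 6, 7, 5, 6, 3, 4, 5, 2, 3, 4, 8, 9, 8, 6, 4, 5, 2, 3, 4, 8, 1, 2, 3, 4, 5, 6, 7, 10, 8, 9, 5, 4, 8, 5, 6, 3, 4, 5, 2, 3, 4, 8, 9, 5, 6, 4, 5, 2, 3, 4, 8, 1, 2, 3, 4, 5, 6, 7, 4, 5, 3, 4, 8, 9, 6, 5, 1, 2, 3, 4, 8, 5, 6, 2, 3, 4, 5, 1, 2, 3,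 4, 8, 9, 8, 6, 4, 5, 2, 3, 4, 8, 4, 5, 6, 1, 2, 3, 4, 5, 1, 2, 3, 1, 2, 1]⟩], 0⟩ : Der))) (ndA (nat_lit 567) (lfA (⟨2, 0, 0, [], [⟨0, [838, 844, 836, 842, 838, 834], 811, 1, [5, 4, 8, 6, 3, 4, 5, 2, 3, 4, 8, 9, 11, 7, 6, 5, 4, 8, 9, 3, 4, 8, 2, 3, 4, 10, 7, 6, 5, 4, 8, 9, 11]⟩, ⟨0, [], 275, 1, [8, 5, 6, 5, 7, 6, 5, 4, 3, 4, 8, 9, 5, 4, 8, 6, 5, 4, 7, 3, 4, 8, 2, 3, 4, 8, 10, 7, 6, 5, 4, 8, 9, 3, 4, 8, 5, 4, 2, 3]⟩, ⟨0, [], 508, 0, [2, 4, 3, 2, 5, 4, 3, 2, 6, 5, 4, 7, 6, 5, 4, 8, 4, 3, 5, 4, 6, 7, 9, 8, 4, 3, 5, 4, 6, 5, 7, 1, 2, 3, 4, 5, 6, 7, 8, 4, 3, 5, 4, 6, 5, 8, 4, 3, 9, 8, 4, 5, 10, 7, 6, 5, 4, 3, 2, 1, 8, 4, 3, 2, 5, 4, 6, 7, 9, 8,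 4, 3, 2, 5, 4, 3, 6, 5, 7, 6, 8, 4, 3, 2, 5, 9, 8, 4, 3]⟩], 0⟩ : Der)) (lfA (⟨2, 0, 0, [], [⟨0, [830, 842, 838, 834, 826, 828, 830, 844, 836, 838, 842, 844], 811, 1, [9, 11, 8, 9, 11, 5, 6, 5, 4, 8, 3, 4, 8, 9, 2, 3, 4, 8, 9, 11, 5, 6, 7, 6, 5, 4, 8, 9, 11, 3, 4, 8, 2, 3, 4, 5, 6, 7, 10, 7, 6, 5, 4, 8, 9, 11, 3, 4, 8, 9, 5, 4, 6, 2, 3, 4, 8, 9, 5, 4, 8, 6, 5, 7, 6, 3, 4, 5, 2, 3, 4, 8, 9, 11]⟩, ⟨0, [], 279, 1, [9, 4, 8, 9, 6, 5, 4, 8, 7, 6, 5, 4, 8, 3, 4, 8, 9, 5, 4, 8, 6, 5, 4, 7, 6, 3, 4, 8, 9, 5, 4, 8, 6, 5, 7, 3, 2, 3, 4, 8, 9, 5, 4, 8, 6, 5, 4, 7, 3, 4, 8, 9, 5, 4, 8, 6, 5, 10, 7, 6, 5, 4, 8, 9, 3, 4, 8, 5, 4, 3, 2, 3, 4, 8, 9, 5, 4,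 6, 7, 3]⟩, ⟨0, [], 776, 0, [10, 7, 6, 5, 3, 4, 8, 9, 8, 7, 6, 4, 5, 3, 4, 8, 2, 3, 4, 5, 6, 7, 10, 5, 6, 4, 5, 1, 2, 3, 4, 8, 9, 7, 4, 5, 6, 3, 4, 5, 2, 3, 4, 8, 1, 2, 3, 4, 5, 6, 7, 5, 2, 3, 4, 8, 9, 5, 2, 3, 4, 8, 4, 5, 6, 3, 4, 5, 1, 2, 3, 4, 8, 9, 5, 1, 2, 3, 4, 8, 5, 6, 3, 4, 5, 2, 3, 4, 8, 1, 2, 3, 4, 5, 2, 3, 4, 3]⟩], 0⟩ : Der))))) (ndA (nat_lit 572) (ndA (nat_lit 570) (ndA (nat_lit 569) (lfA (⟨2, 0, 0, [], [⟨0, [834, 844, 838, 834, 842, 840, 844, 842, 836], 811, 1, [8, 4, 5, 2, 3, 4, 8, 9, 5, 4, 8, 6, 7, 3, 4, 5, 6, 7, 2, 3, 4, 11, 9, 8, 4, 5, 6, 3, 4, 8, 9, 5, 4, 2, 3, 4, 8, 9, 11]⟩, ⟨0, [], 305, 1, [9, 8, 9, 4, 8, 5, 4, 8, 6, 5,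 7, 6, 5, 4, 8, 3, 4, 8, 9, 5, 4, 8, 3, 4, 5, 6, 2, 3, 4, 8, 9, 5, 4, 8, 6, 5, 4, 7, 6, 3, 4, 8, 9, 5, 4, 6, 2, 3, 4, 8, 5, 4, 3, 2, 10, 7, 6, 5, 4, 8, 9, 3, 4, 8, 5, 4, 6, 5, 7, 6, 3, 4, 8, 9, 5, 4, 10, 7, 6]⟩, ⟨0, [], 846, 0, [2, 3, 4, 8, 9, 4, 5, 3, 4, 8, 6, 5, 4, 3, 2, 1, 5, 6, 7, 10, 8, 4, 5, 3, 4, 8, 6, 7, 5, 6, 4, 5, 3, 4, 8, 2, 3, 4, 5, 6, 7, 10, 8, 9, 6, 5, 4, 8, 5, 6, 3, 4, 5, 2, 3, 4, 8, 9, 6, 7, 5, 6, 4, 5, 3, 4, 8, 4, 5, 6, 3, 4, 5, 2, 3, 4, 8, 2, 3, 4, 5, 6, 2, 3, 4, 5, 4]⟩], 0⟩ : Der)) (lfA (⟨2, 0, 0, [], [⟨0, [830, 828, 836, 844, 838, 842, 838, 840, 844, 836], 811, 1, [3, 2, 3, 4, 5, 8, 4, 3, 9, 8, 4, 5, 6, 7, 10, 5, 4, 3,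 2, 3, 4, 5, 8, 4, 3, 11, 9, 8, 4, 5, 6, 7, 5, 11, 9, 8, 4, 3, 2, 5, 11, 9, 8, 4, 3, 6, 5, 4, 8, 9, 11]⟩, ⟨0, [], 308, 1, [9, 4, 5, 4, 8, 9, 6, 5, 4, 7, 6, 3, 4, 2, 3, 4, 8, 9, 5, 4, 8, 6, 5, 7, 6, 3, 4, 8, 5, 4, 3, 2, 3, 4, 8, 9, 5, 4, 10, 7, 6, 5, 4, 8, 9, 3, 4, 8, 5, 4, 6, 3, 2, 3, 4, 8, 5, 4, 6, 5, 3]⟩, ⟨0, [], 846, 0, [2, 3, 4, 3, 2, 5, 6, 5, 7, 6, 5, 8, 4, 3, 2, 5, 4, 3, 6, 5, 7, 6, 8, 4, 9, 8, 4, 3, 2, 5, 4, 3, 6, 1, 2, 3, 4, 5, 6, 7, 8, 4, 3, 2, 5, 4, 6, 5, 9, 8, 4, 3, 5, 4, 6, 5, 8, 4, 3, 9, 10, 7, 6, 5, 4, 3, 2, 1, 8, 4, 3, 5, 4, 6, 5, 7, 6, 8, 4, 3, 5, 4, 8, 10, 7, 6, 5, 4, 3, 2]⟩], 0⟩ : Der))) (ndA (nat_lit 571) (lfA (⟨2, 0, 0,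 [], [⟨0, [842, 838, 834, 826], 811, 1, [8, 5, 4, 8, 6, 3, 4, 5, 7, 6, 10, 7, 6, 5, 4, 8, 9, 11, 3, 4, 8, 9, 5, 4, 6, 2, 3, 4, 8, 9, 5, 4, 8, 6, 5, 7, 6, 3, 4, 5, 2, 3, 4, 8, 9, 11]⟩, ⟨0, [], 378, 1, [4, 8, 5, 6, 5, 7, 6, 3, 4, 8, 9, 5, 4, 8, 6, 5, 4, 7, 6, 3, 4, 8, 9, 5, 4, 8, 6, 5, 4, 7, 6, 5, 10, 7, 6, 5, 4, 8, 9, 3, 4, 8, 5, 4, 6, 5, 7, 6, 3, 4, 8, 9, 5, 4, 3, 10, 7, 6, 5, 4]⟩, ⟨0, [], 962, 0, [1, 3, 4, 3, 5, 4, 8, 4, 3, 2, 1, 5, 4, 3, 2, 6, 5, 8, 4, 3, 5, 4, 6, 5, 8, 4, 3, 2, 1, 9, 8, 4, 3, 2, 1, 5, 4, 3, 2, 6, 5, 4, 8, 4, 3, 5, 6, 9, 7, 6, 5, 4, 3, 2, 1, 8, 4, 3, 2, 5, 4, 3, 6, 5, 8, 9, 8, 4, 3, 2, 5, 4, 3, 6, 7, 8, 4, 5, 6, 9, 8, 4,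 10, 7, 6, 5, 4, 3, 2, 1, 8, 4, 3, 2, 5, 4, 3, 6, 7, 9, 8, 4, 3, 2, 5, 4, 3, 6, 5, 7, 6, 8, 4, 3, 5, 6, 9, 8, 4, 3, 2, 5, 4, 8]⟩], 0⟩ : Der)) (lfA (⟨2, 0, 0, [], [⟨0, [878, 870, 874, 876, 874], 847, 0, [2, 1, 3, 2, 4, 3, 2, 1, 6, 8, 4, 3, 2, 5, 9, 8, 4, 3, 7, 6, 5, 4, 8, 9, 10, 7, 6, 5, 4, 3, 2, 1]⟩, ⟨0, [], 281, 0, [4, 5, 4, 6, 5, 4, 7, 6, 5, 4, 8, 4, 3, 2, 5, 4, 3, 6, 5, 7, 9, 8, 4, 3, 2, 5, 4, 3, 6, 5, 4, 7, 6, 5, 8, 4, 3, 5, 4, 6, 7, 10, 7, 6, 5, 4, 3, 2, 8, 4, 3, 5, 4, 6, 5, 7, 6, 9, 10, 7]⟩, ⟨0, [], 658, 1, [9, 8, 4, 8, 5, 6, 5, 4, 3, 4, 8, 9, 11, 5, 4, 8, 9, 6, 3, 4, 8, 5, 4, 6, 2, 3, 4, 8, 9, 5, 4, 8, 6, 5, 4, 3, 4, 8, 5, 4, 2, 7,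 6, 5, 4, 8, 3, 4, 5, 2, 10, 7, 6, 5, 4, 8, 9, 11, 3, 4, 8, 9, 5, 4, 6, 7, 2, 3, 4, 8, 9, 5, 4, 8, 6, 5, 7, 6, 3, 4, 8, 9, 5, 2, 3, 4, 8]⟩], 1⟩ : Der)))) (ndA (nat_lit 574) (ndA (nat_lit 573) (lfA (⟨2, 0, 0, [], [⟨0, [864, 874, 876, 872, 870, 878, 874, 868, 866, 876, 870, 874, 876], 847, 0, [2, 3, 4, 8, 9, 7, 6, 3, 4, 5, 2, 3, 4, 8, 1, 2, 3, 4, 5, 6, 7, 10, 8, 3, 4, 5, 6, 7, 9, 8, 3, 4, 5, 2, 3, 4, 8, 9, 4, 8, 3, 4, 5, 2, 3, 4, 8, 4, 5, 6, 5, 4, 1, 2, 3, 2, 1]⟩, ⟨0, [], 295, 0, [2, 3, 5, 6, 5, 4, 3, 2, 7, 6, 5, 4, 8, 4, 3, 2, 9, 8, 4, 3, 5, 4, 8, 9, 10, 7, 6, 5, 4, 3, 8, 4, 5, 6, 7, 9, 8, 4, 3, 5, 10]⟩, ⟨0, [], 600, 1, [9, 8, 4, 3, 2, 5, 8,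 4, 3, 11, 9, 8, 4, 5, 6, 7, 10, 5, 4, 3, 2, 8, 4, 3, 5, 6, 9, 8, 4, 5, 11, 9, 8, 4, 3, 2, 6, 4, 5, 9, 8, 4, 3, 7, 6, 5, 4, 8, 9, 11, 10, 4, 3, 7, 5, 6, 4, 5, 8, 4, 3, 9, 8, 4, 5, 6, 7, 10, 5, 8, 4, 3, 2, 6, 5, 8, 4, 3, 7, 5, 6, 8, 4, 5, 9, 8, 4, 3, 2, 4, 3, 8, 4, 5, 9, 8, 4, 3, 5, 6, 7, 4, 5, 6, 8, 4, 5, 9, 8, 4, 3, 5]⟩], 1⟩ : Der)) (lfA (⟨2, 0, 0, [], [⟨0, [868, 876, 874, 872, 876], 847, 0, [2, 3, 4, 5, 8, 4, 3, 2, 5, 4, 6, 5, 9, 8, 4, 3, 2, 1]⟩, ⟨0, [], 304, 0, [5, 4, 3, 6, 5, 4, 3, 8, 4, 3, 2, 5, 4, 3, 6, 5, 7, 8, 4, 3, 9, 8, 4, 3, 2, 5, 4, 3, 6, 5, 4, 7, 6, 5, 8, 4, 3, 5, 4, 6, 9, 8, 4, 5, 10, 7, 6, 5, 4, 3, 2, 8, 4, 3, 9, 8]⟩, ⟨0, [],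 810, 1, [10, 2, 3, 4, 5, 8, 4, 3, 2, 4, 3, 7, 5, 6, 4, 5, 9, 8, 4, 3, 11, 9, 8, 4, 5, 6, 7, 10, 2, 3, 5, 6, 4, 5, 8, 4, 3, 2, 3, 6, 4, 5, 8, 4, 3, 11, 9, 8, 4, 5, 6, 7, 5, 6, 4, 5, 8, 4, 3, 2, 5, 6, 4, 5, 9, 8, 4, 3, 5, 6, 9, 8, 4, 5, 11, 9, 8, 4, 3, 2, 6, 5, 8, 4, 3, 6, 11, 9, 8, 4, 5, 11, 9, 8, 4, 9, 8, 11, 9, 11]⟩], 1⟩ : Der))) (ndA (nat_lit 575) (lfA (⟨2, 0, 0, [], [⟨0, [866, 878, 876, 872, 862, 870, 872, 876, 874, 876], 847, 0, [2, 3, 2, 4, 3, 2, 1, 8, 4, 3, 5, 4, 6, 5, 8, 4, 3, 2, 1, 9, 8, 4, 7, 6, 5, 4, 3, 2, 8, 4, 3, 5, 4, 6, 5, 8, 4, 9, 8, 10, 7, 6, 5, 4, 3, 2, 1]⟩, ⟨0, [], 309, 0, [10, 7, 6, 5, 3, 4, 8, 9, 6, 4, 5, 3, 4, 8, 2, 3,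 4, 5, 6, 7, 10, 9, 8, 5, 6, 7, 4, 5, 6, 3, 4, 5, 2, 3, 4, 8, 6, 7, 4, 5, 6, 3, 4, 5, 2, 3, 4, 8, 3, 4, 5, 6, 2, 3, 4, 5, 2, 3, 4, 2, 3]⟩, ⟨0, [], 810, 1, [10, 4, 3, 5, 6, 8, 4, 5, 9, 8, 4, 3, 2, 7, 5, 6, 8, 4, 5, 9, 8, 4, 3, 11, 9, 8, 4, 5, 6, 7, 10, 7, 4, 5, 6, 9, 8, 4, 5, 11, 9, 8, 4, 3, 2, 4, 5, 8, 4, 3, 9, 8, 4, 5, 6, 7, 3, 2, 11, 9, 8, 4, 3, 4, 5, 6, 8, 4, 5, 9, 8, 4, 3, 2, 6, 5, 9, 8, 4, 3, 8, 4, 5, 6, 9, 8, 4, 5, 11, 9, 8, 4, 3, 5, 6, 4, 5, 9, 11]⟩], 1⟩ : Der)) (lfA (⟨2, 0, 0, [], [⟨0, [860, 876, 872, 878, 870, 876], 847, 0, [1, 2, 1, 3, 2, 6, 5, 4, 3, 9, 8, 4, 3, 7, 6, 5, 4, 3, 2, 1, 8, 4, 3, 2, 9]⟩, ⟨0, [], 310, 0, [5, 6, 7, 10,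 3, 4, 8, 5, 6, 4, 5, 3, 4, 8, 9, 7, 6, 5, 4, 8, 3, 4, 5, 6, 7, 10, 4, 5, 2, 3, 4, 8, 4, 5, 6, 3, 4, 5, 2, 3, 4, 8, 9, 7, 6, 5, 4, 8, 3, 4, 5, 2, 3, 4, 8, 5, 6, 7, 4, 5, 6, 3, 4, 5, 2, 3, 4, 8, 5, 6, 7, 5, 6, 2, 3, 4, 5, 4, 2, 3, 2]⟩, ⟨0, [], 880, 1, [9, 8, 9, 4, 8, 6, 5, 7, 6, 3, 4, 8, 5, 4, 6, 5, 7, 6, 3, 4, 8, 9, 5, 4, 8, 2, 3, 4, 8, 5, 4, 6, 5, 7, 6, 3, 4, 8, 2, 3, 4, 11, 9, 8, 4, 5, 6, 7, 3, 4, 8, 9, 5, 4, 6, 5, 2, 3, 4, 8, 9, 5, 4, 8, 3, 4, 5, 2]⟩], 1⟩ : Der))))))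
noncomputable def DT36 : ℕ → Der := (ndA (nat_lit 584) (ndA (nat_lit 580) (ndA (nat_lit 578) (ndA (nat_lit 577) (lfA (⟨2, 0, 0, [], [⟨0, [870, 874, 868, 876, 870, 878, 876, 874, 868, 862, 860, 870, 876, 872, 878], 847, 0, [3, 4, 3, 5, 4, 3, 6, 5, 7, 6, 5, 4, 8, 4, 9, 8, 4, 3, 2, 5, 4, 3, 6, 5, 7, 6, 8, 4, 3, 5, 4, 6, 9, 8, 4, 1, 2, 3, 4, 5, 6, 8, 4, 3, 2, 9, 8, 4, 3, 5, 4, 10, 7, 6, 5, 4, 3, 2, 1]⟩, ⟨0, [], 324, 0, [5, 4, 3, 6, 8, 4, 3, 2, 5, 4, 6, 9, 8, 4, 3, 2, 5, 4, 3, 6, 5, 4, 7, 8, 4, 3, 2, 5, 9, 10, 7, 6, 5, 4, 3, 2, 8, 4, 3, 5, 4, 6, 5, 7, 6, 9, 8, 4, 3, 5, 4, 8]⟩, ⟨0, [], 880, 1, [3, 2, 4, 3, 5, 6, 4, 5, 8, 4, 3, 2, 6, 7, 5, 6, 4,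 5, 9, 8, 4, 3, 11, 9, 8, 4, 5, 6, 7, 10, 8, 4, 3, 5, 6, 4, 5, 8, 4, 3, 2, 9, 8, 4, 3, 11, 9, 8, 4, 5, 6, 7, 8, 4, 5, 9, 8, 4, 3, 2, 6, 4, 5, 11, 9, 8, 4, 3, 4, 5, 6, 9, 8, 4, 5, 11, 9, 8, 4, 3, 2, 3, 8, 4, 5, 6, 9, 8, 4, 5, 11, 9, 8, 4, 3, 4, 5, 6, 8, 4, 5, 9, 8, 4, 3, 6, 5, 4, 8, 11, 9]⟩], 1⟩ : Der)) (lfA (⟨2, 0, 0, [], [⟨0, [862, 874, 868, 860, 870, 872, 878, 876, 874], 847, 0, [1, 2, 1, 4, 3, 2, 1, 8, 4, 3, 2, 1, 5, 4, 9, 8, 4, 3, 5, 4, 6, 5, 8, 9, 7, 6, 5, 4, 3, 8, 4, 9, 10, 7, 6, 5, 4, 3, 2, 1, 8, 4, 3, 2, 5, 4, 6, 9, 8, 4, 3, 2, 5, 4, 3, 6, 5, 7, 6, 8, 4, 5, 9, 8, 4, 3, 2, 1]⟩, ⟨0, [], 347, 0, [10, 9, 7, 6, 5, 4, 8, 3, 4, 5, 6, 7, 10,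 3, 4, 5, 2, 3, 4, 8, 9, 6, 5, 3, 4, 8, 6, 7, 4, 5, 6, 3, 4, 5, 2, 3, 4, 8, 9, 4, 5, 3, 4, 8, 7, 4, 5, 6, 3, 4, 2, 3, 2]⟩, ⟨0, [], 880, 1, [5, 4, 3, 11, 9, 8, 4, 5, 6, 7, 10, 7, 6, 5, 4, 3, 2, 5, 8, 4, 3, 4, 5, 6, 9, 8, 4, 5, 11, 9, 8, 4, 3, 2, 6, 4, 5, 9, 8, 4, 3, 7, 6, 5, 4, 8, 9, 11, 10, 7, 5, 6, 4, 5, 9, 8, 4, 3, 2, 3, 6, 4, 5, 8, 4, 3, 9, 8, 4, 5, 6, 7, 10, 2, 9, 8, 4, 3, 5, 6, 4, 5, 9, 8, 4, 3, 2, 6, 5, 9, 8, 4, 3, 5, 6, 8, 4, 5, 9, 8, 4, 3, 5, 6, 7, 5, 4, 9, 8]⟩], 1⟩ : Der))) (ndA (nat_lit 579) (lfA (⟨2, 0, 0, [], [⟨0, [862, 870, 872, 862, 876, 872], 847, 0, [4, 3, 2, 1, 5, 4, 3, 2, 8, 4, 3, 5, 4, 6, 5, 8, 7, 6, 10, 7, 6, 5, 4, 3, 2,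 1, 8, 4, 3, 2, 5, 4, 6, 9, 8, 4, 3, 2, 5, 4, 3, 6, 5, 7, 6, 8, 4, 5, 9, 8, 4, 3, 2, 1]⟩, ⟨0, [], 377, 0, [2, 3, 2, 5, 6, 5, 7, 8, 4, 3, 2, 5, 4, 3, 6, 8, 4, 5, 9, 8, 4, 3, 2, 5, 4, 3, 6, 5, 4, 7, 6, 8, 4, 3, 5, 4, 6, 5, 8, 9, 8, 4, 3, 2, 5, 4, 3, 10, 7, 6, 5, 4, 3, 2, 8, 4, 3, 5, 4, 6, 5, 7, 9, 8, 4, 3, 5, 4]⟩, ⟨0, [], 912, 1, [3, 7, 6, 4, 5, 8, 4, 3, 11, 9, 8, 4, 5, 6, 7, 10, 3, 2, 4, 3, 5, 6, 8, 4, 5, 11, 9, 8, 4, 3, 2, 6, 4, 5, 11, 9, 8, 4, 3, 7, 6, 5, 4, 8, 9, 11, 5, 4, 3, 2, 7, 6, 4, 5, 8, 4, 3, 9, 8, 4, 5, 6, 7, 10, 3, 2, 7, 6, 4, 5, 8, 4, 3, 5, 6, 7, 4, 5, 6, 8, 4, 5, 9, 8, 4, 3, 2, 4, 3, 7, 4, 5, 6, 8, 4, 5, 9, 8, 4, 3, 5, 6, 7, 4,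 5, 6, 8, 4, 5, 9, 8, 4, 3, 5, 6, 7, 4, 5, 6, 5, 8, 4, 9]⟩], 1⟩ : Der)) (lfA (⟨2, 0, 0, [], [⟨0, [894, 902, 906, 910, 906, 902, 904, 910], 881, 1, [11, 9, 11, 4, 8, 9, 5, 6, 5, 4, 8, 9, 11, 3, 4, 7, 6, 5, 4, 8, 9, 11, 3, 4, 8, 9, 5, 4, 6]⟩, ⟨0, [], 311, 1, [5, 6, 7, 10, 3, 4, 5, 8, 4, 3, 6, 7, 5, 6, 4, 5, 8, 4, 3, 9, 8, 4, 5, 6, 7, 10, 2, 7, 6, 5, 4, 3, 5, 6, 7, 4, 5, 6, 8, 4, 5, 9, 8, 4, 3, 2, 6, 5, 4, 3, 8, 4, 5, 9, 8, 4, 3, 6, 7, 5, 6, 4, 5, 8, 4, 3, 9, 8, 4, 5, 4]⟩, ⟨0, [], 846, 0, [5, 6, 5, 4, 3, 7, 6, 8, 4, 3, 5, 4, 6, 5, 7, 6, 8, 4, 3, 5, 4, 9, 8, 4, 3, 2, 5, 4, 3, 6, 5, 4, 7, 6, 5, 8, 4, 3, 2, 9, 8, 4, 3, 1, 2, 3, 4, 5, 6, 7, 8, 4,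 3, 5, 4, 6, 5, 9, 8, 4]⟩], 0⟩ : Der)))) (ndA (nat_lit 582) (ndA (nat_lit 581) (lfA (⟨2, 0, 0, [], [⟨0, [898, 906, 898, 900, 892, 894, 910, 902, 908, 910, 904, 902, 906, 902, 904], 881, 1, [9, 11, 4, 8, 5, 4, 8, 3, 4, 8, 9, 11, 5, 4, 6, 5, 3, 2, 3, 4, 8, 9, 11, 5, 4, 8, 6, 5, 7, 6, 5, 4, 8, 9, 11, 3, 4, 8, 9, 5, 6, 2, 3, 4, 8, 5, 4, 6, 3, 10, 7, 6, 5, 4, 8, 9, 11]⟩, ⟨0, [], 320, 1, [8, 4, 5, 6, 5, 4, 8, 9, 7, 6, 5, 4, 3, 4, 8, 9, 5, 4, 8, 6, 5, 4, 7, 6, 2, 3, 4, 8, 9, 5, 4, 8, 6, 5, 4, 7, 3, 4, 8, 9, 5, 4, 2, 3, 4, 5, 6, 10, 7, 6, 5, 4, 8, 9, 3, 4, 8, 5, 4, 6, 5, 7, 6, 3, 4, 8, 9, 5, 4, 8, 3]⟩, ⟨0, [], 546, 0, [1, 2, 3, 2, 5, 4, 3, 6, 5, 4,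 3, 2, 1, 8, 4, 3, 2, 1, 5, 4, 3, 6, 5, 4, 8, 4, 3, 2, 1, 5, 4, 9, 8, 4, 3, 2, 1, 5, 4, 6, 5, 8, 4, 9, 8, 7, 6, 5, 4, 3, 2, 1, 8, 4, 3, 2, 5, 4, 3, 6, 9, 8, 4, 3, 2, 5, 4, 6, 5, 7, 6, 8, 4, 5, 9, 8, 4, 10, 7, 6, 5, 4, 3, 2, 1, 8, 4, 3, 2, 5, 4, 6, 5, 9, 8, 4, 3, 5, 4, 6, 5, 7, 6, 8, 9]⟩], 0⟩ : Der)) (lfA (⟨2, 0, 0, [], [⟨0, [910, 906, 898, 892, 902, 906, 910, 906, 902, 904, 892, 902, 908], 881, 1, [6, 5, 4, 8, 9, 3, 4, 8, 9, 5, 4, 8, 6, 5, 4, 3, 4, 8, 9, 11, 5, 4, 2, 3, 4, 8, 9, 11, 5, 4, 8, 9, 6, 5, 3, 4, 8, 5, 2, 3, 4, 5, 6, 7, 6, 5, 4, 8, 3, 4, 5, 6, 2, 3, 10, 7, 6, 5, 4, 8, 9, 11]⟩, ⟨0, [], 325, 1, [10, 7, 6, 5, 8, 4, 3, 2, 6, 4, 5, 8,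 4, 3, 9, 8, 4, 5, 6, 7, 10, 4, 3, 2, 8, 4, 5, 9, 8, 4, 3, 5, 6, 7, 4, 5, 6, 8, 4, 5, 9, 8, 4, 3, 2, 3, 6, 7, 4, 5, 6, 8, 4, 5, 9, 8, 4, 3, 4, 5, 6, 8, 4, 5, 9, 8, 4, 3, 4, 5, 6, 9, 8, 4, 9, 8]⟩, ⟨0, [], 846, 0, [9, 5, 4, 8, 3, 4, 5, 6, 7, 10, 6, 5, 4, 8, 9, 5, 6, 4, 5, 3, 4, 8, 4, 5, 6, 2, 3, 4, 5, 1, 2, 3, 4, 8, 9, 6, 4, 5, 1, 2, 3, 4, 8, 7, 6, 5, 4, 3, 2, 1, 10, 6, 5, 2, 3, 4, 8, 9, 6, 7, 5, 6, 4, 5, 3, 4, 8, 2, 3, 4, 5, 6, 7, 10, 9, 8, 4, 5, 6, 3, 4, 5, 2, 3, 4, 8, 9, 4, 5, 3, 4, 8, 2, 3, 4, 5, 6, 7, 3, 4, 5, 6, 2, 3, 4, 5]⟩], 0⟩ : Der))) (ndA (nat_lit 583) (lfA (⟨2, 0, 0, [], [⟨0, [898, 902, 906, 910, 902, 904, 892, 902, 910, 904, 906,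 902], 881, 1, [9, 8, 4, 5, 4, 8, 9, 11, 6, 5, 4, 3, 4, 8, 9, 5, 4, 6, 5, 3, 4, 7, 6, 5, 4, 8, 9, 3, 4, 5, 6, 2, 3, 4, 8, 9, 11]⟩, ⟨0, [], 335, 1, [8, 9, 5, 4, 8, 6, 5, 7, 6, 5, 4, 8, 3, 4, 8, 9, 5, 4, 8, 6, 5, 4, 7, 6, 5, 3, 4, 8, 9, 5, 4, 3, 2, 3, 4, 8, 9, 5, 4, 8, 6, 7, 3, 4, 5, 6, 2, 3, 4, 8, 9, 5, 4, 8, 3, 10, 7, 6, 5, 4, 8, 9, 3, 4, 8, 5, 4, 6, 5, 7, 3, 4, 2, 3]⟩, ⟨0, [], 776, 0, [3, 4, 8, 9, 5, 4, 8, 5, 6, 3, 4, 5, 1, 2, 3, 4, 8, 9, 6, 3, 4, 5, 2, 3, 4, 8, 7, 6, 5, 4, 3, 2, 1, 7, 10, 5, 4, 8, 9, 4, 8, 6, 7, 5, 6, 4, 5, 3, 4, 8, 2, 3, 4, 5, 6, 7, 10, 4, 8, 9, 6, 5, 2, 3, 4, 8, 6, 7, 4, 5, 6, 3, 4, 5, 2, 3, 4, 8, 9, 4, 5, 6, 3, 4, 5,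 2, 3, 4, 8, 5, 6, 7, 4, 5, 6, 3, 4, 5, 2, 3, 4, 8, 6, 7, 4, 5, 6, 5, 4]⟩], 0⟩ : Der)) (lfA (⟨2, 0, 0, [], [⟨0, [906, 898, 902, 908, 910, 904, 902, 906, 910, 902, 904], 881, 1, [4, 8, 9, 5, 4, 8, 6, 5, 4, 8, 9, 11, 3, 4, 8, 9, 5, 4, 6, 5, 2, 3, 4, 8, 7, 6, 5, 4, 8, 9, 11, 3, 4, 8, 9, 5, 4, 8, 2, 3, 4, 10, 7, 6, 5, 4, 8, 9, 11]⟩, ⟨0, [], 339, 1, [7, 10, 6, 5, 4, 3, 2, 7, 6, 4, 5, 8, 4, 3, 9, 8, 4, 5, 6, 7, 10, 2, 6, 5, 8, 4, 3, 7, 4, 5, 6, 8, 4, 5, 9, 8, 4, 3, 2, 7, 6, 5, 9, 8, 4, 3, 5, 6, 7, 8, 4, 5, 6, 8, 4, 5, 8, 4, 8]⟩, ⟨0, [], 688, 0, [4, 8, 3, 4, 5, 6, 7, 10, 7, 6, 5, 3, 4, 8, 9, 6, 5, 3, 4, 8, 3, 4, 5, 6, 2, 3, 4, 5, 1, 2, 3, 4, 8, 9,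 5, 6, 4, 5, 2, 3, 4, 8, 7, 6, 5, 4, 3, 2, 1, 3, 4, 8, 9, 5, 3, 4, 8, 2, 3, 4, 5, 6, 7, 10, 4, 5, 6, 3, 4, 5, 2, 3, 4, 8, 9, 3, 4, 8, 5, 6, 7, 6, 5, 3, 4, 2, 3]⟩], 0⟩ : Der))))) (ndA (nat_lit 588) (ndA (nat_lit 586) (ndA (nat_lit 585) (lfA (⟨2, 0, 0, [], [⟨0, [896, 894], 881, 1, [11, 9, 4, 8, 7, 6, 5, 4, 3, 10, 7, 6, 5, 4, 8, 9, 11]⟩, ⟨0, [], 342, 1, [8, 5, 4, 8, 6, 7, 6, 5, 4, 8, 3, 4, 8, 9, 5, 4, 8, 6, 5, 7, 6, 3, 4, 8, 5, 4, 6, 2, 3, 4, 8, 9, 5, 4, 8, 6, 5, 4, 7, 3, 4, 8, 9, 5, 4, 8, 6, 10, 7, 6, 5, 4, 8, 9, 3, 4, 8, 5, 4, 6, 5, 7, 3]⟩, ⟨0, [], 776, 0, [3, 4, 5, 4, 3, 6, 5, 4, 3, 7, 6, 8, 4, 3, 5, 6, 7, 9, 8, 4, 3, 2, 5, 6, 10, 7, 6, 5,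 4, 3, 2, 8, 4, 3, 5, 4, 6, 5, 7, 6, 8, 4, 3, 2, 5, 4, 3, 8, 10, 7, 6, 5, 1, 2, 3, 4, 5, 6, 7, 8, 4, 3, 5, 4, 9, 8, 4, 3, 2, 1, 5, 4, 3, 2, 6, 5, 4, 3, 8, 4, 5, 9, 8, 10, 7, 6, 5, 4, 8]⟩], 0⟩ : Der)) (lfA (⟨2, 0, 0, [], [⟨0, [906, 910, 904, 892, 908, 902, 910, 904, 892, 906], 881, 1, [8, 9, 11, 4, 5, 4, 8, 6, 3, 4, 8, 9, 5, 4, 8, 2, 3, 4, 8, 5, 4, 6, 3, 7, 6, 5, 4, 8, 3, 4, 5, 6, 2, 3, 4, 10, 7, 6, 5, 4, 8, 9, 11, 3, 4, 8, 9, 5, 4, 6, 2, 3, 4, 8, 9, 5, 4, 8, 6, 5, 7, 6, 3, 4, 5, 2, 3, 4, 8, 9, 11]⟩, ⟨0, [], 346, 1, [9, 8, 4, 3, 2, 5, 8, 4, 3, 9, 8, 4, 5, 6, 7, 10, 3, 2, 7, 6, 5, 4, 3, 6, 8, 4, 5, 9, 8, 4, 3, 2, 8, 4, 5, 9, 8, 4, 3, 6, 7, 4,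 5, 6, 8, 4, 5, 9, 8, 4, 3, 4, 5, 6, 7, 8, 4, 9]⟩, ⟨0, [], 846, 0, [10, 7, 6, 5, 2, 3, 4, 8, 9, 8, 5, 6, 4, 5, 3, 4, 8, 1, 2, 3, 4, 5, 6, 7, 10, 8, 7, 5, 6, 4, 5, 1, 2, 3, 4, 8, 9, 7, 6, 3, 4, 5, 2, 3, 4, 8, 1, 2, 3, 4, 5, 6, 7, 9, 8, 6, 4, 5, 3, 4, 8, 9, 8, 6, 4, 5, 3, 4, 8, 3, 4, 5, 6, 2, 3, 4, 5, 1, 2, 3, 4, 8, 9, 6, 5, 4, 8, 2, 3, 4, 5, 6, 2, 3, 4, 5, 2, 3, 4, 2, 3, 2, 1]⟩], 0⟩ : Der))) (ndA (nat_lit 587) (lfA (⟨2, 0, 0, [], [⟨0, [910, 908, 906, 898, 896, 910, 902, 906, 902], 881, 1, [9, 11, 8, 9, 4, 8, 9, 11, 6, 3, 4, 8, 9, 5, 6, 2, 3, 4, 8, 7, 6, 5, 4, 8, 3, 4, 5, 6, 7, 2, 3, 4, 5, 6, 10, 7, 6, 5, 4, 8, 9, 11, 3, 4, 8, 9, 5, 4, 6, 2,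 3, 4, 8, 9, 5, 4, 8, 6, 5, 7, 6, 3, 4, 5, 2, 3, 4, 8, 9, 11]⟩, ⟨0, [], 399, 1, [5, 6, 5, 4, 8, 9, 3, 4, 8, 9, 5, 4, 8, 6, 5, 4, 7, 6, 3, 4, 8, 5, 4, 6, 5, 7, 3, 2, 3, 4, 8, 9, 5, 4, 8, 6, 5, 4, 7, 6, 3, 4, 8, 5, 6, 2, 3, 4, 5, 6, 7, 10, 7, 6, 5, 4, 8, 9, 3, 4, 8, 5, 4, 6, 5, 7, 3, 4, 2, 3, 4, 10]⟩, ⟨0, [], 962, 0, [9, 6, 5, 3, 4, 8, 1, 2, 3, 4, 5, 6, 7, 10, 4, 8, 9, 7, 6, 5, 3, 4, 8, 5, 6, 2, 3, 4, 5, 1, 2, 3, 4, 8, 9, 5, 6, 3, 4, 5, 2, 3, 4, 8, 7, 6, 5, 4, 3, 2, 1, 7, 6, 5, 4, 8, 9, 4, 8, 7, 5, 6, 4, 5, 3, 4, 8, 2, 3, 4, 5, 6, 7, 10, 4, 5, 3, 4, 8, 9, 7, 6, 4, 5, 3, 4, 8, 5, 6, 7, 4, 5, 6, 3, 4, 5, 2, 3, 4, 8, 9, 5, 4, 8, 5, 6, 3, 4, 5,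 2, 3, 4, 8, 3, 4, 5, 6, 7, 4, 5, 6, 5, 4, 2, 3, 2]⟩], 0⟩ : Der)) (lfA (⟨2, 0, 0, [], [⟨0, [946, 942, 932, 928, 936, 932, 940], 913, 1, [11, 9, 11, 5, 4, 3, 4, 8, 9, 5, 4, 8, 3, 2, 3, 4, 8, 9, 11, 5, 4, 8, 9, 6, 5, 3, 4, 8, 9, 5, 2, 3, 4, 7, 6, 5, 4, 8, 3, 4, 2, 3, 10, 7, 6, 5, 4, 8, 9, 11]⟩, ⟨0, [], 353, 1, [4, 3, 2, 7, 6, 5, 8, 4, 3, 9, 8, 4, 5, 6, 7, 10, 4, 3, 2, 7, 5, 6, 4, 5, 8, 4, 3, 7, 4, 5, 6, 8, 4, 5, 9, 8, 4, 3, 2, 7, 6, 5, 8, 4, 3, 7, 4, 5, 6, 8, 4, 5, 9, 8, 4, 3, 8, 4, 5, 9, 8]⟩, ⟨0, [], 776, 0, [9, 8, 3, 4, 5, 6, 7, 10, 7, 6, 4, 5, 3, 4, 8, 9, 6, 4, 5, 3, 4, 8, 3, 4, 5, 6, 2, 3, 4, 5, 1, 2, 3, 4, 8, 9, 6, 4, 5, 1, 2, 3, 4, 8,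 7, 6, 5, 4, 3, 2, 1, 6, 5, 3, 4, 8, 9, 8, 5, 6, 4, 5, 3, 4, 8, 2, 3, 4, 5, 6, 7, 10, 9, 4, 8, 7, 5, 6, 3, 4, 5, 2, 3, 4, 8, 9, 3, 4, 8, 5, 6, 3, 4, 5, 2, 3, 4, 8, 5, 6, 2, 3, 4, 5, 4, 3]⟩], 0⟩ : Der)))) (ndA (nat_lit 590) (ndA (nat_lit 589) (lfA (⟨2, 0, 0, [], [⟨0, [930, 950, 934, 932, 946, 932, 942, 930, 928, 938, 954], 913, 1, [8, 9, 4, 5, 4, 8, 9, 6, 5, 7, 3, 4, 8, 9, 5, 4, 8, 6, 5, 4, 3, 4, 8, 9, 5, 4, 8, 6, 5, 2, 3, 4, 8, 9, 5, 4, 8, 6, 5, 7, 6, 3, 4, 8, 9, 5, 4, 8, 6, 2, 3, 4, 8, 5, 4, 10, 7, 6, 5, 4, 8, 9, 3, 4, 8, 5, 4, 6, 5, 7, 6, 3, 4, 2, 3, 4, 5, 10, 11, 9, 8, 4, 5, 6, 3, 4, 5, 2, 3, 4, 8, 9, 11]⟩, ⟨0, [], 366, 1, [8, 4, 3, 2,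 7, 5, 6, 4, 5, 8, 4, 3, 9, 8, 4, 5, 6, 7, 10, 5, 8, 4, 3, 2, 7, 6, 5, 9, 8, 4, 3, 6, 7, 4, 5, 6, 8, 4, 5, 9, 8, 4, 3, 2, 6, 7, 5, 6, 4, 5, 8, 4, 3, 5, 6, 7, 4, 5, 6, 8, 4, 5, 9, 8, 4, 3, 4, 5, 6, 7, 9, 8, 4, 5, 9]⟩, ⟨0, [], 546, 0, [7, 10, 7, 6, 5, 3, 4, 8, 9, 8, 7, 5, 6, 3, 4, 5, 2, 3, 4, 8, 1, 2, 3, 4, 5, 6, 7, 10, 5, 4, 8, 1, 2, 3, 4, 5, 6, 7, 3, 4, 8, 5, 6, 4, 5, 3, 4, 8, 2, 3, 4, 5, 1, 2, 3, 4, 8, 9, 5, 6, 4, 5, 3, 4, 8, 4, 5, 6, 3, 4, 5, 2, 3, 4, 8, 6, 1, 2, 3, 4, 1]⟩], 0⟩ : Der)) (lfA (⟨2, 0, 0, [], [⟨0, [938, 948, 928, 948, 942, 932, 928, 936], 913, 1, [11, 9, 11, 8, 9, 3, 4, 8, 9, 11, 5, 4, 8, 9, 3, 4, 5, 2, 3, 4, 8, 9, 5, 4, 6,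 5, 3, 4, 8, 2, 7, 6, 5, 4, 8, 9, 3, 4, 8, 5, 4, 2, 3, 10, 7, 6, 5, 4, 8, 9, 11]⟩, ⟨0, [], 376, 1, [9, 8, 4, 5, 4, 8, 6, 7, 6, 5, 3, 4, 8, 9, 5, 4, 8, 6, 5, 7, 3, 4, 8, 9, 5, 6, 7, 2, 3, 4, 8, 9, 5, 4, 8, 6, 5, 4, 7, 6, 5, 3, 4, 8, 5, 4, 6, 5, 2, 3, 4, 8, 9, 5, 4, 8, 3, 4, 10, 7, 6, 5, 4, 8, 9, 3, 4, 8, 5, 4, 2, 3, 4, 8, 5, 4, 6, 5, 7]⟩, ⟨0, [], 846, 0, [8, 2, 3, 4, 5, 6, 7, 10, 7, 6, 5, 2, 3, 4, 8, 9, 5, 1, 2, 3, 4, 8, 4, 5, 6, 2, 3, 4, 5, 1, 2, 3, 4, 8, 9, 6, 4, 5, 2, 3, 4, 8, 7, 6, 5, 4, 3, 2, 1, 9, 6, 7, 5, 6, 4, 5, 3, 4, 8, 2, 3, 4, 5, 6, 7, 10, 4, 5, 3, 4, 8, 9, 4, 5, 3, 4, 8, 5, 6, 7, 4, 5, 6, 3, 4, 5, 2, 3, 4, 8, 9, 3, 4, 8, 5, 6,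 4, 5, 2, 3, 4, 8, 6, 7, 4, 5, 6, 2, 3, 4]⟩], 0⟩ : Der))) (ndA (nat_lit 591) (lfA (⟨2, 0, 0, [], [⟨0, [948, 934, 958, 948, 934, 944, 928, 954, 940, 926, 948, 928, 948, 942], 913, 1, [8, 9, 5, 4, 8, 9, 3, 4, 8, 9, 5, 4, 8, 6, 5, 3, 2, 3, 4, 8, 9, 5, 4, 8, 3, 4, 5, 6, 2, 7, 6, 5, 4, 10, 7, 6, 5, 4, 8, 9, 3, 4, 8, 5, 6, 7, 2, 3, 4, 8, 9, 11, 5, 4, 6]⟩, ⟨0, [], 402, 1, [7, 6, 5, 4, 3, 2, 5, 8, 4, 3, 9, 8, 4, 5, 6, 7, 10, 7, 5, 6, 4, 5, 9, 8, 4, 3, 2, 7, 6, 5, 8, 4, 3, 5, 6, 7, 4, 5, 6, 8, 4, 5, 9, 8, 4, 3, 2, 7, 5, 6, 8, 4, 5, 9, 8, 4, 3, 8, 4, 5, 6, 7, 5, 6, 5, 9, 8, 4, 9, 8]⟩, ⟨0, [], 962, 0, [7, 10, 6, 4, 5, 3, 4, 8, 9, 7, 6, 5, 4, 8, 3, 4,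 5, 6, 7, 10, 7, 6, 4, 5, 2, 3, 4, 8, 9, 8, 7, 6, 4, 5, 3, 4, 8, 2, 3, 4, 5, 6, 7, 9, 3, 4, 8, 5, 6, 4, 5, 3, 4, 8, 9, 4, 8, 6, 3, 4, 5, 1, 2, 3, 4, 8, 4, 5, 1, 2, 3, 4, 2, 3, 1, 2, 1]⟩], 0⟩ : Der)) (lfA (⟨2, 0, 0, [], [⟨0, [954, 940, 932, 928, 946, 930, 932, 928, 932], 913, 1, [4, 8, 6, 5, 7, 6, 3, 4, 8, 5, 4, 2, 3, 4, 8, 9, 5, 4, 8, 6, 5, 7, 6, 3, 4, 5, 6, 2, 3, 4, 11, 9, 8, 4, 5, 3, 4, 2, 3, 10, 7, 6, 5, 4, 8, 9, 11]⟩, ⟨0, [], 407, 1, [3, 4, 5, 8, 4, 3, 2, 3, 7, 6, 4, 5, 8, 4, 3, 9, 8, 4, 5, 6, 7, 10, 2, 6, 7, 5, 6, 4, 5, 8, 4, 3, 4, 5, 6, 8, 4, 5, 9, 8, 4, 3, 2, 7, 6, 4, 5, 8, 4, 3, 7, 4, 5, 6, 8, 4, 5, 9, 8, 4, 3, 9, 8, 4, 5, 6, 7, 6,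 5, 8, 4, 9, 8, 9]⟩, ⟨0, [], 962, 0, [8, 7, 6, 4, 5, 3, 4, 8, 9, 8, 6, 4, 5, 3, 4, 8, 2, 3, 4, 5, 6, 7, 10, 8, 5, 6, 4, 5, 3, 4, 8, 9, 6, 7, 5, 6, 4, 5, 3, 4, 8, 2, 3, 4, 5, 6, 7, 3, 4, 8, 9, 6, 5, 2, 3, 4, 8, 5, 6, 3, 4, 5, 1, 2, 3, 4, 8, 9, 5, 6, 4, 5, 3, 4, 8, 5, 6, 2, 3, 4, 5, 1, 2, 3, 4, 8, 2, 3, 4, 5, 6, 1, 2, 3, 4, 2]⟩], 0⟩ : Der))))))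
noncomputable def DT37 : ℕ → Der := (ndA (nat_lit 597) (ndA (nat_lit 594) (ndA (nat_lit 593) (lfA (⟨2, 0, 0, [], [⟨0, [], 913, 1, [11, 9, 8, 4, 5, 6, 3, 4, 8, 9, 5, 4, 2, 3, 4, 8, 9, 11, 5, 4, 7, 6, 5, 4, 8, 9, 3, 4, 8, 2, 3, 4, 5, 6, 7, 10, 7, 6, 5, 4, 8, 9, 11, 3, 4, 8, 9, 5, 4, 6, 2, 3, 4, 8, 9, 5, 4, 8, 6, 5, 7, 6, 3, 4, 5, 2, 3, 4, 8, 9, 11]⟩, ⟨0, [], 418, 1, [8, 9, 4, 8, 9, 5, 6, 5, 4, 8, 7, 6, 5, 4, 8, 9, 3, 4, 8, 9, 5, 4, 8, 6, 5, 4, 7, 6, 5, 3, 4, 8, 9, 5, 4, 8, 6, 5, 7, 3, 4, 2, 3, 4, 8, 9, 5, 4, 8, 6, 5, 7, 6, 3, 4, 8, 5, 4, 6, 3, 2, 3, 4, 8, 9, 5, 6, 7, 10, 7, 6, 5, 4, 8, 9, 3, 4, 5, 6, 7, 2, 3, 4, 8, 5, 4, 6]⟩], 0⟩ : Der)) (lfA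 (⟨2, 0, 0, [], [⟨0, [], 913, 1, [11, 9, 8, 4, 5, 6, 3, 4, 8, 9, 5, 2, 3, 4, 8, 5, 7, 6, 5, 4, 8, 9, 11, 3, 4, 8, 9, 5, 4, 8, 2, 3, 4, 5, 6, 7, 10, 7, 6, 5, 4, 8, 9, 11, 3, 4, 8, 9, 5, 4, 6, 2, 3, 4, 8, 9, 5, 4, 8, 6, 5, 7, 6, 3, 4, 5, 2, 3, 4, 8, 9, 11]⟩, ⟨0, [], 442, 1, [6, 7, 10, 5, 6, 4, 5, 8, 4, 3, 2, 7, 6, 5, 4, 3, 9, 8, 4, 5, 6, 7, 10, 8, 4, 5, 9, 8, 4, 3, 2, 6, 5, 8, 4, 3, 6, 7, 4, 5, 6, 8, 4, 5, 9, 8, 4, 3, 2, 6, 4, 5, 9, 8, 4, 3, 4, 5, 6, 8, 4, 5, 9, 8, 4, 3, 9, 8, 4, 5, 6, 7, 4, 5, 6, 8, 4, 5, 4, 9]⟩, ⟨0, [], 718, 0, [2, 3, 4, 3, 2, 5, 7, 8, 4, 5, 6, 9, 8, 4, 3, 2, 5, 4, 3, 6, 5, 4, 7, 8, 4, 5, 6, 7, 1, 2, 3, 4, 5, 6, 7, 8, 4, 3,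 2, 5, 4, 6, 9, 8, 4, 3, 2, 5, 4, 3, 8, 4, 5, 9, 8, 4, 3, 10, 7, 6, 5, 4, 3, 2, 1, 8, 4, 3, 2, 5, 4, 6, 8, 9, 8, 4, 3, 2, 5, 4, 3, 6, 5, 7, 6, 8, 4, 3, 5, 9, 8, 4, 3, 2, 1, 10]⟩], 0⟩ : Der))) (ndA (nat_lit 595) (lfA (⟨2, 0, 0, [], [⟨0, [], 913, 1, []⟩, ⟨0, [], 467, 1, [8, 9, 5, 4, 6, 5, 4, 7, 6, 5, 3, 4, 8, 9, 5, 4, 8, 6, 5, 7, 6, 3, 4, 8, 9, 5, 4, 8, 3, 4, 5, 2, 3, 4, 8, 9, 5, 4, 8, 6, 5, 4, 7, 6, 5, 3, 4, 8, 9, 5, 4, 3, 2, 3, 4, 8, 9, 5, 4, 6, 7, 10, 7, 6, 5, 4, 8, 9, 3, 4, 8, 5, 6, 7, 2, 3, 4, 8, 9, 5]⟩, ⟨0, [], 962, 0, [10, 7, 6, 5, 2, 3, 4, 8, 9, 8, 4, 5, 3, 4, 8, 2, 3, 4, 5, 6, 7, 10, 5, 4, 8, 9, 6, 5, 3, 4, 8, 7, 5, 6, 3, 4, 5, 2, 3,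 4, 8, 9, 6, 4, 5, 3, 4, 8, 4, 5, 6, 3, 4, 5, 2, 3, 4, 8, 7, 3, 4, 5, 6, 4, 5]⟩], 0⟩ : Der)) (ndA (nat_lit 596) (lfA (⟨2, 0, 0, [], [⟨0, [1000, 990, 996, 1008, 1000, 992, 982], 963, 0, [2, 3, 5, 4, 6, 5, 4, 3, 8, 4, 3, 5, 6, 10, 7, 6, 5, 4, 3, 2, 8, 4, 5, 6, 9, 8, 4, 3, 1, 2, 3, 4, 5, 6, 7, 8, 4, 3, 2, 5, 4, 6, 9, 8, 4, 3, 2, 5, 4, 3, 6, 5, 8, 4, 9, 8, 10, 7, 6, 5, 4, 3, 2, 1]⟩, ⟨0, [], 379, 0, [8, 4, 5, 2, 3, 4, 8, 9, 6, 7, 5, 6, 4, 5, 3, 4, 8, 2, 3, 4, 5, 6, 7, 10, 7, 6, 5, 4, 8, 9, 3, 4, 8, 7, 5, 6, 3, 4, 5, 2, 3, 4, 8, 9, 6, 7, 5, 6, 3, 4, 5, 2, 3, 4, 8, 3, 4, 5, 6, 3, 4, 5, 2, 3, 4, 2, 3]⟩, ⟨0, [], 810, 1, [5, 6, 7, 10, 7, 6, 4, 5, 8,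 4, 3, 2, 4, 5, 9, 8, 4, 3, 5, 6, 9, 8, 4, 5, 11, 9, 8, 4, 3, 2, 6, 8, 4, 5, 9, 8, 4, 3, 7, 6, 5, 4, 8, 9, 11, 4, 5, 9, 8, 4, 3, 2, 6, 5, 4, 3, 9, 8, 4, 5, 6, 7, 10, 8, 4, 5, 9, 8, 4, 3, 2, 3, 6, 4, 5, 8, 4, 3, 6, 7, 5, 6, 8, 4, 5, 9, 8, 4, 3, 2, 6, 5, 9, 8, 4, 3, 5, 6, 8, 4, 5, 9, 8, 4, 3, 8, 4, 5, 6, 7, 6, 4, 5, 9, 8, 9]⟩], 1⟩ : Der)) (lfA (⟨2, 0, 0, [], [⟨0, [976, 974, 998, 992, 996, 984, 996, 1008, 998, 992], 963, 0, [3, 5, 6, 5, 4, 3, 7, 6, 5, 4, 8, 4, 3, 5, 4, 6, 9, 8, 4, 3, 2, 5, 4, 3, 6, 5, 4, 7, 6, 5, 8, 4, 3, 2, 5, 6, 7, 9, 8, 4, 3, 5, 4, 6, 10, 7, 6, 5, 4, 3, 8, 4, 5, 6, 1, 2, 3, 4, 5, 6, 8, 4, 5, 9, 8, 4, 3, 2, 1]⟩, ⟨0, [], 389,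 0, [3, 4, 3, 2, 5, 4, 3, 6, 7, 6, 8, 4, 3, 2, 5, 4, 3, 6, 5, 4, 7, 6, 5, 8, 4, 3, 5, 4, 6, 5, 7, 6, 8, 9, 8, 4, 3, 2, 5, 4, 3, 6, 5, 4, 7, 6, 8, 4, 3, 5, 4, 6, 9, 8, 4, 3, 2, 5, 4, 6, 7, 10, 7, 6, 5, 4, 3, 2, 8, 4, 3, 5, 4, 6, 5, 7, 6, 8, 9, 8, 4, 3, 5, 4, 10, 7]⟩, ⟨0, [], 600, 1, [3, 2, 6, 5, 4, 3, 8, 4, 5, 9, 8, 4, 3, 2, 3, 6, 8, 4, 5, 9, 8, 4, 3, 11, 9, 8, 4, 5, 6, 7, 10, 9, 8, 4, 5, 6, 7, 5, 11, 9, 8, 4, 3, 2, 6, 5, 4, 3, 8, 4, 5, 6, 9, 8, 4, 5, 11, 9, 8, 4, 3, 5, 11, 9, 8, 9]⟩], 1⟩ : Der))))) (ndA (nat_lit 600) (ndA (nat_lit 598) (lfA (⟨2, 0, 0, [], [⟨0, [1002, 978, 992, 996, 1008, 1004, 980, 978], 963, 0, [2, 3, 2, 4, 5, 4, 6, 5, 4,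 3, 9, 8, 4, 3, 5, 4, 6, 5, 8, 10, 7, 6, 5, 4, 3, 2, 8, 4, 3, 5, 6, 7, 9, 1, 2, 3, 4, 5, 6, 7, 8, 4, 3, 2, 5, 4, 6, 9, 8, 4, 3, 2, 5, 4, 3, 6, 5, 8, 4, 9, 8, 10, 7, 6, 5, 4, 3, 2, 1]⟩, ⟨0, [], 398, 0, [3, 4, 3, 5, 6, 5, 4, 3, 2, 7, 6, 5, 4, 3, 8, 4, 3, 2, 5, 4, 3, 6, 5, 4, 7, 6, 8, 4, 3, 2, 5, 4, 3, 8, 4, 9, 8, 4, 3, 2, 5, 4, 3, 6, 5, 4, 7, 6, 5, 8, 4, 3, 2, 5, 4, 3, 8, 9, 10, 7, 6, 5, 4, 3, 2, 8, 4, 3, 5, 4, 6, 8, 9, 8, 4, 3, 2, 5, 6]⟩, ⟨0, [], 880, 1, [9, 4, 8, 6, 5, 4, 8, 7, 6, 5, 2, 3, 4, 8, 9, 5, 4, 8, 6, 5, 4, 7, 6, 3, 4, 5, 6, 2, 3, 4, 8, 9, 5, 10, 7, 6, 5, 4, 8, 9, 3, 4, 8, 5, 4, 6, 7, 2, 3, 4, 8, 9, 5, 10, 11, 9, 8, 4, 5, 6, 7, 3,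 4, 8, 9, 5, 4, 8, 6, 5, 2, 3, 4, 8, 9, 5, 4, 8, 6, 5, 4, 3, 4, 2, 3, 10, 7, 6, 5, 4, 8, 9, 11, 3, 4, 8, 9, 5, 4, 8, 6, 5, 4]⟩], 1⟩ : Der)) (ndA (nat_lit 599) (lfA (⟨2, 0, 0, [], [⟨0, [996, 992, 1000, 996, 992, 978, 1002, 976, 1008, 1002, 994, 990, 996], 963, 0, [2, 3, 4, 3, 8, 4, 3, 5, 4, 8, 9, 8, 4, 3, 2, 5, 4, 3, 6, 5, 4, 8, 4, 3, 5, 4, 7, 6, 5, 4, 3, 8, 4, 5, 6, 7, 9, 8, 4, 3, 2, 1, 10, 7, 6, 5, 4, 3, 8, 4, 5, 6, 7, 9, 8, 4, 3, 5, 4, 6, 8, 10, 7]⟩, ⟨0, [], 403, 0, [4, 3, 2, 5, 4, 8, 4, 3, 5, 4, 6, 5, 7, 6, 8, 4, 3, 5, 9, 8, 4, 3, 2, 5, 4, 3, 6, 5, 4, 7, 6, 5, 8, 4, 3, 2, 5, 4, 6, 7, 9, 8, 4, 3, 2, 5, 4, 3, 8, 4, 9, 8, 10, 7, 6, 5, 4, 3,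 2, 8, 4, 3, 5, 4, 6, 5, 9, 8, 4, 3, 5, 6, 7]⟩, ⟨0, [], 912, 1, [8, 9, 5, 4, 6, 5, 4, 8, 9, 3, 4, 8, 9, 5, 4, 8, 6, 5, 4, 2, 3, 4, 8, 9, 5, 4, 8, 6, 5, 3, 7, 6, 5, 4, 8, 9, 3, 4, 8, 5, 4, 6, 2, 3, 4, 8, 5, 4, 6, 7, 10, 7, 6, 5, 4, 8, 9, 11, 3, 4, 8, 9, 5, 4, 2, 3, 4, 8, 9, 5, 4, 8, 6, 5, 4, 7, 3, 4, 8, 9, 11]⟩], 1⟩ : Der)) (lfA (⟨2, 0, 0, [], [⟨0, [986, 992, 996, 984, 1004, 1008, 996, 1002, 976], 963, 0, [3, 2, 4, 3, 2, 5, 4, 6, 5, 4, 3, 2, 8, 4, 3, 2, 5, 4, 3, 8, 9, 8, 4, 3, 2, 5, 4, 3, 6, 8, 4, 9, 7, 6, 5, 4, 3, 2, 1, 8, 4, 3, 5, 4, 6, 5, 8, 9, 8, 4, 3, 2, 5, 4, 3, 6, 5, 4, 7, 6, 5, 8, 4, 9, 8, 10, 7, 6, 5, 4, 3, 2, 1]⟩, ⟨0, [], 406, 0,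 [8, 4, 5, 3, 4, 8, 9, 8, 7, 6, 4, 5, 3, 4, 8, 2, 3, 4, 5, 6, 7, 10, 6, 5, 4, 8, 9, 6, 5, 2, 3, 4, 8, 6, 7, 4, 5, 6, 3, 4, 5, 2, 3, 4, 8, 9, 7, 6, 5, 4, 8, 5, 6, 7, 4, 5, 6, 3, 4, 5, 2, 3, 4, 8, 6, 7, 4, 5, 6, 3, 4, 5, 2, 3, 4, 8, 7, 4, 5, 6, 4, 5, 2, 3, 4, 3]⟩, ⟨0, [], 912, 1, [4, 5, 6, 5, 7, 6, 3, 4, 8, 9, 5, 4, 3, 2, 3, 4, 8, 9, 5, 4, 8, 6, 5, 4, 7, 6, 5, 3, 4, 11, 9, 8, 4, 5, 6, 3, 4, 8, 5, 4, 3, 2, 3, 4, 10, 7, 6, 5, 4, 8, 9, 11, 3, 4, 8, 9, 5, 4, 8, 6, 7, 2, 3, 4, 8, 9, 5, 4, 6, 5, 3, 4, 8, 9, 11, 2]⟩], 1⟩ : Der)))) (ndA (nat_lit 601) (lfA (⟨2, 0, 0, [], [⟨0, [], 963, 0, [1, 2, 3, 4, 5, 6, 8, 4, 3, 2, 5, 4, 9, 8, 4, 3, 2, 1, 5, 4, 7,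 6, 5, 4, 3, 2, 8, 4, 3, 9, 8, 4, 5, 6, 7, 10, 7, 6, 5, 4, 3, 2, 1, 8, 4, 3, 2, 5, 4, 6, 9, 8, 4, 3, 2, 5, 4, 3, 6, 5, 7, 6, 8, 4, 5, 9, 8, 4, 3, 2, 1]⟩, ⟨0, [], 430, 0, [4, 8, 2, 3, 4, 5, 6, 7, 10, 9, 4, 8, 6, 7, 5, 6, 4, 5, 2, 3, 4, 8, 9, 8, 7, 4, 5, 6, 3, 4, 5, 2, 3, 4, 8, 4, 5, 6, 3, 4, 5, 2, 3, 4, 8, 3, 4, 5, 6, 7, 5, 4, 3]⟩], 1⟩ : Der)) (ndA (nat_lit 602) (lfA (⟨2, 0, 0, [], [⟨0, [], 963, 0, [1, 2, 3, 4, 5, 6, 8, 4, 3, 2, 5, 9, 8, 4, 3, 5, 7, 6, 5, 4, 3, 2, 1, 8, 4, 3, 2, 5, 4, 3, 9, 8, 4, 5, 6, 7, 10, 7, 6, 5, 4, 3, 2, 1, 8, 4, 3, 2, 5, 4, 6, 9, 8, 4, 3, 2, 5, 4, 3, 6, 5, 7, 6, 8, 4, 5, 9, 8, 4, 3, 2, 1]⟩, ⟨0, [], 454, 0, [2, 3, 4,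 3, 5, 4, 3, 6, 7, 6, 5, 4, 3, 2, 8, 4, 3, 2, 5, 4, 6, 5, 7, 6, 8, 4, 3, 2, 5, 4, 3, 8, 4, 5, 6, 9, 8, 4, 3, 2, 5, 4, 6, 5, 7, 6, 8, 4, 3, 2, 5, 9, 8, 4, 10, 7, 6, 5, 4, 3, 2, 8, 4, 3, 5, 4, 6, 5, 7, 6, 8, 9, 8, 10]⟩, ⟨0, [], 746, 1, [2, 3, 4, 5, 6, 7, 10, 7, 6, 5, 4, 3, 2, 4, 5, 9, 8, 4, 3, 4, 5, 6, 9, 8, 4, 5, 11, 9, 8, 4, 3, 2, 6, 4, 5, 9, 8, 4, 3, 7, 6, 5, 4, 8, 9, 11, 10, 3, 6, 4, 5, 8, 4, 3, 2, 7, 6, 5, 4, 3, 9, 8, 4, 5, 6, 7, 10, 6, 5, 4, 3, 2, 8, 4, 3, 5, 6, 7, 4, 5, 6, 8, 4, 5, 9, 8, 4, 3, 2, 3, 9, 8, 4, 5, 6, 7, 8, 4, 5, 6, 9, 8, 4, 5, 4, 8, 9]⟩], 1⟩ : Der)) (lfA (⟨2, 0, 0, [], [⟨0, [], 963, 0, []⟩, ⟨0, [], 466, 0, [2, 3, 4, 3, 5,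 4, 3, 6, 5, 4, 3, 2, 7, 6, 5, 4, 8, 4, 3, 2, 5, 4, 3, 6, 5, 7, 6, 8, 4, 3, 2, 5, 4, 3, 6, 7, 9, 8, 4, 3, 2, 5, 4, 3, 6, 5, 4, 7, 6, 8, 4, 3, 5, 4, 8, 9, 8, 4, 3, 2, 5, 4, 8, 10, 7, 6, 5, 4, 3, 2, 8, 4, 5, 6, 7, 9, 10]⟩, ⟨0, [], 912, 1, [9, 5, 4, 6, 5, 4, 8, 7, 6, 5, 4, 8, 9, 3, 4, 8, 9, 5, 4, 6, 3, 2, 3, 4, 8, 9, 5, 4, 8, 6, 5, 7, 6, 3, 4, 8, 5, 6, 7, 2, 3, 10, 7, 6, 5, 4, 8, 9, 3, 4, 8, 5, 4, 3, 2, 3, 4, 8, 9, 5, 6, 7, 10]⟩], 1⟩ : Der))))))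
noncomputable def DT : ℕ → Der := (ndA (nat_lit 304) (ndA (nat_lit 144) (ndA (nat_lit 64) (ndA (nat_lit 32) (ndA (nat_lit 16) DT0 DT1) (ndA (nat_lit 48) DT2 DT3)) (ndA (nat_lit 96) (ndA (nat_lit 80) DT4 DT5) (ndA (nat_lit 112) DT6 (ndA (nat_lit 128) DT7 DT8)))) (ndA (nat_lit 224) (ndA (nat_lit 176) (ndA (nat_lit 160) DT9 DT10) (ndA (nat_lit 192) DT11 (ndA (nat_lit 208) DT12 DT13))) (ndA (nat_lit 256) (ndA (nat_lit 240) DT14 DT15) (ndA (nat_lit 272) DT16 (ndA (nat_lit 288) DT17 DT18))))) (ndA (nat_lit 448) (ndA (nat_lit 368) (ndA (nat_lit 336) (ndA (nat_lit 320) DT19 DT20) (ndA (nat_lit 352) DT21 DT22)) (ndA (nat_lit 400) (ndA (nat_lit 384)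 DT23 DT24) (ndA (nat_lit 416) DT25 (ndA (nat_lit 432) DT26 DT27)))) (ndA (nat_lit 528) (ndA (nat_lit 480) (ndA (nat_lit 464) DT28 DT29) (ndA (nat_lit 496) DT30 (ndA (nat_lit 512) DT31 DT32))) (ndA (nat_lit 560) (ndA (nat_lit 544) DT33 DT34) (ndA (nat_lit 576) DT35 (ndA (nat_lit 592) DT36 DT37))))))

noncomputable def chk : ℕ → Bool := chkF FT DT LW [[1, 11, 1, 11]] BmP.iv BmE.ga (selE [BmP.eqA, BmP.eqB])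

end Cfsg.Agent.H17.BmF
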