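import Cfsg.Agent.H17.HnP
import Cfsg.Agent.H17.Mod.HnM0
import Cfsg.Agent.H17.Mod.HnM1
import Cfsg.Agent.H17.Mod.HnM2
import Cfsg.Agent.H17.Mod.HnM3

set_option autoImplicit false
set_option Elab.async false
set_option maxRecDepth 100000
set_option exponentiation.threshold 400000

namespace Cfsg.Agent.H17.HnF

open Cfsg Cfsg.Agent.H58 Cfsg.Agent.H17

def LW : List (List ℕ) := [[], [], [], [7], [7, 5], [7, 5, 4, 5, 4, 5], [7, 5, 4, 5], [7, 5, 4, 2, 4], [7, 5, 4], [7, 5, 4, 5, 4, 5], [7, 5, 2, 7], [7, 5, 6], [7, 5, 4, 5, 7], [7, 5, 4, 5, 2, 7], [7, 5, 4, 5, 4, 5, 7], [7, 5, 2, 7, 4, 5], [7, 5, 4, 5, 2, 7, 4, 5], [7, 5, 6, 4, 5, 4, 5], [7, 5, 4, 5, 2, 7, 2, 4, 5], [7, 5, 4, 5, 2, 7, 1, 5, 4, 5], [7, 5, 4, 5, 4, 5, 7,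 5, 4, 5], [7, 5, 2, 7, 4, 5, 4, 8, 4], [7, 5, 2, 7, 4, 5, 2, 3], [7, 5, 4, 5, 2, 7, 4, 5, 9, 3], [7, 5, 2, 7, 4, 5, 2, 4], [7, 5, 4, 5, 2, 7, 4, 5, 3], [7, 5, 2, 7, 4, 5, 4], [7, 5, 4, 5, 2, 7, 4, 5, 4], [7, 5, 6, 4, 5, 4, 5, 4], [7, 5, 4, 5, 4, 5, 7, 5, 4, 5, 9, 2, 4], [7, 5, 4, 5, 2, 7, 1, 5, 4, 5, 4], [7, 5, 4, 5, 2, 7, 1, 5, 4, 5, 9, 3], [7, 5, 4, 5, 4, 5, 7, 5, 4, 5], [7, 5, 4, 5, 2, 7, 2, 4, 5, 4], [7, 5, 4, 5, 4, 5, 7, 5, 4, 5, 4], [7, 5, 2, 7, 4, 5, 2, 7], [7, 5, 4, 5, 2, 7, 1, 5, 4, 5, 7], [7, 5, 2, 7, 4, 5, 2, 7, 3, 5], [7, 5, 4, 5, 2, 7, 1, 5, 4, 5, 7, 9, 3, 5], [7, 5, 2, 7, 4, 5, 2, 7, 4, 5, 4, 5], [7, 5, 2, 7, 4, 5, 2, 7, 3, 5, 3, 8, 3], [7, 5, 2, 7, 4, 5, 2, 7, 3, 5, 2, 7], [7, 5, 2, 7, 4, 5, 2, 7, 3,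 5, 2, 7, 3, 5, 3, 5]]

noncomputable def FT0 : ℕ → Fct := (ndA (nat_lit 8) (ndA (nat_lit 4) (ndA (nat_lit 2) (ndA (nat_lit 1) (lfA (⟨0, [1], 0, []⟩ : Fct)) (lfA (⟨0, [3], 0, []⟩ : Fct))) (ndA (nat_lit 3) (lfA (⟨0, [5], 0, []⟩ : Fct)) (lfA (⟨0, [], 1, []⟩ : Fct)))) (ndA (nat_lit 6) (ndA (nat_lit 5) (lfA (⟨1, [1], 1, []⟩ : Fct)) (lfA (⟨1, [3], 1, []⟩ : Fct))) (ndA (nat_lit 7) (lfA (⟨1, [], 2, []⟩ : Fct)) (lfA (⟨2, [1], 2, []⟩ : Fct))))) (ndA (nat_lit 12) (ndA (nat_lit 10) (ndA (nat_lit 9) (lfA (⟨2, [], 0, []⟩ : Fct)) (lfA (⟨2, [5], 2, []⟩ : Fct))) (ndA (nat_lit 11) (lfA (⟨1, [7], 3, []⟩ : Fct)) (lfA (⟨3, [3], 3, []⟩ : Fct)))) (ndA (nat_lit 14) (ndA (nat_lit 13) (lfA (⟨3, [1, 3, 2], 3, []⟩ : Fct)) (lfA (⟨3, [], 2, [7]⟩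 : Fct))) (ndA (nat_lit 15) (lfA (⟨3, [5], 4, []⟩ : Fct)) (lfA (⟨4, [1, 3, 1, 3, 1, 4, 1, 4], 4, []⟩ : Fct))))))
noncomputable def FT1 : ℕ → Fct := (ndA (nat_lit 24) (ndA (nat_lit 20) (ndA (nat_lit 18) (ndA (nat_lit 17) (lfA (⟨4, [4, 1, 3, 2, 4], 4, []⟩ : Fct)) (lfA (⟨4, [], 2, [7, 5]⟩ : Fct))) (ndA (nat_lit 19) (lfA (⟨4, [1, 1, 6], 4, []⟩ : Fct)) (lfA (⟨3, [5, 4, 5, 4, 5], 5, []⟩ : Fct)))) (ndA (nat_lit 22) (ndA (nat_lit 21) (lfA (⟨5, [3, 1, 3, 1, 9, 9, 3, 3, 1], 5, []⟩ : Fct)) (lfA (⟨5, [1, 9, 1, 9, 9, 4, 1, 4, 1], 5, []⟩ : Fct))) (ndA (nat_lit 23) (lfA (⟨3, [5, 4, 5], 6, []⟩ : Fct)) (lfA (⟨6, [4, 1, 3, 2, 4, 8, 8], 6, []⟩ : Fct))))) (ndA (nat_lit 28) (ndA (nat_lit 26) (ndA (nat_lit 25) (lfA (⟨6, [1, 4, 4, 2, 4,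 9, 9, 4], 6, []⟩ : Fct)) (lfA (⟨6, [1, 3, 2, 4, 8, 8, 4], 6, []⟩ : Fct))) (ndA (nat_lit 27) (lfA (⟨6, [4, 1, 9, 4, 2, 9, 4, 8], 6, []⟩ : Fct)) (lfA (⟨6, [3, 8, 1, 9, 4, 1, 3, 9, 4, 4], 6, []⟩ : Fct)))) (ndA (nat_lit 30) (ndA (nat_lit 29) (lfA (⟨4, [4, 2, 4], 7, []⟩ : Fct)) (lfA (⟨7, [2, 6, 2], 7, []⟩ : Fct))) (ndA (nat_lit 31) (lfA (⟨7, [], 3, [5, 4, 2, 4]⟩ : Fct)) (lfA (⟨7, [5], 6, [1, 3, 9, 3, 2, 8, 8, 4, 4]⟩ : Fct))))))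
noncomputable def FT2 : ℕ → Fct := (ndA (nat_lit 40) (ndA (nat_lit 36) (ndA (nat_lit 34) (ndA (nat_lit 33) (lfA (⟨4, [4], 8, []⟩ : Fct)) (lfA (⟨8, [1, 1, 6], 8, []⟩ : Fct))) (ndA (nat_lit 35) (lfA (⟨8, [], 3, [5, 4]⟩ : Fct)) (lfA (⟨8, [5], 6, []⟩ : Fct)))) (ndA (nat_lit 38) (ndA (nat_lit 37) (lfA (⟨5, [], 9, []⟩ : Fct)) (lfA (⟨9, [1, 8, 1, 9, 9, 1, 9, 2, 9], 9, []⟩ : Fct))) (ndA (nat_lit 39) (lfA (⟨9, [], 3, [5, 4, 5, 4, 5]⟩ : Fct)) (lfA (⟨9, [5], 6, [4]⟩ : Fct))))) (ndA (nat_lit 44) (ndA (nat_lit 42) (ndA (nat_lit 41) (lfA (⟨4, [2, 7], 10, []⟩ : Fct)) (lfA (⟨10, [3, 1, 3, 1, 4, 1, 4, 1], 10, []⟩ : Fct))) (ndA (nat_lit 43) (lfA (⟨10, [4, 1, 3, 2, 4], 10, []⟩ : Fct)) (lfA (⟨10, [1, 1], 10, []⟩ : Fct)))) (ndA (nat_lit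 46) (ndA (nat_lit 45) (lfA (⟨10, [], 2, [7, 5, 2, 7]⟩ : Fct)) (lfA (⟨10, [4], 8, [1, 9, 1, 9, 9, 1, 9, 9, 1, 9, 2, 7]⟩ : Fct))) (ndA (nat_lit 47) (lfA (⟨10, [4, 2, 4], 7, [7, 9, 2, 9, 9, 9, 2, 9, 2, 8, 8, 2, 8, 2, 9, 9]⟩ : Fct)) (lfA (⟨10, [5], 10, []⟩ : Fct))))))
noncomputable def FT3 : ℕ → Fct := (ndA (nat_lit 56) (ndA (nat_lit 52) (ndA (nat_lit 50) (ndA (nat_lit 49) (lfA (⟨4, [6], 11, []⟩ : Fct)) (lfA (⟨11, [1, 3, 1, 3, 1, 4, 1, 4], 11, []⟩ : Fct))) (ndA (nat_lit 51) (lfA (⟨11, [4, 1, 3, 2, 4], 11, []⟩ : Fct)) (lfA (⟨11, [], 2, [7, 5, 6]⟩ : Fct)))) (ndA (nat_lit 54) (ndA (nat_lit 53) (lfA (⟨11, [4], 8, [6]⟩ : Fct)) (lfA (⟨11, [4, 2, 4], 7, [1, 6, 2]⟩ : Fct))) (ndA (nat_lit 55) (lfA (⟨11, [2, 5], 11, []⟩ : Fct))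 (lfA (⟨6, [7], 12, []⟩ : Fct))))) (ndA (nat_lit 60) (ndA (nat_lit 58) (ndA (nat_lit 57) (lfA (⟨12, [1, 4, 4, 2, 4, 9, 9, 4], 12, []⟩ : Fct)) (lfA (⟨12, [4], 9, [5, 7]⟩ : Fct))) (ndA (nat_lit 59) (lfA (⟨12, [3], 7, [5, 8, 1, 9, 9, 9, 1, 9, 9, 1, 9, 1, 7]⟩ : Fct)) (lfA (⟨12, [2, 4], 8, [1, 5, 8, 1, 8, 8, 1, 8, 8, 8, 2, 8, 6, 1]⟩ : Fct)))) (ndA (nat_lit 62) (ndA (nat_lit 61) (lfA (⟨12, [4, 8, 4], 7, [1, 5, 8, 8, 1, 8, 1, 9, 1, 9, 1, 8, 2, 8, 7]⟩ : Fct)) (lfA (⟨12, [2, 4, 5, 3, 1], 12, []⟩ : Fct))) (ndA (nat_lit 63) (lfA (⟨7, [1, 9, 9, 1, 9, 1, 8, 2, 8, 8, 6, 1, 5, 6], 7, []⟩ : Fct)) (lfA (⟨12, [1, 3, 1, 4, 4, 8, 4, 9, 1, 5, 3, 1, 3], 11, []⟩ : Fct))))))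
noncomputable def FT4 : ℕ → Fct := (ndA (nat_lit 72) (ndA (nat_lit 68) (ndA (nat_lit 66) (ndA (nat_lit 65) (lfA (⟨12, [], 11, [4, 2, 4, 5, 2, 8, 3, 9, 3, 3, 2, 4, 2]⟩ : Fct)) (lfA (⟨11, [4, 2, 4, 5, 2, 8, 3, 9, 3, 3, 2, 4, 2], 6, [7]⟩ : Fct))) (ndA (nat_lit 67) (lfA (⟨11, [3, 1, 3, 8, 4, 4, 9, 1, 9, 4, 5, 3, 9], 9, [5, 7]⟩ : Fct)) (lfA (⟨10, [1, 3, 9, 3, 8, 2, 4, 9, 4, 9, 5, 3, 1, 3], 10, []⟩ : Fct)))) (ndA (nat_lit 70) (ndA (nat_lit 69) (lfA (⟨6, [2, 7], 13, []⟩ : Fct)) (lfA (⟨13, [1, 3, 1, 3, 1, 3, 1, 3], 13, []⟩ : Fct))) (ndA (nat_lit 71) (lfA (⟨13, [4, 1, 9, 4, 2, 9, 4, 8], 13, []⟩ : Fct)) (lfA (⟨13, [1, 3, 9, 9, 3, 2, 4], 13, []⟩ : Fct))))) (ndA (nat_lit 76) (ndA (nat_lit 74) (ndA (nat_lit 73) (lfA (⟨13, [1,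 4, 4, 2, 4, 9, 9, 4], 13, []⟩ : Fct)) (lfA (⟨13, [], 8, [1, 5, 7]⟩ : Fct))) (ndA (nat_lit 75) (lfA (⟨13, [4], 8, [1, 5, 8, 1, 8, 8, 1, 8, 8, 8, 1, 8, 2, 7]⟩ : Fct)) (lfA (⟨13, [2, 4], 9, [2, 5, 6, 1]⟩ : Fct)))) (ndA (nat_lit 78) (ndA (nat_lit 77) (lfA (⟨13, [2, 3], 7, [5, 8, 1, 9, 9, 9, 1, 9, 9, 2, 9, 6, 1]⟩ : Fct)) (lfA (⟨13, [4, 8, 4], 7, [5, 8, 1, 8, 1, 9, 1, 9, 9, 9, 1, 9, 1, 7]⟩ : Fct))) (ndA (nat_lit 79) (lfA (⟨13, [4, 1, 4, 9, 9, 3, 9, 1, 9, 5, 4, 1], 13, []⟩ : Fct)) (lfA (⟨13, [1, 1, 4, 8, 4, 5, 3, 9, 3], 13, []⟩ : Fct))))))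
noncomputable def FT5 : ℕ → Fct := (ndA (nat_lit 88) (ndA (nat_lit 84) (ndA (nat_lit 82) (ndA (nat_lit 81) (lfA (⟨5, [7], 14, []⟩ : Fct)) (lfA (⟨14, [1, 9, 1, 9, 9, 4, 1, 4, 1], 14, []⟩ : Fct))) (ndA (nat_lit 83) (lfA (⟨14, [1, 4, 2, 4, 9, 3, 3, 8, 8], 14, []⟩ : Fct)) (lfA (⟨14, [1, 8, 3, 9, 9, 2, 4, 4], 14, []⟩ : Fct)))) (ndA (nat_lit 86) (ndA (nat_lit 85) (lfA (⟨14, [], 9, [7]⟩ : Fct)) (lfA (⟨14, [3], 9, [8, 8, 1, 8, 1, 8, 8, 1, 8, 1, 9, 2, 9, 7]⟩ : Fct))) (ndA (nat_lit 87) (lfA (⟨10, [4, 5], 15, []⟩ : Fct)) (lfA (⟨15, [1, 1], 15, []⟩ : Fct))))) (ndA (nat_lit 92) (ndA (nat_lit 90) (ndA (nat_lit 89) (lfA (⟨15, [1, 4, 4, 2, 4, 9, 9, 4], 15, []⟩ : Fct)) (lfA (⟨15, [1, 8, 1, 4, 1, 4, 4, 1, 4, 9], 15, []⟩ : Fct))) (ndA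 (nat_lit 91) (lfA (⟨15, [1, 3, 9, 4, 9, 4, 1, 4], 15, []⟩ : Fct)) (lfA (⟨15, [], 8, [1, 9, 1, 9, 9, 1, 9, 9, 1, 9, 2, 7, 5]⟩ : Fct)))) (ndA (nat_lit 94) (ndA (nat_lit 93) (lfA (⟨15, [7], 13, [1, 9, 4, 9, 9, 1, 3, 3, 8, 5]⟩ : Fct)) (lfA (⟨13, [4, 5], 16, []⟩ : Fct))) (ndA (nat_lit 95) (lfA (⟨16, [4, 1, 3, 2, 4, 8, 8], 16, []⟩ : Fct)) (lfA (⟨16, [3, 3, 3, 9, 1, 3, 2, 9], 16, []⟩ : Fct))))))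
noncomputable def FT6 : ℕ → Fct := (ndA (nat_lit 104) (ndA (nat_lit 100) (ndA (nat_lit 98) (ndA (nat_lit 97) (lfA (⟨16, [8, 3, 9, 3, 8, 8, 3, 9, 3, 8], 16, []⟩ : Fct)) (lfA (⟨16, [4, 4, 1, 8, 8, 3, 9, 1, 3, 9], 16, []⟩ : Fct))) (ndA (nat_lit 99) (lfA (⟨16, [], 8, [1, 5, 8, 1, 8, 8, 1, 8, 8, 8, 1, 8, 2, 7, 5]⟩ : Fct)) (lfA (⟨16, [7], 11, [9, 3, 9, 3, 8, 4, 1, 8, 3, 5]⟩ : Fct)))) (ndA (nat_lit 102) (ndA (nat_lit 101) (lfA (⟨11, [4, 5, 4, 5], 17, []⟩ : Fct)) (lfA (⟨17, [9, 3, 3, 1, 9, 2, 3, 8, 3], 17, []⟩ : Fct))) (ndA (nat_lit 103) (lfA (⟨17, [8, 3, 1, 3, 8, 1, 9, 4], 17, []⟩ : Fct)) (lfA (⟨17, [2, 3], 9, [5, 8, 1, 8, 8, 8, 1, 8, 1, 8, 8, 2, 8, 6, 1, 5]⟩ : Fct))))) (ndA (nat_lit 108) (ndA (nat_lit 106) (ndA (nat_lit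 105) (lfA (⟨17, [1, 3, 1, 7], 14, [4, 8, 8, 3, 1, 4, 4, 1, 3, 9, 5]⟩ : Fct)) (lfA (⟨9, [5, 8, 1, 8, 8, 8, 1, 8, 1, 8, 8, 2, 8, 6, 5, 7], 14, [5, 9, 2, 3, 3, 8, 3, 2, 8, 4]⟩ : Fct))) (ndA (nat_lit 107) (lfA (⟨13, [2, 4, 5], 18, []⟩ : Fct)) (lfA (⟨18, [8, 3, 9, 3, 8, 8, 3, 9, 3, 8], 18, []⟩ : Fct)))) (ndA (nat_lit 110) (ndA (nat_lit 109) (lfA (⟨18, [1, 8, 8, 4, 2, 3, 9, 9, 3, 8], 18, []⟩ : Fct)) (lfA (⟨18, [], 9, [2, 5, 6, 1, 5]⟩ : Fct))) (ndA (nat_lit 111) (lfA (⟨18, [7], 14, [1, 8, 1, 9, 9, 9, 1, 8, 1, 5, 3, 5, 9]⟩ : Fct)) (lfA (⟨18, [2, 7], 14, [8, 8, 4, 1, 3, 8, 1, 8, 5]⟩ : Fct))))))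
noncomputable def FT7 : ℕ → Fct := (ndA (nat_lit 120) (ndA (nat_lit 116) (ndA (nat_lit 114) (ndA (nat_lit 113) (lfA (⟨13, [1, 5, 4, 5], 19, []⟩ : Fct)) (lfA (⟨19, [8, 3, 9, 3, 8, 8, 3, 9, 3, 8], 19, []⟩ : Fct))) (ndA (nat_lit 115) (lfA (⟨19, [1, 3, 3, 8, 1, 4, 8, 8, 4], 19, []⟩ : Fct)) (lfA (⟨19, [1, 3, 9, 3, 8, 3, 3, 1, 8, 3], 19, []⟩ : Fct)))) (ndA (nat_lit 118) (ndA (nat_lit 117) (lfA (⟨14, [5, 4, 5], 20, []⟩ : Fct)) (lfA (⟨20, [9, 1, 9, 9, 9, 3, 2, 8, 3, 8], 20, []⟩ : Fct))) (ndA (nat_lit 119) (lfA (⟨15, [4, 8, 4], 21, []⟩ : Fct)) (lfA (⟨21, [1, 1], 21, []⟩ : Fct))))) (ndA (nat_lit 124) (ndA (nat_lit 122) (ndA (nat_lit 121) (lfA (⟨21, [], 10, [4, 5, 4, 8, 4]⟩ : Fct)) (lfA (⟨21, [7], 13, [5, 8, 2, 8, 8, 8, 3, 2,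 9, 4]⟩ : Fct))) (ndA (nat_lit 123) (lfA (⟨21, [5, 8, 1, 9, 1, 9, 1, 8, 1, 8, 2, 9], 21, []⟩ : Fct)) (lfA (⟨21, [7, 5, 6], 21, []⟩ : Fct)))) (ndA (nat_lit 126) (ndA (nat_lit 125) (lfA (⟨15, [2, 3], 22, []⟩ : Fct)) (lfA (⟨22, [1, 1], 22, []⟩ : Fct))) (ndA (nat_lit 127) (lfA (⟨22, [], 10, [4, 1, 5, 3]⟩ : Fct)) (lfA (⟨22, [5, 8, 1, 8, 1, 8, 8, 1, 8, 8, 1, 8, 8, 1, 9, 1], 22, []⟩ : Fct))))))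
noncomputable def FT8 : ℕ → Fct := (ndA (nat_lit 136) (ndA (nat_lit 132) (ndA (nat_lit 130) (ndA (nat_lit 129) (lfA (⟨16, [9, 3], 23, []⟩ : Fct)) (lfA (⟨23, [1, 8, 8, 1, 8, 1, 8, 8, 1, 8, 1, 8, 8, 1, 8], 23, []⟩ : Fct))) (ndA (nat_lit 131) (lfA (⟨23, [7], 11, [3, 3, 8, 8, 8, 4, 8, 1, 4, 5, 3]⟩ : Fct)) (lfA (⟨23, [1, 9, 1, 8, 6, 1, 5, 6], 23, []⟩ : Fct)))) (ndA (nat_lit 134) (ndA (nat_lit 133) (lfA (⟨15, [2, 4], 24, []⟩ : Fct)) (lfA (⟨24, [], 10, [4, 1, 5, 4]⟩ : Fct))) (ndA (nat_lit 135) (lfA (⟨24, [2, 7], 13, [5, 3, 2, 9, 4, 9, 2, 4, 4]⟩ : Fct)) (lfA (⟨24, [1, 5, 8, 8, 8, 1, 8, 8, 1, 8, 2, 8], 24, []⟩ : Fct))))) (ndA (nat_lit 140) (ndA (nat_lit 138) (ndA (nat_lit 137) (lfA (⟨24, [2, 7, 5], 18, [3, 1, 8, 4, 1, 4, 1,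 8, 2]⟩ : Fct)) (lfA (⟨18, [3, 3, 3, 1, 9, 4, 4, 1, 8, 7], 18, []⟩ : Fct))) (ndA (nat_lit 139) (lfA (⟨14, [3, 9, 9, 4, 8, 1, 3, 2, 8, 5, 4, 5, 4, 5], 14, []⟩ : Fct)) (lfA (⟨14, [1, 8, 1, 9, 9, 9, 1, 8, 1, 5, 3, 5, 4], 24, [1, 9, 1, 8, 1, 8, 1, 8, 8, 8, 1, 8, 8, 6, 5, 7]⟩ : Fct)))) (ndA (nat_lit 142) (ndA (nat_lit 141) (lfA (⟨17, [1, 3, 1, 4, 8, 4, 7], 24, [7, 5, 1, 7, 8, 1, 8, 8, 8, 2, 8, 2, 9, 9, 2, 9, 2]⟩ : Fct)) (lfA (⟨16, [3], 25, []⟩ : Fct))) (ndA (nat_lit 143) (lfA (⟨25, [], 13, [4, 5, 3]⟩ : Fct)) (lfA (⟨25, [7], 11, [9, 3, 9, 3, 8, 4, 1, 8, 3, 5, 3]⟩ : Fct))))))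
noncomputable def FT9 : ℕ → Fct := (ndA (nat_lit 152) (ndA (nat_lit 148) (ndA (nat_lit 146) (ndA (nat_lit 145) (lfA (⟨25, [5], 18, [8, 3, 1, 3, 1, 8, 4, 8, 1, 3]⟩ : Fct)) (lfA (⟨25, [8, 1, 8, 1, 9, 9, 1, 9, 9, 1, 8, 1, 8, 8, 1, 8, 6, 2, 5, 6], 25, []⟩ : Fct))) (ndA (nat_lit 147) (lfA (⟨15, [4], 26, []⟩ : Fct)) (lfA (⟨26, [], 10, [4, 5, 4]⟩ : Fct)))) (ndA (nat_lit 150) (ndA (nat_lit 149) (lfA (⟨26, [7], 13, [5, 8, 2, 8, 8, 8, 3, 2, 9, 9]⟩ : Fct)) (lfA (⟨26, [5, 8, 1, 9, 1, 9, 1, 9, 9, 1, 9, 2, 9, 9], 26, []⟩ : Fct))) (ndA (nat_lit 151) (lfA (⟨26, [7, 5], 19, [4, 8, 8, 8, 1, 9, 3, 8, 4]⟩ : Fct)) (lfA (⟨16, [4], 27, []⟩ : Fct))))) (ndA (nat_lit 156) (ndA (nat_lit 154) (ndA (nat_lit 153) (lfA (⟨27, [7], 11, [9, 3, 9,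 3, 8, 4, 1, 8, 3, 5, 4]⟩ : Fct)) (lfA (⟨27, [7, 5], 17, [3, 3, 2, 9, 3, 3, 9, 9, 3]⟩ : Fct))) (ndA (nat_lit 155) (lfA (⟨27, [7, 5, 1, 7], 14, [5, 4, 2, 9, 2, 4, 8]⟩ : Fct)) (lfA (⟨27, [2, 7, 5, 6], 20, [9, 3, 1, 9, 1, 3, 1, 9, 4, 1]⟩ : Fct)))) (ndA (nat_lit 158) (ndA (nat_lit 157) (lfA (⟨17, [4], 28, []⟩ : Fct)) (lfA (⟨28, [7], 14, [5, 2, 3, 3, 9, 2, 8, 3, 8]⟩ : Fct))) (ndA (nat_lit 159) (lfA (⟨28, [6], 14, [5, 4, 1, 3, 8, 2, 3, 3, 8, 8]⟩ : Fct)) (lfA (⟨28, [1, 8, 1, 8, 1, 9, 1, 9, 9, 1, 9, 1, 8, 1, 8, 1, 7, 5, 6], 28, []⟩ : Fct))))))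
noncomputable def FT10 : ℕ → Fct := (ndA (nat_lit 168) (ndA (nat_lit 164) (ndA (nat_lit 162) (ndA (nat_lit 161) (lfA (⟨28, [6, 5], 20, [8, 1, 9, 1, 3, 9, 3, 3, 2, 4]⟩ : Fct)) (lfA (⟨20, [3, 1, 8, 1, 8, 4, 4, 9, 9, 9, 4, 7], 20, []⟩ : Fct))) (ndA (nat_lit 163) (lfA (⟨20, [9, 2, 4], 29, []⟩ : Fct)) (lfA (⟨29, [8, 1, 8, 1, 9, 1, 9, 9, 1, 9, 1, 8, 1, 8, 2, 6, 1], 29, []⟩ : Fct)))) (ndA (nat_lit 166) (ndA (nat_lit 165) (lfA (⟨19, [4], 30, []⟩ : Fct)) (lfA (⟨30, [], 13, [1, 5, 4, 5, 4]⟩ : Fct))) (ndA (nat_lit 167) (lfA (⟨30, [5, 9, 1, 8, 1, 8, 1, 9, 1, 9, 1, 9, 9, 1, 9, 1, 8], 30, []⟩ : Fct)) (lfA (⟨19, [9, 3], 31, []⟩ : Fct))))) (ndA (nat_lit 172) (ndA (nat_lit 170) (ndA (nat_lit 169) (lfA (⟨31, [1, 9, 9, 1, 8, 8], 31,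 []⟩ : Fct)) (lfA (⟨31, [], 13, [1, 5, 4, 5, 9, 3]⟩ : Fct))) (ndA (nat_lit 171) (lfA (⟨31, [5, 9, 1, 8, 1, 9, 9, 1, 8, 1, 8], 31, []⟩ : Fct)) (lfA (⟨20, [], 32, []⟩ : Fct)))) (ndA (nat_lit 174) (ndA (nat_lit 173) (lfA (⟨32, [1, 8, 1, 8, 8, 1, 9, 1, 9, 9, 9, 1, 8, 1, 9, 9, 7], 32, []⟩ : Fct)) (lfA (⟨32, [], 14, [5, 4, 5]⟩ : Fct))) (ndA (nat_lit 175) (lfA (⟨32, [5], 17, [3, 8, 8, 4, 1, 4, 2, 3, 8, 6]⟩ : Fct)) (lfA (⟨18, [4], 33, []⟩ : Fct))))))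
noncomputable def FT11 : ℕ → Fct := (ndA (nat_lit 184) (ndA (nat_lit 180) (ndA (nat_lit 178) (ndA (nat_lit 177) (lfA (⟨33, [], 13, [2, 4, 5, 4]⟩ : Fct)) (lfA (⟨33, [6], 13, [2, 4, 5, 4, 4, 2, 9, 3, 8, 4, 9, 2]⟩ : Fct))) (ndA (nat_lit 179) (lfA (⟨33, [5], 19, [3, 3, 8, 8, 1, 9, 3, 3, 1]⟩ : Fct)) (lfA (⟨33, [6, 5], 19, [4, 1, 3, 3, 9, 4, 9, 4, 1]⟩ : Fct)))) (ndA (nat_lit 182) (ndA (nat_lit 181) (lfA (⟨20, [4], 34, []⟩ : Fct)) (lfA (⟨15, [2, 7], 35, []⟩ : Fct))) (ndA (nat_lit 183) (lfA (⟨35, [4, 1, 9, 4, 2, 9, 4, 8], 35, []⟩ : Fct)) (lfA (⟨35, [1, 8, 3, 1, 3, 3, 1, 3, 1, 9], 35, []⟩ : Fct))))) (ndA (nat_lit 188) (ndA (nat_lit 186) (ndA (nat_lit 185) (lfA (⟨35, [3, 9, 4, 9, 4, 1, 4, 2], 35, []⟩ : Fct)) (lfA (⟨35, [],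 8, [6, 6, 5, 7, 2, 9, 2, 9, 9, 2, 9, 9, 2, 9]⟩ : Fct))) (ndA (nat_lit 187) (lfA (⟨35, [4], 24, [7]⟩ : Fct)) (lfA (⟨35, [3], 22, [7]⟩ : Fct)))) (ndA (nat_lit 190) (ndA (nat_lit 189) (lfA (⟨35, [2, 4], 26, [1, 6, 1]⟩ : Fct)) (lfA (⟨35, [4, 8, 4], 21, [8, 1, 9, 1, 9, 1, 8, 1, 8, 8, 8, 2, 8, 7]⟩ : Fct))) (ndA (nat_lit 191) (lfA (⟨35, [5], 16, [3, 1, 4, 4, 8, 1, 9, 3, 1, 3, 7]⟩ : Fct)) (lfA (⟨35, [4, 5], 17, [1, 7, 4, 4, 9, 4, 8, 2, 3, 8, 3]⟩ : Fct))))))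
noncomputable def FT12 : ℕ → Fct := (ndA (nat_lit 200) (ndA (nat_lit 196) (ndA (nat_lit 194) (ndA (nat_lit 193) (lfA (⟨35, [2, 4, 5], 19, [3, 9, 4, 8, 2, 9, 9, 9, 3, 6, 1]⟩ : Fct)) (lfA (⟨35, [8, 1, 4, 9, 9, 3, 8, 5, 3, 9, 3], 35, []⟩ : Fct))) (ndA (nat_lit 195) (lfA (⟨35, [5, 4], 25, [8, 8, 1, 8, 1, 9, 9, 1, 9, 7]⟩ : Fct)) (lfA (⟨35, [5, 3], 23, [1, 8, 8, 1, 8, 1, 9, 7]⟩ : Fct)))) (ndA (nat_lit 198) (ndA (nat_lit 197) (lfA (⟨35, [1, 5, 4], 27, [1, 9, 1, 8, 1, 8, 8, 1, 9, 1, 9, 6, 1]⟩ : Fct)) (lfA (⟨35, [4, 5, 4], 32, [5, 9, 1, 8, 1, 8, 1, 8, 8, 8, 1, 8, 1, 9, 6, 2]⟩ : Fct))) (ndA (nat_lit 199) (lfA (⟨35, [4, 5, 4, 4], 32, [1, 5, 9, 9, 2, 9, 9, 7]⟩ : Fct)) (lfA (⟨35, [2, 4, 9, 5, 4], 30, [8, 1, 8, 1, 9, 1, 9, 1, 9,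 9, 1, 8, 6, 1]⟩ : Fct))))) (ndA (nat_lit 204) (ndA (nat_lit 202) (ndA (nat_lit 201) (lfA (⟨35, [5, 4, 5], 18, [1, 8, 1, 8, 8, 4, 2, 8, 3, 3, 7]⟩ : Fct)) (lfA (⟨35, [1, 5, 4, 5], 20, [3, 3, 1, 9, 4, 9, 1, 9, 6, 2]⟩ : Fct))) (ndA (nat_lit 203) (lfA (⟨30, [1, 8, 1, 8, 1, 9, 9, 1, 8, 1, 9, 6, 5, 7, 7], 34, []⟩ : Fct)) (lfA (⟨34, [], 30, [1, 8, 1, 8, 1, 9, 9, 1, 8, 1, 9, 6, 5, 7, 7]⟩ : Fct)))) (ndA (nat_lit 206) (ndA (nat_lit 205) (lfA (⟨30, [1, 8, 1, 8, 1, 9, 9, 1, 8, 1, 9, 6, 5, 7, 7], 20, [4]⟩ : Fct)) (lfA (⟨35, [5, 2, 4, 5, 8, 4], 29, [8, 1, 8, 8, 1, 9, 9, 9, 1, 6, 2]⟩ : Fct))) (ndA (nat_lit 207) (lfA (⟨19, [7], 36, []⟩ : Fct)) (lfA (⟨36, [8, 3, 9, 3, 8, 8, 3, 9, 3, 8], 36, []⟩ : Fct))))))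
noncomputable def FT13 : ℕ → Fct := (ndA (nat_lit 216) (ndA (nat_lit 212) (ndA (nat_lit 210) (ndA (nat_lit 209) (lfA (⟨36, [3, 3, 8, 1, 8, 2, 8, 8, 4], 36, []⟩ : Fct)) (lfA (⟨36, [4], 30, [7]⟩ : Fct))) (ndA (nat_lit 211) (lfA (⟨36, [2, 4], 33, [1, 5, 9, 9, 1, 9, 9, 1, 8, 1, 9, 6, 1, 5]⟩ : Fct)) (lfA (⟨36, [1, 3, 8, 1, 3, 1, 8, 5, 3, 1], 36, []⟩ : Fct)))) (ndA (nat_lit 214) (ndA (nat_lit 213) (lfA (⟨36, [9, 3], 31, [7]⟩ : Fct)) (lfA (⟨36, [4, 5], 20, [2, 9, 9, 3, 8, 8, 6, 1]⟩ : Fct))) (ndA (nat_lit 215) (lfA (⟨35, [3, 5], 37, []⟩ : Fct)) (lfA (⟨37, [1, 4, 1, 4, 1, 3, 3, 1, 4], 37, []⟩ : Fct))))) (ndA (nat_lit 220) (ndA (nat_lit 218) (ndA (nat_lit 217) (lfA (⟨37, [3, 1, 8, 2, 9, 9, 4, 8], 37, []⟩ : Fct)) (lfA (⟨37,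 [], 22, [7, 5]⟩ : Fct))) (ndA (nat_lit 219) (lfA (⟨37, [4], 23, [8, 1, 8, 8, 8, 1, 9, 1, 8, 7, 5]⟩ : Fct)) (lfA (⟨37, [3], 29, [8, 8, 1, 8, 1, 8, 8, 1, 8, 6, 5]⟩ : Fct)))) (ndA (nat_lit 222) (ndA (nat_lit 221) (lfA (⟨37, [1, 4, 4, 8, 4, 1, 3, 9, 3, 3, 6], 37, []⟩ : Fct)) (lfA (⟨37, [6, 9, 4, 8, 2, 9, 9, 9, 3, 3], 37, []⟩ : Fct))) (ndA (nat_lit 223) (lfA (⟨36, [9, 3, 5], 38, []⟩ : Fct)) (lfA (⟨38, [8, 4, 9, 3, 9, 4, 9, 1, 9, 9], 38, []⟩ : Fct))))))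
noncomputable def FT14 : ℕ → Fct := (ndA (nat_lit 232) (ndA (nat_lit 228) (ndA (nat_lit 226) (ndA (nat_lit 225) (lfA (⟨38, [], 31, [7, 5]⟩ : Fct)) (lfA (⟨38, [4, 1, 3, 1, 4, 8, 8, 6], 38, []⟩ : Fct))) (ndA (nat_lit 227) (lfA (⟨35, [4, 5, 4, 5], 39, []⟩ : Fct)) (lfA (⟨39, [4, 9, 1, 8, 3, 3, 2, 4, 8, 8], 39, []⟩ : Fct)))) (ndA (nat_lit 230) (ndA (nat_lit 229) (lfA (⟨39, [], 32, [5, 9, 1, 8, 1, 8, 1, 8, 8, 8, 1, 8, 1, 9, 6, 2, 5]⟩ : Fct)) (lfA (⟨39, [3, 1, 4, 4, 1, 3, 1, 8, 6, 1], 39, []⟩ : Fct))) (ndA (nat_lit 231) (lfA (⟨37, [3, 8, 3], 40, []⟩ : Fct)) (lfA (⟨40, [], 35, [3, 5, 3, 8, 3]⟩ : Fct))))) (ndA (nat_lit 236) (ndA (nat_lit 234) (ndA (nat_lit 233) (lfA (⟨40, [1, 5, 8, 1, 9, 9, 1, 8, 2], 40, []⟩ : Fct)) (lfA (⟨37,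 [2, 7], 41, []⟩ : Fct))) (ndA (nat_lit 235) (lfA (⟨41, [4, 1, 4, 4, 2, 4, 9, 9], 41, []⟩ : Fct)) (lfA (⟨41, [3, 1, 8, 2, 9, 9, 4, 8], 41, []⟩ : Fct)))) (ndA (nat_lit 238) (ndA (nat_lit 237) (lfA (⟨41, [1, 4, 4, 9, 1, 9, 4, 9, 9, 9], 41, []⟩ : Fct)) (lfA (⟨41, [4, 4, 8, 8, 8, 2, 9, 3, 8], 41, []⟩ : Fct))) (ndA (nat_lit 239) (lfA (⟨41, [], 22, [7, 5, 2, 7]⟩ : Fct)) (lfA (⟨41, [4], 23, [6, 6, 5, 7, 9, 9, 9, 2, 9, 2, 8, 8, 2, 9, 2, 8]⟩ : Fct))))))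
noncomputable def FT15 : ℕ → Fct := (ndA (nat_lit 246) (ndA (nat_lit 243) (ndA (nat_lit 241) (lfA (⟨41, [3], 29, [7, 5, 6, 9, 2, 8, 8, 2, 8, 8, 2, 9, 2, 9, 5]⟩ : Fct)) (ndA (nat_lit 242) (lfA (⟨41, [3, 8, 3], 40, [9, 1, 8, 1, 8, 8, 8, 1, 8, 8, 1, 8, 2, 8, 8, 7]⟩ : Fct)) (lfA (⟨41, [1, 1, 5], 41, []⟩ : Fct)))) (ndA (nat_lit 244) (lfA (⟨41, [1, 3, 9, 3, 9, 4, 1, 4, 9, 5, 3], 41, []⟩ : Fct)) (ndA (nat_lit 245) (lfA (⟨41, [3, 8, 8, 1, 8, 8, 1, 8, 8, 8, 5, 4], 41, []⟩ : Fct)) (lfA (⟨41, [3, 5, 3, 5], 42, []⟩ : Fct))))) (ndA (nat_lit 249) (ndA (nat_lit 247) (lfA (⟨42, [1, 1], 42, []⟩ : Fct)) (ndA (nat_lit 248) (lfA (⟨42, [1, 8, 8, 1, 9, 1, 9, 9, 4, 8], 42, []⟩ : Fct)) (lfA (⟨42, [1, 3, 8, 4, 1, 9, 3, 9, 9], 42, []⟩ : Fct))))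 (ndA (nat_lit 250) (lfA (⟨42, [1, 9, 1, 3, 3, 3, 1, 8, 2], 42, []⟩ : Fct)) (ndA (nat_lit 251) (lfA (⟨42, [], 40, [8, 8, 1, 8, 1, 9, 1, 9, 9, 9, 1, 8, 1, 6, 5]⟩ : Fct)) (lfA (⟨42, [3, 3, 8, 1, 8, 1, 8, 8, 4, 7], 42, []⟩ : Fct))))))
noncomputable def FT : ℕ → Fct := (ndA (nat_lit 128) (ndA (nat_lit 64) (ndA (nat_lit 32) (ndA (nat_lit 16) FT0 FT1) (ndA (nat_lit 48) FT2 FT3)) (ndA (nat_lit 96) (ndA (nat_lit 80) FT4 FT5) (ndA (nat_lit 112) FT6 FT7))) (ndA (nat_lit 192) (ndA (nat_lit 160) (ndA (nat_lit 144) FT8 FT9) (ndA (nat_lit 176) FT10 FT11)) (ndA (nat_lit 224) (ndA (nat_lit 208) FT12 FT13) (ndA (nat_lit 240) FT14 FT15))))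

noncomputable def DT0 : ℕ → Der := (ndA (nat_lit 8) (ndA (nat_lit 4) (ndA (nat_lit 2) (ndA (nat_lit 1) (lfA (⟨1, 0, 0, [], [], 0⟩ : Der)) (lfA (⟨1, 0, 0, [], [], 0⟩ : Der))) (ndA (nat_lit 3) (lfA (⟨1, 0, 0, [], [], 0⟩ : Der)) (lfA (⟨0, 0, 0, [], [], 1⟩ : Der)))) (ndA (nat_lit 6) (ndA (nat_lit 5) (lfA (⟨2, 0, 0, [], [⟨0, [], 7, 1, [1]⟩, ⟨0, [0], 6, 0, []⟩], 1⟩ : Der)) (lfA (⟨2, 0, 0, [], [⟨0, [], 7, 1, [3]⟩, ⟨0, [2], 6, 0, []⟩], 1⟩ : Der))) (ndA (nat_lit 7) (lfA (⟨0, 0, 0, [], [], 2⟩ : Der)) (lfA (⟨2, 0, 0, [], [⟨0, [], 13, 2, [1]⟩, ⟨0, [8], 12, 1, []⟩], 2⟩ : Der))))) (ndA (nat_lit 12) (ndA (nat_lit 10) (ndA (nat_lit 9) (lfA (⟨2, 0, 0, [], [⟨0, [], 13, 2, []⟩, ⟨0, [], 7, 1, []⟩], 0⟩ : Der)) (lfA (⟨2, 0, 0, [], [⟨0,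 [], 16, 2, [5]⟩, ⟨0, [4], 17, 0, []⟩], 2⟩ : Der))) (ndA (nat_lit 11) (lfA (⟨0, 0, 0, [], [], 0⟩ : Der)) (lfA (⟨2, 0, 0, [], [⟨0, [], 21, 0, [3]⟩, ⟨0, [10], 20, 1, []⟩], 0⟩ : Der)))) (ndA (nat_lit 14) (ndA (nat_lit 13) (lfA (⟨2, 0, 0, [], [⟨0, [], 21, 0, [1, 3, 2]⟩, ⟨0, [8, 10, 9], 20, 1, []⟩], 0⟩ : Der)) (lfA (⟨2, 0, 0, [], [⟨0, [], 21, 0, []⟩, ⟨0, [], 12, 1, [7]⟩], 2⟩ : Der))) (ndA (nat_lit 15) (lfA (⟨0, 0, 0, [], [], 1⟩ : Der)) (lfA (⟨2, 0, 0, [], [⟨0, [], 29, 1, [1, 3, 1, 3, 1, 4, 1, 4]⟩, ⟨0, [24, 22, 25, 23], 28, 0, []⟩], 1⟩ : Der))))))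
noncomputable def DT1 : ℕ → Der := (ndA (nat_lit 24) (ndA (nat_lit 20) (ndA (nat_lit 18) (ndA (nat_lit 17) (lfA (⟨2, 0, 0, [], [⟨0, [], 29, 1, [4, 1, 3, 2, 4]⟩, ⟨0, [23, 24, 23], 28, 0, []⟩], 1⟩ : Der)) (lfA (⟨2, 0, 0, [], [⟨0, [], 29, 1, []⟩, ⟨0, [], 26, 0, [5]⟩], 2⟩ : Der))) (ndA (nat_lit 19) (lfA (⟨2, 0, 0, [], [⟨0, [], 34, 1, [1, 1, 6]⟩, ⟨0, [14, 14, 19], 35, 2, []⟩], 1⟩ : Der)) (lfA (⟨0, 0, 0, [], [], 1⟩ : Der)))) (ndA (nat_lit 22) (ndA (nat_lit 21) (lfA (⟨2, 0, 0, [], [⟨0, [], 39, 1, [3, 1, 3, 1, 9, 9, 3, 3, 1]⟩, ⟨0, [25, 22, 24, 23, 25, 23], 38, 0, []⟩], 1⟩ : Der)) (lfA (⟨2, 0, 0, [], [⟨0, [], 39, 1, [1, 9, 1, 9, 9, 4, 1, 4, 1]⟩, ⟨0, [22, 22, 24, 24, 23, 23, 25], 38, 0, []⟩], 1⟩ : Der))) (ndA (nat_lit 23) (lfA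 (⟨0, 0, 0, [], [], 1⟩ : Der)) (lfA (⟨2, 0, 0, [], [⟨0, [], 45, 1, [4, 1, 3, 2, 4, 8, 8]⟩, ⟨0, [24, 22, 24, 22], 44, 0, []⟩], 1⟩ : Der))))) (ndA (nat_lit 28) (ndA (nat_lit 26) (ndA (nat_lit 25) (lfA (⟨2, 0, 0, [], [⟨0, [], 45, 1, [1, 4, 4, 2, 4, 9, 9, 4]⟩, ⟨0, [23, 25, 22, 22, 25], 44, 0, []⟩], 1⟩ : Der)) (lfA (⟨2, 0, 0, [], [⟨0, [], 45, 1, [1, 3, 2, 4, 8, 8, 4]⟩, ⟨0, [23, 24, 22, 24, 22, 22], 44, 0, []⟩], 1⟩ : Der))) (ndA (nat_lit 27) (lfA (⟨2, 0, 0, [], [⟨0, [], 45, 1, [4, 1, 9, 4, 2, 9, 4, 8]⟩, ⟨0, [25, 23, 24, 24, 23], 44, 0, []⟩], 1⟩ : Der)) (lfA (⟨2, 0, 0, [], [⟨0, [], 45, 1, [3, 8, 1, 9, 4, 1, 3, 9, 4, 4]⟩, ⟨0, [22, 22, 22, 25, 22, 24, 23, 23], 44, 0, []⟩], 1⟩ : Der)))) (ndA (nat_lit 30) (ndA (nat_lit 29) (lfA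 (⟨0, 0, 0, [], [], 2⟩ : Der)) (lfA (⟨2, 0, 0, [], [⟨0, [], 57, 2, [1, 7, 1]⟩, ⟨0, [36], 56, 1, []⟩], 2⟩ : Der))) (ndA (nat_lit 31) (lfA (⟨2, 0, 0, [], [⟨0, [], 57, 2, []⟩, ⟨0, [], 29, 1, [4, 2, 4]⟩], 0⟩ : Der)) (lfA (⟨2, 0, 0, [], [⟨0, [], 60, 2, [5]⟩, ⟨0, [22, 22, 24, 23, 25, 23, 23, 23], 44, 0, [1, 3, 9, 3, 2, 8, 8, 4, 4]⟩], 1⟩ : Der))))))
noncomputable def DT2 : ℕ → Der := (ndA (nat_lit 40) (ndA (nat_lit 36) (ndA (nat_lit 34) (ndA (nat_lit 33) (lfA (⟨0, 0, 0, [], [], 2⟩ : Der)) (lfA (⟨2, 0, 0, [], [⟨0, [], 65, 2, [1, 1, 6]⟩, ⟨0, [36], 64, 1, []⟩], 2⟩ : Der))) (ndA (nat_lit 35) (lfA (⟨2, 0, 0, [], [⟨0, [], 65, 2, []⟩, ⟨0, [], 29, 1, [4]⟩], 0⟩ : Der)) (lfA (⟨2, 0, 0, [], [⟨0, [], 68, 2, [5]⟩, ⟨0, [], 44, 0, []⟩],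 1⟩ : Der)))) (ndA (nat_lit 38) (ndA (nat_lit 37) (lfA (⟨0, 0, 0, [], [], 2⟩ : Der)) (lfA (⟨2, 0, 0, [], [⟨0, [], 73, 2, [1, 8, 1, 9, 9, 1, 9, 2, 9]⟩, ⟨0, [40, 40, 43], 72, 1, []⟩], 2⟩ : Der))) (ndA (nat_lit 39) (lfA (⟨2, 0, 0, [], [⟨0, [], 73, 2, []⟩, ⟨0, [], 39, 1, []⟩], 0⟩ : Der)) (lfA (⟨2, 0, 0, [], [⟨0, [], 76, 2, [5]⟩, ⟨0, [], 44, 0, [4]⟩], 1⟩ : Der))))) (ndA (nat_lit 44) (ndA (nat_lit 42) (ndA (nat_lit 41) (lfA (⟨0, 0, 0, [], [], 0⟩ : Der)) (lfA (⟨2, 0, 0, [], [⟨0, [], 81, 0, [3, 1, 3, 1, 4, 1, 4, 1]⟩, ⟨0, [30], 80, 1, []⟩], 0⟩ : Der))) (ndA (nat_lit 43) (lfA (⟨2, 0, 0, [], [⟨0, [], 81, 0, [4, 1, 3, 2, 4]⟩, ⟨0, [32], 80, 1, []⟩], 0⟩ : Der)) (lfA (⟨2, 0, 0, [], [⟨0, [], 81, 0, [1, 1]⟩, ⟨0, [36], 80, 1, []⟩],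 0⟩ : Der)))) (ndA (nat_lit 46) (ndA (nat_lit 45) (lfA (⟨2, 0, 0, [], [⟨0, [], 81, 0, []⟩, ⟨0, [], 34, 1, [2, 7]⟩], 2⟩ : Der)) (lfA (⟨2, 0, 0, [], [⟨0, [], 81, 0, [4]⟩, ⟨0, [30, 32, 32, 31], 64, 1, [1, 6, 9, 1, 9, 9, 1, 9, 9, 1, 9, 2]⟩], 2⟩ : Der))) (ndA (nat_lit 47) (lfA (⟨2, 0, 0, [], [⟨0, [], 81, 0, [4, 2, 4]⟩, ⟨0, [], 56, 1, [7, 8, 8, 1, 9, 1, 9, 9, 1, 8, 1, 8, 8, 8, 2, 8]⟩], 2⟩ : Der)) (lfA (⟨2, 0, 0, [], [⟨0, [], 88, 0, [5]⟩, ⟨0, [18], 89, 2, []⟩], 0⟩ : Der))))))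
noncomputable def DT3 : ℕ → Der := (ndA (nat_lit 56) (ndA (nat_lit 52) (ndA (nat_lit 50) (ndA (nat_lit 49) (lfA (⟨0, 0, 0, [], [], 0⟩ : Der)) (lfA (⟨2, 0, 0, [], [⟨0, [], 97, 0, [1, 3, 1, 3, 1, 4, 1, 4]⟩, ⟨0, [30], 96, 1, []⟩], 0⟩ : Der))) (ndA (nat_lit 51) (lfA (⟨2, 0, 0, [], [⟨0, [], 97, 0, [4, 1, 3, 2, 4]⟩, ⟨0, [32], 96, 1, []⟩], 0⟩ : Der)) (lfA (⟨2, 0, 0, [], [⟨0, [], 97, 0, []⟩, ⟨0, [], 34, 1, [6]⟩], 2⟩ : Der)))) (ndA (nat_lit 54) (ndA (nat_lit 53) (lfA (⟨2, 0, 0, [], [⟨0, [], 97, 0, [4]⟩, ⟨0, [], 64, 1, [6]⟩], 2⟩ : Der)) (lfA (⟨2, 0, 0, [], [⟨0, [], 97, 0, [4, 2, 4]⟩, ⟨0, [], 56, 1, [6, 6]⟩], 2⟩ : Der))) (ndA (nat_lit 55) (lfA (⟨2, 0, 0, [], [⟨0, [], 102, 0, [2, 5]⟩, ⟨0, [18, 14], 103, 2, []⟩], 0⟩ : Der)) (lfA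 (⟨0, 0, 0, [], [], 0⟩ : Der))))) (ndA (nat_lit 60) (ndA (nat_lit 58) (ndA (nat_lit 57) (lfA (⟨2, 0, 0, [], [⟨0, [], 111, 0, [1, 4, 4, 2, 4, 9, 9, 4]⟩, ⟨0, [48], 110, 1, []⟩], 0⟩ : Der)) (lfA (⟨2, 0, 0, [], [⟨0, [], 111, 0, [4]⟩, ⟨0, [], 79, 1, [7]⟩], 2⟩ : Der))) (ndA (nat_lit 59) (lfA (⟨2, 0, 0, [], [⟨0, [], 111, 0, [3]⟩, ⟨0, [], 63, 1, [7, 8, 1, 9, 9, 9, 1, 9, 9, 1, 9, 1]⟩], 2⟩ : Der)) (lfA (⟨2, 0, 0, [], [⟨0, [], 111, 0, [2, 4]⟩, ⟨0, [53, 55], 71, 1, [1, 8, 1, 7, 8, 8, 1, 8, 8, 8, 1, 8, 1]⟩], 2⟩ : Der)))) (ndA (nat_lit 62) (ndA (nat_lit 61) (lfA (⟨2, 0, 0, [], [⟨0, [], 111, 0, [4, 8, 4]⟩, ⟨0, [55], 63, 1, [1, 8, 8, 1, 7, 8, 1, 9, 1, 9, 1, 8, 1, 8]⟩], 2⟩ : Der)) (lfA (⟨2, 0, 0, [2, 4], [⟨0, [], 118, 0, [5]⟩, ⟨0,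 [66], 119, 2, []⟩], 0⟩ : Der))) (ndA (nat_lit 63) (lfA (⟨2, 0, 0, [5, 8, 1, 9, 9, 9, 1, 9, 9, 1, 9, 1, 7], [⟨0, [], 117, 2, [1, 5, 8, 1, 8, 1, 9, 1, 9, 2]⟩, ⟨0, [122, 112, 122, 113, 123], 116, 0, []⟩], 2⟩ : Der)) (lfA (⟨2, 0, 0, [3, 1, 3, 8, 4, 4, 9, 1, 9, 4, 5], [⟨0, [], 120, 0, []⟩, ⟨0, [125, 59], 107, 2, [1, 5, 9, 1, 9, 9, 1, 9, 9, 1, 9, 2, 8]⟩], 0⟩ : Der))))))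
noncomputable def DT4 : ℕ → Der := (ndA (nat_lit 72) (ndA (nat_lit 68) (ndA (nat_lit 66) (ndA (nat_lit 65) (lfA (⟨2, 0, 0, [], [⟨0, [], 126, 0, [4, 2, 4, 5, 2, 8, 3, 9, 3, 3, 2, 4, 2]⟩], 0⟩ : Der)) (lfA (⟨2, 0, 0, [], [⟨0, [], 129, 0, []⟩, ⟨0, [], 111, 0, []⟩], 1⟩ : Der))) (ndA (nat_lit 67) (lfA (⟨2, 0, 0, [], [⟨0, [], 129, 0, [4]⟩, ⟨0, [], 114, 0, []⟩], 2⟩ : Der)) (lfA (⟨2, 0, 0, [4, 2, 4], [⟨0, [], 92, 0, [5, 9, 9, 1, 9, 1, 8, 1, 8, 8]⟩, ⟨0, [124], 93, 2, []⟩], 0⟩ : Der)))) (ndA (nat_lit 70) (ndA (nat_lit 69) (lfA (⟨0, 0, 0, [], [], 0⟩ : Der)) (lfA (⟨2, 0, 0, [], [⟨0, [], 137, 0, [1, 3, 1, 3, 1, 3, 1, 3]⟩, ⟨0, [46], 136, 1, []⟩], 0⟩ : Der))) (ndA (nat_lit 71) (lfA (⟨2, 0, 0, [], [⟨0, [], 137, 0, [4, 1, 9, 4, 2,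 9, 4, 8]⟩, ⟨0, [48], 136, 1, []⟩], 0⟩ : Der)) (lfA (⟨2, 0, 0, [], [⟨0, [], 137, 0, [1, 3, 9, 9, 3, 2, 4]⟩, ⟨0, [50], 136, 1, []⟩], 0⟩ : Der))))) (ndA (nat_lit 76) (ndA (nat_lit 74) (ndA (nat_lit 73) (lfA (⟨2, 0, 0, [], [⟨0, [], 137, 0, [1, 4, 4, 2, 4, 9, 9, 4]⟩, ⟨0, [52], 136, 1, []⟩], 0⟩ : Der)) (lfA (⟨2, 0, 0, [], [⟨0, [], 137, 0, []⟩, ⟨0, [], 71, 1, [2, 7]⟩], 2⟩ : Der))) (ndA (nat_lit 75) (lfA (⟨2, 0, 0, [], [⟨0, [], 137, 0, [4]⟩, ⟨0, [53, 55], 71, 1, [1, 7, 8, 1, 8, 8, 1, 8, 8, 8, 1, 8, 1]⟩], 2⟩ : Der)) (lfA (⟨2, 0, 0, [], [⟨0, [], 137, 0, [2, 4]⟩, ⟨0, [], 79, 1, [1, 6, 1]⟩], 2⟩ : Der)))) (ndA (nat_lit 78) (ndA (nat_lit 77) (lfA (⟨2, 0, 0, [], [⟨0, [], 137, 0, [2, 3]⟩, ⟨0, [], 63, 1, [8, 1, 6, 9, 9, 9, 1, 9, 9,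 1, 9, 2]⟩], 2⟩ : Der)) (lfA (⟨2, 0, 0, [], [⟨0, [], 137, 0, [4, 8, 4]⟩, ⟨0, [55], 63, 1, [8, 1, 7, 8, 1, 9, 1, 9, 9, 9, 1, 9, 1]⟩], 2⟩ : Der))) (ndA (nat_lit 79) (lfA (⟨2, 0, 0, [2, 3], [⟨0, [], 152, 0, [1, 5, 8, 1, 8, 1, 9, 1, 9, 2]⟩, ⟨0, [124, 59], 153, 2, []⟩], 0⟩ : Der)) (lfA (⟨2, 0, 0, [4, 8, 4], [⟨0, [], 154, 0, [1, 1, 5]⟩, ⟨0, [58], 155, 2, []⟩], 0⟩ : Der))))))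
noncomputable def DT5 : ℕ → Der := (ndA (nat_lit 88) (ndA (nat_lit 84) (ndA (nat_lit 82) (ndA (nat_lit 81) (lfA (⟨0, 0, 0, [], [], 0⟩ : Der)) (lfA (⟨2, 0, 0, [], [⟨0, [], 161, 0, [1, 9, 1, 9, 9, 4, 1, 4, 1]⟩, ⟨0, [42], 160, 1, []⟩], 0⟩ : Der))) (ndA (nat_lit 83) (lfA (⟨2, 0, 0, [], [⟨0, [], 161, 0, [1, 4, 2, 4, 9, 3, 3, 8, 8]⟩, ⟨0, [40, 42, 41], 160, 1, []⟩], 0⟩ : Der)) (lfA (⟨2, 0, 0, [], [⟨0, [], 161, 0, [1, 8, 3, 9, 9, 2, 4, 4]⟩, ⟨0, [41, 42, 40], 160, 1, []⟩], 0⟩ : Der)))) (ndA (nat_lit 86) (ndA (nat_lit 85) (lfA (⟨2, 0, 0, [], [⟨0, [], 161, 0, []⟩, ⟨0, [], 72, 1, [7]⟩], 2⟩ : Der)) (lfA (⟨2, 0, 0, [], [⟨0, [], 161, 0, [3]⟩, ⟨0, [41, 42, 41, 43, 40], 72, 1, [8, 8, 1, 6, 8, 1, 8, 8, 1, 8, 1, 9, 2, 9]⟩], 2⟩ : Der)))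 (ndA (nat_lit 87) (lfA (⟨0, 0, 0, [], [], 1⟩ : Der)) (lfA (⟨2, 0, 0, [], [⟨0, [], 173, 1, [1, 1]⟩, ⟨0, [86], 172, 0, []⟩], 1⟩ : Der))))) (ndA (nat_lit 92) (ndA (nat_lit 90) (ndA (nat_lit 89) (lfA (⟨2, 0, 0, [], [⟨0, [], 173, 1, [1, 4, 4, 2, 4, 9, 9, 4]⟩, ⟨0, [84, 84, 83, 85], 172, 0, []⟩], 1⟩ : Der)) (lfA (⟨2, 0, 0, [], [⟨0, [], 173, 1, [1, 8, 1, 4, 1, 4, 4, 1, 4, 9]⟩, ⟨0, [82, 82, 134, 82, 135], 172, 0, []⟩], 1⟩ : Der))) (ndA (nat_lit 91) (lfA (⟨2, 0, 0, [], [⟨0, [], 173, 1, [1, 3, 9, 4, 9, 4, 1, 4]⟩, ⟨0, [84, 134, 84, 82, 135, 83], 172, 0, []⟩], 1⟩ : Der)) (lfA (⟨2, 0, 0, [], [⟨0, [], 173, 1, []⟩, ⟨0, [], 90, 0, [5]⟩], 2⟩ : Der)))) (ndA (nat_lit 94) (ndA (nat_lit 93) (lfA (⟨2, 0, 0, [], [⟨0, [], 182, 1, [7]⟩, ⟨0,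 [], 147, 2, [5, 9, 1, 9, 9, 1, 9, 9, 1, 9, 2]⟩], 0⟩ : Der)) (lfA (⟨0, 0, 0, [], [], 1⟩ : Der))) (ndA (nat_lit 95) (lfA (⟨2, 0, 0, [], [⟨0, [], 187, 1, [4, 1, 3, 2, 4, 8, 8]⟩, ⟨0, [138], 186, 0, []⟩], 1⟩ : Der)) (lfA (⟨2, 0, 0, [], [⟨0, [], 187, 1, [3, 3, 3, 9, 1, 3, 2, 9]⟩, ⟨0, [142], 186, 0, []⟩], 1⟩ : Der))))))
noncomputable def DT6 : ℕ → Der := (ndA (nat_lit 104) (ndA (nat_lit 100) (ndA (nat_lit 98) (ndA (nat_lit 97) (lfA (⟨2, 0, 0, [], [⟨0, [], 187, 1, [8, 3, 9, 3, 8, 8, 3, 9, 3, 8]⟩, ⟨0, [144, 141], 186, 0, []⟩], 1⟩ : Der)) (lfA (⟨2, 0, 0, [], [⟨0, [], 187, 1, [4, 4, 1, 8, 8, 3, 9, 1, 3, 9]⟩, ⟨0, [140, 158, 157, 141], 186, 0, []⟩], 1⟩ : Der))) (ndA (nat_lit 99) (lfA (⟨2, 0, 0, [], [⟨0, [], 187, 1, []⟩, ⟨0, [],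 148, 0, [5]⟩], 2⟩ : Der)) (lfA (⟨2, 0, 0, [], [⟨0, [], 196, 1, [7]⟩, ⟨0, [67], 105, 2, [1, 5, 8, 1, 8, 8, 1, 8, 8, 8, 1, 8, 1]⟩], 0⟩ : Der)))) (ndA (nat_lit 102) (ndA (nat_lit 101) (lfA (⟨0, 0, 0, [], [], 1⟩ : Der)) (lfA (⟨2, 0, 0, [], [⟨0, [], 201, 1, [9, 3, 3, 1, 9, 2, 3, 8, 3]⟩, ⟨0, [98, 98, 100, 100, 99], 200, 0, []⟩], 1⟩ : Der))) (ndA (nat_lit 103) (lfA (⟨2, 0, 0, [], [⟨0, [], 201, 1, [8, 3, 1, 3, 8, 1, 9, 4]⟩, ⟨0, [100, 98, 98, 100, 99, 100, 100, 98], 200, 0, []⟩], 1⟩ : Der)) (lfA (⟨2, 0, 0, [], [⟨0, [], 201, 1, [2, 3]⟩, ⟨0, [100, 99, 101, 99, 100], 132, 0, [1, 5, 8, 1, 8, 8, 8, 1, 8, 1, 8, 8, 2, 8]⟩], 2⟩ : Der))))) (ndA (nat_lit 108) (ndA (nat_lit 106) (ndA (nat_lit 105) (lfA (⟨2, 0, 0, [], [⟨0, [], 206, 1,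 [2, 7]⟩, ⟨0, [75], 169, 2, [1, 5, 8, 8, 1, 8, 8, 1, 8, 8, 1, 9]⟩], 0⟩ : Der)) (lfA (⟨2, 0, 0, [], [⟨0, [], 207, 2, [1, 7]⟩, ⟨0, [205], 208, 1, [8, 3, 9, 3, 1, 4, 4, 9, 2, 4]⟩], 0⟩ : Der))) (ndA (nat_lit 107) (lfA (⟨0, 0, 0, [], [], 1⟩ : Der)) (lfA (⟨2, 0, 0, [], [⟨0, [], 213, 1, [8, 3, 9, 3, 8, 8, 3, 9, 3, 8]⟩, ⟨0, [144, 141], 212, 0, []⟩], 1⟩ : Der)))) (ndA (nat_lit 110) (ndA (nat_lit 109) (lfA (⟨2, 0, 0, [], [⟨0, [], 213, 1, [1, 8, 8, 4, 2, 3, 9, 9, 3, 8]⟩, ⟨0, [140, 142, 141], 212, 0, []⟩], 1⟩ : Der)) (lfA (⟨2, 0, 0, [], [⟨0, [], 213, 1, []⟩, ⟨0, [], 150, 0, [5]⟩], 2⟩ : Der))) (ndA (nat_lit 111) (lfA (⟨2, 0, 0, [], [⟨0, [], 218, 1, [7]⟩, ⟨0, [75], 210, 2, [5, 8, 1, 8, 8, 8, 1, 9, 1, 9, 2]⟩], 0⟩ : Der)) (lfA (⟨2,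 0, 0, [], [⟨0, [], 218, 1, [2, 7]⟩, ⟨0, [], 171, 2, [5, 8, 1, 8, 1, 9, 1, 9, 9, 1, 9, 1, 9, 9, 1]⟩], 0⟩ : Der))))))
noncomputable def DT7 : ℕ → Der := (ndA (nat_lit 120) (ndA (nat_lit 116) (ndA (nat_lit 114) (ndA (nat_lit 113) (lfA (⟨0, 0, 0, [], [], 1⟩ : Der)) (lfA (⟨2, 0, 0, [], [⟨0, [], 225, 1, [8, 3, 9, 3, 8, 8, 3, 9, 3, 8]⟩, ⟨0, [144, 141], 224, 0, []⟩], 1⟩ : Der))) (ndA (nat_lit 115) (lfA (⟨2, 0, 0, [], [⟨0, [], 225, 1, [1, 3, 3, 8, 1, 4, 8, 8, 4]⟩, ⟨0, [138, 156, 142, 157, 141, 139], 224, 0, []⟩], 1⟩ : Der)) (lfA (⟨2, 0, 0, [], [⟨0, [], 225, 1, [1, 3, 9, 3, 8, 3, 3, 1, 8, 3]⟩, ⟨0, [138, 145, 158, 157, 144, 139], 224, 0, []⟩], 1⟩ : Der)))) (ndA (nat_lit 118) (ndA (nat_lit 117) (lfA (⟨0, 0, 0, [], [], 1⟩ : Der))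 (lfA (⟨2, 0, 0, [], [⟨0, [], 233, 1, [9, 1, 9, 9, 9, 3, 2, 8, 3, 8]⟩, ⟨0, [163, 166, 165], 232, 0, []⟩], 1⟩ : Der))) (ndA (nat_lit 119) (lfA (⟨0, 0, 0, [], [], 2⟩ : Der)) (lfA (⟨2, 0, 0, [], [⟨0, [], 237, 2, [1, 1]⟩, ⟨0, [174], 236, 1, []⟩], 2⟩ : Der))))) (ndA (nat_lit 124) (ndA (nat_lit 122) (ndA (nat_lit 121) (lfA (⟨2, 0, 0, [], [⟨0, [], 237, 2, []⟩, ⟨0, [], 173, 1, [4, 8, 4]⟩], 0⟩ : Der)) (lfA (⟨2, 0, 0, [], [⟨0, [], 237, 2, [7]⟩, ⟨0, [], 184, 1, [4, 8, 4]⟩], 0⟩ : Der))) (ndA (nat_lit 123) (lfA (⟨2, 0, 0, [], [⟨0, [], 240, 2, [5, 8, 1, 9, 1, 9, 1, 8, 1, 8, 2, 9]⟩, ⟨0, [94], 241, 0, []⟩], 2⟩ : Der)) (lfA (⟨2, 0, 0, [7], [⟨0, [], 242, 2, [5]⟩, ⟨0, [158], 243, 0, []⟩], 2⟩ : Der)))) (ndA (nat_lit 126) (ndA (nat_lit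 125) (lfA (⟨0, 0, 0, [], [], 2⟩ : Der)) (lfA (⟨2, 0, 0, [], [⟨0, [], 249, 2, [1, 1]⟩, ⟨0, [174], 248, 1, []⟩], 2⟩ : Der))) (ndA (nat_lit 127) (lfA (⟨2, 0, 0, [], [⟨0, [], 249, 2, []⟩, ⟨0, [], 173, 1, [2, 3]⟩], 0⟩ : Der)) (lfA (⟨2, 0, 0, [], [⟨0, [], 252, 2, [5, 8, 1, 8, 1, 8, 8, 1, 8, 8, 1, 8, 8, 1, 9, 1]⟩, ⟨0, [82, 82, 84, 94, 83, 85, 83, 83], 253, 0, []⟩], 2⟩ : Der))))))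
noncomputable def DT8 : ℕ → Der := (ndA (nat_lit 136) (ndA (nat_lit 132) (ndA (nat_lit 130) (ndA (nat_lit 129) (lfA (⟨0, 0, 0, [], [], 2⟩ : Der)) (lfA (⟨2, 0, 0, [], [⟨0, [], 257, 2, [1, 8, 8, 1, 8, 1, 8, 8, 1, 8, 1, 8, 8, 1, 8]⟩, ⟨0, [194], 256, 1, []⟩], 2⟩ : Der))) (ndA (nat_lit 131) (lfA (⟨2, 0, 0, [], [⟨0, [], 257, 2, [7]⟩, ⟨0, [], 198, 1, [9, 3]⟩], 0⟩ : Der)) (lfA (⟨2, 0, 0, [7], [⟨0, [], 260, 2, [1, 5, 9, 1, 8, 1]⟩, ⟨0, [101, 108, 98, 98, 100], 261, 0, []⟩], 2⟩ : Der)))) (ndA (nat_lit 134) (ndA (nat_lit 133) (lfA (⟨0, 0, 0, [], [], 2⟩ : Der)) (lfA (⟨2, 0, 0, [], [⟨0, [], 265, 2, []⟩, ⟨0, [], 173, 1, [2, 4]⟩], 0⟩ : Der))) (ndA (nat_lit 135) (lfA (⟨2, 0, 0, [], [⟨0, [], 265, 2, [2, 7]⟩, ⟨0, [175], 184, 1, [1,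 4, 2]⟩], 0⟩ : Der)) (lfA (⟨2, 0, 0, [], [⟨0, [], 266, 2, [1, 5, 8, 8, 8, 1, 8, 8, 1, 8, 2, 8]⟩, ⟨0, [84, 134, 83, 94, 135, 83, 85, 83], 267, 0, []⟩], 2⟩ : Der))))) (ndA (nat_lit 140) (ndA (nat_lit 138) (ndA (nat_lit 137) (lfA (⟨2, 0, 0, [], [⟨0, [], 268, 2, [5]⟩, ⟨0, [143, 157, 143], 212, 0, [3, 1, 8, 4, 1, 4, 1, 8, 2]⟩], 1⟩ : Der)) (lfA (⟨2, 0, 0, [3, 1, 8, 4, 1, 4, 1, 8, 2], [⟨0, [], 273, 1, [7, 8, 8, 8, 1, 8, 1, 9, 1, 9, 2, 9]⟩, ⟨0, [270], 272, 2, []⟩], 1⟩ : Der))) (ndA (nat_lit 139) (lfA (⟨2, 0, 0, [3, 1, 3, 9, 9, 1, 3, 5, 4, 5, 4, 1], [⟨0, [], 223, 0, []⟩, ⟨0, [275], 220, 1, [1, 8, 8, 1, 4, 2, 8, 3, 8, 3]⟩], 0⟩ : Der)) (lfA (⟨2, 0, 0, [], [⟨0, [], 221, 0, [8, 4]⟩, ⟨0, [], 273, 1, [6, 9, 1, 8, 1, 8, 1, 8, 8, 8,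 2, 8, 8]⟩], 2⟩ : Der)))) (ndA (nat_lit 142) (ndA (nat_lit 141) (lfA (⟨2, 0, 0, [], [⟨0, [], 208, 1, [4, 8, 4]⟩, ⟨0, [162], 278, 0, [5, 8, 1, 8, 8, 1, 8, 1, 9, 1, 9, 2]⟩], 2⟩ : Der)) (lfA (⟨0, 0, 0, [], [], 2⟩ : Der))) (ndA (nat_lit 143) (lfA (⟨2, 0, 0, [], [⟨0, [], 283, 2, []⟩, ⟨0, [], 187, 1, [3]⟩], 0⟩ : Der)) (lfA (⟨2, 0, 0, [], [⟨0, [], 283, 2, [7]⟩, ⟨0, [], 198, 1, [3]⟩], 0⟩ : Der))))))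
noncomputable def DT9 : ℕ → Der := (ndA (nat_lit 152) (ndA (nat_lit 148) (ndA (nat_lit 146) (ndA (nat_lit 145) (lfA (⟨2, 0, 0, [], [⟨0, [], 284, 2, [5]⟩, ⟨0, [159, 143, 140, 144, 139], 212, 0, [8, 3, 1, 3, 1, 8, 4, 8, 1, 3]⟩], 1⟩ : Der)) (lfA (⟨2, 0, 0, [7], [⟨0, [], 286, 2, [1, 5, 8, 1, 8, 1, 9, 9, 1, 9, 9, 1, 8, 1, 8, 8, 2, 8]⟩, ⟨0, [99, 108, 100, 98, 101, 98], 287, 0, []⟩], 2⟩ : Der))) (ndA (nat_lit 147) (lfA (⟨0, 0, 0, [], [], 2⟩ : Der)) (lfA (⟨2, 0, 0, [], [⟨0, [], 293, 2, []⟩, ⟨0, [], 173, 1, [4]⟩], 0⟩ : Der)))) (ndA (nat_lit 150) (ndA (nat_lit 149) (lfA (⟨2, 0, 0, [], [⟨0, [], 293, 2, [7]⟩, ⟨0, [], 184, 1, [4]⟩], 0⟩ : Der)) (lfA (⟨2, 0, 0, [], [⟨0, [], 294, 2, [5, 8, 1, 9, 1, 9, 1, 9, 9, 1, 9, 2, 9, 9]⟩, ⟨0,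 [84, 82, 85, 82, 84, 135, 83, 83], 295, 0, []⟩], 2⟩ : Der))) (ndA (nat_lit 151) (lfA (⟨2, 0, 0, [], [⟨0, [], 296, 2, [5]⟩, ⟨0, [139], 224, 0, [4, 8, 8, 8, 1, 9, 3, 8, 4]⟩], 1⟩ : Der)) (lfA (⟨0, 0, 0, [], [], 2⟩ : Der))))) (ndA (nat_lit 156) (ndA (nat_lit 154) (ndA (nat_lit 153) (lfA (⟨2, 0, 0, [], [⟨0, [], 303, 2, [7]⟩, ⟨0, [], 198, 1, [4]⟩], 0⟩ : Der)) (lfA (⟨2, 0, 0, [], [⟨0, [], 304, 2, [5]⟩, ⟨0, [101, 98, 100, 100], 200, 0, [3, 3, 2, 9, 3, 3, 9, 9, 3]⟩], 1⟩ : Der))) (ndA (nat_lit 155) (lfA (⟨2, 0, 0, [], [⟨0, [], 306, 2, [1, 7]⟩, ⟨0, [205], 208, 1, [8, 8, 8, 3, 3, 8, 1, 8, 2]⟩], 0⟩ : Der)) (lfA (⟨2, 0, 0, [], [⟨0, [], 308, 2, [5]⟩, ⟨0, [164, 163], 232, 0, [9, 3, 1, 9, 1, 3, 1, 9, 4, 1]⟩], 1⟩ : Der)))) (ndA (nat_lit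 158) (ndA (nat_lit 157) (lfA (⟨0, 0, 0, [], [], 2⟩ : Der)) (lfA (⟨2, 0, 0, [], [⟨0, [], 313, 2, [7]⟩, ⟨0, [205], 208, 1, [3, 3, 8, 1, 9, 9, 2, 8]⟩], 0⟩ : Der))) (ndA (nat_lit 159) (lfA (⟨2, 0, 0, [], [⟨0, [], 313, 2, [6]⟩, ⟨0, [], 208, 1, [1, 4, 1, 4]⟩], 0⟩ : Der)) (lfA (⟨2, 0, 0, [7], [⟨0, [], 314, 2, [1, 5, 8, 1, 8, 1, 9, 1, 9, 9, 1, 9, 1, 8, 1, 8, 2]⟩, ⟨0, [167, 164, 277], 315, 0, []⟩], 2⟩ : Der))))))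
noncomputable def DT10 : ℕ → Der := (ndA (nat_lit 168) (ndA (nat_lit 164) (ndA (nat_lit 162) (ndA (nat_lit 161) (lfA (⟨2, 0, 0, [], [⟨0, [], 316, 2, [5]⟩, ⟨0, [277, 163, 277, 162], 232, 0, [8, 1, 9, 1, 3, 9, 3, 3, 2, 4]⟩], 1⟩ : Der)) (lfA (⟨2, 0, 0, [8, 1, 9, 1, 3, 9, 3, 3, 2, 4], [⟨0, [], 321, 1, [1, 7, 8, 1, 8, 1, 9, 1, 9, 9, 1, 9, 1, 8, 1, 8, 2]⟩, ⟨0, [318], 320, 2, []⟩], 1⟩ : Der))) (ndA (nat_lit 163) (lfA (⟨0, 0, 0, [], [], 2⟩ : Der)) (lfA (⟨2, 0, 0, [], [⟨0, [], 325, 2, [8, 1, 6, 8, 1, 9, 1, 9, 9, 1, 9, 1, 8, 1, 8]⟩, ⟨0, [322], 324, 1, []⟩], 2⟩ : Der)))) (ndA (nat_lit 166) (ndA (nat_lit 165) (lfA (⟨0, 0, 0, [], [], 2⟩ : Der)) (lfA (⟨2, 0, 0, [], [⟨0, [], 329, 2, []⟩, ⟨0, [], 225, 1, [4]⟩], 0⟩ : Der))) (ndA (nat_lit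 167) (lfA (⟨2, 0, 0, [], [⟨0, [], 330, 2, [5, 9, 1, 8, 1, 8, 1, 9, 1, 9, 1, 9, 9, 1, 9, 1, 8]⟩, ⟨0, [138, 142, 140, 159, 143], 331, 0, []⟩], 2⟩ : Der)) (lfA (⟨0, 0, 0, [], [], 2⟩ : Der))))) (ndA (nat_lit 172) (ndA (nat_lit 170) (ndA (nat_lit 169) (lfA (⟨2, 0, 0, [], [⟨0, [], 335, 2, [1, 9, 9, 1, 8, 8]⟩, ⟨0, [230, 227], 334, 1, []⟩], 2⟩ : Der)) (lfA (⟨2, 0, 0, [], [⟨0, [], 335, 2, []⟩, ⟨0, [], 225, 1, [9, 3]⟩], 0⟩ : Der))) (ndA (nat_lit 171) (lfA (⟨2, 0, 0, [], [⟨0, [], 338, 2, [5, 9, 1, 8, 1, 9, 9, 1, 8, 1, 8]⟩, ⟨0, [138, 156, 158, 143, 157, 139], 339, 0, []⟩], 2⟩ : Der)) (lfA (⟨0, 0, 0, [], [], 2⟩ : Der)))) (ndA (nat_lit 174) (ndA (nat_lit 173) (lfA (⟨2, 0, 0, [], [⟨0, [], 343, 2, [1, 8, 1, 7, 8, 8, 1, 9, 1, 9, 9,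 9, 1, 8, 1, 9, 9]⟩, ⟨0, [322], 342, 1, []⟩], 2⟩ : Der)) (lfA (⟨2, 0, 0, [], [⟨0, [], 343, 2, []⟩, ⟨0, [], 233, 1, []⟩], 0⟩ : Der))) (ndA (nat_lit 175) (lfA (⟨2, 0, 0, [], [⟨0, [], 346, 2, [5]⟩, ⟨0, [], 209, 0, [8, 4, 1, 3, 3, 1, 4, 9, 9]⟩], 1⟩ : Der)) (lfA (⟨0, 0, 0, [], [], 2⟩ : Der))))))
noncomputable def DT11 : ℕ → Der := (ndA (nat_lit 184) (ndA (nat_lit 180) (ndA (nat_lit 178) (ndA (nat_lit 177) (lfA (⟨2, 0, 0, [], [⟨0, [], 351, 2, []⟩, ⟨0, [], 213, 1, [4]⟩], 0⟩ : Der)) (lfA (⟨2, 0, 0, [], [⟨0, [], 351, 2, [6]⟩, ⟨0, [275], 213, 1, [4, 4, 1, 9, 3, 8, 4, 9, 1]⟩], 0⟩ : Der))) (ndA (nat_lit 179) (lfA (⟨2, 0, 0, [], [⟨0, [], 352, 2, [5]⟩, ⟨0, [143, 157, 143, 157], 224, 0, [3, 3, 8, 8, 1, 9, 3, 3, 1]⟩], 1⟩ : Der)) (lfA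 (⟨2, 0, 0, [], [⟨0, [], 354, 2, [5]⟩, ⟨0, [144, 140, 143, 139], 224, 0, [4, 1, 3, 3, 9, 4, 9, 4, 1]⟩], 1⟩ : Der)))) (ndA (nat_lit 182) (ndA (nat_lit 181) (lfA (⟨0, 0, 0, [], [], 2⟩ : Der)) (lfA (⟨0, 0, 0, [], [], 0⟩ : Der))) (ndA (nat_lit 183) (lfA (⟨2, 0, 0, [], [⟨0, [], 363, 0, [4, 1, 9, 4, 2, 9, 4, 8]⟩, ⟨0, [176], 362, 1, []⟩], 0⟩ : Der)) (lfA (⟨2, 0, 0, [], [⟨0, [], 363, 0, [1, 8, 3, 1, 3, 3, 1, 3, 1, 9]⟩, ⟨0, [178], 362, 1, []⟩], 0⟩ : Der))))) (ndA (nat_lit 188) (ndA (nat_lit 186) (ndA (nat_lit 185) (lfA (⟨2, 0, 0, [], [⟨0, [], 363, 0, [3, 9, 4, 9, 4, 1, 4, 2]⟩, ⟨0, [180, 175], 362, 1, []⟩], 0⟩ : Der)) (lfA (⟨2, 0, 0, [], [⟨0, [], 363, 0, []⟩, ⟨0, [], 182, 1, [2, 7]⟩], 2⟩ : Der))) (ndA (nat_lit 187) (lfA (⟨2,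 0, 0, [], [⟨0, [], 363, 0, [4]⟩, ⟨0, [], 264, 1, [7]⟩], 2⟩ : Der)) (lfA (⟨2, 0, 0, [], [⟨0, [], 363, 0, [3]⟩, ⟨0, [], 248, 1, [7]⟩], 2⟩ : Der)))) (ndA (nat_lit 190) (ndA (nat_lit 189) (lfA (⟨2, 0, 0, [], [⟨0, [], 363, 0, [2, 4]⟩, ⟨0, [], 292, 1, [1, 6, 1]⟩], 2⟩ : Der)) (lfA (⟨2, 0, 0, [], [⟨0, [], 363, 0, [4, 8, 4]⟩, ⟨0, [], 236, 1, [8, 1, 6, 9, 1, 9, 1, 8, 1, 8, 8, 8, 2, 8]⟩], 2⟩ : Der))) (ndA (nat_lit 191) (lfA (⟨2, 0, 0, [], [⟨0, [], 370, 0, [5]⟩, ⟨0, [], 197, 2, [1, 6, 8, 1, 8, 8, 1, 8, 1, 9, 9, 2, 9]⟩], 1⟩ : Der)) (lfA (⟨2, 0, 0, [], [⟨0, [], 372, 0, [5]⟩, ⟨0, [], 281, 2, [1, 7, 8, 1, 8, 8, 1, 9, 1, 9, 9, 9, 1, 9, 1]⟩], 1⟩ : Der))))))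
noncomputable def DT12 : ℕ → Der := (ndA (nat_lit 200) (ndA (nat_lit 196) (ndA (nat_lit 194) (ndA (nat_lit 193) (lfA (⟨2, 0, 0, [], [⟨0, [], 376, 0, [5]⟩, ⟨0, [299], 300, 2, [7, 8, 1, 9, 1, 9, 1, 9, 9, 1, 9, 2, 9, 9]⟩], 1⟩ : Der)) (lfA (⟨2, 0, 0, [4, 8, 4], [⟨0, [], 378, 0, [5, 8, 8, 1, 8, 1, 9, 1, 9, 9]⟩, ⟨0, [238, 246, 245], 379, 2, []⟩], 0⟩ : Der))) (ndA (nat_lit 195) (lfA (⟨2, 0, 0, [], [⟨0, [], 380, 0, [4]⟩, ⟨0, [193, 189, 193, 191], 282, 1, [8, 8, 1, 6, 8, 1, 9, 9, 1, 9]⟩], 2⟩ : Der)) (lfA (⟨2, 0, 0, [], [⟨0, [], 380, 0, [3]⟩, ⟨0, [193, 191], 256, 1, [1, 6, 8, 8, 1, 8, 1, 9]⟩], 2⟩ : Der)))) (ndA (nat_lit 198) (ndA (nat_lit 197) (lfA (⟨2, 0, 0, [], [⟨0, [], 380, 0, [2, 4]⟩, ⟨0, [193, 189, 193], 302, 1, [1, 6,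 9, 1, 8, 1, 8, 8, 1, 9, 1, 9, 1]⟩], 2⟩ : Der)) (lfA (⟨2, 0, 0, [], [⟨0, [], 382, 0, [4]⟩, ⟨0, [202], 349, 1, [9, 1, 6, 8, 1, 8, 1, 8, 8, 8, 1, 8, 1, 9, 2]⟩], 2⟩ : Der))) (ndA (nat_lit 199) (lfA (⟨2, 0, 0, [], [⟨0, [], 382, 0, [4, 4]⟩, ⟨0, [205, 202], 349, 1, [1, 9, 9, 1, 7, 9, 9]⟩], 2⟩ : Der)) (lfA (⟨2, 0, 0, [], [⟨0, [], 384, 0, [9, 4]⟩, ⟨0, [228], 328, 1, [8, 1, 6, 8, 8, 1, 8, 8, 1, 9, 2, 8]⟩], 2⟩ : Der))))) (ndA (nat_lit 204) (ndA (nat_lit 202) (ndA (nat_lit 201) (lfA (⟨2, 0, 0, [], [⟨0, [], 388, 0, [5]⟩, ⟨0, [291], 288, 2, [1, 8, 8, 8, 1, 7, 8, 1, 8, 8, 2]⟩], 1⟩ : Der)) (lfA (⟨2, 0, 0, [], [⟨0, [], 392, 0, [5]⟩, ⟨0, [], 310, 2, [7, 9, 1, 8, 1, 8, 8, 1, 9, 1, 9, 1]⟩], 1⟩ : Der))) (ndA (nat_lit 203) (lfA (⟨2, 0,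 0, [1, 8, 8, 1, 9, 1, 9, 9, 9, 1, 8, 2, 7], [⟨0, [], 399, 2, [5]⟩, ⟨0, [365, 369, 364], 402, 0, [4, 9, 4, 8, 4, 4, 8, 8]⟩, ⟨0, [323], 360, 1, [1, 6, 8, 8, 1, 9, 1, 9, 9, 9, 1, 8, 2]⟩], 2⟩ : Der)) (lfA (⟨2, 0, 0, [], [⟨0, [], 405, 2, []⟩], 2⟩ : Der)))) (ndA (nat_lit 206) (ndA (nat_lit 205) (lfA (⟨2, 0, 0, [], [⟨0, [], 407, 2, []⟩, ⟨0, [], 361, 2, []⟩], 1⟩ : Der)) (lfA (⟨2, 0, 0, [], [⟨0, [], 402, 0, [8, 4]⟩, ⟨0, [], 324, 1, [8, 1, 7, 8, 8, 1, 9, 9, 9]⟩], 2⟩ : Der))) (ndA (nat_lit 207) (lfA (⟨0, 0, 0, [], [], 0⟩ : Der)) (lfA (⟨2, 0, 0, [], [⟨0, [], 413, 0, [8, 3, 9, 3, 8, 8, 3, 9, 3, 8]⟩, ⟨0, [226], 412, 1, []⟩], 0⟩ : Der))))))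
noncomputable def DT13 : ℕ → Der := (ndA (nat_lit 216) (ndA (nat_lit 212) (ndA (nat_lit 210) (ndA (nat_lit 209) (lfA (⟨2, 0, 0, [], [⟨0, [], 413, 0, [3, 3, 8, 1, 8, 2, 8, 8, 4]⟩, ⟨0, [230, 229], 412, 1, []⟩], 0⟩ : Der)) (lfA (⟨2, 0, 0, [], [⟨0, [], 413, 0, [4]⟩, ⟨0, [], 328, 1, [7]⟩], 2⟩ : Der))) (ndA (nat_lit 211) (lfA (⟨2, 0, 0, [], [⟨0, [], 413, 0, [2, 4]⟩, ⟨0, [], 359, 1, [1, 9, 1, 7, 8, 1, 8, 1, 8, 8, 1, 9]⟩], 2⟩ : Der)) (lfA (⟨2, 0, 0, [1, 4, 8, 3, 1, 3, 8, 3, 9, 3, 5], [⟨0, [], 413, 0, [9, 4]⟩, ⟨0, [231], 357, 1, [7, 8, 1, 8, 1, 9, 1, 9, 1, 9, 9, 9, 1, 8, 2, 8]⟩, ⟨0, [], 421, 2, [5, 9, 9, 9, 1, 9, 1, 8, 1, 8, 1, 9, 1, 9, 9, 9]⟩], 0⟩ : Der)))) (ndA (nat_lit 214) (ndA (nat_lit 213) (lfA (⟨2, 0, 0, [], [⟨0, [],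 413, 0, [9, 3]⟩, ⟨0, [], 334, 1, [7]⟩], 2⟩ : Der)) (lfA (⟨2, 0, 0, [], [⟨0, [], 418, 0, [5]⟩, ⟨0, [333], 408, 2, [1, 7, 8, 8, 1, 8, 8, 1, 8, 1, 9, 1, 8, 8, 2]⟩], 1⟩ : Der))) (ndA (nat_lit 215) (lfA (⟨0, 0, 0, [], [], 1⟩ : Der)) (lfA (⟨2, 0, 0, [], [⟨0, [], 429, 1, [1, 4, 1, 4, 1, 3, 3, 1, 4]⟩, ⟨0, [364], 428, 0, []⟩], 1⟩ : Der))))) (ndA (nat_lit 220) (ndA (nat_lit 218) (ndA (nat_lit 217) (lfA (⟨2, 0, 0, [], [⟨0, [], 429, 1, [3, 1, 8, 2, 9, 9, 4, 8]⟩, ⟨0, [368, 367], 428, 0, []⟩], 1⟩ : Der)) (lfA (⟨2, 0, 0, [], [⟨0, [], 429, 1, []⟩, ⟨0, [], 374, 0, [5]⟩], 2⟩ : Der))) (ndA (nat_lit 219) (lfA (⟨2, 0, 0, [], [⟨0, [], 429, 1, [4]⟩, ⟨0, [387, 368, 367], 390, 0, [5, 8, 1, 8, 1, 9, 9, 1, 9, 9, 1, 8, 1, 8, 8, 2, 8]⟩], 2⟩ :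 Der)) (lfA (⟨2, 0, 0, [], [⟨0, [], 429, 1, [3]⟩, ⟨0, [368, 367], 410, 0, [1, 5, 9, 1, 9, 1, 9, 9, 1, 8, 8, 8, 1, 8]⟩], 2⟩ : Der)))) (ndA (nat_lit 222) (ndA (nat_lit 221) (lfA (⟨2, 0, 0, [], [⟨0, [], 434, 1, [7, 8, 1, 8, 1, 8, 8, 1, 8, 8, 1, 8, 8, 1, 9, 1]⟩, ⟨0, [254], 435, 2, []⟩], 1⟩ : Der)) (lfA (⟨2, 0, 0, [4], [⟨0, [], 436, 1, [1, 8, 1, 7, 9, 9, 1, 9, 1, 8, 2, 8]⟩, ⟨0, [262, 259], 437, 2, []⟩], 1⟩ : Der))) (ndA (nat_lit 223) (lfA (⟨0, 0, 0, [], [], 1⟩ : Der)) (lfA (⟨2, 0, 0, [], [⟨0, [], 445, 1, [8, 4, 9, 3, 9, 4, 9, 1, 9, 9]⟩, ⟨0, [416, 422, 422], 444, 0, []⟩], 1⟩ : Der))))))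
noncomputable def DT14 : ℕ → Der := (ndA (nat_lit 232) (ndA (nat_lit 228) (ndA (nat_lit 226) (ndA (nat_lit 225) (lfA (⟨2, 0, 0, [], [⟨0, [], 445, 1, []⟩, ⟨0, [], 424, 0, [5]⟩], 2⟩ : Der)) (lfA (⟨2, 0, 0, [], [⟨0, [], 448, 1, [1, 9, 1, 6, 8, 1, 9, 9, 1, 8, 1, 8, 1]⟩, ⟨0, [340, 337], 449, 2, []⟩], 1⟩ : Der))) (ndA (nat_lit 227) (lfA (⟨0, 0, 0, [], [], 1⟩ : Der)) (lfA (⟨2, 0, 0, [], [⟨0, [], 453, 1, [4, 9, 1, 8, 3, 3, 2, 4, 8, 8]⟩, ⟨0, [366, 364, 369, 364], 452, 0, []⟩], 1⟩ : Der)))) (ndA (nat_lit 230) (ndA (nat_lit 229) (lfA (⟨2, 0, 0, [], [⟨0, [], 453, 1, []⟩, ⟨0, [], 394, 0, [5]⟩], 2⟩ : Der)) (lfA (⟨2, 0, 0, [3, 9, 1, 4, 1, 9, 3, 1, 8, 7], [⟨0, [], 453, 1, [2, 4]⟩, ⟨0, [368, 368, 364], 396, 0, [5, 9, 1, 8, 1, 8, 1,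 8, 8, 1, 8, 1, 8, 8]⟩, ⟨0, [345], 457, 2, [1, 6, 9, 1, 8, 1, 8, 1, 8, 8, 1, 8, 8, 1, 8, 1, 8]⟩], 1⟩ : Der))) (ndA (nat_lit 231) (lfA (⟨0, 0, 0, [], [], 2⟩ : Der)) (lfA (⟨2, 0, 0, [], [⟨0, [], 461, 2, []⟩, ⟨0, [], 429, 1, [3, 8, 3]⟩], 0⟩ : Der))))) (ndA (nat_lit 236) (ndA (nat_lit 234) (ndA (nat_lit 233) (lfA (⟨2, 0, 0, [], [⟨0, [], 462, 2, [1, 5, 8, 1, 9, 9, 1, 8, 2]⟩, ⟨0, [386, 367], 463, 0, []⟩], 2⟩ : Der)) (lfA (⟨0, 0, 0, [], [], 0⟩ : Der))) (ndA (nat_lit 235) (lfA (⟨2, 0, 0, [], [⟨0, [], 467, 0, [4, 1, 4, 4, 2, 4, 9, 9]⟩, ⟨0, [430], 466, 1, []⟩], 0⟩ : Der)) (lfA (⟨2, 0, 0, [], [⟨0, [], 467, 0, [3, 1, 8, 2, 9, 9, 4, 8]⟩, ⟨0, [432], 466, 1, []⟩], 0⟩ : Der)))) (ndA (nat_lit 238) (ndA (nat_lit 237) (lfA (⟨2, 0, 0,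 [], [⟨0, [], 467, 0, [1, 4, 4, 9, 1, 9, 4, 9, 9, 9]⟩, ⟨0, [440], 466, 1, []⟩], 0⟩ : Der)) (lfA (⟨2, 0, 0, [], [⟨0, [], 467, 0, [4, 4, 8, 8, 8, 2, 9, 3, 8]⟩, ⟨0, [442], 466, 1, []⟩], 0⟩ : Der))) (ndA (nat_lit 239) (lfA (⟨2, 0, 0, [], [⟨0, [], 467, 0, []⟩, ⟨0, [], 434, 1, [2, 7]⟩], 2⟩ : Der)) (lfA (⟨2, 0, 0, [], [⟨0, [], 467, 0, [4]⟩, ⟨0, [433], 436, 1, [8, 1, 6, 8, 8, 8, 1, 8, 8, 8, 1, 8]⟩], 2⟩ : Der))))))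
noncomputable def DT15 : ℕ → Der := (ndA (nat_lit 246) (ndA (nat_lit 243) (ndA (nat_lit 241) (lfA (⟨2, 0, 0, [], [⟨0, [], 467, 0, [3]⟩, ⟨0, [433, 430], 438, 1, [8, 1, 6, 8, 1, 9, 9, 1, 8, 1, 9, 9, 9, 1, 9, 1, 8, 1]⟩], 2⟩ : Der)) (ndA (nat_lit 242) (lfA (⟨2, 0, 0, [], [⟨0, [], 467, 0, [3, 8, 3]⟩, ⟨0, [431], 460, 1, [9, 1, 6, 8, 1, 8, 8, 8, 1, 8, 8, 1, 8, 2, 8, 8]⟩], 2⟩ : Der)) (lfA (⟨2, 0, 0, [], [⟨0, [], 476, 0, [1, 1, 5]⟩, ⟨0, [250], 477, 2, []⟩], 0⟩ : Der)))) (ndA (nat_lit 244) (lfA (⟨2, 0, 0, [4], [⟨0, [], 478, 0, [5, 8, 1, 8, 1, 9, 1, 9, 9, 2, 8]⟩, ⟨0, [258], 479, 2, []⟩], 0⟩ : Der)) (ndA (nat_lit 245) (lfA (⟨2, 0, 0, [3], [⟨0, [], 480, 0, [5, 8, 8, 1, 8, 8, 1, 8, 8, 8]⟩, ⟨0, [326], 481, 2, []⟩], 0⟩ : Der)) (lfA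 (⟨0, 0, 0, [], [], 1⟩ : Der))))) (ndA (nat_lit 249) (ndA (nat_lit 247) (lfA (⟨2, 0, 0, [], [⟨0, [], 491, 1, [1, 1]⟩, ⟨0, [468, 472, 470], 490, 0, []⟩], 1⟩ : Der)) (ndA (nat_lit 248) (lfA (⟨2, 0, 0, [], [⟨0, [], 491, 1, [1, 8, 8, 1, 9, 1, 9, 9, 4, 8]⟩, ⟨0, [468, 474, 472, 469], 490, 0, []⟩], 1⟩ : Der)) (lfA (⟨2, 0, 0, [], [⟨0, [], 491, 1, [1, 3, 8, 4, 1, 9, 3, 9, 9]⟩, ⟨0, [468, 488, 487], 490, 0, []⟩], 1⟩ : Der)))) (ndA (nat_lit 250) (lfA (⟨2, 0, 0, [], [⟨0, [], 491, 1, [1, 9, 1, 3, 3, 3, 1, 8, 2]⟩, ⟨0, [470, 470, 472, 468], 490, 0, []⟩], 1⟩ : Der)) (ndA (nat_lit 251) (lfA (⟨2, 0, 0, [], [⟨0, [], 491, 1, []⟩, ⟨0, [489], 482, 0, [5, 8, 1, 8, 1, 8, 8, 8, 1, 9, 2, 8, 8]⟩], 2⟩ : Der)) (lfA (⟨2, 0, 0, [], [⟨0, [], 500,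 1, [1, 9, 9, 1, 7, 9, 1, 8, 2, 8, 8]⟩, ⟨0, [464], 501, 2, []⟩], 1⟩ : Der))))))
noncomputable def DT : ℕ → Der := (ndA (nat_lit 128) (ndA (nat_lit 64) (ndA (nat_lit 32) (ndA (nat_lit 16) DT0 DT1) (ndA (nat_lit 48) DT2 DT3)) (ndA (nat_lit 96) (ndA (nat_lit 80) DT4 DT5) (ndA (nat_lit 112) DT6 DT7))) (ndA (nat_lit 192) (ndA (nat_lit 160) (ndA (nat_lit 144) DT8 DT9) (ndA (nat_lit 176) DT10 DT11)) (ndA (nat_lit 224) (ndA (nat_lit 208) DT12 DT13) (ndA (nat_lit 240) DT14 DT15))))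

def g0 : List ℕ := [1, 2, 3, 4, 5, 8, 9, 10, 11, 12, 13, 14, 15]
def S0 : ℕ := nat_lit 0x20000000000000000000000000000000000000000000000000000000000000000000000000000000000000000000000000000000000000000000000000000000000000000000000000000000000000000000000000000000000000000000000000000000000000000000000000000000000000000000000000000000000000000000000000000000000000000000000000000000000000000000000000000000000000000000000000000000000000000000000000000000000000000000000000000000000000000000000000000000000000000000000000000000000000000000000000000000000000000000000000000000800000000000000000000000000000000000000000000000000000000000000000000000000000000000000000000000000000000000000000000000000000000000000000000000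00000000000000000000000000000000000000000000000000000000000000000000000000000000000000000000000000000000000000000000000000000000000000000000000000000000000000000000000000000000000000000000000000000000000000000000000000000000000000000000000000000000000000000000000000000000000000000000000000000000000000000000000000000000000000000000000000000000000000000000000000000000000000000000000000000000100000000000000000000000000000000000000000000000000000000000000000000000000000000000000000000000000000000000000000000000000000200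
def bl0 : List (ℕ × ℕ) := [(4609, Nat.shiftLeft (Nat.pred (Nat.pow 2 352)) 4608), (9, Nat.shiftLeft (Nat.pred (Nat.pow 2 352)) 0), (2659, Nat.shiftLeft (Nat.pred (Nat.pow 2 1408)) 2560), (512, Nat.shiftLeft (Nat.pred (Nat.pow 2 1408)) 512)]
theorem blk0 : blkOK HnM0.nets (g0.map fun x => [x]) S0 bl0 = true := by decide +kernel
theorem ty0 : typeOK HnM0.nets g0 HnM0.rels HnP.iv = true := by decide +kernel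
def g1 : List ℕ := [1, 2, 3, 4, 6, 7, 8, 9, 10, 11, 12, 13, 14, 15]
def S1 : ℕ := nat_lit 0x100200000000000000040000000000000002000000000000000101
def bl1 : List (ℕ × ℕ) := [(212, Nat.shiftLeft (Nat.pred (Nat.pow 2 50)) 208), (201, Nat.shiftLeft (Nat.pred (Nat.pow 2 5)) 200), (0, Nat.shiftLeft (Nat.pred (Nat.pow 2 5)) 0), (138, Nat.shiftLeft (Nat.pred (Nat.pow 2 50)) 136), (73, Nat.shiftLeft (Nat.pred (Nat.pow 2 50)) 72), (8, Nat.shiftLeft (Nat.pred (Nat.pow 2 50)) 8)]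
theorem blk1 : blkOK HnM1.nets (g1.map fun x => [x]) S1 bl1 = true := by decide +kernel
theorem ty1 : typeOK HnM1.nets g1 HnM1.rels HnP.iv = true := by decide +kernel
def g2 : List ℕ := [1, 2, 5, 6, 7, 8, 9]
def S2 : ℕ := nat_lit 0x1008040402020101
def bl2 : List (ℕ × ℕ) := [(60, Nat.shiftLeft (Nat.pred (Nat.pow 2 7)) 56), (51, Nat.shiftLeft (Nat.pred (Nat.pow 2 7)) 48), (42, Nat.shiftLeft (Nat.pred (Nat.pow 2 6)) 40), (34, Nat.shiftLeft (Nat.pred (Nat.pow 2 7)) 32), (25, Nat.shiftLeft (Nat.pred (Nat.pow 2 6)) 24), (17, Nat.shiftLeft (Nat.pred (Nat.pow 2 7)) 16), (0, Nat.shiftLeft (Nat.pred (Nat.pow 2 6)) 0), (8, Nat.shiftLeft (Nat.pred (Nat.pow 2 7)) 8)]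
theorem blk2 : blkOK HnM2.nets (g2.map fun x => [x]) S2 bl2 = true := by decide +kernel
theorem ty2 : typeOK HnM2.nets g2 HnM2.rels HnP.iv = true := by decide +kernel
def g3 : List ℕ := [1, 2, 3, 4, 8, 9, 10, 11, 12, 13, 14, 15, 16, 17]
def S3 : ℕ := nat_lit 0x400000000000000000000000000000000000000000000000000000000000000000000000000000000000000000000000000000000000000000000000000000002100000000000000000000000000000000000000000000000000000000000000000000000000000000000000000000000000000000000000000000000000000001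
def bl3 : List (ℕ × ℕ) := [(1030, Nat.shiftLeft (Nat.pred (Nat.pow 2 378)) 1028), (517, Nat.shiftLeft (Nat.pred (Nat.pow 2 378)) 516), (0, Nat.shiftLeft (Nat.pred (Nat.pow 2 378)) 0), (512, Nat.shiftLeft (Nat.pred (Nat.pow 2 4)) 512)]
theorem blk3 : blkOK HnM3.nets (g3.map fun x => [x]) S3 bl3 = true := by decide +kernel
theorem ty3 : typeOK HnM3.nets g3 HnM3.rels HnP.iv = true := by decide +kernel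

noncomputable def eqv : ℕ → List ℕ → List ℕ → Bool :=
  selE [eqvN HnM0.nets (mskL g0) S0, eqvN HnM1.nets (mskL g1) S1, eqvN HnM2.nets (mskL g2) S2]

noncomputable def chk : ℕ → Bool := chkF FT DT LW [] HnP.iv g0 eqv

def s0_0 : Sid := ⟨0, [0, 1, 2, 3, 4, 5], [(6, 0)], [4, 2, 0, 2, 4, 2, 0, 4, 2, 0, 2, 4, 2, 0, 2, 0, 2, 4]⟩
def s0_1 : Sid := ⟨3, [22, 23, 24, 25], [(21, 0), (28, 1), (44, 6), (38, 33)], [0, 2, 0, 2, 0, 2, 0, 2, 0, 2, 0, 2, 0, 0]⟩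
def s0_2 : Sid := ⟨10, [82, 83, 84, 85, 86, 87, 94, 95, 134, 135], [(81, 0), (172, 2)], [6, 8, 2, 0, 8, 2, 0, 2, 0, 8, 2, 0, 2]⟩
def s0_3 : Sid := ⟨11, [98, 99, 100, 101, 108, 109], [(97, 0), (199, 2), (130, 10), (200, 15)], [4, 2, 0, 2, 0, 2, 0, 2, 4, 0, 2, 0, 0, 2, 0]⟩
def s0_4 : Sid := ⟨13, [138, 139, 140, 141, 142, 143, 144, 145, 156, 157, 158, 159], [(137, 0), (185, 1), (186, 2), (212, 4), (224, 11)], [8, 10, 4, 0, 2, 8, 6, 0, 2, 0]⟩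
def s0_5 : Sid := ⟨14, [162, 163, 164, 165, 166, 167, 276, 277], [(161, 0), (209, 1), (221, 36), (232, 6)], [6, 0, 2, 4, 0, 6, 2, 0, 4, 2, 0]⟩
def s0_6 : Sid := ⟨35, [364, 365, 366, 367, 368, 369, 386, 387], [(363, 0), (380, 1), (382, 2), (384, 4), (428, 3), (400, 6), (402, 11), (452, 15)], [6, 4, 0, 2, 4, 0, 2, 4, 0]⟩
def s0_7 : Sid := ⟨36, [414, 415, 416, 417, 422, 423], [(413, 0), (426, 2), (444, 49)], [4, 0, 2, 4, 2, 0, 4, 4, 4, 4, 4, 2, 4, 4, 4, 4, 4, 0]⟩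
def s0_8 : Sid := ⟨41, [468, 469, 470, 471, 472, 473, 474, 475, 484, 485, 486, 487, 488, 489], [(467, 0), (490, 21)], [8, 10, 12, 4, 0, 8, 12, 0, 2, 12, 0, 0]⟩
def SS0 : List Sid := [s0_0, s0_1, s0_2, s0_3, s0_4, s0_5, s0_6, s0_7, s0_8]
def full0 : ℕ := Nat.pred (Nat.pow 2 352)

def s1_0 : Sid := ⟨1, [8, 9, 10, 11], [(7, 0), (20, 1)], [0, 0, 0]⟩
def s1_1 : Sid := ⟨4, [30, 31, 32, 33, 36, 37], [(29, 0), (96, 2), (80, 3)], [4]⟩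
def s1_2 : Sid := ⟨5, [40, 41, 42, 43], [(39, 0), (160, 1)], [0, 0, 0]⟩
def s1_3 : Sid := ⟨6, [46, 47, 48, 49, 50, 51, 52, 53, 54, 55], [(45, 0), (131, 1), (136, 3)], [8]⟩
def s1_4 : Sid := ⟨15, [174, 175, 176, 177, 178, 179, 180, 181], [(173, 0), (184, 1), (362, 3)], [0]⟩
def s1_5 : Sid := ⟨16, [188, 189, 190, 191, 192, 193, 194, 195], [(187, 0), (198, 1), (381, 3)], [6]⟩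
def s1_6 : Sid := ⟨17, [202, 203, 204, 205], [(201, 0), (208, 2), (383, 4)], [2]⟩
def s1_7 : Sid := ⟨18, [214, 215, 216, 217, 274, 275], [(213, 0), (220, 1), (401, 4)], [4]⟩
def s1_8 : Sid := ⟨19, [226, 227, 228, 229, 230, 231], [(225, 0), (412, 1), (385, 4)], [2]⟩
def s1_9 : Sid := ⟨20, [234, 235, 322, 323], [(233, 0), (403, 1), (427, 4)], [2]⟩
def s1_10 : Sid := ⟨37, [430, 431, 432, 433, 440, 441, 442, 443], [(429, 0), (466, 3)], [4, 6]⟩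
def s1_11 : Sid := ⟨38, [446, 447, 450, 451], [(445, 0)], [2, 0, 0, 0]⟩
def s1_12 : Sid := ⟨39, [454, 455, 458, 459], [(453, 0)], [2, 2, 2, 2]⟩
def s1_13 : Sid := ⟨42, [492, 493, 494, 495, 496, 497, 498, 499, 502, 503], [(491, 0)], [8, 0, 2]⟩
def SS1 : List Sid := [s1_0, s1_1, s1_2, s1_3, s1_4, s1_5, s1_6, s1_7, s1_8, s1_9, s1_10, s1_11, s1_12, s1_13]
def full1 : ℕ := Nat.pred (Nat.pow 2 5)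


end Cfsg.Agent.H17.HnF
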