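import Cfsg.Agent.H17.HnD

set_option autoImplicit false
set_option Elab.async false
set_option maxRecDepth 100000
set_option exponentiation.threshold 400000

namespace Cfsg.Agent.H17.HnF

open Cfsg Cfsg.Agent.H58 Cfsg.Agent.H17

theorem c0 : rangeB chk 0 67 = true := by decide +kernel
theorem c1 : rangeB chk 67 44 = true := by decide +kernel
theorem c2 : rangeB chk 111 46 = true := by decide +kernel
theorem c3 : rangeB chk 157 43 = true := by decide +kernel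
theorem c4 : rangeB chk 200 43 = true := by decide +kernel
theorem c5 : rangeB chk 243 9 = true := by decide +kernel
theorem chk_all : ∀ i < 252, chk i = true :=
  (range_cons 252 (range_cons 243 (range_cons 200 (range_cons 157 (range_cons 111 (range_cons 67 (range_nil _) c0) c1) c2) c3) c4) c5)

theorem sd0_0 : sideOK FT HnP.iv 252 HnM0.nets (mskL g0) (mskL g1) (SS1.map Sid.j) 0 full0 s0_0 = true := by decide +kernel
theorem sd0_1 : sideOK FT HnP.iv 252 HnM0.nets (mskL g0) (mskL g1) (SS1.map Sid.j) 0 full0 s0_1 = true := by decide +kernel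
theorem sd0_2 : sideOK FT HnP.iv 252 HnM0.nets (mskL g0) (mskL g1) (SS1.map Sid.j) 0 full0 s0_2 = true := by decide +kernel
theorem sd0_3 : sideOK FT HnP.iv 252 HnM0.nets (mskL g0) (mskL g1) (SS1.map Sid.j) 0 full0 s0_3 = true := by decide +kernel
theorem sd0_4 : sideOK FT HnP.iv 252 HnM0.nets (mskL g0) (mskL g1) (SS1.map Sid.j) 0 full0 s0_4 = true := by decide +kernel
theorem sd0_5 : sideOK FT HnP.iv 252 HnM0.nets (mskL g0) (mskL g1) (SS1.map Sid.j) 0 full0 s0_5 = true := by decide +kernel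
theorem sd0_6 : sideOK FT HnP.iv 252 HnM0.nets (mskL g0) (mskL g1) (SS1.map Sid.j) 0 full0 s0_6 = true := by decide +kernel
theorem sd0_7 : sideOK FT HnP.iv 252 HnM0.nets (mskL g0) (mskL g1) (SS1.map Sid.j) 0 full0 s0_7 = true := by decide +kernel
theorem sd0_8 : sideOK FT HnP.iv 252 HnM0.nets (mskL g0) (mskL g1) (SS1.map Sid.j) 0 full0 s0_8 = true := by decide +kernel
theorem sd0 : ∀ s ∈ SS0, sideOK FT HnP.iv 252 HnM0.nets (mskL g0) (mskL g1) (SS1.map Sid.j) 0 full0 s = true :=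
  (forall_cons sd0_0 (forall_cons sd0_1 (forall_cons sd0_2 (forall_cons sd0_3 (forall_cons sd0_4 (forall_cons sd0_5 (forall_cons sd0_6 (forall_cons sd0_7 (forall_cons sd0_8 (forall_nil' _))))))))))
theorem kp0 : keepErr HnM0.nets (g0.map fun x => [x]) full0 = 0 := by decide +kernel
theorem po0 : orbErr HnM0.nets (g0.map fun x => [x]) [4, 2, 0, 2, 4, 5, 2, 0, 5, 2, 4, 0, 5, 2, 0, 2] 0 13 352 = 0 := by decide +kernel
theorem fx0 : fixErr HnM0.nets (([1, 3] : List ℕ).map fun x => [x]) [0] = 0 := by decide +kernel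

theorem sd1_0 : sideOK FT HnP.iv 252 HnM1.nets (mskL g1) (mskL g0) (SS0.map Sid.j) 0 full1 s1_0 = true := by decide +kernel
theorem sd1_1 : sideOK FT HnP.iv 252 HnM1.nets (mskL g1) (mskL g0) (SS0.map Sid.j) 0 full1 s1_1 = true := by decide +kernel
theorem sd1_2 : sideOK FT HnP.iv 252 HnM1.nets (mskL g1) (mskL g0) (SS0.map Sid.j) 0 full1 s1_2 = true := by decide +kernel
theorem sd1_3 : sideOK FT HnP.iv 252 HnM1.nets (mskL g1) (mskL g0) (SS0.map Sid.j) 0 full1 s1_3 = true := by decide +kernel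
theorem sd1_4 : sideOK FT HnP.iv 252 HnM1.nets (mskL g1) (mskL g0) (SS0.map Sid.j) 0 full1 s1_4 = true := by decide +kernel
theorem sd1_5 : sideOK FT HnP.iv 252 HnM1.nets (mskL g1) (mskL g0) (SS0.map Sid.j) 0 full1 s1_5 = true := by decide +kernel
theorem sd1_6 : sideOK FT HnP.iv 252 HnM1.nets (mskL g1) (mskL g0) (SS0.map Sid.j) 0 full1 s1_6 = true := by decide +kernel
theorem sd1_7 : sideOK FT HnP.iv 252 HnM1.nets (mskL g1) (mskL g0) (SS0.map Sid.j) 0 full1 s1_7 = true := by decide +kernel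
theorem sd1_8 : sideOK FT HnP.iv 252 HnM1.nets (mskL g1) (mskL g0) (SS0.map Sid.j) 0 full1 s1_8 = true := by decide +kernel
theorem sd1_9 : sideOK FT HnP.iv 252 HnM1.nets (mskL g1) (mskL g0) (SS0.map Sid.j) 0 full1 s1_9 = true := by decide +kernel
theorem sd1_10 : sideOK FT HnP.iv 252 HnM1.nets (mskL g1) (mskL g0) (SS0.map Sid.j) 0 full1 s1_10 = true := by decide +kernel
theorem sd1_11 : sideOK FT HnP.iv 252 HnM1.nets (mskL g1) (mskL g0) (SS0.map Sid.j) 0 full1 s1_11 = true := by decide +kernel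
theorem sd1_12 : sideOK FT HnP.iv 252 HnM1.nets (mskL g1) (mskL g0) (SS0.map Sid.j) 0 full1 s1_12 = true := by decide +kernel
theorem sd1_13 : sideOK FT HnP.iv 252 HnM1.nets (mskL g1) (mskL g0) (SS0.map Sid.j) 0 full1 s1_13 = true := by decide +kernel
theorem sd1 : ∀ s ∈ SS1, sideOK FT HnP.iv 252 HnM1.nets (mskL g1) (mskL g0) (SS0.map Sid.j) 0 full1 s = true :=
  (forall_cons sd1_0 (forall_cons sd1_1 (forall_cons sd1_2 (forall_cons sd1_3 (forall_cons sd1_4 (forall_cons sd1_5 (forall_cons sd1_6 (forall_cons sd1_7 (forall_cons sd1_8 (forall_cons sd1_9 (forall_cons sd1_10 (forall_cons sd1_11 (forall_cons sd1_12 (forall_cons sd1_13 (forall_nil' _)))))))))))))))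
theorem kp1 : keepErr HnM1.nets (g1.map fun x => [x]) full1 = 0 := by decide +kernel
theorem po1 : orbErr HnM1.nets (g1.map fun x => [x]) [4, 0, 4] 0 9 5 = 0 := by decide +kernel
theorem fx1 : fixErr HnM1.nets (([1, 3] : List ℕ).map fun x => [x]) [0] = 0 := by decide +kernel

theorem t0f0 : fixErr HnM0.nets [[1], [5], [3], [8]] [] = 0 := by decide +kernel
theorem t0o0 : orbErr HnM0.nets [[1], [5], [3], [8]] [0, 1, 0, 2, 0, 2, 1, 3, 2, 0, 3, 2, 1, 0, 3, 2, 3, 0] 512 13 1408 = 0 := by decide +kernel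
theorem t0f1 : fixErr HnM0.nets [[3], [8]] [512] = 0 := by decide +kernel
theorem t0o1 : orbErr HnM0.nets [[3], [8]] [0, 1, 0, 1, 0, 1, 0, 1, 0, 1, 0, 1, 0, 1, 0, 0] 2659 13 504 = 0 := by decide +kernel
theorem t0f2 : fixErr HnM0.nets [[8, 1, 4, 2, 3, 3], [1, 8, 2, 4, 8, 8, 3], [1, 9, 9, 2, 3, 3, 8], [3, 3, 8, 8, 3, 3, 9]] [2659, 512] = 0 := by decide +kernel
theorem t0o2 : orbErr HnM0.nets [[8, 1, 4, 2, 3, 3], [1, 8, 2, 4, 8, 8, 3], [1, 9, 9, 2, 3, 3, 8], [3, 3, 8, 8, 3, 3, 9]] [0, 1, 2, 3, 0, 2, 3, 2, 0, 0, 3] 9 13 125 = 0 := by decide +kernel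
theorem t0f3 : fixErr HnM0.nets [[3, 8, 3, 3, 9, 3, 3, 8, 3]] [9, 2659, 512] = 0 := by decide +kernel
theorem t0o3 : orbErr HnM0.nets [[3, 8, 3, 3, 9, 3, 3, 8, 3]] [0] 4609 13 2 = 0 := by decide +kernel
theorem t1f0 : fixErr HnM1.nets [[3], [1], [8]] [] = 0 := by decide +kernel
theorem t1o0 : orbErr HnM1.nets [[3], [1], [8]] [0, 1, 0, 2, 0, 1, 2, 0, 0] 8 9 50 = 0 := by decide +kernel
theorem t1f1 : fixErr HnM1.nets [[1], [8]] [8] = 0 := by decide +kernel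
theorem t1o1 : orbErr HnM1.nets [[1], [8]] [0, 1, 0, 1, 0, 1, 1, 1, 0, 1, 1, 0, 1] 73 9 42 = 0 := by decide +kernel
theorem t1f2 : fixErr HnM1.nets [[1, 8, 1, 9, 9], [1, 8, 8, 1, 8, 2, 9], [1, 4, 1, 3, 9, 9, 3]] [73, 8] = 0 := by decide +kernel
theorem t1o2 : orbErr HnM1.nets [[1, 8, 1, 9, 9], [1, 8, 8, 1, 8, 2, 9], [1, 4, 1, 3, 9, 9, 3]] [0, 1, 2, 0, 1, 2, 0] 138 9 30 = 0 := by decide +kernel
theorem t1f3 : fixErr HnM1.nets [[6], [2, 2]] [138, 73, 8] = 0 := by decide +kernel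
theorem t1o3 : orbErr HnM1.nets [[6], [2, 2]] [0, 0, 1] 0 9 5 = 0 := by decide +kernel
theorem t1f4 : fixErr HnM1.nets [[2, 2], [4, 4, 8, 8, 8, 2, 9, 3, 8]] [0, 138, 73, 8] = 0 := by decide +kernel
theorem t1o4 : orbErr HnM1.nets [[2, 2], [4, 4, 8, 8, 8, 2, 9, 3, 8]] [0, 1] 201 9 4 = 0 := by decide +kernel
theorem t1f5 : fixErr HnM1.nets [[3, 9, 9, 9, 1, 8, 8, 8, 2, 4]] [201, 0, 138, 73, 8] = 0 := by decide +kernel
theorem t1o5 : orbErr HnM1.nets [[3, 9, 9, 9, 1, 8, 8, 8, 2, 4]] [0] 212 9 2 = 0 := by decide +kernel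
theorem t2f0 : fixErr HnM2.nets [[8], [1]] [] = 0 := by decide +kernel
theorem t2o0 : orbErr HnM2.nets [[8], [1]] [0, 1, 0, 0, 0, 0] 8 6 7 = 0 := by decide +kernel
theorem t2f1 : fixErr HnM2.nets [[5], [6], [1]] [8] = 0 := by decide +kernel
theorem t2o1 : orbErr HnM2.nets [[5], [6], [1]] [0, 1, 2, 1] 0 6 6 = 0 := by decide +kernel
theorem t2f2 : fixErr HnM2.nets [[1], [9, 1, 8], [8, 8, 2, 9]] [0, 8] = 0 := by decide +kernel
theorem t2o2 : orbErr HnM2.nets [[1], [9, 1, 8], [8, 8, 2, 9]] [0, 1, 2, 2, 2] 17 6 6 = 0 := by decide +kernel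
theorem t2f3 : fixErr HnM2.nets [[6], [2, 2]] [17, 0, 8] = 0 := by decide +kernel
theorem t2o3 : orbErr HnM2.nets [[6], [2, 2]] [0, 0, 1] 25 6 5 = 0 := by decide +kernel
theorem t2f4 : fixErr HnM2.nets [[1, 8, 1, 9, 9], [9, 1, 8]] [25, 17, 0, 8] = 0 := by decide +kernel
theorem t2o4 : orbErr HnM2.nets [[1, 8, 1, 9, 9], [9, 1, 8]] [0, 0, 0, 1] 34 6 5 = 0 := by decide +kernel
theorem t2f5 : fixErr HnM2.nets [[2, 2], [9, 1, 8]] [34, 25, 17, 0, 8] = 0 := by decide +kernel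
theorem t2o5 : orbErr HnM2.nets [[2, 2], [9, 1, 8]] [0, 1] 42 6 4 = 0 := by decide +kernel
theorem t2f6 : fixErr HnM2.nets [[9, 9, 1, 8, 2, 8], [9, 9, 9, 1, 8, 8, 2, 8]] [42, 34, 25, 17, 0, 8] = 0 := by decide +kernel
theorem t2o6 : orbErr HnM2.nets [[9, 9, 1, 8, 2, 8], [9, 9, 9, 1, 8, 8, 2, 8]] [0, 0, 1] 51 6 4 = 0 := by decide +kernel
theorem t2f7 : fixErr HnM2.nets [[9, 9, 9, 1, 8, 2, 8, 8]] [51, 42, 34, 25, 17, 0, 8] = 0 := by decide +kernel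
theorem t2o7 : orbErr HnM2.nets [[9, 9, 9, 1, 8, 2, 8, 8]] [0, 0] 60 6 3 = 0 := by decide +kernel
theorem t3f0 : fixErr HnM3.nets [[1]] [] = 0 := by decide +kernel
theorem t3o0 : orbErr HnM3.nets [[1]] [0, 0, 0] 512 11 4 = 0 := by decide +kernel
theorem t3f1 : fixErr HnM3.nets [[3], [8], [12]] [512] = 0 := by decide +kernel
theorem t3o1 : orbErr HnM3.nets [[3], [8], [12]] [0, 1, 2, 0, 1, 2, 0, 1, 2, 0, 1, 0, 0] 0 11 378 = 0 := by decide +kernel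
theorem t3f2 : fixErr HnM3.nets [[8, 3, 8, 3, 8], [12, 12, 8, 13, 4, 9], [12, 3, 3, 12, 4, 13], [3, 3, 3, 8, 12, 12], [12, 1, 8, 2, 13, 13, 4]] [0, 512] = 0 := by decide +kernel
theorem t3o2 : orbErr HnM3.nets [[8, 3, 8, 3, 8], [12, 12, 8, 13, 4, 9], [12, 3, 3, 12, 4, 13], [3, 3, 3, 8, 12, 12], [12, 1, 8, 2, 13, 13, 4]] [0, 1, 2, 0, 3, 1, 2, 0, 4, 0] 517 11 125 = 0 := by decide +kernel
theorem t3f3 : fixErr HnM3.nets [[12, 8, 3, 8, 12, 4, 8, 8, 8, 3, 13, 4], [3, 12, 3, 3, 9, 4, 4, 4, 12, 3, 13, 4, 4, 13], [12, 8, 3, 12, 12, 3, 8, 8, 1, 9, 2, 13, 13, 9]] [517, 0, 512] = 0 := by decide +kernel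
theorem t3o3 : orbErr HnM3.nets [[12, 8, 3, 8, 12, 4, 8, 8, 8, 3, 13, 4], [3, 12, 3, 3, 9, 4, 4, 4, 12, 3, 13, 4, 4, 13], [12, 8, 3, 12, 12, 3, 8, 8, 1, 9, 2, 13, 13, 9]] [0, 1, 2, 0] 1030 11 8 = 0 := by decide +kernel
theorem u1f0 : fixErr HnM0.nets (subW (stabWs FT HnP.iv s0_1) [[0], [2]]) [] = 0 := by decide +kernel
theorem u1o0 : orbErr HnM0.nets (subW (stabWs FT HnP.iv s0_1) [[0], [2]]) [0, 1, 0, 1, 0, 1, 0, 1, 0, 1, 0, 1, 0, 1, 0, 1, 0] 611 13 504 = 0 := by decide +kernel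
theorem u1f1 : fixErr HnM0.nets (subW (stabWs FT HnP.iv s0_1) [[3, 3, 1, 3, 1, 2], [0, 0, 2, 2, 1, 1, 3], [0, 3, 0, 0, 0, 2, 1]]) [611] = 0 := by decide +kernel
theorem u1o1 : orbErr HnM0.nets (subW (stabWs FT HnP.iv s0_1) [[3, 3, 1, 3, 1, 2], [0, 0, 2, 2, 1, 1, 3], [0, 3, 0, 0, 0, 2, 1]]) [0, 1, 2, 0, 1, 2, 0, 1, 2, 0, 1, 0] 9 13 125 = 0 := by decide +kernel
theorem u1f2 : fixErr HnM0.nets (subW (stabWs FT HnP.iv s0_1) [[0, 3, 1, 2, 1, 3, 3, 1, 2, 2, 0]]) [9, 611] = 0 := by decide +kernel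
theorem u1o2 : orbErr HnM0.nets (subW (stabWs FT HnP.iv s0_1) [[0, 3, 1, 2, 1, 3, 3, 1, 2, 2, 0]]) [0] 1 13 2 = 0 := by decide +kernel
theorem u2f0 : fixErr HnM0.nets (subW (stabWs FT HnP.iv s0_2) [[0], [2], [4], [6], [8]]) [] = 0 := by decide +kernel
theorem u2o0 : orbErr HnM0.nets (subW (stabWs FT HnP.iv s0_2) [[0], [2], [4], [6], [8]]) [0, 1, 2, 3, 4, 0, 1, 0, 4, 1, 0, 1, 0, 1] 519 13 672 = 0 := by decide +kernel
theorem u2f1 : fixErr HnM0.nets (subW (stabWs FT HnP.iv s0_2) [[2, 2, 1, 3], [0, 0, 8, 0, 9], [0, 4, 8, 1, 3, 9, 3], [2, 1, 1, 3]]) [519] = 0 := by decide +kernel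
theorem u2o1 : orbErr HnM0.nets (subW (stabWs FT HnP.iv s0_2) [[2, 2, 1, 3], [0, 0, 8, 0, 9], [0, 4, 8, 1, 3, 9, 3], [2, 1, 1, 3]]) [0, 1, 2, 3, 0, 2, 1, 3] 3 13 60 = 0 := by decide +kernel
theorem u2f2 : fixErr HnM0.nets (subW (stabWs FT HnP.iv s0_2) [[2, 1, 1, 3]]) [3, 519] = 0 := by decide +kernel
theorem u2o2 : orbErr HnM0.nets (subW (stabWs FT HnP.iv s0_2) [[2, 1, 1, 3]]) [0] 5 13 2 = 0 := by decide +kernel
theorem u3f0 : fixErr HnM0.nets (subW (stabWs FT HnP.iv s0_3) [[0], [2], [4]]) [] = 0 := by decide +kernel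
theorem u3o0 : orbErr HnM0.nets (subW (stabWs FT HnP.iv s0_3) [[0], [2], [4]]) [0, 1, 2, 0, 1, 0, 1, 0, 1, 0, 1, 0, 1, 0, 2, 1, 0] 556 13 504 = 0 := by decide +kernel
theorem u3f1 : fixErr HnM0.nets (subW (stabWs FT HnP.iv s0_3) [[0, 0, 2, 2, 1], [2, 2, 1, 1, 3, 3]]) [556] = 0 := by decide +kernel
theorem u3o1 : orbErr HnM0.nets (subW (stabWs FT HnP.iv s0_3) [[0, 0, 2, 2, 1], [2, 2, 1, 1, 3, 3]]) [0, 1, 0, 0, 0] 3 13 10 = 0 := by decide +kernel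
theorem u4f0 : fixErr HnM0.nets (subW (stabWs FT HnP.iv s0_4) [[0], [2], [4], [8], [10], [6]]) [] = 0 := by decide +kernel
theorem u4o0 : orbErr HnM0.nets (subW (stabWs FT HnP.iv s0_4) [[0], [2], [4], [8], [10], [6]]) [0, 1, 2, 3, 4, 1, 5, 2, 0, 1, 5, 1] 549 13 360 = 0 := by decide +kernel
theorem u4f1 : fixErr HnM0.nets (subW (stabWs FT HnP.iv s0_4) [[6, 3], [0, 6, 2, 8, 11, 3, 5]]) [549] = 0 := by decide +kernel
theorem u4o1 : orbErr HnM0.nets (subW (stabWs FT HnP.iv s0_4) [[6, 3], [0, 6, 2, 8, 11, 3, 5]]) [0, 1] 5 13 4 = 0 := by decide +kernel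
theorem u5f0 : fixErr HnM0.nets (subW (stabWs FT HnP.iv s0_5) [[0], [2], [4], [6]]) [] = 0 := by decide +kernel
theorem u5o0 : orbErr HnM0.nets (subW (stabWs FT HnP.iv s0_5) [[0], [2], [4], [6]]) [0, 1, 2, 3, 0, 1, 3, 0, 1, 2, 0] 6 13 250 = 0 := by decide +kernel
theorem u5f1 : fixErr HnM0.nets (subW (stabWs FT HnP.iv s0_5) [[1, 4, 3]]) [6] = 0 := by decide +kernel
theorem u5o1 : orbErr HnM0.nets (subW (stabWs FT HnP.iv s0_5) [[1, 4, 3]]) [0] 1 13 2 = 0 := by decide +kernel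
theorem u6f0 : fixErr HnM0.nets (subW (stabWs FT HnP.iv s0_6) [[0], [2], [4], [6]]) [] = 0 := by decide +kernel
theorem u6o0 : orbErr HnM0.nets (subW (stabWs FT HnP.iv s0_6) [[0], [2], [4], [6]]) [0, 1, 2, 3, 0, 2, 1, 2, 0] 11 13 120 = 0 := by decide +kernel
theorem u6f1 : fixErr HnM0.nets (subW (stabWs FT HnP.iv s0_6) [[4, 1, 4, 0]]) [11] = 0 := by decide +kernel
theorem u6o1 : orbErr HnM0.nets (subW (stabWs FT HnP.iv s0_6) [[4, 1, 4, 0]]) [0] 5 13 2 = 0 := by decide +kernel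
theorem u7f0 : fixErr HnM0.nets (subW (stabWs FT HnP.iv s0_7) [[0], [2], [4]]) [] = 0 := by decide +kernel
theorem u7o0 : orbErr HnM0.nets (subW (stabWs FT HnP.iv s0_7) [[0], [2], [4]]) [0, 1, 2, 0, 1, 2, 2, 0, 2, 2, 2, 2, 2, 2, 1, 2, 2, 2] 519 13 320 = 0 := by decide +kernel
theorem u7f1 : fixErr HnM0.nets (subW (stabWs FT HnP.iv s0_7) [[2, 5, 0, 3, 4]]) [519] = 0 := by decide +kernel
theorem u7o1 : orbErr HnM0.nets (subW (stabWs FT HnP.iv s0_7) [[2, 5, 0, 3, 4]]) [0] 0 13 2 = 0 := by decide +kernel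
theorem u8f0 : fixErr HnM0.nets (subW (stabWs FT HnP.iv s0_8) [[4], [6], [8], [10], [12], [2], [0]]) [] = 0 := by decide +kernel
theorem u8o0 : orbErr HnM0.nets (subW (stabWs FT HnP.iv s0_8) [[4], [6], [8], [10], [12], [2], [0]]) [0, 1, 2, 3, 4, 5, 3, 4, 0, 5, 4, 6, 0, 6, 6] 512 13 1280 = 0 := by decide +kernel
theorem u8f1 : fixErr HnM0.nets (subW (stabWs FT HnP.iv s0_8) [[0], [2]]) [512] = 0 := by decide +kernel
theorem u8o1 : orbErr HnM0.nets (subW (stabWs FT HnP.iv s0_8) [[0], [2]]) [0, 1, 0, 1, 0, 1, 0] 29 13 24 = 0 := by decide +kernel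
def orB : List (List ℕ × List ℕ) := [([16, 16], [17]),
  ([3, 16], [16, 3]),
  ([1, 16], [17, 1]),
  ([2, 3, 3, 2, 4, 2, 4, 2, 3, 3, 1, 4, 4, 1, 3, 1, 3, 1, 4, 4], [16])]
theorem okB : allA orB (fun p => band (eqvN HnM3.nets (mskL g3) S3 p.1 p.2) (allLt [p.1, p.2])) = true := by
  decide +kernel
def orH : List (List ℕ × List ℕ) := [([1, 1, 8], [8, 2, 2]),
  ([8, 8, 8, 8], [9, 9, 9]),
  ([1, 8, 1, 8, 1, 8, 1], [2, 2, 9, 2, 9, 2, 9]),
  ([1, 9, 1, 8, 1, 9, 1], [2, 2, 9, 2, 8, 2, 9]),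
  ([1, 9, 9, 1, 8, 8], [9, 9, 2, 8, 8, 2]),
  ([1, 9, 9, 9, 1, 8, 8, 8], [9, 9, 9, 2, 8, 8, 8, 2])]
theorem okH : allA orH (fun p => band (eqvN HnM0.nets (mskL g0) S0 p.1 p.2) (allLt [p.1, p.2])) = true := by
  decide +kernel
def orC : List (List ℕ × List ℕ) := [([6, 8], [8, 6])]
theorem okC : allA orC (fun p => band (eqvN HnM1.nets (mskL g1) S1 p.1 p.2) (allLt [p.1, p.2])) = true := by
  decide +kernel
def dB : List (List ℕ × List (ℕ × ℕ × ℕ)) := [([16, 16], [(1, 19, 0), (49, 70, 0), (48, 67, 3), (47, 69, 3), (46, 68, 0), (45, 70, 0), (44, 67, 3), (43, 67, 3), (42, 67, 3), (41, 63, 3), (40, 68, 2), (39, 68, 2), (38, 68, 2), (37, 69, 1), (36, 67, 1), (35, 70, 2), (34, 68, 2), (33, 69, 3), (32, 68, 0), (31, 70, 0), (30, 67, 3), (29, 69, 3), (28, 68, 0), (27, 68, 0), (26, 68, 0), (25, 63, 1), (24, 67, 1), (23, 67, 1), (22, 67, 1), (21, 70, 2), (20, 68, 2), (19, 69, 1),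 (18, 67, 1), (17, 70, 0), (16, 67, 3), (15, 69, 3), (14, 68, 0), (13, 70, 0), (12, 67, 3), (11, 67, 3), (10, 67, 3), (9, 63, 3), (8, 68, 2), (7, 68, 2), (6, 68, 2), (5, 69, 1), (4, 67, 1), (3, 70, 2), (2, 68, 2), (0, 63, 0), (0, 20, 0)]),
  ([16], [(0, 73, 0), (0, 66, 0)]),
  ([2, 3, 3, 2, 4, 2, 4, 2, 3, 3, 1, 4, 4, 1, 3, 1, 3, 1, 4, 4], [(0, 72, 0), (0, 76, 0)])]
def relsB0 : List (List ℕ) := HnP.relsA ++ orB.map fun p => p.1 ++ invw HnP.iv p.2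
theorem derB : dersOK HnP.iv dB relsB0 = true := by decide +kernel

end Cfsg.Agent.H17.HnF
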