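import Cfsg.Agent.H17.Rw
import Cfsg.Prelude.Def_Spor_HN

set_option autoImplicit false
set_option Elab.async false
set_option maxRecDepth 100000
set_option exponentiation.threshold 400000

namespace Cfsg.Agent.H17.HnP

open Cfsg Cfsg.Agent.H58 Cfsg.Agent.H17

def code : Spor.HN.Gen → ℕ
  | .x => 1
  | .y => 3
  | .z => 5
  | .t => 6

def allG : List Spor.HN.Gen := [.x, .y, .z, .t]

theorem hall : ∀ g, g ∈ allG := by intro g; cases g <;> decide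

def L0 : List (FreeGroup Spor.HN.Gen) := [1, Spor.HN.x, Spor.HN.x⁻¹, Spor.HN.y, Spor.HN.y⁻¹, Spor.HN.z, Spor.HN.t, Spor.HN.t⁻¹]

def wp : FreeGroup Spor.HN.Gen := (Spor.HN.y * Spor.HN.x * Spor.HN.y * Spor.HN.x * Spor.HN.y * Spor.HN.y * Spor.HN.x * Spor.HN.y⁻¹ * Spor.HN.x) ^ 3
def wc : FreeGroup Spor.HN.Gen := Spor.HN.x * Spor.HN.x
def wb : FreeGroup Spor.HN.Gen := Spor.HN.x⁻¹ * Spor.HN.y * Spor.HN.x
def wr : FreeGroup Spor.HN.Gen := (Spor.HN.x * wp⁻¹ * wp⁻¹ * Spor.HN.x * wp * wp) ^ 2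

def L : List (FreeGroup Spor.HN.Gen) :=
  L0 ++ [wp, wp⁻¹, wc, wc⁻¹, wb, wb⁻¹, wb ^ 3, (wb ^ 3)⁻¹, wr, wr⁻¹]

def iv0 : ℕ := 26874735497344

def iv : ℕ := 82494142169014799965759340548224

def rels0 : List (List ℕ) := [[3, 3, 3, 3, 3, 3],
  [1, 1, 3, 1, 1, 4],
  [2, 4, 1, 3, 2, 4, 1, 3, 2, 4, 1, 3],
  [2, 3, 3, 1, 3, 3, 3, 2, 3, 3, 1, 3, 3, 3, 2, 3, 3, 1, 3, 3, 3],
  [1, 3, 1, 3, 1, 3, 1, 3, 1, 3, 1, 3, 1, 3, 1, 3],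
  [1, 3, 1, 3, 3, 3, 1, 3, 1, 3, 3, 3, 1, 3, 1, 3, 3, 3, 1, 3, 1, 3, 3, 3],
  [5, 5],
  [5, 1, 5, 1],
  [5, 3, 2, 4, 4, 2, 4, 2, 4, 5, 3, 1, 3, 1, 3, 3, 1, 4, 2, 2],
  [5, 4, 2, 4, 2, 4, 4, 4, 5, 3, 3, 3, 1, 3, 1, 3, 1, 4, 2, 4, 2, 4, 4, 4, 5, 3, 3, 3, 1, 3, 1, 3, 1, 4, 2, 4, 2, 4, 4, 4, 5, 3, 3, 3, 1, 3, 1, 3, 1],
  [6, 6, 6, 6, 6],
  [2, 6, 1, 6, 6],
  [7, 4, 6, 3],
  [5, 6, 5, 6, 5, 6]]

def rels1 : List (List ℕ) := rels0 ++ [[9, 3, 1, 3, 1, 3, 3, 1, 4, 1, 3, 1, 3, 1, 3, 3, 1, 4, 1, 3, 1, 3, 1, 3, 3, 1, 4, 1],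
  [11, 1, 1],
  [13, 2, 3, 1],
  [15, 12, 12, 12],
  [17, 1, 9, 9, 1, 8, 8, 1, 9, 9, 1, 8, 8]]

def dA : List (List ℕ × List (ℕ × ℕ × ℕ)) := [([1, 1, 1, 1], [(1, 7, 1), (20, 4, 4), (19, 3, 0), (17, 4, 5), (16, 3, 0), (15, 4, 4), (13, 3, 0), (12, 4, 4), (11, 3, 0), (9, 4, 4), (7, 3, 1), (6, 4, 4), (5, 3, 0), (3, 4, 5), (2, 3, 0), (0, 4, 5), (0, 8, 0)]),
  ([10, 10], [(1, 31, 1), (0, 31, 1), (0, 40, 0)]),
  ([10, 3, 11, 4], [(0, 31, 1), (3, 41, 0), (3, 31, 1), (0, 4, 0)]),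
  ([10, 1, 11, 2], [(0, 31, 1), (1, 32, 2)]),
  ([14, 14], [(1, 35, 1), (0, 35, 1), (5, 33, 1), (4, 33, 1), (3, 33, 1), (2, 33, 1), (1, 33, 1), (0, 33, 1), (1, 2, 0)]),
  ([14, 3, 14, 3, 14, 3, 14, 3], [(7, 12, 5), (0, 35, 1), (4, 35, 1), (8, 35, 1), (12, 35, 1), (0, 33, 1), (2, 33, 2), (3, 33, 2), (6, 33, 1), (8, 33, 2), (9, 33, 2), (12, 33, 1), (14, 33, 2), (15, 33, 2), (18, 33, 1), (20, 33, 2), (21, 33, 2), (0, 31, 0), (7, 31, 0), (14, 31, 0), (21, 31, 0), (23, 31, 0), (28, 31, 0), (31, 31, 0), (36, 31, 0), (39, 31, 0), (44, 31, 0), (0, 41, 0), (7, 41, 0), (14, 41, 0), (21, 41, 0), (23, 41, 0), (28, 41, 0), (31, 41, 0), (36, 41, 0), (39, 41, 0), (44, 41, 0), (6, 43, 0), (13, 43, 0), (20, 43, 0), (20, 42, 0), (19, 32, 2), (18, 43, 0), (17, 43, 0), (16, 43, 0), (16, 42, 0), (15, 32, 2), (14, 43, 0), (13, 42, 0), (17,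 44, 1), (16, 44, 1), (15, 44, 1), (20, 44, 1), (25, 44, 1), (24, 44, 1), (23, 44, 1), (5, 45, 0), (4, 43, 0), (3, 43, 0), (2, 43, 0), (1, 45, 0), (0, 42, 0), (10, 45, 0), (11, 32, 2), (10, 42, 0), (9, 43, 0), (8, 43, 0), (7, 43, 0), (6, 45, 0), (7, 32, 2), (6, 42, 0), (5, 43, 0), (4, 45, 0), (5, 32, 2), (4, 42, 0), (3, 43, 0), (2, 43, 0), (1, 43, 0), (0, 45, 0), (1, 32, 2), (0, 42, 0)]),
  ([14, 3, 3, 14, 3, 3, 14, 3, 3], [(7, 8, 6), (0, 35, 1), (5, 35, 1), (10, 35, 1), (0, 33, 1), (2, 33, 2), (3, 33, 2), (7, 33, 1), (9, 33, 2), (10, 33, 2), (14, 33, 1), (16, 33, 2), (17, 33, 2), (0, 31, 0), (8, 31, 0), (16, 31, 0), (26, 31, 0), (34, 31, 0), (42, 31, 0), (21, 32, 2), (0, 41, 0), (8, 41, 0), (16, 41, 0), (25, 41, 0), (33, 41, 0), (41, 41, 0), (7, 43, 0), (6, 43, 0), (15, 43, 0), (14, 43, 0), (20, 43, 0), (19, 43, 0), (18,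 43, 0), (18, 42, 0), (17, 32, 2), (16, 43, 0), (15, 43, 0), (14, 42, 0), (13, 32, 2), (12, 43, 0), (11, 43, 0), (10, 43, 0), (10, 42, 0), (9, 32, 2), (8, 43, 0), (7, 43, 0), (6, 42, 0), (5, 32, 2), (4, 43, 0), (3, 43, 0), (2, 43, 0), (2, 42, 0), (1, 32, 2), (0, 42, 0)]),
  ([10, 14, 11, 15], [(1, 35, 1), (5, 36, 0), (1, 33, 1), (3, 33, 2), (4, 33, 2), (7, 34, 0), (9, 34, 1), (10, 34, 1), (0, 31, 1), (6, 31, 0), (0, 41, 0), (7, 41, 0), (7, 41, 0), (0, 42, 0), (5, 42, 0), (4, 32, 2), (3, 43, 0), (2, 43, 0), (1, 43, 0), (0, 45, 0), (1, 32, 2), (0, 42, 0)]),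
  ([10, 8, 11, 9], [(1, 29, 1), (29, 30, 0), (29, 31, 0), (32, 31, 0), (36, 31, 0), (39, 31, 0), (42, 31, 0), (45, 31, 0), (49, 31, 0), (52, 31, 0), (55, 31, 0), (58, 31, 0), (62, 31, 0), (65, 31, 0), (28, 41, 0), (28, 41, 0), (32, 41, 0), (36, 41, 0), (39, 41, 0), (42, 41, 0), (45, 41, 0), (49, 41, 0), (52, 41, 0), (55, 41, 0), (58, 41, 0), (62, 41, 0), (65, 41, 0), (28, 42, 0), (27, 32, 2), (28, 43, 0), (27, 42, 0), (25, 32, 2), (24, 43, 0), (23, 43, 0), (23, 42, 0), (22, 32, 2), (21, 43, 0), (21, 42, 0), (20, 32, 2), (19, 43, 0), (19, 42, 0), (18, 32, 2), (19, 43, 0), (18, 42, 0), (16, 32, 2), (15, 43, 0), (14, 43, 0), (14, 42, 0), (13, 32, 2), (12, 43, 0), (12, 42, 0), (11, 32, 2), (10, 43, 0), (10, 42, 0), (9, 32, 2), (10, 43, 0), (9, 42, 0), (7, 32, 2), (6, 43, 0), (5, 43, 0), (5, 42, 0), (4, 32, 2), (3, 43, 0),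 (3, 42, 0), (2, 32, 2), (1, 43, 0), (0, 42, 0)]),
  ([5, 3, 1, 3, 1, 3, 3, 1, 4, 1, 5, 2, 3, 2, 4, 4, 2, 4, 2, 4], [(9, 16, 1), (0, 17, 10), (8, 39, 0)]),
  ([5, 8, 5, 9], [(1, 29, 1), (0, 57, 1), (9, 57, 1), (18, 57, 1), (0, 30, 27)]),
  ([1, 10, 1], [(1, 31, 1), (0, 40, 0)]),
  ([5, 16, 5, 17], [(1, 37, 1), (0, 16, 0), (1, 59, 3), (2, 59, 3), (3, 16, 0), (4, 59, 1), (5, 59, 1), (6, 16, 0), (7, 59, 3), (8, 59, 3), (9, 16, 0), (10, 59, 1), (11, 59, 1), (0, 61, 1), (4, 61, 1), (8, 61, 1), (12, 61, 1), (7, 55, 0), (6, 55, 0), (5, 45, 0), (3, 56, 1), (2, 56, 1), (1, 45, 0), (4, 56, 1), (3, 56, 1), (2, 45, 0), (11, 56, 1), (10, 56, 1), (9, 45, 0), (8, 55, 0), (7, 55, 0), (6, 45, 0), (5, 56, 1), (4, 56, 1), (3, 45, 0), (0, 42, 0), (0, 42, 0), (0, 38, 12)])]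

theorem pres0 : presOK L0 (coxAll Spor.HN.edges ++ Spor.HN.extra) code iv0 allG rels0 = true := by
  decide +kernel

theorem pres : presOK L (coxAll Spor.HN.edges ++ Spor.HN.extra ++ [1]) code iv allG rels1 = true := by
  decide +kernel

theorem derA : dersOK iv dA rels1 = true := by decide +kernel

/-- the projection from the free group -/
abbrev π : FreeGroup Spor.HN.Gen →* Spor.HN :=
  PresentedGroup.mk (Spor.coxRelators Spor.HN.edges ∪ {r | r ∈ Spor.HN.extra})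

/-- the letters x = 1, y = 3, z = 5, t = 6 and inverses 2, 4, 7 -/
def el0 : ℕ → Spor.HN := elOf π L0

/-- the same letters and p = 8, c = 10, b = 12, s = 14, r = 16 with inverses 9, 11, 13, 15, 17 -/
def el : ℕ → Spor.HN := elOf π L

theorem R0 : RuleOK el0 rels0 iv0 := ruleOK_of_presOK π hall (mk_allRels _ _) pres0

theorem R1 : RuleOK el rels1 iv :=
  ruleOK_of_presOK π hall (List.forall_mem_append.2 ⟨mk_allRels _ _, by simp⟩) pres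

def relsA : List (List ℕ) := rels1 ++ dA.map Prod.fst

theorem RA : RuleOK el relsA iv := ruleOK_ders dA R1 derA

theorem hc : ∀ g, el (code g) = π (FreeGroup.of g) ∧ code g < 64 := code_of_presOK π hall pres

theorem eq_top (K : Subgroup Spor.HN) (h : ∀ x ∈ ([1, 3, 5, 6] : List ℕ), el x ∈ K) : K = ⊤ :=
  closure_letters_eq_top hc K (by intro g; cases g <;> exact h _ (by decide))

end Cfsg.Agent.H17.HnP
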