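import Cfsg.Agent.H17.HnS
import Cfsg.Agent.H17.SubIso
import Cfsg.Agent.H17.Rep.HnA
import Cfsg.Agent.H17.Cert.HnA1
import Cfsg.Agent.H17.Cert.HnA2
import Cfsg.Agent.H17.Cert.HnA3
import Cfsg.Agent.H17.Cert.HnA4

set_option autoImplicit false
set_option Elab.async false
set_option maxRecDepth 100000
set_option exponentiation.threshold 400000

namespace Cfsg.Agent.H17.HnTw

open Cfsg Cfsg.Agent.H58 Cfsg.Agent.H17

open HnP HnE HnR HnA

section
variable {G : Type*} [Group G] {e : ℕ → G}

theorem card_A (Q : RuleOK e rels2 iv2) : Finite (clL e [12, 14, 16, 18, 20, 22, 24, 26, 28, 30]) ∧ Nat.card (clL e [12, 14, 16, 18, 20, 22, 24, 26, 28, 30]) ≤ 239500800 :=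
  card_step (card_step (card_step (card_step card_le_bot (HnA1.relIndex_le (RuleOK_sub Q (by decide +kernel)) ⊥ (forall_nil _)))
    (HnA2.relIndex_le (RuleOK_sub Q (by decide +kernel)) _ (mem_clL e _ _ (by decide)))) (HnA3.relIndex_le (RuleOK_sub Q (by decide +kernel)) _ (mem_clL e _ _ (by decide)))) (HnA4.relIndex_le (RuleOK_sub Q (by decide +kernel)) _ (mem_clL e _ _ (by decide)))

end

def gA : List ℕ := [12, 14, 16, 18, 20, 22, 24, 26, 28, 30]

def sws : List (List (Fin 12 × Fin 12)) := [[], [], [], [], [], [], [], [], [], [], [], [], [(0, 1), (0, 2)], [(0, 2), (0, 1)], [(0, 1), (0, 3)], [(0, 3), (0, 1)], [(0, 1), (0, 4)], [(0, 4), (0, 1)], [(0, 1), (0, 5)], [(0, 5), (0, 1)], [(0, 1), (0, 6)], [(0, 6), (0, 1)], [(0, 1), (0, 7)], [(0, 7), (0, 1)], [(0, 1), (0, 8)], [(0, 8), (0, 1)], [(0, 1), (0, 9)], [(0, 9), (0, 1)], [(0, 1), (0, 10)], [(0, 10), (0, 1)], [(0, 1), (0, 11)], [(0, 11), (0, 1)]]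

/-- the action on twelve points -/
def m12 (x : ℕ) : Equiv.Perm (Fin 12) := ((sws.getD x []).map fun p => Equiv.swap p.1 p.2).prod

theorem R12 : RuleOK m12 rels2 iv2 := ⟨rfl, by decide +kernel, by decide +kernel, by decide +kernel⟩

theorem ht : ∀ x : Fin 12, x ≠ 0 → Equiv.swap 0 1 * Equiv.swap 0 x = 1 ∨
    (Equiv.swap 0 1 * Equiv.swap 0 x = m12 (2 * x.1 + 8) ∧ 2 * x.1 + 8 ∈ gA) := by decide +kernel

theorem range12 : clL m12 gA = alternatingGroup (Fin 12) :=
  le_antisymm (clL_le (show ∀ x ∈ gA, Equiv.Perm.sign (m12 x) = 1 by decide +kernel))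
    (alt_le 0 1 fun x hx => by
      rcases ht x hx with h | h
      · rw [h]; exact Subgroup.one_mem _
      · rw [h.1]; exact el_mem_closure _ _ _ h.2)

theorem card12 : Nat.card (alternatingGroup (Fin 12)) = 239500800 := by
  have := two_mul_nat_card_alternatingGroup (α := Fin 12)
  rw [Nat.card_perm, Nat.card_eq_fintype_card (α := Fin 12), Fintype.card_fin] at this
  simp only [Nat.factorial] at this
  omega

noncomputable def v3 : ℕ := nat_lit 0x1000100060002000c003000300000020002800200100020005000600140008004800400140004002800a001200240010005000000280038009000400280040009000000180038000000400240008007000c001c0030007000400280020002000c002000100040010000400300070006002400380090000000800200060004000800400070010001800280010010000c0020008000a0014003000400000018001000100140018003800100000020001000000140004002800200100008004000200140018004800a0010001c0050009000e001400400090004000c0040003001400040000006001400180000001000e000c0018003000c002400280080004001000080020002000000500090010002800500070004001c0040003000a001c0020009000e000c00180080012000000100080008001c00100060008000000500080000001c0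02000900100028004000a0010001c0010003000e0028003000700060018001800700140024002800a000a00000030001000e0018003000200140008003800400060008004800100040010002000700020000004000a000a00180040002000a0000003800a0000001800280030014001c0050007001400180040001000c001c0010006000200080028008001200080018008000600280008000000c002800300000002001c0018003000600180048000000000000000000000000000000000000000000000000000000000000000000000000000000000000000000000000000000000000000000000000000000000000000000000000000000000000000000000000000000000000000000000000000000000000000000000000000000000000000000000000000000000000000000000000000000000000000000000000000000000000000000000000000000000000000000000000000000000000000000000000000000000000000000000000000000000000000000000000000000000000000000000000000000000000000000000000000000000000000000000000000000000000000001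

theorem o3 : orbOK E 3 (mats ++ ex) [([12], [1, 2, 0])] v3 [(0, 0), (0, 1)] = true := by
  decide +kernel

theorem exists_A12 : ∃ U : Subgroup Spor.HN, U.index = 1140000 ∧
    Nonempty (U ≃* alternatingGroup (Fin 12)) := by
  obtain ⟨U, -, ⟨e⟩⟩ := exists_sub_of_simple ρ card_inj.2 (slp.2 _ fun x => ⟨el0 x, ρ_el x⟩)
    (card_A (ruleOK_prod R12 rule2)) range12 (alternatingGroup.isSimpleGroup (by simp)) card12.ge
    (x := 12) (by decide) (ne_one_of_dvd (orb_dvd slp.1 o3 (ws := [[12]]) (ws' := [])
      (by decide +kernel) (one_dvd _)) (by norm_num))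
  exact ⟨U, index_of_card ((Nat.card_congr e.toEquiv).trans card12) card_eq (by norm_num), ⟨e⟩⟩

end Cfsg.Agent.H17.HnTw
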