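import Cfsg.Agent.H17.HnF
import Cfsg.Agent.H17.Cert.HnT1
import Cfsg.Agent.H17.Cert.HnT2
import Cfsg.Agent.H17.Cert.HnT3
import Cfsg.Agent.H17.Cert.HnT4
import Cfsg.Agent.H17.Cert.HnT5
import Cfsg.Agent.H17.Cert.HnT6
import Cfsg.Agent.H17.Cert.HnT7
import Cfsg.Agent.H17.Cert.HnT8
import Cfsg.Agent.H17.Cert.HnT9

set_option autoImplicit false
set_option Elab.async false
set_option maxRecDepth 100000
set_option exponentiation.threshold 400000

namespace Cfsg.Agent.H17.HnU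

open Cfsg Cfsg.Agent.H58 Cfsg.Agent.H17

open HnP HnF

section
variable {G : Type*} [Group G] {e : ℕ → G}

theorem card_ys (Q : RuleOK e HnT1.rels iv) : Finite (clL e [3, 14]) ∧ Nat.card (clL e [3, 14]) ≤ 120 :=
  card_step card_le_bot (HnT1.relIndex_le Q ⊥ (forall_nil _))

theorem card_ysc (Q : RuleOK e HnT2.rels iv) : Finite (clL e [3, 14, 10]) ∧ Nat.card (clL e [3, 14, 10]) ≤ 240 :=
  card_step (card_ys (RuleOK_sub Q (by decide +kernel))) (HnT2.relIndex_le Q _ (mem_clL e _ _ (by decide)))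

theorem card_Bt (Q : RuleOK e HnT3.rels iv) : Finite (clL e [1, 3]) ∧ Nat.card (clL e [1, 3]) ≤ 1512000 :=
  card_step (card_ysc (RuleOK_sub Q (by decide +kernel))) (HnT3.relIndex_le Q _ (mem_clL e _ _ (by decide)))

theorem card_B (Q : RuleOK e HnT4.rels iv) : Finite (clL e [1, 3]) ∧ Nat.card (clL e [1, 3]) ≤ 504000 :=
  card_step (card_ysc (RuleOK_sub Q (by decide +kernel))) (HnT4.relIndex_le Q _ (mem_clL e _ _ (by decide)))

theorem card_p (Q : RuleOK e HnT7.rels iv) : Finite (clL e [8]) ∧ Nat.card (clL e [8]) ≤ 7 :=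
  card_step card_le_bot (HnT7.relIndex_le Q ⊥ (forall_nil _))

theorem card_K (Q : RuleOK e HnT8.rels iv) : Finite (clL e [1, 8]) ∧ Nat.card (clL e [1, 8]) ≤ 10080 :=
  card_step (card_p (RuleOK_sub Q (by decide +kernel))) (HnT8.relIndex_le Q _ (mem_clL e _ _ (by decide)))

theorem gen0 (Q : RuleOK e HnM0.rels iv) : clL e [1, 3, 5] = clL e g0 :=
  clL_eq_of_genOK Q [(0, 2), (0, 4), (22, 27), (0, 9), (24, 2), (0, 11), (26, 3), (0, 13), (28, 3), (0, 15)] _ _ (by decide +kernel)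

theorem gen1 (Q : RuleOK e HnM1.rels iv) : clL e [1, 3, 6] = clL e g1 :=
  clL_eq_of_genOK Q [(0, 2), (0, 4), (0, 7), (20, 27), (0, 9), (22, 2), (0, 11), (24, 3), (0, 13), (26, 3), (0, 15)] _ _ (by decide +kernel)

theorem gen2 (Q : RuleOK e HnM2.rels iv) : clL e [1, 5, 6, 8] = clL e g2 :=
  clL_eq_of_genOK Q [(0, 2), (0, 7), (0, 9)] _ _ (by decide +kernel)

theorem gen3 (Q : RuleOK e HnM3.rels iv) : clL e [1, 3] = clL e g3 :=
  clL_eq_of_genOK Q [(0, 2), (0, 4), (14, 27), (0, 9), (16, 2), (0, 11), (18, 3), (0, 13), (20, 3), (0, 15), (22, 12), (0, 17)] _ _ (by decide +kernel)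

theorem ind0 (Q : RuleOK e HnM0.rels iv) : (clL e [1, 3]).relIndex (clL e g0) ≠ 0 ∧
    (clL e [1, 3]).relIndex (clL e g0) ≤ 352 :=
  relIndex_congr (gen0 Q) (HnT5.relIndex_le (RuleOK_sub Q (by decide +kernel)) _ (mem_clL e _ _ (by decide)))

theorem ind1 (Q : RuleOK e HnM1.rels iv) : (clL e [1, 3]).relIndex (clL e g1) ≠ 0 ∧
    (clL e [1, 3]).relIndex (clL e g1) ≤ 5 :=
  relIndex_congr (gen1 Q) (HnT6.relIndex_le (RuleOK_sub Q (by decide +kernel)) _ (mem_clL e _ _ (by decide)))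

theorem card0 (Q : RuleOK e HnM0.rels iv) : Finite (clL e g0) ∧ Nat.card (clL e g0) ≤ 177408000 :=
  card_step (card_B (RuleOK_sub Q (by decide +kernel))) (ind0 Q)

theorem card1 (Q : RuleOK e HnM1.rels iv) : Finite (clL e g1) ∧ Nat.card (clL e g1) ≤ 2520000 :=
  card_step (card_B (RuleOK_sub Q (by decide +kernel))) (ind1 Q)

theorem card2 (Q : RuleOK e HnM2.rels iv) : Finite (clL e g2) ∧ Nat.card (clL e g2) ≤ 302400 :=
  card_congr (gen2 Q) (card_step (card_K (RuleOK_sub Q (by decide +kernel))) (HnT9.relIndex_le (RuleOK_sub Q (by decide +kernel)) _ (mem_clL e _ _ (by decide))))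

theorem card3 (Q : RuleOK e HnM3.rels iv) : Finite (clL e g3) ∧ Nat.card (clL e g3) ≤ 1512000 :=
  card_congr (gen3 Q) (card_Bt (RuleOK_sub Q (by decide +kernel)))

end

abbrev D3 : Type := PD el HnM3.nets g3
noncomputable def M3 : Model D3 := pairModel el ty3 HnM3.netsOK
noncomputable def ψ3 : D3 →* Spor.HN := pairFst el HnM3.nets g3
theorem Lc3 : Loc el g3 M3 ψ3 := pairLoc el ty3 HnM3.netsOK
theorem Q3 : RuleOK M3.el HnM3.rels iv :=
  ruleOK_model (RuleOK_sub RA (by decide +kernel)) HnM3.ruleN ty3 HnM3.netsOK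
theorem cle3 : Finite D3 ∧ Nat.card D3 ≤ 1512000 := card_top_le Lc3.hgen (card3 Q3)
instance fin3 : Finite D3 := cle3.1
theorem base3 : M3.fixK ⊤ (bl3.map Prod.fst) = ⊥ ∧ Nat.card D3 = 1512000 ∧ Function.Injective M3.φ :=
  fix_bot cle3.2 fun m hm => le_trans (by omega) (show 4 * (378 * (125 * (8 * (m)))) ≤ _ from
    (M3.lev_step (fun _ _ => trivial) t3f0 t3o0
    (M3.lev_step (fun _ _ => trivial) t3f1 t3o1
    (M3.lev_step (fun _ _ => trivial) t3f2 t3o2
    (M3.lev_step (fun _ _ => trivial) t3f3 t3o3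
    hm)))))

theorem RB : RuleOK el (relsB0 ++ dB.map Prod.fst) iv :=
  ruleOK_ders dB (ruleOK_oracle RA (eqvN_sound Lc3 blk3 base3.1) orB okB) derB

abbrev D0 : Type := PD el HnM0.nets g0
noncomputable def M0 : Model D0 := pairModel el ty0 HnM0.netsOK
noncomputable def ψ0 : D0 →* Spor.HN := pairFst el HnM0.nets g0
theorem Lc0 : Loc el g0 M0 ψ0 := pairLoc el ty0 HnM0.netsOK
theorem Q0 : RuleOK M0.el HnM0.rels iv :=
  ruleOK_model (RuleOK_sub RB (by decide +kernel)) HnM0.ruleN ty0 HnM0.netsOK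
theorem cle0 : Finite D0 ∧ Nat.card D0 ≤ 177408000 := card_top_le Lc0.hgen (card0 Q0)
instance fin0 : Finite D0 := cle0.1
theorem base0 : M0.fixK ⊤ (bl0.map Prod.fst) = ⊥ ∧ Nat.card D0 = 177408000 ∧ Function.Injective M0.φ :=
  fix_bot cle0.2 fun m hm => le_trans (by omega) (show 1408 * (504 * (125 * (2 * (m)))) ≤ _ from
    (M0.lev_step (fun _ _ => trivial) t0f0 t0o0
    (M0.lev_step (fun _ _ => trivial) t0f1 t0o1
    (M0.lev_step (fun _ _ => trivial) t0f2 t0o2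
    (M0.lev_step (fun _ _ => trivial) t0f3 t0o3
    hm)))))

abbrev D1 : Type := PD el HnM1.nets g1
noncomputable def M1 : Model D1 := pairModel el ty1 HnM1.netsOK
noncomputable def ψ1 : D1 →* Spor.HN := pairFst el HnM1.nets g1
theorem Lc1 : Loc el g1 M1 ψ1 := pairLoc el ty1 HnM1.netsOK
theorem Q1 : RuleOK M1.el HnM1.rels iv :=
  ruleOK_model (RuleOK_sub RB (by decide +kernel)) HnM1.ruleN ty1 HnM1.netsOK
theorem cle1 : Finite D1 ∧ Nat.card D1 ≤ 2520000 := card_top_le Lc1.hgen (card1 Q1)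
instance fin1 : Finite D1 := cle1.1
theorem base1 : M1.fixK ⊤ (bl1.map Prod.fst) = ⊥ ∧ Nat.card D1 = 2520000 ∧ Function.Injective M1.φ :=
  fix_bot cle1.2 fun m hm => le_trans (by omega) (show 50 * (42 * (30 * (5 * (4 * (2 * (m)))))) ≤ _ from
    (M1.lev_step (fun _ _ => trivial) t1f0 t1o0
    (M1.lev_step (fun _ _ => trivial) t1f1 t1o1
    (M1.lev_step (fun _ _ => trivial) t1f2 t1o2
    (M1.lev_step (fun _ _ => trivial) t1f3 t1o3
    (M1.lev_step (fun _ _ => trivial) t1f4 t1o4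
    (M1.lev_step (fun _ _ => trivial) t1f5 t1o5
    hm)))))))

def rels : List (List ℕ) := relsB0 ++ dB.map Prod.fst ++ (orH.map fun p => p.1 ++ invw iv p.2) ++
  orC.map fun p => p.1 ++ invw iv p.2

theorem R : RuleOK el rels iv :=
  ruleOK_oracle (ruleOK_oracle RB (eqvN_sound Lc0 blk0 base0.1) orH okH)
    (eqvN_sound Lc1 blk1 base1.1) orC okC

abbrev D2 : Type := PD el HnM2.nets g2
noncomputable def M2 : Model D2 := pairModel el ty2 HnM2.netsOK
noncomputable def ψ2 : D2 →* Spor.HN := pairFst el HnM2.nets g2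
theorem Lc2 : Loc el g2 M2 ψ2 := pairLoc el ty2 HnM2.netsOK
theorem Q2 : RuleOK M2.el HnM2.rels iv :=
  ruleOK_model (RuleOK_sub R (by decide +kernel)) HnM2.ruleN ty2 HnM2.netsOK
theorem cle2 : Finite D2 ∧ Nat.card D2 ≤ 302400 := card_top_le Lc2.hgen (card2 Q2)
instance fin2 : Finite D2 := cle2.1
theorem base2 : M2.fixK ⊤ (bl2.map Prod.fst) = ⊥ ∧ Nat.card D2 = 302400 ∧ Function.Injective M2.φ :=
  fix_bot cle2.2 fun m hm => le_trans (by omega) (show 7 * (6 * (6 * (5 * (5 * (4 * (4 * (3 * (m)))))))) ≤ _ from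
    (M2.lev_step (fun _ _ => trivial) t2f0 t2o0
    (M2.lev_step (fun _ _ => trivial) t2f1 t2o1
    (M2.lev_step (fun _ _ => trivial) t2f2 t2o2
    (M2.lev_step (fun _ _ => trivial) t2f3 t2o3
    (M2.lev_step (fun _ _ => trivial) t2f4 t2o4
    (M2.lev_step (fun _ _ => trivial) t2f5 t2o5
    (M2.lev_step (fun _ _ => trivial) t2f6 t2o6
    (M2.lev_step (fun _ _ => trivial) t2f7 t2o7
    hm)))))))))

theorem st0 : ∀ d ∈ M0.St 0, ψ0 d ∈ clL el g1 := St_le Lc0 (by decide) fx0 (ind0 Q0) po0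
theorem st1 : ∀ d ∈ M1.St 0, ψ1 d ∈ clL el g0 := St_le Lc1 (by decide) fx1 (ind1 Q1) po1

/-- the subgroup generated by x, y, z -/
abbrev H : Subgroup Spor.HN := clL el g0

theorem facts : ∀ i < 252, Holds H el (lab el LW) (FT i) :=
  facts_hold (rels := []) (RuleOK_sub R rfl) (el_mem_closure el g0)
    (selE_sound (forall_cons (eqvN_sound Lc0 blk0 base0.1)
    (forall_cons (eqvN_sound Lc1 blk1 base1.1)
    (forall_cons (eqvN_sound Lc2 blk2 base2.1) (forall_nil' _))))) chk_all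

theorem hgen : clL el g0 ⊔ clL el g1 = ⊤ := by
  refine eq_top _ fun x hx => ?_
  rcases (by revert x; decide : x ∈ g0 ∨ x ∈ g1) with h | h
  · exact Subgroup.mem_sup_left (el_mem_closure el _ x h)
  · exact Subgroup.mem_sup_right (el_mem_closure el _ x h)

theorem dcs : DCS H ψ0 (fun i : Fin SS0.length => lab el LW (SS0.get i).j)
    (fun i => clW M0.el (stabWs FT iv (SS0.get i))) :=
  dcs_of Lc0 R.hinv facts sd0 (dce_cover Lc0 Lc1 R.hinv facts st0 st1 kp0 (by decide +kernel) kp1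
    (by decide +kernel) sd0 sd1 (by decide) rfl hgen)

theorem i0 : (clW M0.el (stabWs FT iv s0_0)).index ≤ 1 :=
  index_top_of ((gen0 Q0).trans Lc0.hgen) (by decide +kernel)
theorem i1 : (clW M0.el (stabWs FT iv s0_1)).index ≤ 1408 :=
  index_le_of_card base0.2.1 (show 504 * (125 * (2 * (1))) ≤ _ from
    (M0.lev_step (subW_mem _ _ _) u1f0 u1o0
    (M0.lev_step (subW_mem _ _ _) u1f1 u1o1
    (M0.lev_step (subW_mem _ _ _) u1f2 u1o2
    (M0.chain_base _))))) (by norm_num)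
theorem i2 : (clW M0.el (stabWs FT iv s0_2)).index ≤ 2200 :=
  index_le_of_card base0.2.1 (show 672 * (60 * (2 * (1))) ≤ _ from
    (M0.lev_step (subW_mem _ _ _) u2f0 u2o0
    (M0.lev_step (subW_mem _ _ _) u2f1 u2o1
    (M0.lev_step (subW_mem _ _ _) u2f2 u2o2
    (M0.chain_base _))))) (by norm_num)
theorem i3 : (clW M0.el (stabWs FT iv s0_3)).index ≤ 35200 :=
  index_le_of_card base0.2.1 (show 504 * (10 * (1)) ≤ _ from
    (M0.lev_step (subW_mem _ _ _) u3f0 u3o0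
    (M0.lev_step (subW_mem _ _ _) u3f1 u3o1
    (M0.chain_base _)))) (by norm_num)
theorem i4 : (clW M0.el (stabWs FT iv s0_4)).index ≤ 123200 :=
  index_le_of_card base0.2.1 (show 360 * (4 * (1)) ≤ _ from
    (M0.lev_step (subW_mem _ _ _) u4f0 u4o0
    (M0.lev_step (subW_mem _ _ _) u4f1 u4o1
    (M0.chain_base _)))) (by norm_num)
theorem i5 : (clW M0.el (stabWs FT iv s0_5)).index ≤ 354816 :=
  index_le_of_card base0.2.1 (show 250 * (2 * (1)) ≤ _ from
    (M0.lev_step (subW_mem _ _ _) u5f0 u5o0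
    (M0.lev_step (subW_mem _ _ _) u5f1 u5o1
    (M0.chain_base _)))) (by norm_num)
theorem i6 : (clW M0.el (stabWs FT iv s0_6)).index ≤ 739200 :=
  index_le_of_card base0.2.1 (show 120 * (2 * (1)) ≤ _ from
    (M0.lev_step (subW_mem _ _ _) u6f0 u6o0
    (M0.lev_step (subW_mem _ _ _) u6f1 u6o1
    (M0.chain_base _)))) (by norm_num)
theorem i7 : (clW M0.el (stabWs FT iv s0_7)).index ≤ 277200 :=
  index_le_of_card base0.2.1 (show 320 * (2 * (1)) ≤ _ from
    (M0.lev_step (subW_mem _ _ _) u7f0 u7o0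
    (M0.lev_step (subW_mem _ _ _) u7f1 u7o1
    (M0.chain_base _)))) (by norm_num)
theorem i8 : (clW M0.el (stabWs FT iv s0_8)).index ≤ 5775 :=
  index_le_of_card base0.2.1 (show 1280 * (24 * (1)) ≤ _ from
    (M0.lev_step (subW_mem _ _ _) u8f0 u8o0
    (M0.lev_step (subW_mem _ _ _) u8f1 u8o1
    (M0.chain_base _)))) (by norm_num)

/-- the lengths of the orbits -/
def n : Fin SS0.length → ℕ := fun i => [1, 1408, 2200, 35200, 123200, 354816, 739200, 277200, 5775].getD i 0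

theorem hn : ∀ i, (clW M0.el (stabWs FT iv (SS0.get i))).index ≤ n i := by
  intro i
  fin_cases i
  exacts [i0, i1, i2, i3, i4, i5, i6, i7, i8]

theorem sum_n : ∑ i, n i = 1539000 := by decide +kernel

theorem index_le : H.index ≠ 0 ∧ H.index ≤ 1539000 := sum_n ▸ dcs.index_le' hn

theorem card_le : Finite Spor.HN ∧ Nat.card Spor.HN ≤ 273030912000000 :=
  card_top_le rfl (card_step (card0 (RuleOK_sub R (by decide +kernel)))
    (by rw [Subgroup.relIndex_top_right]; exact index_le))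

end Cfsg.Agent.H17.HnU
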