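import Cfsg.Agent.H18.SmallTools
import Cfsg.Agent.H25.CITAux
import Cfsg.Agent.S0494
import Cfsg.Agent.S0496

/-! Groups of order 1920 with a central involution and small 5-local subgroups. -/

set_option autoImplicit false
set_option linter.unusedSectionVars false

namespace Cfsg.Agent.H17.J3

open Subgroup

variable {H : Type*} [Group H] [Finite H]

/-- The hypotheses on the centralizer of a central involution. -/
structure Ctx (z : H) : Prop where
  card : Nat.card H = 1920
  ord : orderOf z = 2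
  cen : ∀ g, g * z = z * g
  c5 : ∀ x : H, orderOf x = 5 → Nat.card (centralizer ({x} : Set H)) ∣ 30
  n5 : ∀ x : H, orderOf x = 5 → Nat.card (normalizer ((zpowers x : Subgroup H) : Set H)) ∣ 60

instance fact5 : Fact (Nat.Prime 5) := ⟨by norm_num⟩

theorem ten_dvd {z x : H} (hz : orderOf z = 2) (hx : orderOf x = 5) {A : Subgroup H} (h1 : z ∈ A)
    (h2 : x ∈ A) : 10 ∣ Nat.card A := by
  have h3 := A.orderOf_dvd_natCard h1
  have h4 := A.orderOf_dvd_natCard h2
  rw [hz] at h3
  rw [hx] at h4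
  omega

theorem cent_le_norm (x : H) :
    centralizer ({x} : Set H) ≤ normalizer ((zpowers x : Subgroup H) : Set H) := by
  rw [← H36.centralizer_zpowers]; exact centralizer_le_normalizer _

theorem eq_of_card_two {A : Subgroup H} (h : Nat.card A = 2) {z t : H} (hz : z ∈ A) (ht : t ∈ A)
    (h1 : z ≠ 1) (h2 : t ≠ 1) : t = z := by
  obtain ⟨y, -, hy⟩ := (Nat.card_eq_two_iff' (1 : A)).1 h
  exact congrArg Subtype.val ((hy ⟨t, ht⟩ fun h => h2 (congrArg Subtype.val h)).trans
    (hy ⟨z, hz⟩ fun h => h1 (congrArg Subtype.val h)).symm)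

theorem perm5 : ∀ u : Equiv.Perm (Fin 5), u ≠ 1 → u * u = 1 → Equiv.Perm.sign u = 1 →
    ∃ g : Equiv.Perm (Fin 5), Equiv.Perm.sign g = 1 ∧ (u * (g * u * g⁻¹)) ^ 5 = 1 ∧
      u * (g * u * g⁻¹) ≠ 1 := by
  decide +kernel

theorem alt5 {u : alternatingGroup (Fin 5)} (h1 : u ≠ 1) (h2 : u * u = 1) :
    ∃ g, orderOf (u * (g * u * g⁻¹)) = 5 := by
  obtain ⟨g, h3, h4, h5⟩ := perm5 u (fun h => h1 (Subtype.ext h)) (congrArg Subtype.val h2) u.2
  exact ⟨⟨g, h3⟩, orderOf_eq_prime (Subtype.ext h4) fun h => h5 (congrArg Subtype.val h)⟩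

namespace Ctx

variable {z : H} (c : Ctx z)
include c

theorem mem_cent (x : H) : z ∈ centralizer ({x} : Set H) :=
  mem_centralizer_singleton_iff.2 (c.cen x).symm

theorem sylow5 {x : H} (hx : orderOf x = 5) : ∃ P : Sylow 5 H, zpowers x = P := by
  obtain ⟨P⟩ : Nonempty (Sylow 5 H) := inferInstance
  exact H36.exists_sylow_eq_zpowers P
    (H36.card_sylow_eq_prime P (m := 384) c.card (by norm_num)) hx

theorem exists5 : ∃ x : H, orderOf x = 5 :=
  exists_prime_orderOf_dvd_card' 5 (by rw [c.card]; norm_num)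

theorem norm5 {x : H} (hx : orderOf x = 5) :
    Nat.card (normalizer ((zpowers x : Subgroup H) : Set H)) = 20 ∧
      Nat.card (centralizer ({x} : Set H)) = 10 := by
  obtain ⟨P, hP⟩ := c.sylow5 hx
  have h1 := H36.card_sylow_mul_card_normalizer P
  have h2 := H36.card_sylow_mod (G := H) (p := 5)
  have h3 := c.n5 x hx
  have h4 := c.c5 x hx
  have h5 := ten_dvd c.ord hx (c.mem_cent x) (mem_centralizer_singleton_iff.2 rfl)
  have h6 := card_dvd_of_le (cent_le_norm x)
  rw [c.card, ← P.coe_coe, ← hP] at h1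
  generalize Nat.card (normalizer ((zpowers x : Subgroup H) : Set H)) = n at *
  generalize Nat.card (centralizer ({x} : Set H)) = m at *
  generalize Nat.card (Sylow 5 H) = s at *
  have h7 := Nat.le_of_dvd (by norm_num) h3
  have h8 := Nat.le_of_dvd (by norm_num) h4
  obtain ⟨k, rfl⟩ := h5.trans h6
  have hk : k ≤ 6 := by omega
  have : k = 2 := by interval_cases k <;> omega
  subst this
  refine ⟨rfl, ?_⟩
  obtain ⟨j, rfl⟩ := h5
  have hj : j ≤ 3 := by omega
  interval_cases j <;> omega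

theorem not_three {x : H} (hx : orderOf x = 5) {K : Subgroup H} (hn : x ∈ normalizer (K : Set H))
    (h5 : ¬ 5 ∣ Nat.card K) (hd : Nat.card K ∣ 384) : ¬ 3 ∣ Nat.card K := by
  intro h3
  have : Fact (Nat.Prime 3) := ⟨by norm_num⟩
  obtain ⟨Q⟩ : Nonempty (Sylow 3 K) := inferInstance
  obtain ⟨m, hm⟩ := h3
  have hQ := H36.card_sylow_eq_prime Q hm (by
    rintro ⟨k, rfl⟩
    rw [hm, ← mul_assoc] at hd
    exact absurd (dvd_of_mul_right_dvd hd) (by norm_num))
  have h1 := H36.card_orderOf_eq_prime Q hQ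
  have h2 : Nat.card {g : H | g ∈ K ∧ orderOf g = 3} = Nat.card {g : K // orderOf g = 3} :=
    Nat.card_congr ⟨fun g => ⟨⟨g, g.2.1⟩, by rw [← orderOf_coe]; exact g.2.2⟩,
      fun g => ⟨g.1, g.1.2, by rw [orderOf_coe]; exact g.2⟩, fun _ => rfl, fun _ => rfl⟩
  obtain ⟨g, hg, hc⟩ := H25.exists_fixed_conj (a := x) (p := 5) (n := 1) (by norm_num)
    (by rw [pow_one, ← hx, pow_orderOf_eq_one]) {g : H | g ∈ K ∧ orderOf g = 3}
    (fun g hg => ⟨(mem_normalizer_iff.1 hn g).1 hg.1, by rw [H36.orderOf_conj']; exact hg.2⟩) (by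
      rw [h2, h1]
      intro h
      refine h5 (Dvd.dvd.trans ?_ ⟨_, (H36.card_sylow_mul_card_normalizer Q).symm⟩)
      omega)
  have h4 := (centralizer ({x} : Set H)).orderOf_dvd_natCard
    (mem_centralizer_singleton_iff.2 hc.symm)
  rw [hg.2, (c.norm5 hx).2] at h4
  omega

theorem inf_cent {x : H} (hx : orderOf x = 5) {K : Subgroup H} (hz : z ∈ K)
    (h5 : ¬ 5 ∣ Nat.card K) : Nat.card (K ⊓ centralizer ({x} : Set H) : Subgroup H) = 2 := by
  have h1 := H18.card_inf_dvd_left K (centralizer ({x} : Set H))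
  have h2 := H18.card_inf_dvd_right K (centralizer ({x} : Set H))
  have h3 := (K ⊓ centralizer ({x} : Set H)).orderOf_dvd_natCard ⟨hz, c.mem_cent x⟩
  rw [(c.norm5 hx).2] at h2
  rw [c.ord] at h3
  have h4 : ¬ 5 ∣ Nat.card (K ⊓ centralizer ({x} : Set H) : Subgroup H) := fun h => h5 (h.trans h1)
  generalize Nat.card (K ⊓ centralizer ({x} : Set H) : Subgroup H) = n at *
  have := Nat.le_of_dvd (by norm_num) h2
  interval_cases n <;> omega

theorem normal_card (M : Subgroup H) [hM : M.Normal] (hz : z ∈ M) :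
    Nat.card M = 2 ∨ Nat.card M = 32 ∨ M = ⊤ := by
  have hd : Nat.card M ∣ 1920 := c.card ▸ M.card_subgroup_dvd_card
  by_cases h5 : 5 ∣ Nat.card M
  · right; right
    obtain ⟨x, hxM, hx⟩ := H36.exists_orderOf_eq_of_dvd M (by norm_num) h5
    obtain ⟨P, hP⟩ := c.sylow5 hx
    have hPM : (P : Subgroup H) ≤ M := by rwa [← hP, zpowers_le]
    have h1 := P.normalizer_sup_eq_top' hPM
    have h2 := H18.card_sup_of_le_normalizer (A := normalizer (P : Set H)) (B := M)
      (by rw [normalizer_eq_top]; exact le_top)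
    obtain ⟨h3, h4⟩ := c.norm5 hx
    have h6 := ten_dvd c.ord hx (A := (M ⊓ normalizer (P : Set H)) ⊓ centralizer (P : Set H))
      (by rw [← P.coe_coe, ← hP]
          exact ⟨⟨hz, cent_le_norm x (c.mem_cent x)⟩, by
            rw [H36.centralizer_zpowers]; exact c.mem_cent x⟩)
      (by rw [← P.coe_coe, ← hP]
          exact ⟨⟨hxM, le_normalizer (mem_zpowers x)⟩, by
            rw [H36.centralizer_zpowers]; exact mem_centralizer_singleton_iff.2 rfl⟩)
    have h7 := H18.card_inf_dvd_left (M ⊓ normalizer (P : Set H)) (centralizer (P : Set H))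
    have h8 := H18.card_inf_dvd_right M (normalizer (P : Set H))
    rw [hP, P.coe_coe] at h3
    rw [h1, card_top, c.card, h3, inf_comm] at h2
    rw [h3] at h8
    by_cases h9 : Nat.card (M ⊓ normalizer (P : Set H) : Subgroup H) = 20
    · exact eq_top_of_card_eq _ (by rw [c.card]; omega)
    exfalso
    have h10 : Nat.card (M ⊓ normalizer (P : Set H) : Subgroup H) = 10 := by
      obtain ⟨k, hk⟩ := h6.trans h7
      have := Nat.le_of_dvd (by norm_num) h8
      have := Nat.pos_of_dvd_of_pos h8 (by norm_num)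
      omega
    obtain ⟨K, hK1, hK2, hK3⟩ := H18.exists_normal_compl P hPM (H18.le_of_card_inf_eq (by
      rw [h10] at h7 ⊢
      exact Nat.dvd_antisymm h7 h6))
    rw [← hP, Nat.card_zpowers, hx] at hK3
    have hK : Nat.card K = 192 := by omega
    exact c.not_three hx (hK2 hxM) (by omega) (by rw [hK]; norm_num) (by omega)
  · obtain ⟨x, hx⟩ := c.exists5
    have hn : x ∈ normalizer (M : Set H) := by rw [normalizer_eq_top]; trivial
    have hd' : Nat.card M ∣ 384 :=
      (Nat.Coprime.symm ((Nat.Prime.coprime_iff_not_dvd (by norm_num)).2 h5)).dvd_of_dvd_mul_left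
        (n := 384) hd
    have h3 := c.not_three hx hn h5 hd'
    have hd2 : Nat.card M ∣ 2 ^ 7 :=
      (Nat.Coprime.symm ((Nat.Prime.coprime_iff_not_dvd (by norm_num)).2 h3)).dvd_of_dvd_mul_left
        (n := 2 ^ 7) hd'
    have h4 := H18.modEq_cent_prime (by norm_num) M hx hn
    rw [c.inf_cent hx hz h5] at h4
    obtain ⟨k, hk, h6⟩ := (Nat.dvd_prime_pow Nat.prime_two).1 hd2
    rw [h6] at h4 ⊢
    interval_cases k <;> simp_all

theorem simple_quot (E : Subgroup H) [E.Normal] (hz : z ∈ E) (hE : E ≠ ⊤)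
    (h : ∀ M : Subgroup H, M.Normal → E ≤ M → Nat.card M = 32 → Nat.card E = 32) :
    IsSimpleGroup (H ⧸ E) := by
  have : Nontrivial (H ⧸ E) := QuotientGroup.nontrivial_iff.2 hE
  refine ⟨fun N hN => ?_⟩
  have hle : E ≤ N.comap (QuotientGroup.mk' E) := QuotientGroup.le_comap_mk' E N
  have hpos := Nat.card_pos (α := E)
  have h2 := E.orderOf_dvd_natCard hz
  rw [c.ord] at h2
  have key : Nat.card (N.comap (QuotientGroup.mk' E)) ≤ Nat.card E → N = ⊥ := fun h1 => by
    rw [← map_comap_eq_self_of_surjective (QuotientGroup.mk'_surjective E) N,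
      ← eq_of_le_of_card_ge hle h1, QuotientGroup.map_mk'_self]
  rcases c.normal_card (N.comap (QuotientGroup.mk' E)) (hle hz) with h1 | h1 | h1
  · exact Or.inl (key (by omega))
  · exact Or.inl (key (by rw [h _ inferInstance hle h1, h1]))
  · right
    rw [← map_comap_eq_self_of_surjective (QuotientGroup.mk'_surjective E) N, h1,
      map_top_of_surjective _ (QuotientGroup.mk'_surjective E)]

theorem struct : ∃ (E : Subgroup H) (_ : E.Normal), z ∈ E ∧ Nat.card E = 32 ∧
    Nonempty ((H ⧸ E) ≃* alternatingGroup (Fin 5)) := by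
  by_cases h : ∃ E : Subgroup H, E.Normal ∧ z ∈ E ∧ Nat.card E = 32
  · obtain ⟨E, hE, hz, h1⟩ := h
    have := c.simple_quot E hz (by rintro rfl; rw [card_top, c.card] at h1; omega) fun _ _ _ _ => h1
    refine ⟨E, hE, hz, h1, S0494.result ?_⟩
    have h2 := E.card_eq_card_quotient_mul_card_subgroup
    rw [c.card, h1] at h2
    omega
  exfalso
  have hN : (zpowers z).Normal := ⟨fun n hn g => by
    rwa [H25.comm_of_mem_zpowers (c.cen g) hn, mul_inv_cancel_right]⟩
  have h1 : Nat.card (zpowers z) = 2 := by rw [Nat.card_zpowers, c.ord]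
  have := c.simple_quot (zpowers z) (mem_zpowers z)
    (fun h2 => by rw [h2, card_top, c.card] at h1; omega)
    fun M hM h2 h3 => (h ⟨M, hM, h2 (mem_zpowers z), h3⟩).elim
  have h2 := (zpowers z).card_eq_card_quotient_mul_card_subgroup
  rw [c.card, h1] at h2
  have h3 : Nat.card (H ⧸ zpowers z) = 960 := by omega
  have h4 := S0496.result (G := H ⧸ zpowers z) (fun h5 => by
    let _ : CommGroup (H ⧸ zpowers z) := { (inferInstance : Group _) with mul_comm := mul_comm' }
    have h6 := IsSimpleGroup.prime_card (α := H ⧸ zpowers z)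
    rw [h3] at h6
    norm_num at h6) (by omega)
  omega

variable {E : Subgroup H} [hE : E.Normal] (hz : z ∈ E) (h32 : Nat.card E = 32)
include hz h32

theorem mem_centE : z ∈ centralizer (E : Set H) := fun g _ => c.cen g

theorem centE_ne : centralizer (E : Set H) ≠ ⊤ := fun h => by
  obtain ⟨x, hx⟩ := c.exists5
  have h1 : E ≤ centralizer ({x} : Set H) := fun e he =>
    mem_centralizer_singleton_iff.2 ((h ▸ mem_top x : x ∈ centralizer (E : Set H)) e he)
  have h2 := card_dvd_of_le h1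
  rw [h32, (c.norm5 hx).2] at h2
  omega

theorem cent_le : centralizer (E : Set H) ≤ E := by
  have h0 := c.mem_centE hz h32
  rcases c.normal_card _ h0 with h | h | h
  · refine H18.le_of_card_inf_eq (Nat.dvd_antisymm (H18.card_inf_dvd_left _ _) ?_)
    rw [h, ← c.ord]
    exact orderOf_dvd_natCard _ ⟨h0, hz⟩
  · have h1 := H18.card_sup_of_le_normalizer (A := centralizer (E : Set H)) (B := E)
      (by rw [normalizer_eq_top]; exact le_top)
    have h2 := card_dvd_of_le (le_sup_right : E ≤ centralizer (E : Set H) ⊔ E)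
    rcases c.normal_card (centralizer (E : Set H) ⊔ E) (mem_sup_right hz) with h3 | h3 | h3
    · rw [h3, h32] at h2
      omega
    · exact le_sup_left.trans
        (eq_of_le_of_card_ge (le_sup_right : E ≤ centralizer (E : Set H) ⊔ E) (by omega)).ge
    · rw [h3, card_top, c.card, h, h32] at h1
      omega
  · exact (c.centE_ne hz h32 h).elim

theorem elem {t : H} (ht : orderOf t = 2) (htz : t ≠ z) (hc : t ∈ centralizer (E : Set H)) :
    centralizer (E : Set H) = E ∧ ∀ e ∈ E, e * e = 1 := by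
  have h0 := c.mem_centE hz h32
  have z1 := H25.ne_one_of_orderOf c.ord
  have t1 := H25.ne_one_of_orderOf ht
  have h1 : centralizer (E : Set H) = E := by
    rcases c.normal_card _ h0 with h | h | h
    · exact (htz (eq_of_card_two h h0 hc z1 t1)).elim
    · exact eq_of_le_of_card_ge (c.cent_le hz h32) (by omega)
    · exact (c.centE_ne hz h32 h).elim
  refine ⟨h1, ?_⟩
  let O : Subgroup H :=
    { carrier := {e | e ∈ E ∧ e * e = 1}
      mul_mem' := fun {a b} ha hb => ⟨mul_mem ha.1 hb.1, by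
        have h2 : a * b = b * a := (h1.ge hb.1) a ha.1
        rw [mul_assoc, ← mul_assoc b, ← h2, mul_assoc, hb.2, mul_one, ha.2]⟩
      one_mem' := ⟨one_mem _, mul_one _⟩
      inv_mem' := fun {a} ha => ⟨inv_mem ha.1, by rw [← mul_inv_rev, ha.2, inv_one]⟩ }
  have hO : O.Normal := ⟨fun a ha g => ⟨hE.conj_mem a ha.1 g, by
    calc g * a * g⁻¹ * (g * a * g⁻¹) = g * (a * a) * g⁻¹ := by group
      _ = 1 := by rw [ha.2]; group⟩⟩
  have hle : O ≤ E := fun _ h => h.1
  have hzO : z ∈ O := ⟨hz, H25.mul_self_of_orderOf c.ord⟩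
  rcases c.normal_card O hzO with h | h | h
  · exact (htz (eq_of_card_two h hzO ⟨h1.le hc, H25.mul_self_of_orderOf ht⟩ z1 t1)).elim
  · exact fun e he => ((eq_of_le_of_card_ge hle (by omega)).ge he).2
  · rw [h, top_le_iff] at hle
    rw [hle, card_top, c.card] at h32
    omega

theorem transv (φ : (H ⧸ E) ≃* alternatingGroup (Fin 5)) (hc : E ≤ centralizer (E : Set H)) {a : H}
    (ha : a ∉ E) (h2 : a * a = 1) : Nat.card (E ⊓ centralizer ({a} : Set H) : Subgroup H) ≤ 8 := by
  let f : H →* alternatingGroup (Fin 5) := φ.toMonoidHom.comp (QuotientGroup.mk' E)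
  have hf : Function.Surjective f := φ.surjective.comp (QuotientGroup.mk'_surjective E)
  obtain ⟨g', hg⟩ := alt5 (u := f a)
    (fun h => ha ((QuotientGroup.eq_one_iff a).1 (φ.injective (h.trans φ.map_one.symm))))
    (by rw [← map_mul, h2, map_one])
  obtain ⟨g, rfl⟩ := hf g'
  rw [← map_inv, ← map_mul, ← map_mul, ← map_mul] at hg
  have h3 := orderOf_map_dvd f (a * (g * a * g⁻¹))
  rw [hg] at h3
  have hx := orderOf_pow_orderOf_div (orderOf_pos _).ne' h3
  have h4 := c.inf_cent hx hz (by omega)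
  set A := E ⊓ centralizer ({a} : Set H)
  let B := A.map (MulAut.conj g).toMonoidHom
  have hB : B ≤ E := by
    rintro _ ⟨e, he, rfl⟩
    exact hE.conj_mem e he.1 g
  have h5 : Nat.card B = Nat.card A := card_map_of_injective (MulAut.conj g).injective
  have h6 := H18.card_sup_of_le_normalizer (A := A) (B := B) (fun e he =>
    centralizer_le_normalizer _ fun b hb => hc he.1 b (hB hb))
  have h7 := card_le_of_le (sup_le inf_le_left hB : A ⊔ B ≤ E)
  have h8 : A ⊓ B ≤ E ⊓ centralizer {(a * (g * a * g⁻¹)) ^ (orderOf (a * (g * a * g⁻¹)) / 5)} := by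
    rintro e ⟨h9, d, hd, rfl⟩
    refine ⟨h9.1, mem_centralizer_singleton_iff.2 (Commute.pow_right (Commute.mul_right
      (mem_centralizer_singleton_iff.1 h9.2) ?_) _)⟩
    have h10 := mem_centralizer_singleton_iff.1 hd.2
    calc g * d * g⁻¹ * (g * a * g⁻¹) = g * (d * a) * g⁻¹ := by group
      _ = g * a * g⁻¹ * (g * d * g⁻¹) := by rw [h10]; group
  have h9 := card_le_of_le h8
  rw [h5] at h6
  rw [h32] at h7
  rw [h4] at h9
  have h10 := Nat.mul_le_mul h7 h9
  by_contra h11
  have h12 := Nat.mul_le_mul (Nat.lt_of_not_le h11) (Nat.lt_of_not_le h11)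
  omega

end Ctx

end Cfsg.Agent.H17.J3
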