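import Cfsg.Agent.H17.J3f
import Cfsg.Agent.H17.J3g
import Cfsg.Agent.H46.NormalFour

/-! Simple groups of order 50232960: the centre of a Sylow 2-subgroup. -/

set_option autoImplicit false
set_option linter.unusedSectionVars false

namespace Cfsg.Agent.H17.J3

open Subgroup

variable {G : Type*} [Group G] [Finite G]

/-- What is used about `O_2(C(z))` when it is abelian. -/
structure Dat (z : G) (E : Subgroup G) : Prop where
  card : Nat.card E = 32
  mem : z ∈ E
  norm : centralizer ({z} : Set G) ≤ normalizer (E : Set G)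
  sq : ∀ e ∈ E, e * e = 1
  cent : centralizer (E : Set G) = E
  tv : ∀ a ∈ centralizer ({z} : Set G), a ∉ E → a * a = 1 →
    Nat.card (E ⊓ centralizer ({a} : Set G) : Subgroup G) ≤ 8

theorem map_cent_le (C : Subgroup G) (x : C) :
    (centralizer ({x} : Set C)).map C.subtype ≤ centralizer ({(x : G)} : Set G) := by
  rintro _ ⟨g, hg, rfl⟩
  exact mem_centralizer_singleton_iff.2 (congrArg Subtype.val (mem_centralizer_singleton_iff.1 hg))

variable [IsSimpleGroup G] (hc : Nat.card G = 50232960)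
include hc

theorem card_syl (S : Sylow 2 G) : Nat.card (S : Subgroup G) = 128 :=
  H36.card_sylow_eq S (k := 7) (m := 392445) hc (by norm_num)

theorem dvd_cent (S : Sylow 2 G) {z : G} (h : (S : Subgroup G) ≤ centralizer ({z} : Set G)) :
    128 ∣ Nat.card (centralizer ({z} : Set G)) := card_syl hc S ▸ card_dvd_of_le h

theorem ctx {z : G} (hz : orderOf z = 2) (hz' : 128 ∣ Nat.card (centralizer ({z} : Set G))) :
    Ctx (⟨z, mem_centralizer_singleton_iff.2 rfl⟩ : centralizer ({z} : Set G)) where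
  card := card_cent hc hz hz'
  ord := by rw [← orderOf_coe]; exact hz
  cen g := Subtype.ext (mem_centralizer_singleton_iff.1 g.2)
  c5 x hx := by
    rw [← (five hc (x := x) (by rwa [orderOf_coe])).1, ← card_map_of_injective (subtype_injective _)]
    exact card_dvd_of_le (map_cent_le _ x)
  n5 x hx := by
    rw [← (five hc (x := x) (by rwa [orderOf_coe])).2, ← card_map_of_injective (subtype_injective _)]
    have := le_normalizer_map (H := zpowers x) (centralizer ({z} : Set G)).subtype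
    rw [MonoidHom.map_zpowers] at this
    exact card_dvd_of_le this

theorem dat (S : Sylow 2 G) {z t : G} (hz : orderOf z = 2) (ht : orderOf t = 2) (htz : t ≠ z)
    (hzS : (S : Subgroup G) ≤ centralizer ({z} : Set G))
    (htS : (S : Subgroup G) ≤ centralizer ({t} : Set G)) (ht' : t ∈ (S : Subgroup G)) :
    ∃ E, Dat z E ∧ E ≤ S := by
  have c := ctx hc hz (dvd_cent hc S hzS)
  obtain ⟨E, hE, h1, h2, ⟨φ⟩⟩ := c.struct
  let C := centralizer ({z} : Set G)
  have h3 : Nat.card (E.map C.subtype) = 32 := by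
    rwa [card_map_of_injective (subtype_injective _)]
  have h4 : C ≤ normalizer ((E.map C.subtype : Subgroup G) : Set G) := by
    have := le_normalizer_map (H := E) C.subtype
    rwa [normalizer_eq_top, ← MonoidHom.range_eq_map, range_subtype] at this
  have h5 : E.map C.subtype ≤ S := by
    have h6 := S.isPGroup'.to_sup_of_normal_right' (IsPGroup.of_card (n := 5) h3) (hzS.trans h4)
    exact le_sup_right.trans (S.is_maximal' h6 le_sup_left).le
  obtain ⟨h6, h7⟩ := c.elem h1 h2 (t := ⟨t, hzS ht'⟩) (by rw [← orderOf_coe]; exact ht)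
    (fun h => htz (congrArg Subtype.val h)) fun e he =>
      Subtype.ext (mem_centralizer_singleton_iff.1 (htS (h5 ⟨e, he, rfl⟩)))
  refine ⟨_, ⟨h3, ⟨_, h1, rfl⟩, h4, ?_, le_antisymm (fun g hg => ?_) ?_, fun a ha h8 h9 => ?_⟩, h5⟩
  · rintro _ ⟨e, he, rfl⟩
    exact congrArg Subtype.val (h7 e he)
  · exact ⟨⟨g, mem_centralizer_singleton_iff.2 (hg z ⟨_, h1, rfl⟩).symm⟩,
      h6.le fun e he => Subtype.ext (hg e ⟨e, he, rfl⟩), rfl⟩
  · rintro _ ⟨e, he, rfl⟩ _ ⟨d, hd, rfl⟩
    exact congrArg Subtype.val (h6.ge he d hd)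
  · refine le_trans ?_ (c.transv h1 h2 φ h6.ge (a := ⟨a, ha⟩) (fun h => h8 ⟨_, h, rfl⟩)
      (Subtype.ext h9))
    rw [← card_map_of_injective (subtype_injective C)]
    refine card_le_of_le ?_
    rintro _ ⟨⟨e, he, rfl⟩, h10⟩
    exact ⟨e, ⟨he, mem_centralizer_singleton_iff.2
      (Subtype.ext (mem_centralizer_singleton_iff.1 h10))⟩, rfl⟩

theorem dat_ne {z t : G} {E : Subgroup G} (hz : orderOf z = 2) (ht : orderOf t = 2) (htz : t ≠ z)
    (h1 : Nat.card (centralizer ({z} : Set G)) = 1920)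
    (h2 : Nat.card (centralizer ({t} : Set G)) = 1920) (d : Dat z E) (d' : Dat t E) : False := by
  have z1 := H25.ne_one_of_orderOf hz
  obtain ⟨x, hxz, hx⟩ := H36.exists_orderOf_eq_of_dvd (centralizer ({z} : Set G)) (q := 5)
    (by norm_num) (by omega)
  have fix : ∀ e ∈ E, e ≠ 1 → x * e = e * x → e = z := fun e he e1 h => by
    have h3 := H18.card_inf_dvd_left E (centralizer ({x} : Set G))
    have h4 := H18.card_inf_dvd_right E (centralizer ({x} : Set G))
    have hz' : z ∈ E ⊓ centralizer ({x} : Set G) :=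
      ⟨d.mem, mem_centralizer_singleton_iff.2 (mem_centralizer_singleton_iff.1 hxz).symm⟩
    have h5 := orderOf_dvd_natCard _ hz'
    rw [d.card] at h3
    rw [(five hc hx).1] at h4
    rw [hz] at h5
    exact eq_of_card_two (Nat.dvd_antisymm (Nat.dvd_gcd h3 h4) h5) hz'
      ⟨he, mem_centralizer_singleton_iff.2 h.symm⟩ z1 e1
  set N := normalizer (E : Set G)
  have h3 := H36.relIndex_mul_card d.norm
  have h4 := H18.relIndex_cent_le N z E fun n hn => (mem_normalizer_iff.1 hn z).1 d.mem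
  have h5 := N.card_subgroup_dvd_card
  have h6 : ({y | ∃ g ∈ N, y = g * z * g⁻¹} \ {z} : Set G).ncard =
      ({y | ∃ g ∈ N, y = g * z * g⁻¹} : Set G).ncard - 1 :=
    Set.ncard_sdiff_singleton_of_mem ⟨1, one_mem _, by group⟩
  have h7 : ({y | ∃ g ∈ N, y = g * z * g⁻¹} : Set G).ncard = _ := H25.card_conj_class N z
  have h8 : 5 ∣ ({y | ∃ g ∈ N, y = g * z * g⁻¹} \ {z} : Set G).ncard := by
    by_contra h
    obtain ⟨y, ⟨⟨g, hg, rfl⟩, hy⟩, h9⟩ := H25.exists_fixed_conj (a := x) (p := 5) (n := 1)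
      (by norm_num) (by rw [pow_one, ← hx, pow_orderOf_eq_one])
      ({y | ∃ g ∈ N, y = g * z * g⁻¹} \ {z} : Set G) (by
        rintro _ ⟨⟨g, hg, rfl⟩, hy⟩
        refine ⟨⟨x * g, mul_mem (d.norm hxz) hg, by group⟩, fun h => hy ?_⟩
        have h9 := mem_centralizer_singleton_iff.1 hxz
        rw [Set.mem_singleton_iff, mul_inv_eq_iff_eq_mul, ← h9] at h
        exact mul_left_cancel h) h
    exact hy (fix _ ((mem_normalizer_iff.1 hg z).1 d.mem) (fun h => z1 (by simpa using h)) h9)
  rw [← h3, hc, h1] at h5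
  rw [h6, h7] at h8
  have h9 : (centralizer ({z} : Set G)).relIndex N ∣ 26163 :=
    Nat.dvd_of_mul_dvd_mul_right (by norm_num : 0 < 1920) h5
  have h10 : (centralizer ({z} : Set G)).relIndex N = 1 := by
    have h11 : Nat.card (E : Set G) = 32 := d.card
    rw [h11] at h4
    generalize (centralizer ({z} : Set G)).relIndex N = m at *
    interval_cases m <;> omega
  have h11 := eq_of_le_of_card_ge (d'.norm.trans (relIndex_eq_one.1 h10)) (by omega)
  exact htz (fix t d'.mem (H25.ne_one_of_orderOf ht) (mem_centralizer_singleton_iff.1 (h11.ge hxz)))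

theorem unique_inv (S : Sylow 2 G) {z t : G} (hz : orderOf z = 2) (ht : orderOf t = 2)
    (hzS : (S : Subgroup G) ≤ centralizer ({z} : Set G)) (hz' : z ∈ (S : Subgroup G))
    (htS : (S : Subgroup G) ≤ centralizer ({t} : Set G)) (ht' : t ∈ (S : Subgroup G)) : t = z := by
  by_contra htz
  obtain ⟨E, d, hE⟩ := dat hc S hz ht htz hzS htS ht'
  obtain ⟨F, d', hF⟩ := dat hc S ht hz (Ne.symm htz) htS hzS hz'
  have hS := card_syl hc S
  by_cases hFE : F ≤ E
  · obtain rfl := eq_of_le_of_card_ge hFE (by rw [d.card, d'.card])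
    exact dat_ne hc hz ht htz (card_cent hc hz (dvd_cent hc S hzS))
      (card_cent hc ht (dvd_cent hc S htS)) d d'
  obtain ⟨a, ha, ha'⟩ := SetLike.not_le_iff_exists.1 hFE
  have h1 := d.tv a (hzS (hF ha)) ha' (d'.sq a ha)
  have h2 : E ⊓ F ≤ E ⊓ centralizer ({a} : Set G) := fun e he =>
    ⟨he.1, mem_centralizer_singleton_iff.2 (d'.cent.ge ha e he.2)⟩
  have h3 := card_le_of_le h2
  have h4 := H18.card_sup_of_le_normalizer (hE.trans (htS.trans d'.norm))
  have h5 := card_le_of_le (sup_le hE hF)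
  rw [d.card, d'.card] at h4
  have h6 : Nat.card (E ⊓ F : Subgroup G) = 8 := by
    by_contra h
    have := Nat.mul_le_mul (h5.trans hS.le) (by omega : Nat.card (E ⊓ F : Subgroup G) ≤ 7)
    omega
  have h7 : E ⊔ F = S := eq_of_le_of_card_ge (sup_le hE hF) (by rw [h6] at h4; omega)
  have hz2 : z ∈ centralizer (S : Set G) := fun s hs => mem_centralizer_singleton_iff.1 (hzS hs)
  have h8 := H25.card_conj_class (normalizer (S : Set G)) z
  have h9 := H36.card_ne_one (E ⊓ F)
  suffices key : ∀ y, (∃ g ∈ normalizer (S : Set G), y = g * z * g⁻¹) ↔ y ∈ E ⊓ F ∧ y ≠ 1 by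
    rw [h6, ← Nat.card_congr (Equiv.subtypeEquivRight key), h8] at h9
    have h10 := (relIndex_dvd_card (centralizer ({z} : Set G)) (normalizer (S : Set G))).trans
      (card_subgroup_dvd_card _)
    rw [h9, hc] at h10
    omega
  refine fun y => ⟨?_, fun ⟨hy, y1⟩ => ?_⟩
  · rintro ⟨g, hg, rfl⟩
    have h10 : g * z * g⁻¹ ∈ centralizer (S : Set G) := fun s hs => by
      have h11 := hz2 _ ((mem_set_normalizer_iff.1 (inv_mem hg) s).1 hs)
      calc s * (g * z * g⁻¹) = g * (g⁻¹ * s * g⁻¹⁻¹ * z) * g⁻¹ := by group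
        _ = g * z * g⁻¹ * s := by rw [h11]; group
    exact ⟨⟨d.cent.le (centralizer_le hE h10), d'.cent.le (centralizer_le hF h10)⟩,
      fun h => H25.ne_one_of_orderOf hz (by simpa using h)⟩
  · have h10 : (S : Subgroup G) ≤ centralizer ({y} : Set G) := by
      rw [← h7]
      exact sup_le (fun e he => mem_centralizer_singleton_iff.2 (d.cent.ge hy.1 e he))
        fun e he => mem_centralizer_singleton_iff.2 (d'.cent.ge hy.2 e he)
    obtain ⟨g, rfl⟩ := isConj_iff.1 (conj_cent hc hz (dvd_cent hc S hzS)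
      (H25.orderOf_eq_two y1 (d.sq y hy.1)) (dvd_cent hc S h10))
    obtain ⟨n, hn, h11⟩ := S.conj_eq_normalizer_conj_of_mem_centralizer z g⁻¹ hz2
      fun s hs => by rw [inv_inv]; exact mem_centralizer_singleton_iff.1 (h10 hs)
    exact ⟨n⁻¹, inv_mem hn, by rwa [inv_inv] at h11 ⊢⟩

theorem cyclic_center (S : Sylow 2 G) : IsCyclic (center (S : Subgroup G)) := by
  refine H46.isCyclic_of_comm_of_unique (p := 2) (S.isPGroup'.to_subgroup _) fun x y hx hy => ?_
  by_cases y1 : y = 1
  · rw [y1]; exact one_mem _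
  have key : ∀ w : center (S : Subgroup G),
      (S : Subgroup G) ≤ centralizer ({((w : (S : Subgroup G)) : G)} : Set G) := fun w s hs =>
    mem_centralizer_singleton_iff.2 (congrArg Subtype.val (mem_center_iff.1 w.2 ⟨s, hs⟩))
  have h := unique_inv hc S (z := x.1.1) (t := y.1.1) (by rwa [orderOf_coe, orderOf_coe])
    (by rw [orderOf_coe, orderOf_coe]; exact orderOf_eq_prime hy y1) (key x) x.1.2 (key y) y.1.2
  rw [Subtype.ext (Subtype.ext h : y.1 = x.1)]
  exact mem_zpowers _

end Cfsg.Agent.H17.J3
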