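import Cfsg.Agent.H19.MNa
import Cfsg.Agent.H66.SL2Core
import Cfsg.Agent.H9.SLBasic
import Cfsg.Agent.S0806

/-! In `L₂(13)` and `SL₂(13)` non-normal subgroups have maximal normalisers. -/

set_option autoImplicit false

open Subgroup
open scoped Pointwise MatrixGroups

namespace Cfsg.Agent.H17.L13

open H19 (Kl)

variable {G : Type*} [Group G]

/-- All non-normal subgroups have maximal normalisers. -/
def MN (G : Type*) [Group G] : Prop :=
  ∀ H : Subgroup G, ¬ H.Normal → IsCoatom (normalizer (H : Set G))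

theorem MN.of_surj {Q : Type*} [Group Q] (h : MN Q) (f : G →* Q) (hf : Function.Surjective f)
    (hn : ∀ (H : Subgroup G) (g : G), (∀ k ∈ H, f (g * k * g⁻¹) ∈ H.map f) →
      ∀ k ∈ H, g * k * g⁻¹ ∈ H) : MN G := fun H hH => by
  have e : normalizer (H : Set G) = (normalizer (H.map f : Set Q)).comap f := by
    refine le_antisymm (map_le_iff_le_comap.1 (le_normalizer_map f)) fun g hg => ?_
    have key : ∀ g, g ∈ (normalizer (H.map f : Set Q)).comap f → ∀ k ∈ H, g * k * g⁻¹ ∈ H :=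
      fun g hg => hn H g fun k hk => by
        simpa using (mem_normalizer_iff.1 (mem_comap.1 hg) (f k)).1 (mem_map_of_mem f hk)
    exact mem_normalizer_iff.2 fun k => ⟨key g hg k, fun hk => by
      simpa [mul_assoc] using key g⁻¹ (inv_mem hg) _ hk⟩
  rw [e]
  refine isCoatom_comap_of_surjective hf (h _ fun hN => hH ?_)
  rw [← normalizer_eq_top_iff, e, normalizer_eq_top_iff.2 hN, comap_top]

theorem norm_le [Finite G] {p n m : ℕ} [Fact p.Prime] {P H : Subgroup G} (hP : P ≤ H)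
    (h1 : Nat.card P = p ^ n) (h2 : Nat.card H = p ^ n * m) (h3 : ¬ p ∣ m)
    (h4 : ∀ d, d ∣ m → d % p = 1 % p → d = 1) : normalizer (H : Set G) ≤ normalizer (P : Set G) := by
  have m0 : m ≠ 0 := by rintro rfl; simp at h3
  have hf : (Nat.card H).factorization p = n := by
    rw [h2, Nat.factorization_mul (pow_ne_zero _ (Fact.out : p.Prime).ne_zero) m0]
    simp [(Fact.out : p.Prime).factorization_pow, Nat.factorization_eq_zero_of_not_dvd h3]
  have hc : ∀ Q : Subgroup G, Q ≤ H → Nat.card Q = p ^ n →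
      Nat.card (Q.subgroupOf H) = p ^ (Nat.card H).factorization p := fun Q hQ e => by
    rw [hf, ← e]; exact Nat.card_congr (subgroupOfEquivOfLe hQ).toEquiv
  have h5 : Nat.card (Sylow p H) = 1 := by
    refine h4 _ ((Sylow.card_dvd_index (Sylow.ofCard _ (hc P hP h1))).trans (dvd_of_eq ?_))
      (card_sylow_modEq_one p H)
    have := (P.subgroupOf H).card_mul_index
    rw [hc P hP h1, hf, h2] at this
    exact Nat.eq_of_mul_eq_mul_left (pow_pos (Fact.out : p.Prime).pos n) this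
  have := (Nat.card_eq_one_iff_unique.1 h5).1
  intro g hg
  have hg' : MulAut.conj g • P ≤ H := by
    rintro _ ⟨k, hk, rfl⟩
    exact (mem_normalizer_iff.1 hg k).1 (hP hk)
  have e := congrArg Sylow.toSubgroup (Subsingleton.elim (Sylow.ofCard _ (hc P hP h1))
    (Sylow.ofCard _ (hc _ hg' (by rw [← h1]; exact (Nat.card_congr (equivSMul _ P).toEquiv).symm))))
  simp only [Sylow.coe_ofCard, subgroupOf_inj, inf_of_le_left hP, inf_of_le_left hg'] at e
  exact conjAct_pointwise_smul_iff.1 e.symm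

/-- The facts about `L₂(13)` which are used. -/
structure Hy (a b x y : G) : Prop where
  card : Nat.card G = 1092
  idx : ∀ M : Subgroup G, M ≠ ⊤ → 14 ≤ M.index
  simple : IsSimpleGroup G
  kl : Kl a b
  x3 : orderOf x = 3
  y3 : orderOf y = 3
  ax : a * x = x * a
  bx : b * x * b⁻¹ = x⁻¹
  ya : y * a * y⁻¹ = b
  yb : y * b * y⁻¹ = a * b

namespace Hy

variable [Finite G] {a b x y : G} (h : Hy a b x y)
include h

omit [Finite G] in
theorem card_le {M : Subgroup G} (hM : M ≠ ⊤) : Nat.card M ∣ 1092 ∧ Nat.card M ≤ 78 := by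
  refine ⟨h.card ▸ card_subgroup_dvd_card M, ?_⟩
  have := M.card_mul_index
  have h1 := h.idx M hM
  rw [h.card] at this
  nlinarith

theorem card12 {M : Subgroup G} (hM : M ≠ ⊤) (h3 : 3 ∣ Nat.card M) (h4 : 4 ∣ Nat.card M) :
    Nat.card M = 12 := by
  obtain ⟨h1, h2⟩ := h.card_le hM
  obtain ⟨k, hk⟩ := Nat.Coprime.mul_dvd_of_dvd_of_dvd (by norm_num) h3 h4
  rw [hk] at h1 h2 ⊢
  have : k ≤ 6 := by omega
  interval_cases k <;> simp_all

theorem co12 {M : Subgroup G} (hM : M ≠ ⊤) (h3 : 3 ∣ Nat.card M) (h4 : 4 ∣ Nat.card M) :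
    IsCoatom M := ⟨hM, fun N hN => by_contra fun hN' => hN.ne (eq_of_le_of_card_ge hN.le (by
  rw [h.card12 hM h3 h4, h.card12 hN' (h3.trans (card_dvd_of_le hN.le))
    (h4.trans (card_dvd_of_le hN.le))]))⟩

omit [Finite G] in
theorem norm_ne {P : Subgroup G} (h1 : Nat.card P ≠ 1) (h2 : Nat.card P ≠ 1092) :
    normalizer (P : Set G) ≠ ⊤ := fun e => by
  have := h.simple
  rcases (normalizer_eq_top_iff.1 e).eq_bot_or_eq_top with rfl | rfl
  · simp at h1
  · exact h2 (by simpa using h.card)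

theorem syl {p n : ℕ} [Fact p.Prime] (hn : (1092 : ℕ).factorization p = n) {P Q : Subgroup G}
    (hP : Nat.card P = p ^ n) (hQ : Nat.card Q = p ^ n) : ∃ g : G, MulAut.conj g • P = Q := by
  obtain ⟨g, hg⟩ := MulAction.exists_smul_eq G (Sylow.ofCard P (by rw [h.card, hn, hP]))
    (Sylow.ofCard Q (by rw [h.card, hn, hQ]))
  exact ⟨g, congrArg Sylow.toSubgroup hg⟩

omit h [Finite G] in
theorem card_norm (g : G) (P : Subgroup G) :
    Nat.card (normalizer ((MulAut.conj g • P : Subgroup G) : Set G)) =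
      Nat.card (normalizer (P : Set G)) := by
  have := map_equiv_normalizer_eq P (MulAut.conj g)
  exact (congrArg (fun H : Subgroup G => Nat.card H) this).symm.trans
    (card_map_of_injective (MulAut.conj g).injective)

theorem dvd3 {P : Subgroup G} (hP : Nat.card P = 3) :
    3 ∣ Nat.card (normalizer (P : Set G)) ∧ 4 ∣ Nat.card (normalizer (P : Set G)) := by
  have : Fact (Nat.Prime 3) := ⟨by norm_num⟩
  obtain ⟨g, rfl⟩ := h.syl (p := 3) (n := 1) (by decide +kernel) (P := zpowers x) (Q := P)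
    (by simp [h.x3]) (by simpa using hP)
  rw [card_norm]
  refine ⟨by simpa [h.x3] using card_dvd_of_le (le_normalizer (H := zpowers x)), ?_⟩
  rw [← h.kl.card_V]
  refine card_dvd_of_le (h.kl.V_le (H19.mem_norm_of_comm h.ax) ?_)
  exact H49.mem_norm_of_cj_le (H49.cj_le_iff.2 (zpowers_le.2
    (H49.mem_cj.2 (by simp [h.bx]))))

theorem dvd4 {P : Subgroup G} (hP : Nat.card P = 4) :
    3 ∣ Nat.card (normalizer (P : Set G)) ∧ 4 ∣ Nat.card (normalizer (P : Set G)) := by
  obtain ⟨g, rfl⟩ := h.syl (p := 2) (n := 2) (by decide +kernel) (P := h.kl.V) (Q := P)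
    h.kl.card_V hP
  rw [card_norm]
  refine ⟨?_, h.kl.card_V ▸ card_dvd_of_le le_normalizer⟩
  rw [← h.y3, ← Nat.card_zpowers]
  exact card_dvd_of_le (zpowers_le.2 (h.kl.mem_norm (h.ya ▸ h.kl.t_mem) (h.yb ▸ h.kl.zt_mem)))

theorem dvd2 {P : Subgroup G} (hP : Nat.card P = 2) :
    3 ∣ Nat.card (normalizer (P : Set G)) ∧ 4 ∣ Nat.card (normalizer (P : Set G)) := by
  obtain ⟨t, ht, rfl⟩ : ∃ t : G, orderOf t = 2 ∧ P = zpowers t := by
    obtain ⟨⟨t, ht⟩, h2⟩ := exists_prime_orderOf_dvd_card' (G := P) 2 (by rw [hP])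
    rw [← orderOf_coe] at h2
    exact ⟨t, h2, (eq_of_le_of_card_ge (zpowers_le.2 ht) (by simp [hP, h2])).symm⟩
  obtain ⟨S, hS⟩ := (IsPGroup.of_card (p := 2) (n := 1) hP).exists_le_sylow
  obtain ⟨g, hg⟩ := h.syl (p := 2) (n := 2) (by decide +kernel) (P := h.kl.V) (Q := S)
    h.kl.card_V (by rw [S.card_eq_multiplicity, h.card]; decide +kernel)
  obtain ⟨c, rfl⟩ : ∃ c : G, t = c * a * c⁻¹ := by
    obtain ⟨v, hv, e⟩ : t ∈ MulAut.conj g • h.kl.V := hg ▸ hS (mem_zpowers t)
    change g * v * g⁻¹ = t at e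
    rcases hv with rfl | rfl | rfl | rfl
    · simp [← e] at ht
    · exact ⟨g, e.symm⟩
    · exact ⟨g * y, by rw [← e, ← h.ya]; group⟩
    · exact ⟨g * y * y, by rw [← e, ← h.yb, ← h.ya]; group⟩
  have e : zpowers (c * a * c⁻¹) = MulAut.conj c • zpowers a := (MonoidHom.map_zpowers (MulAut.conj c).toMonoidHom a).symm
  rw [e, card_norm]
  constructor
  · rw [← h.x3, ← Nat.card_zpowers]
    exact card_dvd_of_le (zpowers_le.2 (H19.mem_norm_of_comm h.ax.symm))
  · rw [← h.kl.card_V]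
    exact card_dvd_of_le (h.kl.V_le (H19.mem_norm_of_comm rfl)
      (H19.mem_norm_of_comm h.kl.comm.symm))

theorem big_le {p : ℕ} (hp : p = 7 ∨ p = 13) {P M : Subgroup G} (hP : Nat.card P = p) (hM : M ≠ ⊤)
    (hle : P ≤ M) : ∃ m, Nat.card M = p * m ∧ m ∣ 12 ∧
      normalizer (M : Set G) ≤ normalizer (P : Set G) := by
  obtain ⟨h1, h2⟩ := h.card_le hM
  obtain ⟨m, hm⟩ := hP ▸ card_dvd_of_le hle
  have : Fact p.Prime := ⟨by rcases hp with rfl | rfl <;> norm_num⟩
  rw [hm] at h1 h2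
  have key : m ∣ 12 ∧ m < 7 := by
    have : m ≤ 11 := by rcases hp with rfl | rfl <;> omega
    rcases hp with rfl | rfl <;> interval_cases m <;> simp_all
  have m0 : 0 < m := Nat.pos_of_dvd_of_pos key.1 (by norm_num)
  refine ⟨m, hm, key.1, norm_le (n := 1) (m := m) hle (by simpa using hP) (by simpa using hm)
    (Nat.not_dvd_of_pos_of_lt m0 (by omega)) fun d hd e => ?_⟩
  have := Nat.le_of_dvd m0 hd
  rcases hp with rfl | rfl <;> omega

theorem big {p : ℕ} (hp : p = 7 ∨ p = 13) {H : Subgroup G} (hH : H ≠ ⊤) (hd : p ∣ Nat.card H) :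
    IsCoatom (normalizer (H : Set G)) := by
  have : Fact p.Prime := ⟨by rcases hp with rfl | rfl <;> norm_num⟩
  obtain ⟨⟨u, hu⟩, h2⟩ := exists_prime_orderOf_dvd_card' (G := H) p hd
  rw [← orderOf_coe] at h2
  replace h2 : orderOf u = p := h2
  have hP : Nat.card (zpowers u) = p := by simp [h2]
  have hN := h.norm_ne (P := zpowers u) (by omega) (by omega)
  have hC : centralizer {u} ≤ zpowers u := by
    have h3 : centralizer {u} ≤ normalizer (zpowers u : Set G) := fun c hc =>
      H19.mem_norm_of_comm (mem_centralizer_singleton_iff.1 hc)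
    have h4 : zpowers u ≤ centralizer {u} := zpowers_le.2 (mem_centralizer_singleton_iff.2 rfl)
    obtain ⟨m, hm, h5, -⟩ := h.big_le hp hP (ne_top_of_le_ne_top hN h3) h4
    by_cases m1 : m = 1
    · exact (eq_of_le_of_card_ge h4 (by rw [hm, m1, hP, mul_one])).ge
    obtain ⟨q, hq, hq'⟩ := Nat.exists_prime_and_dvd m1
    have : Fact q.Prime := ⟨hq⟩
    obtain ⟨⟨c, hc⟩, h6⟩ := exists_prime_orderOf_dvd_card' (G := centralizer {u}) q
      (hm ▸ hq'.mul_left p)
    rw [← orderOf_coe] at h6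
    have h7 : Nat.card (zpowers c) = q := by simpa using h6
    have h8 : q = 2 ∨ q = 3 := by
      have h9 := hq'.trans h5
      have := Nat.le_of_dvd (by norm_num) h9
      interval_cases q <;> simp_all (config := {decide := true})
    have h9 := h8.elim (fun e => h.dvd2 (e ▸ h7)) fun e => h.dvd3 (e ▸ h7)
    have := card_dvd_of_le (zpowers_le.2
      (H19.mem_norm_of_comm (mem_centralizer_singleton_iff.1 hc).symm))
    rw [h.card12 (h.norm_ne (by omega) (by omega)) h9.1 h9.2, hP] at this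
    rcases hp with rfl | rfl <;> simp at this
  obtain ⟨-, -, -, h3⟩ := h.big_le hp hP hH (zpowers_le.2 hu)
  have e : normalizer (H : Set G) = normalizer (zpowers u : Set G) := by
    refine le_antisymm h3 ?_
    have key : ∀ g ∈ normalizer (zpowers u : Set G), ∀ k ∈ H, g * k * g⁻¹ ∈ H := fun g hg k hk => by
      obtain ⟨i, hi⟩ := mem_zpowers_iff.1 (H19.conj_mem_of_mem_norm (inv_mem hg) (mem_zpowers u))
      obtain ⟨j, hj⟩ := mem_zpowers_iff.1
        (H19.conj_mem_of_mem_norm (inv_mem (h3 (le_normalizer hk))) (mem_zpowers u))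
      have e1 : (g * k)⁻¹ * u * (g * k) = u ^ (j * i) := by
        rw [zpow_mul, hj, conj_zpow, hi]; group
      have e2 : (k * g)⁻¹ * u * (k * g) = u ^ (j * i) := by
        rw [mul_comm j, zpow_mul, hi, conj_zpow, hj]; group
      have : g * k * g⁻¹ * k⁻¹ ∈ centralizer {u} := mem_centralizer_singleton_iff.2 (by
        calc g * k * g⁻¹ * k⁻¹ * u = g * k * ((k * g)⁻¹ * u * (k * g)) * (k * g)⁻¹ := by group
          _ = g * k * ((g * k)⁻¹ * u * (g * k)) * (k * g)⁻¹ := by rw [e1, e2]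
          _ = u * (g * k * g⁻¹ * k⁻¹) := by group)
      simpa using H.mul_mem (zpowers_le.2 hu (hC this)) hk
    exact fun g hg => mem_normalizer_iff.2 fun k => ⟨key g hg k, fun hk => by
      simpa [mul_assoc] using key g⁻¹ (inv_mem hg) _ hk⟩
  rw [e]
  refine ⟨hN, fun M hM => by_contra fun hM' => hM.not_ge ?_⟩
  obtain ⟨-, -, -, h4⟩ := h.big_le hp hP hM' (le_normalizer.trans hM.le)
  exact le_normalizer.trans h4

theorem mn : MN G := fun H hH => by
  have hT : H ≠ ⊤ := by rintro rfl; exact hH inferInstance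
  by_cases h7 : 7 ∣ Nat.card H
  · exact h.big (Or.inl rfl) hT h7
  by_cases h13 : 13 ∣ Nat.card H
  · exact h.big (Or.inr rfl) hT h13
  suffices 3 ∣ Nat.card (normalizer (H : Set G)) ∧ 4 ∣ Nat.card (normalizer (H : Set G)) from
    h.co12 (fun e => hH (normalizer_eq_top_iff.1 e)) this.1 this.2
  have h1 : Nat.card H ∣ 12 := by
    have := (h.card_le hT).1
    rw [show 1092 = 12 * 7 * 13 by norm_num] at this
    exact ((Nat.Prime.coprime_iff_not_dvd (by norm_num)).2 h7).symm.dvd_of_dvd_mul_right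
      (((Nat.Prime.coprime_iff_not_dvd (by norm_num)).2 h13).symm.dvd_of_dvd_mul_right this)
  have h2 : Nat.card H = 1 ∨ Nat.card H = 2 ∨ Nat.card H = 3 ∨ Nat.card H = 4 ∨ Nat.card H = 6 ∨
      Nat.card H = 12 := by
    have := Nat.le_of_dvd (by norm_num) h1
    generalize Nat.card H = n at *
    interval_cases n <;> simp_all
  rcases h2 with e | e | e | e | e | e
  · exact (hH (card_eq_one.1 e ▸ inferInstance)).elim
  · exact h.dvd2 e
  · exact h.dvd3 e
  · exact h.dvd4 e
  · have : Fact (Nat.Prime 3) := ⟨by norm_num⟩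
    obtain ⟨⟨u, hu⟩, h2⟩ := exists_prime_orderOf_dvd_card' (G := H) 3 (by rw [e]; norm_num)
    rw [← orderOf_coe] at h2
    have hP : Nat.card (zpowers u) = 3 := by simpa using h2
    have h3 := le_normalizer.trans (norm_le (p := 3) (n := 1) (m := 2) (zpowers_le.2 hu) hP e
      (by norm_num) fun d hd e => by have := Nat.le_of_dvd two_pos hd; omega)
    have h4 := h.dvd3 hP
    have h5 : (H.subgroupOf (normalizer (zpowers u : Set G))).index = 2 := by
      have := (H.subgroupOf (normalizer (zpowers u : Set G))).card_mul_index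
      rw [h.card12 (h.norm_ne (by omega) (by omega)) h4.1 h4.2,
        Nat.card_congr (subgroupOfEquivOfLe h3).toEquiv, e] at this
      omega
    have h6 := card_dvd_of_le
      ((normal_subgroupOf_iff_le_normalizer h3).1 (normal_of_index_eq_two h5))
    exact ⟨h4.1.trans h6, h4.2.trans h6⟩
  · have := card_dvd_of_le (le_normalizer (H := H))
    rw [e] at this
    exact ⟨Nat.dvd_trans (by norm_num) this, Nat.dvd_trans (by norm_num) this⟩

end Hy

instance : Fact (Nat.Prime 13) := ⟨by norm_num⟩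

/-- The projection to `L₂(13)`. -/
abbrev pr : SL(2, ZMod 13) →* PSL(2, ZMod 13) := QuotientGroup.mk' _

theorem pr_eq {A B : SL(2, ZMod 13)} : pr A = pr B ↔ A = B ∨ A = -B := by
  rw [eq_comm, ← mul_inv_eq_one, ← map_inv, ← map_mul, ← MonoidHom.mem_ker, QuotientGroup.ker_mk',
    H66.sl2_mem_center_iff, mul_inv_eq_one, mul_inv_eq_iff_eq_mul, neg_one_mul, eq_comm,
    eq_comm (a := B), neg_eq_iff_eq_neg]

/-- An element of order four. -/
def mA : SL(2, ZMod 13) := ⟨!![5, 0; 0, 8], by decide⟩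
/-- An element of order four. -/
def mB : SL(2, ZMod 13) := ⟨!![0, 1; 12, 0], by decide⟩
/-- An element of order three. -/
def mX : SL(2, ZMod 13) := ⟨!![3, 0; 0, 9], by decide⟩
/-- An element of order three. -/
def mY : SL(2, ZMod 13) := ⟨!![10, 10; 11, 2], by decide⟩

theorem mn_psl : MN PSL(2, ZMod 13) := by
  have : Fact (Nat.Prime 3) := ⟨by norm_num⟩
  have h1 : ∀ A : SL(2, ZMod 13), pr A = 1 ↔ A = 1 ∨ A = -1 := fun A => pr_eq (B := 1)
  refine Hy.mn (a := pr mA) (b := pr mB) (x := pr mX) (y := pr mY)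
    ⟨?_, (S0806.result (ZMod.card 13) (by decide)).1,
      Matrix.ProjectiveSpecialLinearGroup.rank_two_simple (by simp), ⟨?_, ?_, ?_, ?_, ?_, ?_⟩,
      orderOf_eq_prime ?_ ?_, orderOf_eq_prime ?_ ?_, ?_, ?_, ?_, ?_⟩
  · have := H9.gcd_mul_card_psl_two (F := ZMod 13)
    rw [ZMod.card, show Nat.gcd 2 (13 - 1) = 2 by norm_num] at this
    omega
  all_goals
    simp only [← map_inv pr, ← map_mul pr, ← map_pow pr, ne_eq, h1, pr_eq]
    decide +kernel

theorem mn_sl : MN SL(2, ZMod 13) := mn_psl.of_surj pr (QuotientGroup.mk'_surjective _)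
  fun H g hg k hk => by
    by_cases h1 : -1 ∈ H
    · obtain ⟨k', hk', e⟩ := hg k hk
      rcases pr_eq.1 e.symm with e | e
      · exact e ▸ hk'
      · rw [e, ← neg_one_mul]; exact H.mul_mem h1 hk'
    · obtain ⟨m, hm⟩ : Odd (orderOf k) := Nat.not_even_iff_odd.1 fun ⟨m, hm⟩ => by
        have := orderOf_pos k
        rcases (H66.mul_self_eq_one_iff (k ^ m) (by decide)).1
          (by rw [← pow_add, ← hm, pow_orderOf_eq_one]) with e | e
        · exact pow_ne_one_of_lt_orderOf (by omega) (by omega) e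
        · exact h1 (e ▸ H.pow_mem hk m)
      obtain ⟨k', hk', e⟩ := hg _ (H.pow_mem hk (m + 1))
      have : g * k * g⁻¹ = (g * k ^ (m + 1) * g⁻¹) ^ 2 := by
        rw [conj_pow, ← pow_mul, show (m + 1) * 2 = orderOf k + 1 by omega, pow_succ,
          pow_orderOf_eq_one, one_mul]
      rw [this]
      rcases pr_eq.1 e.symm with e | e
      · exact e ▸ H.pow_mem hk' 2
      · rw [e, neg_sq]; exact H.pow_mem hk' 2

theorem MN.prod {K S : Type*} [Group K] [CommGroup S] [Finite K] [Finite S] (h : MN K)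
    (hKS : (Nat.card K).Coprime (Nat.card S)) : MN (K × S) :=
  h.of_surj (MonoidHom.fst K S) Prod.fst_surjective fun H g hg k hk => by
    have key : ∀ k ∈ H, (k.1, 1) ∈ H := fun k hk => by
      obtain ⟨n, h1, h2⟩ := Nat.chineseRemainder hKS 1 0
      have := H.pow_mem hk n
      rwa [← Prod.mk.eta (p := k ^ n), Prod.pow_fst, Prod.pow_snd,
        (pow_eq_pow_iff_modEq.2 (h1.of_dvd (orderOf_dvd_natCard _)) : k.1 ^ n = k.1 ^ 1),
        (pow_eq_pow_iff_modEq.2 (h2.of_dvd (orderOf_dvd_natCard _)) : k.2 ^ n = k.2 ^ 0), pow_one,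
        pow_zero] at this
    obtain ⟨k', hk', e⟩ := hg k hk
    convert H.mul_mem (key k' hk') (H.mul_mem (H.inv_mem (key k hk)) hk) using 1
    refine Prod.ext ?_ ?_
    · simpa using e.symm
    · simp

end Cfsg.Agent.H17.L13
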