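import Cfsg.Agent.H17.Pres
import Cfsg.Prelude.Def_Spor_Ly

set_option autoImplicit false
set_option maxRecDepth 100000
set_option exponentiation.threshold 400000

namespace Cfsg.Agent.H17.LyP

open Cfsg Cfsg.Agent.H58 Cfsg.Agent.H17

def L : List (FreeGroup Spor.Ly.Gen) := [1, Spor.Ly.a, Spor.Ly.a⁻¹, Spor.Ly.b, Spor.Ly.b⁻¹, Spor.Ly.c, Spor.Ly.c⁻¹, Spor.Ly.d, Spor.Ly.d⁻¹, Spor.Ly.z, Spor.Ly.z⁻¹, Spor.Ly.c5, Spor.Ly.c5⁻¹, Spor.Ly.e, Spor.Ly.e⁻¹]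

def defs : List (Spor.Ly.Gen × FreeGroup Spor.Ly.Gen) := [(.x371, FreeGroup.mk [(.c, false), (.a, false), (.c, true), (.b, true), (.c, false), (.d, false), (.c, true), (.a, false), (.c, true), (.a, true), (.c, true), (.b, false), (.a, false), (.b, false), (.a, false), (.b, true)]),
  (.x370, FreeGroup.mk [(.d, false), (.a, true), (.c, true), (.b, true), (.c, true), (.a, false), (.c, false), (.d, false), (.a, true), (.b, false), (.a, false), (.c, true), (.a, false), (.b, false), (.b, false), (.a, false), (.b, true), (.a, false)]),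
  (.x369, FreeGroup.mk [(.a, false), (.c, false), (.d, false), (.b, true), (.a, false), (.b, false), (.c, false), (.d, false), (.b, true), (.a, false), (.b, false), (.c, false), (.b, false), (.a, true), (.b, false), (.b, false), (.a, true), (.b, false)]),
  (.x368, FreeGroup.mk [(.a, false), (.c, false), (.d, false), (.a, true), (.c, false), (.b, false), (.a, true), (.c, false), (.d, false), (.a, false), (.c, false), (.a, true), (.c, true), (.b, false), (.b, false), (.c, false), (.b, false), (.a, false), (.b, false), (.b, false)]),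
  (.x367, FreeGroup.mk [(.c, false), (.b, false), (.c, false), (.d, false), (.b, true), (.b, true), (.c, false), (.d, false), (.b, false), (.c, false), (.b, false), (.b, false), (.c, false), (.b, true), (.a, true), (.b, true), (.b, true), (.a, true), (.b, true), (.a, false), (.b, false)]),
  (.x366, FreeGroup.mk [(.b, true), (.a, true), (.b, false), (.a, false), (.b, false), (.b, false), (.a, false), (.b, false), (.c, true), (.b, true), (.b, true), (.c, true), (.b, true), (.d, true), (.c, true), (.b, false), (.b, false), (.d, true), (.c, true), (.b, true), (.c, true)]),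
  (.x365, FreeGroup.mk [(.a, true), (.b, false), (.b, false), (.a, false), (.c, true), (.b, true), (.c, false), (.b, true), (.a, false), (.c, false), (.c, false), (.d, true), (.c, true), (.a, true), (.c, true), (.a, false), (.c, true), (.b, false), (.d, false)]),
  (.x364, FreeGroup.mk [(.a, false), (.d, true), (.b, false), (.c, false), (.a, false), (.b, true), (.c, false), (.d, false), (.b, true), (.c, false), (.b, false), (.a, false), (.c, false), (.a, true), (.b, false), (.a, true), (.b, true), (.a, true), (.b, false)]),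
  (.x169, FreeGroup.mk [(.a, true), (.b, true), (.b, true), (.a, true), (.b, false), (.b, false), (.a, false)]),
  (.x168, FreeGroup.mk [(.b, true), (.a, false), (.b, false), (.a, false), (.a, false)]),
  (.x167, FreeGroup.mk [(.a, false), (.a, false), (.a, false)]),
  (.x166, FreeGroup.mk [(.b, true), (.b, true), (.a, false), (.b, false), (.c, true), (.b, true), (.a, true), (.c, true), (.b, false), (.b, false), (.c, false)]),
  (.x165, FreeGroup.mk [(.b, false), (.a, false), (.b, true), (.c, true), (.b, false), (.a, true), (.b, true)]),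
  (.x164, FreeGroup.mk [(.a, false), (.b, false), (.a, false), (.c, true), (.a, true), (.b, true), (.a, true)]),
  (.x163, FreeGroup.mk [(.b, false), (.b, false), (.a, true), (.c, true), (.a, false), (.b, true), (.c, true), (.b, true)]),
  (.x162, FreeGroup.mk [(.a, false), (.b, false), (.a, false), (.b, true), (.c, false), (.b, false), (.a, true), (.c, false), (.b, true), (.a, true)]),
  (.x129, FreeGroup.mk [(.d, false), (.b, false)]),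
  (.x96, FreeGroup.mk [(.b, true), (.d, true)]),
  (.x47, FreeGroup.mk [(.c, false), (.d, false), (.a, false), (.c, false), (.a, false), (.b, true), (.c, false), (.d, false)]),
  (.x29, FreeGroup.mk [(.a, true), (.b, true), (.a, false), (.b, true), (.b, true), (.a, false), (.b, true), (.b, true), (.c, false), (.a, true), (.c, true), (.b, true), (.c, true), (.b, false), (.d, true), (.c, true), (.b, false), (.b, false), (.d, true), (.c, true), (.b, true), (.c, true)]),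
  (.x25, FreeGroup.mk [(.b, true), (.b, true), (.a, false), (.b, false), (.a, false), (.b, true), (.b, true), (.c, false), (.a, true), (.c, true), (.a, false), (.c, false), (.d, true), (.c, false), (.b, true), (.b, true), (.a, false), (.c, true), (.b, true)]),
  (.x24, FreeGroup.mk [(.d, false)]),
  (.x23, FreeGroup.mk [(.d, true)]),
  (.u, FreeGroup.mk [(.a, true), (.a, true)]),
  (.a4, FreeGroup.mk [(.b, false), (.b, false), (.a, true), (.b, true), (.b, true)]),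
  (.a3, FreeGroup.mk [(.b, true), (.b, true), (.a, true), (.b, false), (.b, false)]),
  (.a2, FreeGroup.mk [(.b, true), (.a, true), (.b, false)]),
  (.a1, FreeGroup.mk [(.a, true)]),
  (.c4, FreeGroup.mk [(.b, true), (.c, true), (.b, false)]),
  (.c3, FreeGroup.mk [(.b, false), (.c, true), (.b, true)]),
  (.c2, FreeGroup.mk [(.a, false), (.c, true), (.a, true)]),
  (.c1, FreeGroup.mk [(.c, true)])]

def iv : ℕ := 255740652881964560462909568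

def rels : List (List ℕ) := [[1, 1, 1, 1, 1, 1, 1, 1],
  [3, 3, 3, 3, 3],
  [1, 3, 1, 3, 1, 3, 1, 3],
  [2, 2, 4, 1, 1, 3],
  [2, 4, 1, 3, 2, 4, 1, 3, 2, 4, 1, 3],
  [11, 2, 6, 1, 6, 2, 5, 1, 5],
  [5, 5, 5, 5, 5],
  [11, 11, 11, 11, 11],
  [6, 12, 5, 11],
  [2, 6, 1, 12, 2, 5, 1, 11],
  [4, 6, 3, 12, 4, 5, 3, 11],
  [3, 6, 4, 12, 3, 5, 4, 11],
  [6, 4, 6, 3, 5, 4, 5, 3, 11, 11],
  [6, 3, 6, 4, 5, 3, 5, 4, 12, 12],
  [2, 6, 1, 4, 6, 3, 2, 5, 1, 4, 5, 3, 11],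
  [2, 6, 1, 3, 6, 4, 2, 5, 1, 3, 5, 4],
  [4, 6, 3, 3, 6, 4, 4, 5, 3, 3, 5, 4, 11],
  [2, 2, 5, 1, 1, 5, 5],
  [2, 4, 5, 3, 1, 3, 6, 4, 6, 4, 5, 5, 3],
  [2, 3, 5, 4, 1, 3, 6, 4, 6, 3, 6, 4, 4, 5, 3, 2, 5, 1, 6],
  [2, 11, 1, 12, 12],
  [4, 2, 5, 1, 3, 3, 5, 4, 5, 3, 5, 4, 4, 6, 3, 2, 6, 1],
  [4, 4, 5, 3, 5, 5, 3, 3, 6, 4, 6, 6],
  [4, 11, 3, 12],
  [13, 8, 6, 8, 3, 2, 4, 6, 8, 2, 6, 1, 6, 2, 5, 1, 3, 3],
  [13, 13],
  [14, 5, 13, 5, 4, 4, 6],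
  [14, 4, 5, 3, 13, 1, 3, 5, 4, 5, 2, 6, 4, 4],
  [14, 3, 5, 4, 13, 3, 6, 4, 4, 5, 4],
  [14, 11, 13, 3, 5, 4, 6, 4, 5, 3, 6],
  [13, 1, 1, 13, 3, 5, 4, 12, 6, 2, 3, 2, 4, 4, 2],
  [14, 3, 13, 3, 5, 5, 4, 4, 5, 3, 6],
  [13, 1, 3, 3, 1, 4, 1, 13, 3, 5, 4, 12, 6, 2, 2],
  [13, 2, 5, 1, 13, 2, 6, 1, 13, 2, 5, 1, 3, 6, 4, 1, 4, 5, 3, 1, 1, 1],
  [7, 14, 4, 2, 5, 14, 2, 14, 2, 11, 3, 5, 4, 5, 3, 1, 4, 4, 2],
  [7, 7, 2, 2, 2, 2],
  [4, 8, 3, 7],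
  [8, 1, 7, 2, 2, 2],
  [7, 11, 7, 11, 7, 11, 7, 11, 7, 11],
  [7, 11, 7, 12, 7, 11, 2, 2],
  [10, 5, 9, 2, 4, 5, 2, 3, 5, 4, 1, 3, 1],
  [10, 2, 5, 1, 9, 4, 6, 4, 1, 6, 2, 3, 3],
  [10, 4, 5, 3, 9, 2, 4, 2, 6, 1, 3, 1],
  [10, 3, 5, 4, 9, 4, 2, 3, 6, 4, 1, 3],
  [10, 11, 9, 5, 3, 3, 6, 2, 4, 6, 3, 1, 4, 4],
  [10, 1, 9, 1, 1, 1],
  [10, 3, 1, 4, 9, 1, 1, 3, 1, 4],
  [10, 3, 3, 1, 4, 4, 9, 1, 3, 3, 2, 4, 4, 2],
  [9, 9, 2, 2],
  [4, 4, 1, 3, 3, 9, 4, 4, 1, 3, 3, 9, 4, 4, 1, 3, 3, 9, 1, 1],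
  [9, 2, 7, 4, 6, 2, 3, 6, 8, 3, 6, 4, 2, 6, 1, 4, 1, 3, 1, 4, 9, 2, 6, 8, 1, 6, 4, 1, 6, 8, 2, 6, 1, 5, 4, 4, 6, 4, 2, 4, 4, 9, 6, 8, 2, 6, 2, 3, 6, 8],
  [10, 8, 10, 2, 6, 8, 3, 2, 4, 6, 8, 3, 2, 4, 6, 4, 1, 4, 4, 1, 4, 9, 7, 9, 1, 3, 2, 3, 3, 2, 3, 3, 6, 1, 5, 3, 5, 4, 7, 5, 4, 4, 7, 5, 3, 5],
  [9, 3, 1, 4, 2, 4, 4, 2, 4, 5, 3, 3, 5, 3, 7, 5, 4, 4, 7, 5, 3, 5, 9, 1, 4, 4, 2, 5, 3, 6, 3, 2, 6, 6, 7, 5, 1, 5, 2, 5, 4, 8, 10, 6, 4, 6, 8, 3, 3, 6, 8, 4, 6, 4, 4, 6, 3, 1, 3, 3, 1, 3, 2, 4, 10, 8, 1, 5, 3, 5, 2, 6, 8, 1, 4, 2, 5, 2, 4, 4, 2, 3, 2],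
  [9, 3, 7, 9, 3, 3, 2, 4, 2, 3, 3, 6, 1, 5, 2, 6, 7, 6, 3, 3, 2, 5, 3, 10, 8, 4, 10, 6, 2, 5, 3, 6, 8, 5, 2, 5, 1, 5, 4, 2, 4, 2, 3]]

def wit : List (ℕ × List ℕ) := [(0, []), (1, []), (2, []), (3, []), (4, []), (9, []), (10, []), (11, []), (12, []), (13, []), (14, []), (15, []), (16, []), (17, []), (18, []), (19, []), (20, []), (21, []), (22, []), (23, []), (24, []), (25, []), (26, []), (27, []), (28, []), (29, []), (30, []), (31, []), (32, []), (33, []), (34, []), (35, []), (36, []), (37, []), (38, []), (39, []), (40, []), (41, []), (42, []), (43, []), (72, []), (73, []), (74, []), (75, []), (76, []), (77, []), (78, []), (79, []), (80, []), (81, []), (82, [6, 8, 2, 6, 2, 3, 6, 8]), (83, []), (84, []), (85, [])]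

theorem words : wordsOK L (coxAll Spor.Ly.edges ++ Spor.Ly.extra) defs iv rels wit [] = true := by
  decide +kernel

/-- the projection from the free group -/
abbrev π : FreeGroup Spor.Ly.Gen →* Spor.Ly :=
  PresentedGroup.mk (Spor.coxRelators Spor.Ly.edges ∪ {r | r ∈ Spor.Ly.extra})

/-- the letters: 1 = a, 3 = b, 5 = c, 7 = d, 9 = z, 11 = c5, 13 = e; even numbers are the inverses -/
def el : ℕ → Spor.Ly := elOf π L

theorem R : RuleOK el rels iv := ruleOK_of_wordsOK π (mk_allRels _ _) words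

def allG : List Spor.Ly.Gen := [.a, .b, .c, .d, .z, .e, .a1, .a2, .a3, .a4, .c1, .c2, .c3, .c4, .c5, .u, .x23, .x24, .x25, .x29, .x47, .x96, .x129, .x162, .x163, .x164, .x165, .x166, .x167, .x168, .x169, .x364, .x365, .x366, .x367, .x368, .x369, .x370, .x371]

theorem hall : ∀ g, g ∈ allG := by intro g; cases g <;> decide

def ws : List (List ℕ) := [[1], [3], [5], [7], [9], [13], [1], [3, 1, 4], [3, 3, 1, 4, 4], [4, 4, 1, 3, 3], [5], [2, 5, 1], [4, 5, 3], [3, 5, 4], [11], [1, 1], [7], [8], [3, 3, 2, 4, 2, 3, 3, 6, 1, 5, 2, 6, 7, 6, 3, 3, 2, 5, 3], [1, 3, 2, 3, 3, 2, 3, 3, 6, 1, 5, 3, 5, 4, 7, 5, 4, 4, 7, 5, 3, 5], [6, 8, 2, 6, 2, 3, 6, 8], [3, 7], [8, 4], [2, 4, 2, 3, 6, 4, 1, 6, 3, 1], [4, 4, 1, 5, 2, 3, 5, 3], [2, 4, 2, 5, 1, 3, 1], [4, 2, 3, 5, 4, 1, 3], [3, 3, 2, 4, 5, 3, 1, 5, 4, 4, 6], [2, 2, 2], [3, 2, 4, 2, 2], [1, 3, 3, 1, 4, 4, 2], [2, 7, 4, 6, 2, 3, 6, 8,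 3, 6, 4, 2, 6, 1, 4, 1, 3, 1, 4], [1, 4, 4, 2, 5, 3, 6, 3, 2, 6, 6, 7, 5, 1, 5, 2, 5, 4, 8], [3, 1, 4, 2, 4, 4, 2, 4, 5, 3, 3, 5, 3, 7, 5, 4, 4, 7, 5, 3, 5], [6, 4, 6, 8, 3, 3, 6, 8, 4, 6, 4, 4, 6, 3, 1, 3, 3, 1, 3, 2, 4], [2, 6, 8, 1, 6, 4, 1, 6, 8, 2, 6, 1, 5, 4, 4, 6, 4, 2, 4, 4], [2, 6, 8, 3, 2, 4, 6, 8, 3, 2, 4, 6, 4, 1, 4, 4, 1, 4], [8, 1, 5, 3, 5, 2, 6, 8, 1, 4, 2, 5, 2, 4, 4, 2, 3, 2], [6, 2, 5, 3, 6, 8, 5, 2, 5, 1, 5, 4, 2, 4, 2, 3]]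

theorem top : clL el [1, 2, 3, 4, 5, 6, 7, 8, 9, 10, 11, 12, 13, 14] = ⊤ :=
  top_of_letters hall (defs := defs) (ws := ws) (by decide +kernel)

end Cfsg.Agent.H17.LyP
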