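import Cfsg.Agent.H17.DCEModel
import Cfsg.Agent.H17.LyP
import Cfsg.Agent.H17.Mod.LyM0
import Cfsg.Agent.H17.Mod.LyM1

set_option autoImplicit false
set_option maxRecDepth 100000
set_option exponentiation.threshold 400000

namespace Cfsg.Agent.H17.LyF

open Cfsg Cfsg.Agent.H58 Cfsg.Agent.H17

def LW : List (List ℕ) := [[], [], [10], [10, 13], [10, 14, 8], [10, 8], [10, 8, 10], [10, 8, 10, 8], [10, 8, 10, 8, 10], [10, 8, 4, 10], [10, 8, 10, 11, 8], [10, 8, 10, 8, 10, 6, 2, 13], [10, 8, 4, 10, 11, 8], [10, 8, 10, 8, 10, 14, 12, 6, 8], [10, 8, 10, 8, 10, 6, 4, 6, 8], [10, 8, 10, 14, 8], [10, 8, 10, 8, 10, 6, 14, 8], [10, 8, 4, 10, 14, 12, 8]]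

noncomputable def FT0 : ℕ → Fct := (ndA (nat_lit 8) (ndA (nat_lit 4) (ndA (nat_lit 2) (ndA (nat_lit 1) (lfA (⟨0, [1], 0, []⟩ : Fct)) (lfA (⟨0, [3], 0, []⟩ : Fct))) (ndA (nat_lit 3) (lfA (⟨0, [5], 0, []⟩ : Fct)) (lfA (⟨0, [7], 0, []⟩ : Fct)))) (ndA (nat_lit 6) (ndA (nat_lit 5) (lfA (⟨0, [], 1, []⟩ : Fct)) (lfA (⟨1, [1], 1, []⟩ : Fct))) (ndA (nat_lit 7) (lfA (⟨1, [3], 1, []⟩ : Fct)) (lfA (⟨1, [5], 1, []⟩ : Fct))))) (ndA (nat_lit 12) (ndA (nat_lit 10) (ndA (nat_lit 9) (lfA (⟨1, [10], 2, []⟩ : Fct)) (lfA (⟨2, [2, 2, 2], 2, []⟩ : Fct))) (ndA (nat_lit 11) (lfA (⟨2, [1, 3, 5, 4, 5, 11, 2, 3, 6, 4], 2, []⟩ : Fct)) (lfA (⟨2, [2, 2, 3, 2, 4], 2, []⟩ : Fct)))) (ndA (nat_lit 14) (ndA (nat_lit 13) (lfA (⟨2, [1, 3, 3, 1, 4, 4, 2], 2, []⟩ : Fct)) (lfA (⟨2, [13], 3, []⟩ :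 Fct))) (ndA (nat_lit 15) (lfA (⟨3, [11, 11], 3, []⟩ : Fct)) (lfA (⟨3, [1, 4, 4, 2, 6, 3, 2, 3], 3, []⟩ : Fct))))))
noncomputable def FT1 : ℕ → Fct := (ndA (nat_lit 24) (ndA (nat_lit 20) (ndA (nat_lit 18) (ndA (nat_lit 17) (lfA (⟨3, [1, 4, 4, 2, 5, 3, 1, 5, 3, 5], 3, []⟩ : Fct)) (lfA (⟨3, [2, 4, 4, 6, 1, 3, 5, 1, 6, 12], 3, []⟩ : Fct))) (ndA (nat_lit 19) (lfA (⟨2, [1, 5, 4, 5, 5, 1, 4, 6, 13, 1, 4], 3, [3, 5, 1, 1, 4, 9]⟩ : Fct)) (lfA (⟨2, [1, 5, 4, 5, 5, 1, 4, 6, 13, 1, 4], 3, [3, 5, 1, 1, 4, 9]⟩ : Fct)))) (ndA (nat_lit 22) (ndA (nat_lit 21) (lfA (⟨3, [10, 5, 2, 5, 1, 4, 4, 2, 4, 2], 3, []⟩ : Fct)) (lfA (⟨2, [14, 8], 4, []⟩ : Fct))) (ndA (nat_lit 23) (lfA (⟨4, [1, 3, 5, 2, 4, 4, 6, 2, 5, 4], 4, []⟩ : Fct)) (lfA (⟨4, [1, 3, 5, 2, 4, 4, 6, 2, 5, 3], 4, []⟩ :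 Fct))))) (ndA (nat_lit 28) (ndA (nat_lit 26) (ndA (nat_lit 25) (lfA (⟨4, [1, 1, 1, 11, 1, 5, 3, 3, 6, 4], 4, []⟩ : Fct)) (lfA (⟨4, [1, 4, 6, 4, 1, 5, 3, 1], 4, []⟩ : Fct))) (ndA (nat_lit 27) (lfA (⟨2, [8], 5, []⟩ : Fct)) (lfA (⟨5, [2], 5, []⟩ : Fct)))) (ndA (nat_lit 30) (ndA (nat_lit 29) (lfA (⟨5, [3, 2, 4], 5, []⟩ : Fct)) (lfA (⟨5, [3, 3, 2, 4, 4], 5, []⟩ : Fct))) (ndA (nat_lit 31) (lfA (⟨5, [10], 6, []⟩ : Fct)) (lfA (⟨6, [1, 1, 1], 6, []⟩ : Fct))))))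
noncomputable def FT2 : ℕ → Fct := (ndA (nat_lit 40) (ndA (nat_lit 36) (ndA (nat_lit 34) (ndA (nat_lit 33) (lfA (⟨6, [1, 1, 3, 1, 4], 6, []⟩ : Fct)) (lfA (⟨6, [1, 1, 3, 3, 1, 4, 4], 6, []⟩ : Fct))) (ndA (nat_lit 35) (lfA (⟨5, [4, 4, 1, 3, 1, 9], 6, [8, 2, 4, 2, 14, 3, 5, 3, 5, 3, 2]⟩ : Fct)) (lfA (⟨5, [4, 4, 1, 3, 1, 9], 6, [8, 2, 4, 2, 14, 3, 5, 3, 5, 3, 2]⟩ : Fct)))) (ndA (nat_lit 38) (ndA (nat_lit 37) (lfA (⟨6, [2, 5, 3, 5, 1, 3, 2, 5, 13, 1, 3, 7], 6, []⟩ : Fct)) (lfA (⟨6, [8], 7, []⟩ : Fct))) (ndA (nat_lit 39) (lfA (⟨7, [1], 7, []⟩ : Fct)) (lfA (⟨7, [3, 1, 4], 7, []⟩ : Fct))))) (ndA (nat_lit 44) (ndA (nat_lit 42) (ndA (nat_lit 41) (lfA (⟨7, [3, 3, 1, 4, 4], 7, []⟩ : Fct)) (lfA (⟨6, [1, 4, 2, 4, 4, 5, 3, 2, 13, 1, 4], 7, [3, 1, 4, 2, 6, 3, 2, 12, 9]⟩ :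 Fct))) (ndA (nat_lit 43) (lfA (⟨6, [1, 4, 2, 4, 4, 5, 3, 2, 13, 1, 4], 7, [3, 1, 4, 2, 6, 3, 2, 12, 9]⟩ : Fct)) (lfA (⟨7, [1, 4, 4, 1, 3, 1, 4, 9, 3], 7, []⟩ : Fct)))) (ndA (nat_lit 46) (ndA (nat_lit 45) (lfA (⟨7, [10], 8, []⟩ : Fct)) (lfA (⟨8, [2, 2, 2], 8, []⟩ : Fct))) (ndA (nat_lit 47) (lfA (⟨8, [2, 2, 3, 2, 4], 8, []⟩ : Fct)) (lfA (⟨8, [1, 3, 3, 1, 4, 4, 2], 8, []⟩ : Fct))))))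
noncomputable def FT3 : ℕ → Fct := (ndA (nat_lit 56) (ndA (nat_lit 52) (ndA (nat_lit 50) (ndA (nat_lit 49) (lfA (⟨8, [4, 1, 3, 3, 2, 3], 8, []⟩ : Fct)) (lfA (⟨4, [2, 5, 1, 6, 4, 1, 4, 4, 2, 9], 8, [2, 4, 2, 14, 11, 1, 3, 2, 6, 3, 6, 2]⟩ : Fct))) (ndA (nat_lit 51) (lfA (⟨4, [2, 5, 1, 6, 4, 1, 4, 4, 2, 9], 8, [2, 4, 2, 14, 11, 1, 3, 2, 6, 3, 6, 2]⟩ : Fct)) (lfA (⟨4, [1, 4, 5, 4, 4, 1, 3, 2, 4, 9], 8, [8, 4, 2, 14, 3, 5, 3, 5, 3, 2, 2, 2]⟩ : Fct)))) (ndA (nat_lit 54) (ndA (nat_lit 53) (lfA (⟨4, [1, 4, 5, 4, 4, 1, 3, 2, 4, 9], 8, [8, 4, 2, 14, 3, 5, 3, 5, 3, 2, 2, 2]⟩ : Fct)) (lfA (⟨8, [2, 2, 4, 4, 2, 4, 7], 8, []⟩ : Fct))) (ndA (nat_lit 55) (lfA (⟨4, [4, 1, 4, 5, 4, 1, 4, 9], 8, [1, 3, 1, 3, 12, 7, 6, 13, 1, 11, 8]⟩ : Fct)) (lfA (⟨4, [4, 1, 4, 5, 4, 1, 4, 9],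 8, [1, 3, 1, 3, 12, 7, 6, 13, 1, 11, 8]⟩ : Fct))))) (ndA (nat_lit 60) (ndA (nat_lit 58) (ndA (nat_lit 57) (lfA (⟨8, [12, 8, 12, 12, 3, 3], 8, []⟩ : Fct)) (lfA (⟨5, [4, 10], 9, []⟩ : Fct))) (ndA (nat_lit 59) (lfA (⟨9, [1, 1, 3, 1, 4], 9, []⟩ : Fct)) (lfA (⟨9, [1, 1, 3, 3, 1, 4, 4], 9, []⟩ : Fct)))) (ndA (nat_lit 62) (ndA (nat_lit 61) (lfA (⟨5, [4, 2, 4, 4, 2, 9], 9, [1, 3, 3, 2, 5, 1, 4, 5, 2, 7, 5, 2, 13, 12, 12]⟩ : Fct)) (lfA (⟨5, [4, 2, 4, 4, 2, 9], 9, [1, 3, 3, 2, 5, 1, 4, 5, 2, 7, 5, 2, 13, 12, 12]⟩ : Fct))) (ndA (nat_lit 63) (lfA (⟨9, [4, 2, 6, 6, 4, 5, 4, 2, 6, 7, 5, 1, 4, 2, 5, 4], 9, []⟩ : Fct)) (lfA (⟨6, [11, 8], 10, []⟩ : Fct))))))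
noncomputable def FT4 : ℕ → Fct := (ndA (nat_lit 72) (ndA (nat_lit 68) (ndA (nat_lit 66) (ndA (nat_lit 65) (lfA (⟨10, [3, 1, 4, 2], 10, []⟩ : Fct)) (lfA (⟨10, [3, 3, 1, 4, 4, 2], 10, []⟩ : Fct))) (ndA (nat_lit 67) (lfA (⟨6, [1, 5, 3, 2, 6, 6, 4, 2, 5, 4, 11, 7], 10, [4, 4, 1, 6, 3, 6, 2, 5, 11, 9]⟩ : Fct)) (lfA (⟨6, [1, 5, 3, 2, 6, 6, 4, 2, 5, 4, 11, 7], 10, [4, 4, 1, 6, 3, 6, 2, 5, 11, 9]⟩ : Fct)))) (ndA (nat_lit 70) (ndA (nat_lit 69) (lfA (⟨10, [3, 1, 4, 11, 9], 10, []⟩ : Fct)) (lfA (⟨8, [1, 4, 5, 4, 5, 12, 1, 5, 7, 6, 2, 5, 13, 7], 10, [4, 4, 6, 6, 4, 1, 3, 1, 9]⟩ : Fct))) (ndA (nat_lit 71) (lfA (⟨8, [1, 4, 5, 4, 5, 12, 1, 5, 7, 6, 2, 5, 13, 7], 10, [4, 4, 6, 6, 4, 1, 3, 1, 9]⟩ : Fct)) (lfA (⟨8, [6, 2, 13], 11, []⟩ : Fct))))) (ndA (nat_lit 76) (ndA (nat_lit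 74) (ndA (nat_lit 73) (lfA (⟨11, [3, 6, 1, 4, 5, 4, 1, 6, 3, 2], 11, []⟩ : Fct)) (lfA (⟨11, [1, 3, 1, 6, 4, 4, 6, 11, 1, 5], 11, []⟩ : Fct))) (ndA (nat_lit 75) (lfA (⟨9, [1, 3, 6, 1, 3, 12, 1, 4, 6, 7], 11, [4, 10, 5, 5, 4, 6, 2, 6, 3, 3]⟩ : Fct)) (lfA (⟨9, [1, 3, 6, 1, 3, 12, 1, 4, 6, 7], 11, [4, 10, 5, 5, 4, 6, 2, 6, 3, 3]⟩ : Fct)))) (ndA (nat_lit 78) (ndA (nat_lit 77) (lfA (⟨9, [11, 8], 12, []⟩ : Fct)) (lfA (⟨12, [3, 3, 1, 4, 2, 4], 12, []⟩ : Fct))) (ndA (nat_lit 79) (lfA (⟨12, [3, 1, 4, 4, 1, 3, 11], 12, []⟩ : Fct)) (lfA (⟨12, [1, 1, 1, 1], 12, []⟩ : Fct))))))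
noncomputable def FT5 : ℕ → Fct := (ndA (nat_lit 88) (ndA (nat_lit 84) (ndA (nat_lit 82) (ndA (nat_lit 81) (lfA (⟨12, [1, 1, 4, 5, 1, 3, 1, 5, 1, 11, 9], 8, [3, 3, 5, 1, 3, 3, 2, 6, 3, 2, 4, 7, 5, 3, 2, 4, 6]⟩ : Fct)) (lfA (⟨12, [1, 1, 4, 5, 1, 3, 1, 5, 1, 11, 9], 8, [3, 3, 5, 1, 3, 3, 2, 6, 3, 2, 4, 7, 5, 3, 2, 4, 6]⟩ : Fct))) (ndA (nat_lit 83) (lfA (⟨9, [1, 5, 4, 1, 6, 3, 5, 5, 2, 4, 7, 13, 1, 13, 1, 8], 12, [1, 3, 1, 4, 1, 4, 4, 12, 2, 6, 4, 4, 9, 3, 3]⟩ : Fct)) (lfA (⟨9, [1, 5, 4, 1, 6, 3, 5, 5, 2, 4, 7, 13, 1, 13, 1, 8], 12, [1, 3, 1, 4, 1, 4, 4, 12, 2, 6, 4, 4, 9, 3, 3]⟩ : Fct)))) (ndA (nat_lit 86) (ndA (nat_lit 85) (lfA (⟨8, [14, 12, 6, 8], 13, []⟩ : Fct)) (lfA (⟨13, [1, 4, 2, 3, 2, 3, 6, 3, 1, 3], 13, []⟩ : Fct))) (ndA (nat_lit 87) (lfA (⟨13, [5, 3,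 2, 6, 6, 3, 2, 5], 13, []⟩ : Fct)) (lfA (⟨9, [4, 1, 4, 4, 1, 6, 4, 2, 3, 2, 5, 7, 5, 2, 6, 1, 13], 13, [5, 5, 4, 4, 6, 2, 6, 6, 3, 9]⟩ : Fct))))) (ndA (nat_lit 92) (ndA (nat_lit 90) (ndA (nat_lit 89) (lfA (⟨9, [4, 1, 4, 4, 1, 6, 4, 2, 3, 2, 5, 7, 5, 2, 6, 1, 13], 13, [5, 5, 4, 4, 6, 2, 6, 6, 3, 9]⟩ : Fct)) (lfA (⟨13, [1, 1, 1, 3, 12, 1, 9, 4, 1], 13, []⟩ : Fct))) (ndA (nat_lit 91) (lfA (⟨8, [6, 4, 6, 8], 14, []⟩ : Fct)) (lfA (⟨14, [3, 3, 1, 4, 2, 4], 14, []⟩ : Fct)))) (ndA (nat_lit 94) (ndA (nat_lit 93) (lfA (⟨14, [3, 3, 1, 4, 6, 4, 6, 4, 11, 1, 3], 14, []⟩ : Fct)) (lfA (⟨9, [4, 1, 4, 5, 3, 3, 1, 3, 3, 1, 7, 13, 1, 13, 6, 12], 14, [4, 1, 6, 3, 3, 1, 3, 6, 6, 9]⟩ : Fct))) (ndA (nat_lit 95) (lfA (⟨9, [4, 1, 4, 5, 3, 3, 1, 3, 3, 1, 7, 13, 1, 13, 6, 12], 14, [4,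 1, 6, 3, 3, 1, 3, 6, 6, 9]⟩ : Fct)) (lfA (⟨14, [2, 4, 4, 6, 1, 6, 4, 5, 2, 11, 9], 6, [4, 1, 3, 6, 2, 4, 5, 12, 7, 12, 13, 11, 7, 13]⟩ : Fct))))))
noncomputable def FT6 : ℕ → Fct := (ndA (nat_lit 104) (ndA (nat_lit 100) (ndA (nat_lit 98) (ndA (nat_lit 97) (lfA (⟨14, [2, 4, 4, 6, 1, 6, 4, 5, 2, 11, 9], 6, [4, 1, 3, 6, 2, 4, 5, 12, 7, 12, 13, 11, 7, 13]⟩ : Fct)) (lfA (⟨6, [14, 8], 15, []⟩ : Fct))) (ndA (nat_lit 99) (lfA (⟨15, [4, 1, 6, 4, 2, 3, 2, 3, 3, 5, 2, 3], 15, []⟩ : Fct)) (lfA (⟨15, [4, 1, 6, 4, 2, 3, 3, 5, 2, 3], 15, []⟩ : Fct)))) (ndA (nat_lit 102) (ndA (nat_lit 101) (lfA (⟨15, [10, 12, 4, 1, 3, 3, 5], 9, [4, 1, 4, 5, 5, 4, 6, 1, 11, 13, 7, 5, 2, 7]⟩ : Fct)) (lfA (⟨15, [10, 12, 4, 1, 3, 3, 5], 9, [4, 1, 4, 5, 5, 4, 6, 1, 11, 13, 7, 5, 2, 7]⟩ : Fct)))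 (ndA (nat_lit 103) (lfA (⟨15, [1, 3, 11, 2, 3, 3, 6, 6, 3, 9], 8, [14, 4, 6, 8, 11, 4, 2, 4, 6, 1, 3, 1, 6]⟩ : Fct)) (lfA (⟨15, [1, 3, 11, 2, 3, 3, 6, 6, 3, 9], 8, [14, 4, 6, 8, 11, 4, 2, 4, 6, 1, 3, 1, 6]⟩ : Fct))))) (ndA (nat_lit 108) (ndA (nat_lit 106) (ndA (nat_lit 105) (lfA (⟨8, [6, 14, 8], 16, []⟩ : Fct)) (lfA (⟨16, [2, 3, 3, 11, 2, 4, 4], 16, []⟩ : Fct))) (ndA (nat_lit 107) (lfA (⟨16, [1, 1, 4, 1, 3, 6, 3, 12, 1, 3, 5, 9], 9, [5, 1, 3, 3, 6, 11, 1, 3, 5, 3, 7, 5, 1, 6, 2, 7]⟩ : Fct)) (lfA (⟨16, [1, 1, 4, 1, 3, 6, 3, 12, 1, 3, 5, 9], 9, [5, 1, 3, 3, 6, 11, 1, 3, 5, 3, 7, 5, 1, 6, 2, 7]⟩ : Fct)))) (ndA (nat_lit 110) (ndA (nat_lit 109) (lfA (⟨8, [7, 5, 2, 14, 6, 8, 5, 2, 12, 6, 3, 2, 5, 2, 2], 16, [3, 5, 3, 1, 3, 2, 5, 5, 4, 9]⟩ : Fct)) (lfA (⟨8, [7, 5,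 2, 14, 6, 8, 5, 2, 12, 6, 3, 2, 5, 2, 2], 16, [3, 5, 3, 1, 3, 2, 5, 5, 4, 9]⟩ : Fct))) (ndA (nat_lit 111) (lfA (⟨16, [2, 4, 2, 6, 3, 5, 11, 1, 9, 4], 16, []⟩ : Fct)) (lfA (⟨9, [14, 12, 8], 17, []⟩ : Fct))))))
noncomputable def FT7 : ℕ → Fct := (ndA (nat_lit 115) (ndA (nat_lit 113) (lfA (⟨17, [3, 2, 4, 6, 2, 4, 5, 4, 5, 5], 17, []⟩ : Fct)) (ndA (nat_lit 114) (lfA (⟨9, [12, 3, 5, 5, 14, 8, 2, 6, 6, 3, 3, 2, 3, 3, 2], 17, [2, 6, 2, 6, 6, 2, 4, 4, 2, 9]⟩ : Fct)) (lfA (⟨9, [12, 3, 5, 5, 14, 8, 2, 6, 6, 3, 3, 2, 3, 3, 2], 17, [2, 6, 2, 6, 6, 2, 4, 4, 2, 9]⟩ : Fct)))) (ndA (nat_lit 116) (lfA (⟨9, [6, 4, 2, 4, 4, 5, 11, 7, 13, 12, 13, 1, 12], 17, [3, 2, 5, 4, 2, 3, 5, 2, 2, 3, 9]⟩ : Fct)) (ndA (nat_lit 117) (lfA (⟨9, [6, 4, 2, 4, 4, 5, 11, 7, 13, 12, 13, 1, 12], 17,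 [3, 2, 5, 4, 2, 3, 5, 2, 2, 3, 9]⟩ : Fct)) (lfA (⟨17, [3, 10, 2, 6, 3, 1, 3, 5, 1, 4], 17, []⟩ : Fct)))))
noncomputable def FT : ℕ → Fct := (ndA (nat_lit 64) (ndA (nat_lit 32) (ndA (nat_lit 16) FT0 FT1) (ndA (nat_lit 48) FT2 FT3)) (ndA (nat_lit 96) (ndA (nat_lit 80) FT4 FT5) (ndA (nat_lit 112) FT6 FT7)))

noncomputable def DT0 : ℕ → Der := (ndA (nat_lit 8) (ndA (nat_lit 4) (ndA (nat_lit 2) (ndA (nat_lit 1) (lfA (⟨1, 0, 0, [], [], 0⟩ : Der)) (lfA (⟨1, 0, 0, [], [], 0⟩ : Der))) (ndA (nat_lit 3) (lfA (⟨1, 0, 0, [], [], 0⟩ : Der)) (lfA (⟨1, 0, 0, [], [], 0⟩ : Der)))) (ndA (nat_lit 6) (ndA (nat_lit 5) (lfA (⟨0, 0, 0, [], [], 1⟩ : Der)) (lfA (⟨2, 0, 0, [], [⟨0, [], 9, 1, [1]⟩, ⟨0, [0], 8, 0, []⟩], 1⟩ : Der))) (ndA (nat_lit 7) (lfA (⟨2, 0, 0, [], [⟨0, [], 9, 1, [3]⟩,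 ⟨0, [2], 8, 0, []⟩], 1⟩ : Der)) (lfA (⟨2, 0, 0, [], [⟨0, [], 9, 1, [5]⟩, ⟨0, [4], 8, 0, []⟩], 1⟩ : Der))))) (ndA (nat_lit 12) (ndA (nat_lit 10) (ndA (nat_lit 9) (lfA (⟨0, 0, 0, [], [], 0⟩ : Der)) (lfA (⟨2, 0, 0, [], [⟨0, [], 17, 0, [2, 2, 2]⟩, ⟨0, [10], 16, 1, []⟩], 0⟩ : Der))) (ndA (nat_lit 11) (lfA (⟨2, 0, 0, [], [⟨0, [], 17, 0, [1, 3, 5, 4, 5, 11, 2, 3, 6, 4]⟩, ⟨0, [14], 16, 1, []⟩], 0⟩ : Der)) (lfA (⟨2, 0, 0, [], [⟨0, [], 17, 0, [2, 2, 3, 2, 4]⟩, ⟨0, [12, 10, 13], 16, 1, []⟩], 0⟩ : Der)))) (ndA (nat_lit 14) (ndA (nat_lit 13) (lfA (⟨2, 0, 0, [], [⟨0, [], 17, 0, [1, 3, 3, 1, 4, 4, 2]⟩, ⟨0, [12, 12, 10, 13, 13], 16, 1, []⟩], 0⟩ : Der)) (lfA (⟨0, 0, 0, [], [], 1⟩ : Der))) (ndA (nat_lit 15) (lfA (⟨2, 0, 0, [], [⟨0, [], 27, 1, [11, 11]⟩, ⟨0, [20], 26, 0, []⟩],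 1⟩ : Der)) (lfA (⟨2, 0, 0, [], [⟨0, [], 27, 1, [1, 4, 4, 2, 6, 3, 2, 3]⟩, ⟨0, [18, 18], 26, 0, []⟩], 1⟩ : Der))))))
noncomputable def DT1 : ℕ → Der := (ndA (nat_lit 24) (ndA (nat_lit 20) (ndA (nat_lit 18) (ndA (nat_lit 17) (lfA (⟨2, 0, 0, [], [⟨0, [], 27, 1, [1, 4, 4, 2, 5, 3, 1, 5, 3, 5]⟩, ⟨0, [18, 24, 23], 26, 0, []⟩], 1⟩ : Der)) (lfA (⟨2, 0, 0, [], [⟨0, [], 27, 1, [2, 4, 4, 6, 1, 3, 5, 1, 6, 12]⟩, ⟨0, [18, 20, 24, 21, 23], 26, 0, []⟩], 1⟩ : Der))) (ndA (nat_lit 19) (lfA (⟨2, 101, 21, [], [⟨20, [], 17, 0, [1, 1, 4, 6, 4, 5, 2, 3, 5, 1, 6]⟩, ⟨1, [], 9, 1, [4, 4, 1, 5, 3, 5, 1, 5, 5]⟩, ⟨8, [7, 5, 7, 5, 5, 2, 1, 5, 7], 8, 0, [5, 4, 5, 4, 12, 2, 5, 5, 4]⟩, ⟨1, [11, 12], 16, 1, [4, 1, 3, 3, 5, 3, 5, 1, 5, 4]⟩, ⟨19, [22, 21, 25], 26, 0, [3, 5, 1, 1, 4]⟩], 1⟩ :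 Der)) (lfA (⟨2, 0, 0, [], [⟨0, [], 36, 0, []⟩], 1⟩ : Der)))) (ndA (nat_lit 22) (ndA (nat_lit 21) (lfA (⟨2, 0, 0, [5, 5, 2, 3, 2, 5, 3, 5, 3], [⟨0, [], 39, 1, []⟩, ⟨0, [22, 20, 25], 26, 0, [5, 5, 2, 3, 2, 5, 3, 5, 3]⟩], 1⟩ : Der)) (lfA (⟨0, 0, 0, [], [], 1⟩ : Der))) (ndA (nat_lit 23) (lfA (⟨2, 0, 0, [], [⟨0, [], 43, 1, [1, 3, 5, 2, 4, 4, 6, 2, 5, 4]⟩, ⟨0, [23, 20, 23, 21], 42, 0, []⟩], 1⟩ : Der)) (lfA (⟨2, 0, 0, [], [⟨0, [], 43, 1, [1, 3, 5, 2, 4, 4, 6, 2, 5, 3]⟩, ⟨0, [25, 20, 25, 20], 42, 0, []⟩], 1⟩ : Der))))) (ndA (nat_lit 28) (ndA (nat_lit 26) (ndA (nat_lit 25) (lfA (⟨2, 0, 0, [], [⟨0, [], 43, 1, [1, 1, 1, 11, 1, 5, 3, 3, 6, 4]⟩, ⟨0, [18, 20, 24, 21, 21], 42, 0, []⟩], 1⟩ : Der)) (lfA (⟨2, 0, 0, [], [⟨0, [], 43, 1, [1, 4, 6, 4, 1, 5, 3, 1]⟩, ⟨0, [18, 21,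 22, 18, 20, 24, 22], 42, 0, []⟩], 1⟩ : Der))) (ndA (nat_lit 27) (lfA (⟨0, 0, 0, [], [], 1⟩ : Der)) (lfA (⟨2, 0, 0, [], [⟨0, [], 53, 1, [2]⟩, ⟨0, [18], 52, 0, []⟩], 1⟩ : Der)))) (ndA (nat_lit 30) (ndA (nat_lit 29) (lfA (⟨2, 0, 0, [], [⟨0, [], 53, 1, [3, 2, 4]⟩, ⟨0, [22], 52, 0, []⟩], 1⟩ : Der)) (lfA (⟨2, 0, 0, [], [⟨0, [], 53, 1, [3, 3, 2, 4, 4]⟩, ⟨0, [24], 52, 0, []⟩], 1⟩ : Der))) (ndA (nat_lit 31) (lfA (⟨0, 0, 0, [], [], 0⟩ : Der)) (lfA (⟨2, 0, 0, [], [⟨0, [], 61, 0, [1, 1, 1]⟩, ⟨0, [54], 60, 1, []⟩], 0⟩ : Der))))))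
noncomputable def DT2 : ℕ → Der := (ndA (nat_lit 40) (ndA (nat_lit 36) (ndA (nat_lit 34) (ndA (nat_lit 33) (lfA (⟨2, 0, 0, [], [⟨0, [], 61, 0, [1, 1, 3, 1, 4]⟩, ⟨0, [56], 60, 1, []⟩], 0⟩ : Der)) (lfA (⟨2, 0, 0, [], [⟨0, [], 61, 0, [1, 1, 3, 3, 1, 4, 4]⟩, ⟨0, [58], 60, 1, []⟩], 0⟩ : Der))) (ndA (nat_lit 35) (lfA (⟨2, 103, 21, [], [⟨1, [], 53, 1, [3, 3, 1, 4, 2, 4]⟩, ⟨1, [], 17, 0, [3, 3, 1, 4, 2, 4]⟩, ⟨1, [], 9, 1, [3, 3, 1, 4, 2, 4]⟩, ⟨22, [1, 5, 7, 5, 5, 2, 1, 5, 7], 8, 0, [3, 1, 6, 4, 6, 4, 1, 3, 5]⟩, ⟨1, [12], 16, 1, [1, 3, 5, 3, 3, 1, 5, 3, 6]⟩, ⟨1, [20, 18, 20, 22, 25, 21], 52, 0, [1, 4, 2, 3, 3, 2]⟩, ⟨1, [], 60, 1, [1, 4, 1, 3, 3, 1]⟩], 0⟩ : Der)) (lfA (⟨2, 0, 0, [], [⟨0, [], 68, 1, []⟩], 0⟩ : Der)))) (ndA (nat_lit 38) (ndA (nat_lit 37) (lfA (⟨2, 0, 0,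 [3, 3, 1, 4, 2, 4], [⟨0, [], 71, 0, []⟩, ⟨0, [], 60, 1, [3, 3, 1, 4, 2, 4]⟩], 0⟩ : Der)) (lfA (⟨0, 0, 0, [], [], 1⟩ : Der))) (ndA (nat_lit 39) (lfA (⟨2, 0, 0, [], [⟨0, [], 75, 1, [1]⟩, ⟨0, [62], 74, 0, []⟩], 1⟩ : Der)) (lfA (⟨2, 0, 0, [], [⟨0, [], 75, 1, [3, 1, 4]⟩, ⟨0, [64], 74, 0, []⟩], 1⟩ : Der))))) (ndA (nat_lit 44) (ndA (nat_lit 42) (ndA (nat_lit 41) (lfA (⟨2, 0, 0, [], [⟨0, [], 75, 1, [3, 3, 1, 4, 4]⟩, ⟨0, [66], 74, 0, []⟩], 1⟩ : Der)) (lfA (⟨2, 101, 21, [], [⟨20, [], 61, 0, [1, 1, 3, 3, 6, 1, 6, 6, 4, 4]⟩, ⟨1, [], 53, 1, [3, 3, 2, 6, 2, 6, 1, 4, 4]⟩, ⟨8, [20], 52, 0, [1, 3, 6, 2, 3, 3, 5, 5, 12, 2, 3]⟩, ⟨1, [], 60, 1, [2, 3, 2, 5, 3, 3, 5, 2, 3, 12]⟩, ⟨19, [63, 65, 73], 74, 0, [3, 1, 4, 2, 6, 3, 2, 12]⟩], 1⟩ : Der))) (ndA (nat_lit 43) (lfA (⟨2, 0, 0,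 [], [⟨0, [], 82, 0, []⟩], 1⟩ : Der)) (lfA (⟨2, 0, 0, [4, 4, 1, 4, 5, 4, 6, 2, 4], [⟨0, [], 85, 1, []⟩, ⟨0, [63, 65, 73], 74, 0, [4, 4, 1, 4, 5, 4, 6, 2, 4]⟩], 1⟩ : Der)))) (ndA (nat_lit 46) (ndA (nat_lit 45) (lfA (⟨0, 0, 0, [], [], 0⟩ : Der)) (lfA (⟨2, 0, 0, [], [⟨0, [], 89, 0, [2, 2, 2]⟩, ⟨0, [76], 88, 1, []⟩], 0⟩ : Der))) (ndA (nat_lit 47) (lfA (⟨2, 0, 0, [], [⟨0, [], 89, 0, [2, 2, 3, 2, 4]⟩, ⟨0, [78], 88, 1, []⟩], 0⟩ : Der)) (lfA (⟨2, 0, 0, [], [⟨0, [], 89, 0, [1, 3, 3, 1, 4, 4, 2]⟩, ⟨0, [80], 88, 1, []⟩], 0⟩ : Der))))))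
noncomputable def DT3 : ℕ → Der := (ndA (nat_lit 56) (ndA (nat_lit 52) (ndA (nat_lit 50) (ndA (nat_lit 49) (lfA (⟨2, 0, 0, [], [⟨0, [], 89, 0, [4, 1, 3, 3, 2, 3]⟩, ⟨0, [86], 88, 1, []⟩], 0⟩ : Der)) (lfA (⟨2, 102, 29, [], [⟨1, [], 43, 1, [2, 5, 1, 6, 4, 1, 4, 4, 2]⟩, ⟨19, [25, 21, 22, 21], 52, 0, [5, 2, 4, 4, 6, 1, 4, 11, 2, 3]⟩, ⟨1, [], 60, 1, [1, 3, 5, 3, 3, 5, 1, 6, 4, 1, 3]⟩, ⟨8, [65, 72], 74, 0, [1, 3, 2, 4, 4, 5, 1, 4, 6, 4, 4]⟩, ⟨1, [], 88, 1, [1, 5, 4, 2, 3, 6, 3, 1, 12]⟩], 0⟩ : Der))) (ndA (nat_lit 51) (lfA (⟨2, 0, 0, [], [⟨0, [], 98, 1, []⟩], 0⟩ : Der)) (lfA (⟨2, 103, 23, [], [⟨1, [], 43, 1, [1, 4, 5, 4, 4, 1, 3, 1, 4]⟩, ⟨22, [], 17, 0, [1, 3, 1, 6, 3, 6, 3, 1, 6, 6, 3]⟩, ⟨1, [], 9, 1, [4, 1, 4, 2, 6, 3, 1, 5, 3]⟩, ⟨1, [5, 0, 2, 4, 2, 1, 5, 7], 8,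 0, [1, 4, 2, 3, 3, 2, 3]⟩, ⟨1, [13, 13], 16, 1, [1, 4, 1, 3, 3, 1]⟩, ⟨18, [21, 22, 21, 23, 19], 42, 0, [1, 1, 6, 4, 4, 5, 1, 4, 11, 1]⟩, ⟨1, [], 100, 1, [1, 6, 4, 5, 4, 2, 5, 3, 6]⟩], 0⟩ : Der)))) (ndA (nat_lit 54) (ndA (nat_lit 53) (lfA (⟨2, 0, 0, [], [⟨0, [], 102, 1, []⟩], 0⟩ : Der)) (lfA (⟨2, 0, 0, [3, 5, 3, 6, 2, 6, 3, 6, 3, 2, 13, 1], [⟨0, [], 105, 0, []⟩, ⟨0, [49], 100, 1, [4, 1, 3, 2, 3, 6, 3, 6, 1]⟩], 0⟩ : Der))) (ndA (nat_lit 55) (lfA (⟨2, 105, 42, [], [⟨1, [], 43, 1, [4, 1, 4, 5, 4, 1, 4]⟩, ⟨21, [], 17, 0, [1, 4, 2, 5, 4, 1, 3, 2, 3, 6, 2]⟩, ⟨1, [], 9, 1, [3, 5, 2, 5, 3, 1, 4, 1, 4, 5]⟩, ⟨18, [5, 1, 4, 7], 8, 0, [3, 5, 1, 5, 4, 1, 5, 11]⟩, ⟨1, [], 16, 1, [5, 2, 2, 3, 2, 4, 5, 2, 11]⟩, ⟨21, [21, 25, 20, 19, 21], 42, 0, [4, 4, 2, 4, 5, 5, 4]⟩, ⟨1, [49],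 100, 1, [4, 1, 5, 2, 3, 12, 2]⟩], 0⟩ : Der)) (lfA (⟨2, 0, 0, [], [⟨0, [], 108, 1, []⟩], 0⟩ : Der))))) (ndA (nat_lit 60) (ndA (nat_lit 58) (ndA (nat_lit 57) (lfA (⟨2, 0, 0, [2, 4, 2, 14, 6, 4, 6, 2, 4, 2, 2, 2], [⟨0, [], 111, 0, []⟩, ⟨0, [47], 100, 1, [1, 4, 4, 5, 3, 6, 3, 11]⟩], 0⟩ : Der)) (lfA (⟨0, 0, 0, [], [], 0⟩ : Der))) (ndA (nat_lit 59) (lfA (⟨2, 0, 0, [], [⟨0, [], 115, 0, [1, 1, 3, 1, 4]⟩, ⟨0, [54], 114, 1, []⟩], 0⟩ : Der)) (lfA (⟨2, 0, 0, [], [⟨0, [], 115, 0, [1, 1, 3, 3, 1, 4, 4]⟩, ⟨0, [56], 114, 1, []⟩], 0⟩ : Der)))) (ndA (nat_lit 62) (ndA (nat_lit 61) (lfA (⟨2, 107, 23, [], [⟨1, [], 53, 1, [4, 2, 4, 4, 2]⟩, ⟨2, [], 17, 0, [4, 2, 4, 4, 2, 4]⟩, ⟨1, [], 9, 1, [1, 1, 4, 1, 4, 4, 1, 4]⟩, ⟨16, [6, 4, 7, 4, 1, 5, 7], 8, 0, [1, 6, 3, 5, 2, 4, 2, 3, 3]⟩,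 ⟨1, [11, 12], 16, 1, [1, 5, 4, 6, 1, 3, 6, 3, 5]⟩, ⟨2, [20, 24, 22, 19, 21, 19, 21], 52, 0, [3, 3, 2, 4, 2]⟩, ⟨1, [55, 57, 59], 114, 1, [2, 3, 2, 3, 3, 2, 3]⟩], 0⟩ : Der)) (lfA (⟨2, 0, 0, [], [⟨0, [], 120, 1, []⟩], 0⟩ : Der))) (ndA (nat_lit 63) (lfA (⟨2, 0, 0, [1, 4, 1, 3, 1, 3, 3, 2], [⟨0, [], 123, 0, []⟩, ⟨0, [57, 59], 114, 1, [1, 4, 1, 3, 1, 3, 3, 2]⟩], 0⟩ : Der)) (lfA (⟨0, 0, 0, [], [], 1⟩ : Der))))))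
noncomputable def DT4 : ℕ → Der := (ndA (nat_lit 72) (ndA (nat_lit 68) (ndA (nat_lit 66) (ndA (nat_lit 65) (lfA (⟨2, 0, 0, [], [⟨0, [], 127, 1, [3, 1, 4, 2]⟩, ⟨0, [64, 63], 126, 0, []⟩], 1⟩ : Der)) (lfA (⟨2, 0, 0, [], [⟨0, [], 127, 1, [3, 3, 1, 4, 4, 2]⟩, ⟨0, [66, 63], 126, 0, []⟩], 1⟩ : Der))) (ndA (nat_lit 67) (lfA (⟨2, 107, 1, [], [⟨2, [], 61, 0, [1, 5, 3, 1, 6, 4, 1, 6, 11]⟩, ⟨1, [], 53, 1, [5, 2, 3, 5, 2, 4, 6, 11, 1]⟩, ⟨19, [], 17, 0, [1, 4, 1, 3, 1, 6, 3, 3, 2, 5, 3]⟩, ⟨1, [13], 16, 1, [1, 6, 4, 2, 3, 6, 3, 3, 1]⟩, ⟨2, [21, 19, 23, 20, 24, 21], 52, 0, [1, 4, 2, 3, 2, 3, 3, 2]⟩, ⟨1, [], 60, 1, [1, 4, 2, 3, 2, 3, 3, 2]⟩, ⟨16, [73, 62, 64, 73, 65, 73], 126, 0, [4, 4, 1, 6, 3, 6, 2, 5, 11]⟩], 1⟩ : Der)) (lfA (⟨2, 0, 0, [], [⟨0, [], 132, 0, []⟩], 1⟩ : Der))))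 (ndA (nat_lit 70) (ndA (nat_lit 69) (lfA (⟨2, 0, 0, [1, 4, 1, 5, 4, 4, 6, 6, 1, 6, 4], [⟨0, [], 135, 1, []⟩, ⟨0, [72, 64, 73, 65, 73], 126, 0, [1, 4, 1, 5, 4, 4, 6, 6, 1, 6, 4]⟩], 1⟩ : Der)) (lfA (⟨2, 107, 4, [], [⟨19, [], 101, 0, [5, 4, 4, 6, 1, 3, 6, 12]⟩, ⟨1, [], 43, 1, [3, 1, 4, 5, 1, 4, 4, 2]⟩, ⟨2, [23, 25], 26, 0, [2, 2, 6, 3, 3, 6, 6, 2, 3]⟩, ⟨1, [30, 41], 27, 1, [3, 2, 3, 5, 3, 2, 6, 6, 3, 6]⟩, ⟨16, [19, 21, 22, 20, 25, 21], 52, 0, [5, 1, 1, 3, 6, 12, 1, 6, 4]⟩, ⟨1, [], 60, 1, [6, 6, 3, 11, 1, 6, 4]⟩, ⟨2, [62, 64, 73, 64, 73], 126, 0, [4, 4, 6, 6, 4, 1, 3, 1]⟩], 1⟩ : Der))) (ndA (nat_lit 71) (lfA (⟨2, 0, 0, [], [⟨0, [], 138, 0, []⟩], 1⟩ : Der)) (lfA (⟨0, 0, 0, [], [], 1⟩ : Der))))) (ndA (nat_lit 76) (ndA (nat_lit 74) (ndA (nat_lit 73) (lfA (⟨2, 0, 0,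 [], [⟨0, [], 143, 1, [3, 6, 1, 4, 5, 4, 1, 6, 3, 2]⟩, ⟨0, [90, 106, 106], 142, 0, []⟩], 1⟩ : Der)) (lfA (⟨2, 0, 0, [], [⟨0, [], 143, 1, [1, 3, 1, 6, 4, 4, 6, 11, 1, 5]⟩, ⟨0, [92, 94, 97, 90], 142, 0, []⟩], 1⟩ : Der))) (ndA (nat_lit 75) (lfA (⟨2, 108, 40, [], [⟨2, [], 115, 0, [6, 4, 1, 3, 2, 5, 2, 5, 3]⟩, ⟨1, [], 53, 1, [3, 6, 3, 3, 1, 3, 6, 3, 6, 11]⟩, ⟨16, [22, 20], 42, 0, [5, 1, 6, 4, 1, 6]⟩, ⟨1, [50], 100, 1, [6, 1, 6, 4, 2, 3, 2, 3, 3]⟩, ⟨2, [92, 94, 91], 140, 0, [4, 4, 1, 5, 2, 6, 4, 5, 2]⟩, ⟨1, [131], 141, 1, [3, 6, 3, 1, 6, 2, 11]⟩, ⟨19, [92, 112, 91], 142, 0, [1, 1, 4, 5, 4, 11, 1, 3, 3, 6]⟩], 1⟩ : Der)) (lfA (⟨2, 0, 0, [], [⟨0, [], 148, 0, []⟩], 1⟩ : Der)))) (ndA (nat_lit 78) (ndA (nat_lit 77) (lfA (⟨0, 0, 0, [], [], 1⟩ : Der)) (lfA (⟨2, 0, 0, [],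 [⟨0, [], 153, 1, [3, 3, 1, 4, 2, 4]⟩, ⟨0, [118, 117], 152, 0, []⟩], 1⟩ : Der))) (ndA (nat_lit 79) (lfA (⟨2, 0, 0, [], [⟨0, [], 153, 1, [3, 1, 4, 4, 1, 3, 11]⟩, ⟨0, [125, 116, 125], 152, 0, []⟩], 1⟩ : Der)) (lfA (⟨2, 0, 0, [], [⟨0, [], 153, 1, [1, 1, 1, 1]⟩, ⟨0, [116, 116, 116, 116], 152, 0, []⟩], 1⟩ : Der))))))
noncomputable def DT5 : ℕ → Der := (ndA (nat_lit 88) (ndA (nat_lit 84) (ndA (nat_lit 82) (ndA (nat_lit 81) (lfA (⟨2, 105, 64, [], [⟨1, [], 153, 1, [1, 1, 4, 5, 1, 3, 1, 5, 1, 11]⟩, ⟨18, [117, 125, 125, 125], 115, 0, [4, 4, 1, 6, 6, 4, 6, 1, 3, 6]⟩, ⟨1, [], 53, 1, [4, 6, 4, 2, 3, 2, 3, 3, 6]⟩, ⟨21, [19], 26, 0, [5, 3, 5, 5, 1, 4, 4, 1, 5]⟩, ⟨1, [30, 41], 27, 1, [2, 4, 2, 3, 3, 5, 2, 5, 12]⟩, ⟨19, [18, 22, 24], 42, 0, [3, 2, 4, 6, 2, 4, 6, 4, 2, 4, 12]⟩,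 ⟨1, [49], 100, 1, [1, 5, 1, 4, 11, 1, 4, 6, 4, 4]⟩], 0⟩ : Der)) (lfA (⟨2, 0, 0, [], [⟨0, [], 160, 1, []⟩], 0⟩ : Der))) (ndA (nat_lit 83) (lfA (⟨2, 106, 41, [], [⟨19, [], 115, 0, [1, 3, 1, 4, 1, 4, 4, 1, 5, 5, 3]⟩, ⟨1, [], 53, 1, [4, 1, 4, 4, 2, 4, 5, 2, 3, 2]⟩, ⟨21, [23, 19], 26, 0, [4, 4, 1, 3, 6, 3, 2, 3, 6, 6]⟩, ⟨1, [31, 41], 27, 1, [1, 6, 4, 2, 4, 5, 4, 2, 4, 6]⟩, ⟨18, [21, 18, 25], 42, 0, [3, 3, 5, 3, 1, 3, 6, 6, 1, 12]⟩, ⟨1, [47], 100, 1, [4, 4, 5, 2, 3, 2, 6, 2, 5, 5]⟩, ⟨21, [91, 96, 91], 163, 0, [2, 3, 6, 12, 1, 6, 6, 3, 5]⟩], 1⟩ : Der)) (lfA (⟨2, 0, 0, [], [⟨0, [], 164, 0, []⟩], 1⟩ : Der)))) (ndA (nat_lit 86) (ndA (nat_lit 85) (lfA (⟨0, 0, 0, [], [], 1⟩ : Der)) (lfA (⟨2, 0, 0, [], [⟨0, [], 169, 1, [1, 4, 2, 3, 2, 3, 6, 3, 1, 3]⟩, ⟨0, [92, 96, 96],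 168, 0, []⟩], 1⟩ : Der))) (ndA (nat_lit 87) (lfA (⟨2, 0, 0, [], [⟨0, [], 169, 1, [5, 3, 2, 6, 6, 3, 2, 5]⟩, ⟨0, [94, 106, 90, 90], 168, 0, []⟩], 1⟩ : Der)) (lfA (⟨2, 104, 23, [], [⟨1, [], 150, 0, [1, 3, 1, 3, 3, 2, 5, 3, 3, 5, 2]⟩, ⟨1, [147], 151, 1, [2, 5, 5, 4, 2, 4, 5, 4, 12]⟩, ⟨18, [125, 125, 125, 117], 152, 0, [2, 3, 2, 3, 6, 3, 3, 6, 1, 3]⟩, ⟨1, [154], 167, 1, [3, 2, 3, 3, 5, 1, 6, 3, 3, 1, 3]⟩, ⟨1, [119], 150, 0, [5, 4, 2, 4, 4, 6, 6, 4, 12]⟩, ⟨1, [], 143, 1, [3, 3, 1, 4, 1, 6, 3, 2, 6, 1]⟩, ⟨22, [107, 91, 113], 168, 0, [5, 5, 4, 4, 6, 1, 6, 3]⟩], 1⟩ : Der))))) (ndA (nat_lit 92) (ndA (nat_lit 90) (ndA (nat_lit 89) (lfA (⟨2, 0, 0, [], [⟨0, [], 174, 0, []⟩], 1⟩ : Der)) (lfA (⟨2, 0, 0, [5, 5, 4, 4, 6, 2, 6, 6, 3, 9], [⟨0, [], 177, 1, [1, 5, 3, 6, 1, 6,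 3, 5, 12]⟩, ⟨0, [125, 116, 125, 116], 176, 0, []⟩], 1⟩ : Der))) (ndA (nat_lit 91) (lfA (⟨0, 0, 0, [], [], 1⟩ : Der)) (lfA (⟨2, 0, 0, [], [⟨0, [], 181, 1, [3, 3, 1, 4, 2, 4]⟩, ⟨0, [92, 91], 180, 0, []⟩], 1⟩ : Der)))) (ndA (nat_lit 94) (ndA (nat_lit 93) (lfA (⟨2, 0, 0, [], [⟨0, [], 181, 1, [3, 3, 1, 4, 6, 4, 6, 4, 11, 1, 3]⟩, ⟨0, [95, 106, 112, 91], 180, 0, []⟩], 1⟩ : Der)) (lfA (⟨2, 102, 9, [], [⟨20, [], 176, 0, [1, 6, 3, 1, 4, 12, 2, 3, 3, 6]⟩, ⟨1, [173, 171], 177, 1, [1, 4, 2, 4, 5, 1, 6, 3, 3, 1, 4]⟩, ⟨19, [119], 176, 0, [5, 3, 6, 1, 1, 1, 4, 5, 1]⟩, ⟨1, [], 169, 1, [2, 3, 6, 3, 3, 1, 5, 3, 2]⟩, ⟨8, [93, 112, 95, 91], 180, 0, [2, 2, 4, 2, 5, 3, 3, 2, 3, 6]⟩], 1⟩ : Der))) (ndA (nat_lit 95) (lfA (⟨2, 0, 0, [], [⟨0, [], 186, 0, []⟩], 1⟩ : Der)) (lfA (⟨2, 107,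 26, [], [⟨1, [], 181, 1, [2, 4, 4, 6, 1, 6, 4, 5, 2, 11]⟩, ⟨16, [90, 97, 91], 142, 0, [6, 4, 4, 6, 6, 1, 3, 1, 5]⟩, ⟨1, [147], 151, 1, [1, 1, 1, 5, 3, 3, 1, 4, 4, 5]⟩, ⟨2, [124, 118, 125], 188, 0, [2, 6, 1, 4, 2, 3, 2, 5, 3, 3]⟩, ⟨1, [], 181, 1, [3, 6, 3, 5, 2, 5, 3, 3, 2]⟩, ⟨19, [92, 113, 91], 140, 0, [4, 1, 3, 2, 3, 5, 3, 11, 2, 6, 6]⟩, ⟨1, [], 127, 1, [1, 4, 5, 2, 6, 3, 1, 6, 4]⟩], 0⟩ : Der))))))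
noncomputable def DT6 : ℕ → Der := (ndA (nat_lit 104) (ndA (nat_lit 100) (ndA (nat_lit 98) (ndA (nat_lit 97) (lfA (⟨2, 0, 0, [], [⟨0, [], 190, 1, []⟩], 0⟩ : Der)) (lfA (⟨0, 0, 0, [], [], 1⟩ : Der))) (ndA (nat_lit 99) (lfA (⟨2, 0, 0, [], [⟨0, [], 195, 1, [4, 1, 6, 4, 2, 3, 2, 3, 3, 5, 2, 3]⟩, ⟨0, [67, 62, 73, 63], 194, 0, []⟩], 1⟩ : Der)) (lfA (⟨2, 0, 0, [], [⟨0, [], 195, 1, [4, 1, 6, 4, 2, 3, 3, 5, 2, 3]⟩, ⟨0, [66, 73, 64, 72, 62], 194, 0, []⟩], 1⟩ : Der)))) (ndA (nat_lit 102) (ndA (nat_lit 101) (lfA (⟨2, 101, 41, [], [⟨1, [], 195, 1, [2, 5, 5, 2, 6, 4, 2, 6, 3, 3]⟩, ⟨8, [62, 72, 65, 72], 193, 0, [1, 6, 3, 3, 1, 4, 6, 1, 5, 3, 5]⟩, ⟨1, [182], 189, 1, [4, 6, 2, 2, 2, 4, 6]⟩, ⟨19, [125, 125, 119], 166, 0, [3, 2, 5, 4, 5, 1, 4, 6, 11]⟩, ⟨1, [154], 167, 1, [2,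 3, 2, 5, 4, 4, 2, 3, 6, 6]⟩], 0⟩ : Der)) (lfA (⟨2, 0, 0, [], [⟨0, [], 200, 1, []⟩], 0⟩ : Der))) (ndA (nat_lit 103) (lfA (⟨2, 102, 49, [], [⟨1, [], 195, 1, [1, 3, 11, 2, 3, 3, 6, 6, 3]⟩, ⟨8, [67, 72, 65, 73, 65], 194, 0, [2, 4, 4, 2, 6, 6, 4, 4, 6, 2, 12]⟩, ⟨1, [198], 202, 1, [1, 6, 3, 3, 6, 2, 4, 4, 5, 1, 11]⟩, ⟨20, [125, 125, 116, 116, 125], 188, 0, [1, 5, 1, 5, 1, 3, 3, 1, 4, 5, 4]⟩, ⟨1, [], 181, 1, [3, 2, 5, 3, 2, 6, 11]⟩], 0⟩ : Der)) (lfA (⟨2, 0, 0, [], [⟨0, [], 204, 1, []⟩], 0⟩ : Der))))) (ndA (nat_lit 108) (ndA (nat_lit 106) (ndA (nat_lit 105) (lfA (⟨0, 0, 0, [], [], 1⟩ : Der)) (lfA (⟨2, 0, 0, [], [⟨0, [], 209, 1, [2, 3, 3, 11, 2, 4, 4]⟩, ⟨0, [90, 90, 112, 95, 113], 208, 0, []⟩], 1⟩ : Der))) (ndA (nat_lit 107) (lfA (⟨2, 101, 0, [], [⟨1, [], 209, 1, [4,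 2, 3, 5, 3, 12, 2, 3, 6, 6]⟩, ⟨19, [112, 106, 97], 207, 0, [6, 4, 1, 5, 3, 1, 3, 3, 6]⟩, ⟨1, [], 195, 1, [1, 1, 4, 1, 5, 4, 4, 6, 11, 1, 3]⟩, ⟨20, [64, 72, 65], 194, 0, [3, 6, 1, 6, 3, 3, 2, 6, 2, 11]⟩, ⟨1, [198], 202, 1, [2, 4, 2, 3, 5, 2, 6, 3, 3]⟩], 0⟩ : Der)) (lfA (⟨2, 0, 0, [], [⟨0, [], 212, 1, []⟩], 0⟩ : Der)))) (ndA (nat_lit 110) (ndA (nat_lit 109) (lfA (⟨2, 102, 9, [], [⟨20, [], 208, 0, [3, 1, 3, 3, 5, 2, 6, 4, 11, 1]⟩, ⟨1, [], 214, 1, [4, 6, 4, 6, 2, 5, 3, 6, 6]⟩, ⟨19, [124, 118, 125, 117, 117, 117], 215, 0, [4, 1, 3, 1, 3, 6, 3, 1, 12]⟩, ⟨1, [], 209, 1, [6, 3, 3, 12, 2, 6, 3, 3]⟩, ⟨8, [107, 96, 93], 208, 0, [3, 5, 2, 4, 2, 4, 5, 4]⟩], 1⟩ : Der)) (lfA (⟨2, 0, 0, [], [⟨0, [], 216, 0, []⟩], 1⟩ : Der))) (ndA (nat_lit 111) (lfA (⟨2, 0, 0, [6, 2, 6, 4,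 2, 3, 2, 3, 5], [⟨0, [], 219, 1, []⟩, ⟨0, [96, 112, 96], 208, 0, [6, 2, 6, 4, 2, 3, 2, 3, 5]⟩], 1⟩ : Der)) (lfA (⟨0, 0, 0, [], [], 1⟩ : Der))))))
noncomputable def DT7 : ℕ → Der := (ndA (nat_lit 115) (ndA (nat_lit 113) (lfA (⟨2, 0, 0, [], [⟨0, [], 223, 1, [3, 2, 4, 6, 2, 4, 5, 4, 5, 5]⟩, ⟨0, [125, 116, 118, 125, 118], 222, 0, []⟩], 1⟩ : Der)) (ndA (nat_lit 114) (lfA (⟨2, 101, 1, [], [⟨19, [], 188, 0, [1, 1, 3, 5, 3, 3, 6, 6]⟩, ⟨1, [], 192, 1, [1, 3, 1, 4, 5, 1, 4, 4, 2, 6, 4, 5]⟩, ⟨20, [73, 65, 72, 65, 73, 65], 194, 0, [4, 6, 4, 1, 3, 5, 5, 1, 4, 5]⟩, ⟨1, [197], 202, 1, [2, 3, 6, 4, 5, 2, 5, 5, 2]⟩, ⟨8, [124, 117, 125, 125, 119], 222, 0, [2, 6, 2, 6, 6, 2, 4, 4, 2]⟩], 1⟩ : Der)) (lfA (⟨2, 0, 0, [], [⟨0, [], 226, 0, []⟩], 1⟩ : Der)))) (ndA (nat_lit 116) (lfA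 (⟨2, 101, 21, [], [⟨20, [], 203, 0, [2, 6, 4, 5, 2, 3, 2, 4, 5]⟩, ⟨1, [199], 202, 1, [2, 3, 6, 1, 4, 4, 6, 1, 4, 6, 12]⟩, ⟨8, [125, 118, 124, 116, 125, 116], 203, 0, [4, 4, 2, 3, 3, 5, 3, 6, 2, 4]⟩, ⟨1, [199], 202, 1, [1, 3, 5, 4, 1, 3, 6, 12]⟩, ⟨19, [125, 125, 125, 117, 119], 222, 0, [3, 2, 5, 4, 2, 3, 5, 2, 2, 3]⟩], 1⟩ : Der)) (ndA (nat_lit 117) (lfA (⟨2, 0, 0, [], [⟨0, [], 230, 0, []⟩], 1⟩ : Der)) (lfA (⟨2, 0, 0, [3, 1, 3, 3, 2, 5, 3, 3, 1, 6, 6, 11], [⟨0, [], 233, 1, []⟩, ⟨0, [124, 117, 125, 125, 119], 222, 0, [3, 1, 3, 3, 2, 5, 3, 3, 1, 6, 6, 11]⟩], 1⟩ : Der)))))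
noncomputable def DT : ℕ → Der := (ndA (nat_lit 64) (ndA (nat_lit 32) (ndA (nat_lit 16) DT0 DT1) (ndA (nat_lit 48) DT2 DT3)) (ndA (nat_lit 96) (ndA (nat_lit 80) DT4 DT5) (ndA (nat_lit 112) DT6 DT7)))

def g0 : List ℕ := [1, 2, 3, 4, 5, 6, 7, 8, 11, 12, 13, 14]
def S0 : ℕ := nat_lit 0x4000000000000000000000000000000000000000000000000000000000000000000000000000000000000000000000000000000000000000000000000000000000000000000000000000000000000000000000000000000000000000000000000000000000000000000000000000000000000000000000000000000000000000000000000000000000000000000000000000000000000000000000000000000000000000000000000000000000000000000000000000000000000000000000000000000000000000000000000000000000000000000000000000000000000000000000000000000000000000000000000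00000000000000000000000000000000000000000000000000000000000000000000000000000000000000000000000000000000000000000000000000000000000000000000000000000000000000000000000000000000000000000000000000000000000000000000000000000000000000000000000000000000000000000000000000000000000000000000000000000000000000000000000000000000000000000000000000000000000000000000000000000000000000000000000000000000000000000000000000000000000000000000000000000000000000000000000000000000000000000000000000000000000000000000000000000000000000000000000000000000000000000002000000000000000000000000000000000000000000000000000000000000000000000000000000000000000000000000000000000000000000000000000000000000000000000000000000000000000000000000000000000000000000000000000000000000000000000000000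0000000000000000000000000000000000000000000000000000000000000000000000000000000000000000000000000000000000000000000000000000000000000000000000000000000000000000000000000000000000000000000000000000000000000000000000000000000000000000000000000000000000000000000000000000000000000000000000000000000000000000000000000000000000000000000000000000000000000000000000000000000000000000000000000000000000000000000000000000000000000000000000000000000000000000000000000000000000000000000000000000000000000000000000000000000000000000000000000000000000000000000000000000000000000000000000000000000000000000000000000000000000000000000000000000000000000000000000000000000000000000000000000000000000000000000000000000000000000000000000000000000000000000000000000000000000000000000000000000000000000000000000000000000000001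
def bl0 : List (ℕ × ℕ) := [(8210, Nat.shiftLeft (Nat.pred (Nat.pow 2 3906)) 8192), (4097, Nat.shiftLeft (Nat.pred (Nat.pow 2 3906)) 4096), (0, Nat.shiftLeft (Nat.pred (Nat.pow 2 3906)) 0)]
theorem blk0 : blkOK LyM0.nets (g0.map fun x => [x]) S0 bl0 = true := by decide +kernel
theorem ty0 : typeOK LyM0.nets g0 LyM0.rels LyP.iv = true := by decide +kernel

def g1 : List ℕ := [1, 2, 3, 4, 5, 6, 9, 10, 11, 12]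
def S1 : ℕ := nat_lit 0x80000000000000000000000000000000000000000000000000000000000000000000000000000000000000000000000000000000000000000000000000000000000000000000000000000000000000000000000000000000000000000000000000000000000000000000000000000000000000000000000000000000000000000000000000000000000000000000000000000000000000000000000000000000000000000000000000000000000000000000000000000000000000000000000000000000000000000000000000000000000000000000000000000000000000000000000000000000000000000000000000000000000000000000000000000000000000000000000000000000000000000000000000000000000000000000000000000000000000000000000000000000000000000000000000000000000000000000000000000000000000000000000000000000000000000000000000000000000000000000000000000000000000000000000000000000000000000000000000000000000000000000000000000000000000000000000000000000000000000000000000000000000000000000000000000000000000000000000000000000000000000000000000000000000000000000000000000000000000000000000000000000000000000000000000000000000000000000000000000000000000000000101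
def bl1 : List (ℕ × ℕ) := [(0, Nat.shiftLeft (Nat.pred (Nat.pow 2 6)) 0), (4123, Nat.shiftLeft (Nat.pred (Nat.pow 2 3125)) 4104), (8, Nat.shiftLeft (Nat.pred (Nat.pow 2 3125)) 8)]
theorem blk1 : blkOK LyM1.nets (g1.map fun x => [x]) S1 bl1 = true := by decide +kernel
theorem ty1 : typeOK LyM1.nets g1 LyM1.rels LyP.iv = true := by decide +kernel

noncomputable def eqv : ℕ → List ℕ → List ℕ → Bool :=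
  selE [eqvN LyM0.nets (mskL g0) S0, eqvN LyM1.nets (mskL g1) S1]

noncomputable def chk : ℕ → Bool := chkF FT DT LW LyP.rels LyP.iv g0 eqv

theorem c0 : rangeB chk 0 29 = true := by decide +kernel
theorem c1 : rangeB chk 29 20 = true := by decide +kernel
theorem c2 : rangeB chk 49 11 = true := by decide +kernel
theorem c3 : rangeB chk 60 12 = true := by decide +kernel
theorem c4 : rangeB chk 72 10 = true := by decide +kernel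
theorem c5 : rangeB chk 82 11 = true := by decide +kernel
theorem c6 : rangeB chk 93 9 = true := by decide +kernel
theorem c7 : rangeB chk 102 10 = true := by decide +kernel
theorem c8 : rangeB chk 112 6 = true := by decide +kernel

theorem chk_all : ∀ i < 118, chk i = true :=
  (range_cons 118 (range_cons 112 (range_cons 102 (range_cons 93 (range_cons 82 (range_cons 72 (range_cons 60 (range_cons 49 (range_cons 29 (range_nil _) c0) c1) c2) c3) c4) c5) c6) c7) c8)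

def s0_0 : Sid := ⟨0, [0, 1, 2, 3, 4, 5, 6, 7], [(8, 0)], [6, 4, 0, 2, 4, 6, 0, 2, 4, 0, 2, 4, 6, 0, 4, 2, 6, 4, 0, 0]⟩
def s0_1 : Sid := ⟨2, [18, 19, 20, 21, 22, 23, 24, 25], [(17, 0), (52, 1), (42, 145), (26, 3776)], [0, 2, 4, 6, 2, 0, 4, 2, 6, 0, 2, 4, 6, 2, 0, 4, 2, 6, 0, 0]⟩
def s0_2 : Sid := ⟨6, [62, 63, 64, 65, 66, 67, 72, 73], [(61, 0), (74, 1), (194, 145), (193, 1158), (126, 3328)], [6, 0, 2, 4, 6, 2, 0, 6, 4, 2, 6, 4, 0, 2, 6, 0, 0]⟩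
def s0_3 : Sid := ⟨8, [90, 91, 92, 93, 94, 95, 96, 97, 106, 107, 112, 113], [(89, 0), (101, 3903), (207, 860), (208, 619), (163, 391), (140, 370), (180, 31), (142, 2350), (168, 886)], [8, 10, 2, 4, 6, 0, 10, 2, 6, 8, 10, 0, 8, 0]⟩
def s0_4 : Sid := ⟨9, [116, 117, 118, 119, 124, 125], [(115, 0), (150, 2767), (166, 1557), (215, 1048), (222, 1365), (176, 650), (228, 3764), (152, 3328), (203, 3197), (188, 3788)], [4, 0, 2, 4, 0, 4, 2, 4, 0, 4, 0, 4, 2, 4, 2, 4, 0]⟩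
def SS0 : List Sid := [s0_0, s0_1, s0_2, s0_3, s0_4]
def full0 : ℕ := Nat.pred (Nat.pow 2 3906)

def s1_0 : Sid := ⟨1, [10, 11, 12, 13, 14, 15], [(9, 0), (16, 1)], [2, 2, 2, 0]⟩
def s1_1 : Sid := ⟨3, [28, 29, 30, 31, 32, 33, 34, 35, 40, 41], [(27, 0)], [8, 2, 8, 6]⟩
def s1_2 : Sid := ⟨4, [44, 45, 46, 47, 48, 49, 50, 51], [(43, 0), (100, 5)], [2, 4, 0]⟩
def s1_3 : Sid := ⟨5, [54, 55, 56, 57, 58, 59], [(53, 0), (60, 1), (114, 2)], [4, 2, 0]⟩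
def s1_4 : Sid := ⟨7, [76, 77, 78, 79, 80, 81, 86, 87], [(75, 0), (88, 1)], [6, 4, 2, 0]⟩
def s1_5 : Sid := ⟨10, [128, 129, 130, 131, 136, 137], [(127, 0), (141, 2)], [2, 4, 0]⟩
def s1_6 : Sid := ⟨11, [144, 145, 146, 147], [(143, 0), (151, 2)], [2, 0, 0, 0]⟩
def s1_7 : Sid := ⟨12, [154, 155, 156, 157, 158, 159], [(153, 0), (162, 3), (167, 4)], [2, 0]⟩
def s1_8 : Sid := ⟨13, [170, 171, 172, 173, 178, 179], [(169, 0), (177, 1)], [0, 2, 4]⟩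
def s1_9 : Sid := ⟨14, [182, 183, 184, 185], [(181, 0), (192, 3), (189, 4)], [2, 0]⟩
def s1_10 : Sid := ⟨15, [196, 197, 198, 199], [(195, 0), (202, 1), (206, 2)], [0, 2]⟩
def s1_11 : Sid := ⟨16, [210, 211, 220, 221], [(209, 0), (214, 4)], [2, 2]⟩
def s1_12 : Sid := ⟨17, [224, 225, 234, 235], [(223, 0), (229, 4)], [2, 0]⟩
def SS1 : List Sid := [s1_0, s1_1, s1_2, s1_3, s1_4, s1_5, s1_6, s1_7, s1_8, s1_9, s1_10, s1_11, s1_12]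
def full1 : ℕ := Nat.pred (Nat.pow 2 6)

theorem sd0_0 : sideOK FT LyP.iv 118 LyM0.nets (mskL g0) (mskL g1) (SS1.map Sid.j) 0 full0 s0_0 = true := by decide +kernel
theorem sd0_1 : sideOK FT LyP.iv 118 LyM0.nets (mskL g0) (mskL g1) (SS1.map Sid.j) 0 full0 s0_1 = true := by decide +kernel
theorem sd0_2 : sideOK FT LyP.iv 118 LyM0.nets (mskL g0) (mskL g1) (SS1.map Sid.j) 0 full0 s0_2 = true := by decide +kernel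
theorem sd0_3 : sideOK FT LyP.iv 118 LyM0.nets (mskL g0) (mskL g1) (SS1.map Sid.j) 0 full0 s0_3 = true := by decide +kernel
theorem sd0_4 : sideOK FT LyP.iv 118 LyM0.nets (mskL g0) (mskL g1) (SS1.map Sid.j) 0 full0 s0_4 = true := by decide +kernel
theorem sd0 : ∀ s ∈ SS0, sideOK FT LyP.iv 118 LyM0.nets (mskL g0) (mskL g1) (SS1.map Sid.j) 0 full0 s = true :=
  (forall_cons sd0_0 (forall_cons sd0_1 (forall_cons sd0_2 (forall_cons sd0_3 (forall_cons sd0_4 (forall_nil' _))))))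
theorem kp0 : keepErr LyM0.nets (g0.map fun x => [x]) full0 = 0 := by decide +kernel
theorem po0 : orbErr LyM0.nets (g0.map fun x => [x]) [6, 10, 0, 4, 6, 2, 8, 0, 10, 6, 4, 0, 10, 8, 6, 4, 10] 0 14 3906 = 0 := by decide +kernel
theorem fx0 : fixErr LyM0.nets ([1, 2, 3, 4, 5, 6, 11, 12].map fun x => [x]) [0] = 0 := by decide +kernel

theorem sd1_0 : sideOK FT LyP.iv 118 LyM1.nets (mskL g1) (mskL g0) (SS0.map Sid.j) 0 full1 s1_0 = true := by decide +kernel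
theorem sd1_1 : sideOK FT LyP.iv 118 LyM1.nets (mskL g1) (mskL g0) (SS0.map Sid.j) 0 full1 s1_1 = true := by decide +kernel
theorem sd1_2 : sideOK FT LyP.iv 118 LyM1.nets (mskL g1) (mskL g0) (SS0.map Sid.j) 0 full1 s1_2 = true := by decide +kernel
theorem sd1_3 : sideOK FT LyP.iv 118 LyM1.nets (mskL g1) (mskL g0) (SS0.map Sid.j) 0 full1 s1_3 = true := by decide +kernel
theorem sd1_4 : sideOK FT LyP.iv 118 LyM1.nets (mskL g1) (mskL g0) (SS0.map Sid.j) 0 full1 s1_4 = true := by decide +kernel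
theorem sd1_5 : sideOK FT LyP.iv 118 LyM1.nets (mskL g1) (mskL g0) (SS0.map Sid.j) 0 full1 s1_5 = true := by decide +kernel
theorem sd1_6 : sideOK FT LyP.iv 118 LyM1.nets (mskL g1) (mskL g0) (SS0.map Sid.j) 0 full1 s1_6 = true := by decide +kernel
theorem sd1_7 : sideOK FT LyP.iv 118 LyM1.nets (mskL g1) (mskL g0) (SS0.map Sid.j) 0 full1 s1_7 = true := by decide +kernel
theorem sd1_8 : sideOK FT LyP.iv 118 LyM1.nets (mskL g1) (mskL g0) (SS0.map Sid.j) 0 full1 s1_8 = true := by decide +kernel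
theorem sd1_9 : sideOK FT LyP.iv 118 LyM1.nets (mskL g1) (mskL g0) (SS0.map Sid.j) 0 full1 s1_9 = true := by decide +kernel
theorem sd1_10 : sideOK FT LyP.iv 118 LyM1.nets (mskL g1) (mskL g0) (SS0.map Sid.j) 0 full1 s1_10 = true := by decide +kernel
theorem sd1_11 : sideOK FT LyP.iv 118 LyM1.nets (mskL g1) (mskL g0) (SS0.map Sid.j) 0 full1 s1_11 = true := by decide +kernel
theorem sd1_12 : sideOK FT LyP.iv 118 LyM1.nets (mskL g1) (mskL g0) (SS0.map Sid.j) 0 full1 s1_12 = true := by decide +kernel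
theorem sd1 : ∀ s ∈ SS1, sideOK FT LyP.iv 118 LyM1.nets (mskL g1) (mskL g0) (SS0.map Sid.j) 0 full1 s = true :=
  (forall_cons sd1_0 (forall_cons sd1_1 (forall_cons sd1_2 (forall_cons sd1_3 (forall_cons sd1_4 (forall_cons sd1_5 (forall_cons sd1_6 (forall_cons sd1_7 (forall_cons sd1_8 (forall_cons sd1_9 (forall_cons sd1_10 (forall_cons sd1_11 (forall_cons sd1_12 (forall_nil' _))))))))))))))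
theorem kp1 : keepErr LyM1.nets (g1.map fun x => [x]) full1 = 0 := by decide +kernel
theorem po1 : orbErr LyM1.nets (g1.map fun x => [x]) [6, 2, 2, 2, 0] 0 14 6 = 0 := by decide +kernel
theorem fx1 : fixErr LyM1.nets ([1, 2, 3, 4, 5, 6, 11, 12].map fun x => [x]) [0] = 0 := by decide +kernel

theorem t0f0 : fixErr LyM0.nets [[7], [13], [1], [5], [3], [11]] [] = 0 := by decide +kernel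
theorem t0o0 : orbErr LyM0.nets [[7], [13], [1], [5], [3], [11]] [0, 1, 2, 3, 0, 4, 5, 2, 1, 0, 3, 2, 1, 5, 0, 3, 1] 0 14 3906 = 0 := by decide +kernel
theorem t0f1 : fixErr LyM0.nets [[5], [1], [3]] [0] = 0 := by decide +kernel
theorem t0o1 : orbErr LyM0.nets [[5], [1], [3]] [0, 1, 2, 0, 1, 2, 0, 1, 2, 0, 1, 2, 0, 1, 2, 0, 1, 2, 1] 4097 14 3125 = 0 := by decide +kernel
theorem t0f2 : fixErr LyM0.nets [[1], [3]] [4097, 0] = 0 := by decide +kernel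
theorem t0o2 : orbErr LyM0.nets [[1], [3]] [0, 1, 0, 1, 0, 1, 0, 1, 0, 1, 0, 1, 0, 1, 0, 1, 1] 8210 14 480 = 0 := by decide +kernel
theorem t1f0 : fixErr LyM1.nets [[5], [11], [1], [9], [3]] [] = 0 := by decide +kernel
theorem t1o0 : orbErr LyM1.nets [[5], [11], [1], [9], [3]] [0, 1, 2, 0, 3, 2, 0, 4, 3, 0, 4, 2, 0, 3, 4, 2, 4] 8 14 3125 = 0 := by decide +kernel
theorem t1f1 : fixErr LyM1.nets [[1], [3], [9]] [8] = 0 := by decide +kernel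
theorem t1o1 : orbErr LyM1.nets [[1], [3], [9]] [0, 1, 2, 0, 1, 2, 0, 1, 2, 1, 0, 1, 2, 1, 0, 1, 0] 4123 14 960 = 0 := by decide +kernel
theorem t1f2 : fixErr LyM1.nets [[2, 3, 10, 4, 10, 2]] [4123, 8] = 0 := by decide +kernel
theorem t1o2 : orbErr LyM1.nets [[2, 3, 10, 4, 10, 2]] [0, 0] 0 14 3 = 0 := by decide +kernel
theorem u1f0 : fixErr LyM0.nets (subW (stabWs FT LyP.iv s0_1) [[2], [0], [4], [6]]) [] = 0 := by decide +kernel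
theorem u1o0 : orbErr LyM0.nets (subW (stabWs FT LyP.iv s0_1) [[2], [0], [4], [6]]) [0, 1, 0, 2, 1, 0, 3, 2, 0, 1, 2, 0, 3, 1, 0, 2, 3, 1] 1 14 3125 = 0 := by decide +kernel
theorem u1f1 : fixErr LyM0.nets (subW (stabWs FT LyP.iv s0_1) [[0], [4], [6]]) [1] = 0 := by decide +kernel
theorem u1o1 : orbErr LyM0.nets (subW (stabWs FT LyP.iv s0_1) [[0], [4], [6]]) [0, 1, 2, 0, 1, 0, 2, 1, 1, 0] 6 14 96 = 0 := by decide +kernel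
theorem u2f0 : fixErr LyM0.nets (subW (stabWs FT LyP.iv s0_2) [[0], [2], [4], [6]]) [] = 0 := by decide +kernel
theorem u2o0 : orbErr LyM0.nets (subW (stabWs FT LyP.iv s0_2) [[0], [2], [4], [6]]) [0, 1, 2, 3, 0, 1, 3, 2, 1, 3, 0, 1, 3, 2, 1, 3] 18 14 2016 = 0 := by decide +kernel
theorem u2f1 : fixErr LyM0.nets (subW (stabWs FT LyP.iv s0_2) [[0, 2, 6, 3, 7, 2, 1]]) [18] = 0 := by decide +kernel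
theorem u2o1 : orbErr LyM0.nets (subW (stabWs FT LyP.iv s0_2) [[0, 2, 6, 3, 7, 2, 1]]) [0, 0] 0 14 3 = 0 := by decide +kernel
theorem u3f0 : fixErr LyM0.nets (subW (stabWs FT LyP.iv s0_3) [[0], [2], [4], [6], [8], [10]]) [] = 0 := by decide +kernel
theorem u3o0 : orbErr LyM0.nets (subW (stabWs FT LyP.iv s0_3) [[0], [2], [4], [6], [8], [10]]) [0, 1, 2, 3, 4, 0, 5, 2, 4, 3, 1, 5, 2, 0] 18 14 1440 = 0 := by decide +kernel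
theorem u3f1 : fixErr LyM0.nets (subW (stabWs FT LyP.iv s0_3) [[6, 5, 11]]) [18] = 0 := by decide +kernel
theorem u3o1 : orbErr LyM0.nets (subW (stabWs FT LyP.iv s0_3) [[6, 5, 11]]) [0] 0 14 2 = 0 := by decide +kernel
theorem u4f0 : fixErr LyM0.nets (subW (stabWs FT LyP.iv s0_4) [[0], [2], [4]]) [] = 0 := by decide +kernel
theorem u4o0 : orbErr LyM0.nets (subW (stabWs FT LyP.iv s0_4) [[0], [2], [4]]) [0, 1, 2, 0, 2, 1, 2, 0, 2, 1, 2, 0, 2, 1, 2, 1, 0] 39 14 1008 = 0 := by decide +kernel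

end Cfsg.Agent.H17.LyF
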