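import Cfsg.Agent.H17.LyF
import Cfsg.Agent.H17.Cert.LyT1
import Cfsg.Agent.H17.Cert.LyT2
import Cfsg.Agent.H17.Cert.LyT3
import Cfsg.Agent.H17.Cert.LyT4

set_option autoImplicit false
set_option maxRecDepth 100000
set_option exponentiation.threshold 400000

namespace Cfsg.Agent.H17.LyU

open Cfsg Cfsg.Agent.H58 Cfsg.Agent.H17

open LyP LyF

section
variable {G : Type*} [Group G] {e : ℕ → G}

theorem card_A (Q : RuleOK e LyT2.rels iv) : Finite (clL e [1, 2, 3, 4]) ∧ Nat.card (clL e [1, 2, 3, 4]) ≤ 480 :=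
  card_congr (clL_eq_of_genOK Q [(0, 2), (0, 4)] _ _ (by decide +kernel))
    (card_step card_le_bot (LyT1.relIndex_le (RuleOK_sub Q (by decide +kernel)) ⊥ (forall_nil _)))

theorem card_B (Q : RuleOK e LyT2.rels iv) : Finite (clL e [1, 2, 3, 4, 5, 6, 11, 12]) ∧ Nat.card (clL e [1, 2, 3, 4, 5, 6, 11, 12]) ≤ 1500000 :=
  card_congr (clL_eq_of_genOK Q [(0, 2), (0, 4), (0, 6), (11, 0), (0, 12)] _ _ (by decide +kernel))
    (card_step (card_A Q) (LyT2.relIndex_le Q _ (mem_clL e _ _ (by decide))))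

theorem gen0 (Q : RuleOK e LyM0.rels iv) : clL e [1, 3, 5, 7] = clL e g0 :=
  clL_eq_of_genOK Q [(0, 2), (0, 4), (0, 6), (0, 8), (11, 0), (0, 12), (49, 0), (0, 14)] _ _ (by decide +kernel)

theorem gen1 (Q : RuleOK e LyM1.rels iv) : clL e [1, 3, 5, 9] = clL e g1 :=
  clL_eq_of_genOK Q [(0, 2), (0, 4), (0, 6), (0, 10), (11, 0), (0, 12)] _ _ (by decide +kernel)

theorem ind0 (Q : RuleOK e LyM0.rels iv) : (clL e [1, 2, 3, 4, 5, 6, 11, 12]).relIndex (clL e g0) ≠ 0 ∧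
    (clL e [1, 2, 3, 4, 5, 6, 11, 12]).relIndex (clL e g0) ≤ 3906 :=
  relIndex_congr (gen0 Q) (LyT3.relIndex_le Q _ (mem_clL e _ _ (by decide)))

theorem ind1 (Q : RuleOK e LyM1.rels iv) : (clL e [1, 2, 3, 4, 5, 6, 11, 12]).relIndex (clL e g1) ≠ 0 ∧
    (clL e [1, 2, 3, 4, 5, 6, 11, 12]).relIndex (clL e g1) ≤ 6 :=
  relIndex_congr (gen1 Q) (LyT4.relIndex_le Q _ (mem_clL e _ _ (by decide)))

theorem card0 (Q : RuleOK e LyM0.rels iv) : Finite (clL e g0) ∧ Nat.card (clL e g0) ≤ 5859000000 :=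
  card_step (card_B (RuleOK_sub Q (by decide +kernel))) (ind0 Q)

theorem card1 (Q : RuleOK e LyM1.rels iv) : Finite (clL e g1) ∧ Nat.card (clL e g1) ≤ 9000000 :=
  card_step (card_B (RuleOK_sub Q (by decide +kernel))) (ind1 Q)

end

abbrev D0 : Type := PD el LyM0.nets g0
noncomputable def M0 : Model D0 := pairModel el ty0 LyM0.netsOK
noncomputable def ψ0 : D0 →* Spor.Ly := pairFst el LyM0.nets g0
theorem L0 : Loc el g0 M0 ψ0 := pairLoc el ty0 LyM0.netsOK
theorem Q0 : RuleOK M0.el LyM0.rels iv :=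
  ruleOK_model (RuleOK_sub R (by decide +kernel)) LyM0.ruleN ty0 LyM0.netsOK
theorem cle0 : Finite D0 ∧ Nat.card D0 ≤ 5859000000 := card_top_le L0.hgen (card0 Q0)
instance fin0 : Finite D0 := cle0.1
theorem base0 : M0.fixK ⊤ (bl0.map Prod.fst) = ⊥ ∧ Nat.card D0 = 5859000000 ∧ Function.Injective M0.φ :=
  fix_bot cle0.2 fun m hm => le_trans (by omega) (show 3906 * (3125 * (480 * (m))) ≤ _ from
    (M0.lev_step (fun _ _ => trivial) t0f0 t0o0
    (M0.lev_step (fun _ _ => trivial) t0f1 t0o1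
    (M0.lev_step (fun _ _ => trivial) t0f2 t0o2
    hm))))
theorem st0 : ∀ d ∈ M0.St 0, ψ0 d ∈ clL el g1 :=
  St_le L0 (by decide) fx0 (ind0 Q0) po0

abbrev D1 : Type := PD el LyM1.nets g1
noncomputable def M1 : Model D1 := pairModel el ty1 LyM1.netsOK
noncomputable def ψ1 : D1 →* Spor.Ly := pairFst el LyM1.nets g1
theorem L1 : Loc el g1 M1 ψ1 := pairLoc el ty1 LyM1.netsOK
theorem Q1 : RuleOK M1.el LyM1.rels iv :=
  ruleOK_model (RuleOK_sub R (by decide +kernel)) LyM1.ruleN ty1 LyM1.netsOK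
theorem cle1 : Finite D1 ∧ Nat.card D1 ≤ 9000000 := card_top_le L1.hgen (card1 Q1)
instance fin1 : Finite D1 := cle1.1
theorem base1 : M1.fixK ⊤ (bl1.map Prod.fst) = ⊥ ∧ Nat.card D1 = 9000000 ∧ Function.Injective M1.φ :=
  fix_bot cle1.2 fun m hm => le_trans (by omega) (show 3125 * (960 * (3 * (m))) ≤ _ from
    (M1.lev_step (fun _ _ => trivial) t1f0 t1o0
    (M1.lev_step (fun _ _ => trivial) t1f1 t1o1
    (M1.lev_step (fun _ _ => trivial) t1f2 t1o2
    hm))))
theorem st1 : ∀ d ∈ M1.St 0, ψ1 d ∈ clL el g0 :=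
  St_le L1 (by decide) fx1 (ind1 Q1) po1

/-- the subgroup generated by a, b, c, d -/
abbrev H : Subgroup Spor.Ly := clL el g0

theorem facts : ∀ i < 118, Holds H el (lab el LW) (FT i) :=
  facts_hold R (el_mem_closure el g0) (selE_sound (forall_cons (eqvN_sound L0 blk0 base0.1)
    (forall_cons (eqvN_sound L1 blk1 base1.1) (forall_nil' _)))) chk_all

theorem hgen : clL el g0 ⊔ clL el g1 = ⊤ := by
  rw [eq_top_iff, ← top]
  refine clL_le fun x hx => ?_
  rcases (by revert x; decide : x ∈ g0 ∨ x ∈ g1) with h | h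
  · exact Subgroup.mem_sup_left (el_mem_closure el _ x h)
  · exact Subgroup.mem_sup_right (el_mem_closure el _ x h)

theorem dcs : DCS H ψ0 (fun i : Fin SS0.length => lab el LW (SS0.get i).j)
    (fun i => clW M0.el (stabWs FT iv (SS0.get i))) :=
  dcs_of L0 R.hinv facts sd0 (dce_cover L0 L1 R.hinv facts st0 st1 kp0 (by decide +kernel) kp1
    (by decide +kernel) sd0 sd1 (by decide) rfl hgen)

theorem i0 : (clW M0.el (stabWs FT iv s0_0)).index ≤ 1 :=
  index_top_of ((gen0 Q0).trans L0.hgen) (by decide +kernel)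
theorem i1 : (clW M0.el (stabWs FT iv s0_1)).index ≤ 19530 :=
  index_le_of_card base0.2.1 (show 3125 * (96 * (1)) ≤ _ from
    (M0.lev_step (subW_mem _ _ _) u1f0 u1o0
    (M0.lev_step (subW_mem _ _ _) u1f1 u1o1
    (M0.chain_base _)))) (by norm_num)
theorem i2 : (clW M0.el (stabWs FT iv s0_2)).index ≤ 968750 :=
  index_le_of_card base0.2.1 (show 2016 * (3 * (1)) ≤ _ from
    (M0.lev_step (subW_mem _ _ _) u2f0 u2o0
    (M0.lev_step (subW_mem _ _ _) u2f1 u2o1
    (M0.chain_base _)))) (by norm_num)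
theorem i3 : (clW M0.el (stabWs FT iv s0_3)).index ≤ 2034375 :=
  index_le_of_card base0.2.1 (show 1440 * (2 * (1)) ≤ _ from
    (M0.lev_step (subW_mem _ _ _) u3f0 u3o0
    (M0.lev_step (subW_mem _ _ _) u3f1 u3o1
    (M0.chain_base _)))) (by norm_num)
theorem i4 : (clW M0.el (stabWs FT iv s0_4)).index ≤ 5812500 :=
  index_le_of_card base0.2.1 (show 1008 * (1) ≤ _ from
    (M0.lev_step (subW_mem _ _ _) u4f0 u4o0
    (M0.chain_base _))) (by norm_num)

/-- the lengths of the orbits -/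
def n : Fin SS0.length → ℕ := fun i => [1, 19530, 968750, 2034375, 5812500].getD i 0

theorem hn : ∀ i, (clW M0.el (stabWs FT iv (SS0.get i))).index ≤ n i := by
  intro i
  fin_cases i
  exacts [i0, i1, i2, i3, i4]

theorem sum_n : ∑ i, n i = 8835156 := by decide +kernel

theorem index_le : H.index ≠ 0 ∧ H.index ≤ 8835156 := sum_n ▸ dcs.index_le' hn

theorem card_le : Finite Spor.Ly ∧ Nat.card Spor.Ly ≤ 51765179004000000 :=
  card_top_le rfl (card_step (card0 (RuleOK_sub R (by decide +kernel)))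
    (by rw [Subgroup.relIndex_top_right]; exact index_le))

end Cfsg.Agent.H17.LyU
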