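import Cfsg.Agent.H17.ThP
import Cfsg.Agent.H17.Mod.ThM0
import Cfsg.Agent.H17.Mod.ThM1
import Cfsg.Agent.H17.Mod.ThM2
import Cfsg.Agent.H17.Rep.ThC

set_option autoImplicit false
set_option Elab.async false
set_option maxRecDepth 100000
set_option exponentiation.threshold 400000

namespace Cfsg.Agent.H17.ThF

open Cfsg Cfsg.Agent.H58 Cfsg.Agent.H17

def LW : List (List ℕ) := [[], [], [], [11, 4, 11], [11], [11, 4, 11, 2, 1, 3, 2], [11, 7], [11, 4, 11, 2, 1, 3, 2, 7, 4, 11], [11, 4, 11, 2, 1, 3, 2, 7, 4, 11, 4, 5, 9, 7], [11, 4, 11, 2, 1, 12, 2], [11, 4, 11, 2, 1, 3, 2, 7, 4, 11, 3, 2, 1, 12, 2], [11, 4, 11, 7], [11, 4, 11, 2], [11, 4, 11, 2, 11, 4, 11], [11, 4, 11, 2, 1, 3, 2, 7, 4, 11, 7], [11, 4, 11,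 2, 1, 3, 2, 7, 4, 11, 3, 2, 1, 12, 2, 7, 7, 11], [11, 4, 11, 2, 1, 3, 2, 7, 4, 11, 3, 2, 1, 12, 2, 11, 7, 5, 4, 11], [11, 6, 2, 12, 7, 7], [11, 4, 11, 7, 5, 2, 12, 7], [11, 2, 12, 7], [11, 7, 2, 12, 7], [11, 4, 11, 2, 1, 12, 2, 11], [11, 4, 11, 2, 11, 4, 11, 12, 3, 2], [11, 4, 11, 2, 11, 4, 11, 4, 7, 5, 6, 6, 2, 12, 7], [11, 4, 11, 2, 1, 3, 2, 7, 4, 11, 3, 2, 1, 12, 2, 7, 7, 11, 1, 3, 2], [11, 4, 11, 2, 1, 3, 2, 7, 4, 11, 3, 2, 1, 12, 2, 7, 7, 11, 2], [11, 4, 11, 2, 1, 3, 2, 7, 4, 11, 2], [11, 4, 11, 2, 1, 3, 2, 7, 4, 11, 2, 7, 12, 4, 12, 6], [11, 4, 11, 2, 1, 3, 2, 7, 4, 11, 2, 12, 4, 12, 8, 6], [11, 4, 11, 2, 1, 3, 2, 7, 4, 11, 2, 12, 7, 4, 12, 6, 6], [11, 4, 11, 2, 11, 4, 11, 6, 12, 2], [11, 4, 11,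 2, 11, 4, 11, 6, 12, 2, 7, 11, 7, 4, 11], [11, 4, 11, 2, 11, 4, 11, 7], [11, 4, 11, 2, 11, 4, 11, 4, 12, 7], [11, 4, 11, 2, 11, 4, 11, 12, 7], [11, 4, 11, 2, 1, 3, 2, 7, 4, 11, 3, 2, 1, 12, 2, 11, 7, 5, 4, 11, 12, 3, 2], [11, 4, 11, 2, 1, 12, 2, 11, 5, 7], [11, 4, 11, 2, 12, 7], [11, 4, 11, 2, 1, 12, 2, 7, 11], [11, 4, 11, 2, 1, 12, 2, 6, 11], [11, 4, 11, 2, 11, 4, 11, 7, 12, 2], [11, 4, 11, 2, 1, 12, 2, 7, 11, 2, 1, 12, 2]]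

noncomputable def FT0 : ℕ → Fct := (ndA (nat_lit 8) (ndA (nat_lit 4) (ndA (nat_lit 2) (ndA (nat_lit 1) (lfA (⟨0, [1], 0, []⟩ : Fct)) (lfA (⟨0, [2], 0, []⟩ : Fct))) (ndA (nat_lit 3) (lfA (⟨0, [3], 0, []⟩ : Fct)) (lfA (⟨0, [4], 0, []⟩ : Fct)))) (ndA (nat_lit 6) (ndA (nat_lit 5) (lfA (⟨0, [5], 0, []⟩ : Fct)) (lfA (⟨0, [6], 0, []⟩ : Fct))) (ndA (nat_lit 7) (lfA (⟨0, [8], 0, []⟩ : Fct)) (lfA (⟨0, [], 1, []⟩ : Fct))))) (ndA (nat_lit 12) (ndA (nat_lit 10) (ndA (nat_lit 9) (lfA (⟨1, [1], 1, []⟩ : Fct)) (lfA (⟨1, [3], 1, []⟩ : Fct))) (ndA (nat_lit 11) (lfA (⟨1, [4], 1, []⟩ : Fct)) (lfA (⟨1, [5], 1, []⟩ : Fct)))) (ndA (nat_lit 14) (ndA (nat_lit 13) (lfA (⟨1, [6], 1, []⟩ : Fct)) (lfA (⟨1, [8], 1, []⟩ : Fct))) (ndA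 (nat_lit 15) (lfA (⟨0, [], 2, []⟩ : Fct)) (lfA (⟨2, [1], 2, []⟩ : Fct))))))
noncomputable def FT1 : ℕ → Fct := (ndA (nat_lit 24) (ndA (nat_lit 20) (ndA (nat_lit 18) (ndA (nat_lit 17) (lfA (⟨2, [2], 2, []⟩ : Fct)) (lfA (⟨2, [3], 2, []⟩ : Fct))) (ndA (nat_lit 19) (lfA (⟨2, [4], 2, []⟩ : Fct)) (lfA (⟨2, [5], 2, []⟩ : Fct)))) (ndA (nat_lit 22) (ndA (nat_lit 21) (lfA (⟨2, [], 1, []⟩ : Fct)) (lfA (⟨1, [11, 4, 11], 3, []⟩ : Fct))) (ndA (nat_lit 23) (lfA (⟨3, [1], 3, []⟩ : Fct)) (lfA (⟨3, [1, 12], 3, []⟩ : Fct))))) (ndA (nat_lit 28) (ndA (nat_lit 26) (ndA (nat_lit 25) (lfA (⟨3, [3, 4, 3, 5], 3, []⟩ : Fct)) (lfA (⟨3, [8], 3, []⟩ : Fct))) (ndA (nat_lit 27) (lfA (⟨3, [3, 4, 12, 3, 6, 12, 4, 12, 6, 12], 3, []⟩ : Fct))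 (lfA (⟨3, [8, 12, 7, 5, 4, 6, 5, 8, 7, 12], 3, []⟩ : Fct)))) (ndA (nat_lit 30) (ndA (nat_lit 29) (lfA (⟨3, [], 2, [11, 4, 11]⟩ : Fct)) (lfA (⟨1, [11], 4, []⟩ : Fct))) (ndA (nat_lit 31) (lfA (⟨4, [1], 4, []⟩ : Fct)) (lfA (⟨4, [3], 4, []⟩ : Fct))))))
noncomputable def FT2 : ℕ → Fct := (ndA (nat_lit 40) (ndA (nat_lit 36) (ndA (nat_lit 34) (ndA (nat_lit 33) (lfA (⟨4, [5], 4, []⟩ : Fct)) (lfA (⟨4, [9], 4, []⟩ : Fct))) (ndA (nat_lit 35) (lfA (⟨4, [1, 12], 4, []⟩ : Fct)) (lfA (⟨4, [5, 7, 5, 6], 4, []⟩ : Fct)))) (ndA (nat_lit 38) (ndA (nat_lit 37) (lfA (⟨4, [], 2, [11]⟩ : Fct)) (lfA (⟨4, [5, 2, 1, 3, 2], 4, []⟩ : Fct))) (ndA (nat_lit 39) (lfA (⟨3, [2, 1, 3, 2], 5, []⟩ : Fct)) (lfA (⟨5, [3], 5, []⟩ : Fct))))) (ndA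 (nat_lit 44) (ndA (nat_lit 42) (ndA (nat_lit 41) (lfA (⟨5, [8], 5, []⟩ : Fct)) (lfA (⟨5, [1, 7, 5, 12, 6, 5, 12, 5], 5, []⟩ : Fct))) (ndA (nat_lit 43) (lfA (⟨5, [12, 5, 12], 5, []⟩ : Fct)) (lfA (⟨5, [3, 5, 12, 5, 6, 12, 5, 7], 5, []⟩ : Fct)))) (ndA (nat_lit 46) (ndA (nat_lit 45) (lfA (⟨5, [], 2, [11, 4, 11, 2, 3, 1, 2]⟩ : Fct)) (lfA (⟨5, [4, 3, 10, 4, 5, 10], 5, []⟩ : Fct))) (ndA (nat_lit 47) (lfA (⟨5, [11], 4, [1, 4, 3, 5, 2, 1, 3, 2]⟩ : Fct)) (lfA (⟨4, [7], 6, []⟩ : Fct))))))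
noncomputable def FT3 : ℕ → Fct := (ndA (nat_lit 56) (ndA (nat_lit 52) (ndA (nat_lit 50) (ndA (nat_lit 49) (lfA (⟨6, [1], 6, []⟩ : Fct)) (lfA (⟨6, [3], 6, []⟩ : Fct))) (ndA (nat_lit 51) (lfA (⟨6, [5], 6, []⟩ : Fct)) (lfA (⟨6, [2, 1, 3, 2], 6, []⟩ : Fct)))) (ndA (nat_lit 54) (ndA (nat_lit 53) (lfA (⟨6, [12, 3, 5, 12], 6, []⟩ : Fct)) (lfA (⟨6, [3, 5, 12, 2, 1, 3, 2, 12, 5], 6, []⟩ : Fct))) (ndA (nat_lit 55) (lfA (⟨6, [], 1, [11, 7]⟩ : Fct)) (lfA (⟨6, [2, 1, 4, 3, 2], 5, [5, 10, 6]⟩ : Fct))))) (ndA (nat_lit 60) (ndA (nat_lit 58) (ndA (nat_lit 57) (lfA (⟨6, [4, 11], 3, [1, 3, 4, 12, 5, 7, 8, 12, 5, 7]⟩ : Fct)) (lfA (⟨6, [4, 11, 5, 4, 2, 3, 1, 2], 5, [6, 9, 12, 3, 7, 5, 7, 8, 12]⟩ : Fct))) (ndA (nat_lit 59)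 (lfA (⟨5, [7, 4, 11], 7, []⟩ : Fct)) (lfA (⟨7, [1, 12], 7, []⟩ : Fct)))) (ndA (nat_lit 62) (ndA (nat_lit 61) (lfA (⟨7, [1, 6, 12, 7], 7, []⟩ : Fct)) (lfA (⟨7, [6, 12, 7, 7, 12, 6], 7, []⟩ : Fct))) (ndA (nat_lit 63) (lfA (⟨7, [1, 7, 12, 4, 7, 5, 7, 5, 4, 8], 7, []⟩ : Fct)) (lfA (⟨7, [6, 6, 12, 7, 7, 12], 7, []⟩ : Fct))))))
noncomputable def FT4 : ℕ → Fct := (ndA (nat_lit 72) (ndA (nat_lit 68) (ndA (nat_lit 66) (ndA (nat_lit 65) (lfA (⟨7, [1], 7, []⟩ : Fct)) (lfA (⟨7, [6], 6, [1, 2, 1, 4, 3, 2, 1, 4, 3, 10]⟩ : Fct))) (ndA (nat_lit 67) (lfA (⟨7, [7, 7], 6, [5, 8, 12, 2, 1, 12, 4, 12, 2, 10, 4, 5, 10]⟩ : Fct)) (lfA (⟨7, [1, 4, 6, 12, 7, 2, 1, 3, 2, 4], 7, []⟩ : Fct)))) (ndA (nat_lit 70) (ndA (nat_lit 69) (lfA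 (⟨7, [4, 5, 9, 7], 8, []⟩ : Fct)) (lfA (⟨8, [3, 4, 12, 4], 8, []⟩ : Fct))) (ndA (nat_lit 71) (lfA (⟨8, [1, 12, 2, 1, 3, 2], 8, []⟩ : Fct)) (lfA (⟨8, [], 5, [7, 4, 11, 9, 4, 5, 7]⟩ : Fct))))) (ndA (nat_lit 76) (ndA (nat_lit 74) (ndA (nat_lit 73) (lfA (⟨8, [4, 5, 8, 12, 5, 10, 4, 10], 8, []⟩ : Fct)) (lfA (⟨8, [1, 4, 3, 4, 12, 5, 10], 8, []⟩ : Fct))) (ndA (nat_lit 75) (lfA (⟨3, [2, 1, 12, 2], 9, []⟩ : Fct)) (lfA (⟨9, [4, 3, 5, 4], 9, []⟩ : Fct)))) (ndA (nat_lit 78) (ndA (nat_lit 77) (lfA (⟨9, [8], 9, []⟩ : Fct)) (lfA (⟨9, [1, 4, 3, 4], 9, []⟩ : Fct))) (ndA (nat_lit 79) (lfA (⟨9, [4, 9, 6, 5, 4, 7, 9, 12, 6], 9, []⟩ : Fct)) (lfA (⟨9, [], 2, [11, 4, 11, 2, 12, 1, 2]⟩ : Fct))))))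
noncomputable def FT5 : ℕ → Fct := (ndA (nat_lit 88) (ndA (nat_lit 84) (ndA (nat_lit 82) (ndA (nat_lit 81) (lfA (⟨9, [6, 12, 7], 6, [4, 11, 2, 12, 4, 3, 4, 2, 1]⟩ : Fct)) (lfA (⟨9, [6, 5, 6, 12, 7], 6, [4, 11, 12, 2, 3, 1, 2, 12, 8, 4, 5, 2]⟩ : Fct))) (ndA (nat_lit 83) (lfA (⟨9, [4, 11], 4, [4, 5, 4, 3, 2, 12, 4, 3, 2]⟩ : Fct)) (lfA (⟨9, [3, 7, 12, 4, 7, 12, 3, 7, 10], 7, [3, 2, 12, 6, 12, 2, 8, 6, 3, 12, 4, 12, 5]⟩ : Fct)))) (ndA (nat_lit 86) (ndA (nat_lit 85) (lfA (⟨9, [4, 12, 5, 12, 10, 7], 6, [1, 2, 1, 3, 2, 4, 3, 2, 4, 3]⟩ : Fct)) (lfA (⟨9, [4, 12, 5, 12, 6, 10, 6], 7, [1, 6, 5, 2, 1, 3, 2, 12]⟩ : Fct))) (ndA (nat_lit 87) (lfA (⟨7, [3, 2, 1, 12, 2], 10, []⟩ : Fct)) (lfA (⟨10, [4, 3, 5, 4], 10, []⟩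 : Fct))))) (ndA (nat_lit 92) (ndA (nat_lit 90) (ndA (nat_lit 89) (lfA (⟨10, [3, 4, 12, 6, 5, 7, 12, 4, 3], 10, []⟩ : Fct)) (lfA (⟨10, [4, 3, 12, 6, 8, 12, 5, 4], 10, []⟩ : Fct))) (ndA (nat_lit 91) (lfA (⟨10, [6, 8, 12, 4, 6, 5, 4, 12, 7, 9], 10, []⟩ : Fct)) (lfA (⟨10, [1, 7, 7, 12, 4, 5, 4, 6, 12, 6], 10, []⟩ : Fct)))) (ndA (nat_lit 94) (ndA (nat_lit 93) (lfA (⟨10, [4, 12, 6, 6], 8, [2, 3, 2, 4, 3, 2, 1, 8]⟩ : Fct)) (lfA (⟨10, [4, 3, 12, 6, 6, 10], 7, [4, 5, 4, 6, 6, 5, 4, 12, 3, 2, 1, 3, 2]⟩ : Fct))) (ndA (nat_lit 95) (lfA (⟨10, [7, 7, 4, 11, 7, 4, 3, 4, 5, 7, 1], 6, [2, 11, 12, 11, 2, 11, 4, 3, 1, 2, 12, 8, 3, 2]⟩ : Fct)) (lfA (⟨10, [7, 12, 7, 9, 12, 4, 5, 7, 10, 4], 10, []⟩ : Fct))))))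
noncomputable def FT6 : ℕ → Fct := (ndA (nat_lit 104) (ndA (nat_lit 100) (ndA (nat_lit 98) (ndA (nat_lit 97) (lfA (⟨3, [7], 11, []⟩ : Fct)) (lfA (⟨11, [3, 5, 12, 5, 12], 11, []⟩ : Fct))) (ndA (nat_lit 99) (lfA (⟨11, [4, 12, 3, 4], 11, []⟩ : Fct)) (lfA (⟨11, [], 1, [11, 4, 11, 7]⟩ : Fct)))) (ndA (nat_lit 102) (ndA (nat_lit 101) (lfA (⟨11, [2, 1, 3, 2], 5, [7]⟩ : Fct)) (lfA (⟨11, [2, 1, 4, 12, 2], 9, [1, 4, 5, 12, 6, 12, 4, 12]⟩ : Fct))) (ndA (nat_lit 103) (lfA (⟨11, [1, 5, 4, 3, 4, 8, 12, 10], 11, []⟩ : Fct)) (lfA (⟨11, [2, 3, 4, 1, 2, 11], 7, []⟩ : Fct))))) (ndA (nat_lit 108) (ndA (nat_lit 106) (ndA (nat_lit 105) (lfA (⟨3, [2], 12, []⟩ : Fct)) (lfA (⟨12, [8], 12, []⟩ : Fct))) (ndA (nat_lit 107) (lfA (⟨12,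 [4, 5], 12, []⟩ : Fct)) (lfA (⟨12, [8, 7, 5, 4, 6, 5, 8, 7], 12, []⟩ : Fct)))) (ndA (nat_lit 110) (ndA (nat_lit 109) (lfA (⟨12, [], 2, [11, 4, 11, 2]⟩ : Fct)) (lfA (⟨12, [6, 5, 7], 6, [12, 4, 10, 2, 4]⟩ : Fct))) (ndA (nat_lit 111) (lfA (⟨12, [1, 5, 12, 10, 4, 5, 10], 12, []⟩ : Fct)) (lfA (⟨12, [11, 4, 11], 13, []⟩ : Fct))))))
noncomputable def FT7 : ℕ → Fct := (ndA (nat_lit 120) (ndA (nat_lit 116) (ndA (nat_lit 114) (ndA (nat_lit 113) (lfA (⟨13, [8], 13, []⟩ : Fct)) (lfA (⟨13, [3, 5, 4, 3], 13, []⟩ : Fct))) (ndA (nat_lit 115) (lfA (⟨13, [8, 12, 6, 5, 4, 9, 6, 5, 6, 12], 13, []⟩ : Fct)) (lfA (⟨13, [1, 12, 5, 12], 13, []⟩ : Fct)))) (ndA (nat_lit 118) (ndA (nat_lit 117) (lfA (⟨13, [], 2, [12, 3, 10, 4, 10,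 2, 11, 4, 11]⟩ : Fct)) (lfA (⟨13, [1, 12, 5, 2, 1, 12], 13, []⟩ : Fct))) (ndA (nat_lit 119) (lfA (⟨13, [1, 5, 12, 4, 5, 2, 12, 5], 13, []⟩ : Fct)) (lfA (⟨13, [2], 9, [11, 4, 11, 3, 12, 4]⟩ : Fct))))) (ndA (nat_lit 124) (ndA (nat_lit 122) (ndA (nat_lit 121) (lfA (⟨13, [6, 2, 12, 7], 6, [2, 12, 2, 12, 2, 4, 12, 10, 2, 4, 10, 4, 10, 4, 3]⟩ : Fct)) (lfA (⟨7, [7], 14, []⟩ : Fct))) (ndA (nat_lit 123) (lfA (⟨14, [1, 12], 14, []⟩ : Fct)) (lfA (⟨14, [1], 14, []⟩ : Fct)))) (ndA (nat_lit 126) (ndA (nat_lit 125) (lfA (⟨14, [1, 4, 12, 2, 1, 3, 2, 4], 14, []⟩ : Fct)) (lfA (⟨14, [], 5, [7, 4, 11, 7]⟩ : Fct))) (ndA (nat_lit 127) (lfA (⟨14, [2, 1, 3, 2], 9, [4, 12, 3, 6, 5, 10, 7]⟩ : Fct)) (lfA (⟨14, [4, 3, 8, 12, 5, 12,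 10, 4], 14, []⟩ : Fct))))))
noncomputable def FT8 : ℕ → Fct := (ndA (nat_lit 136) (ndA (nat_lit 132) (ndA (nat_lit 130) (ndA (nat_lit 129) (lfA (⟨14, [11, 5, 2, 3, 1, 2], 7, [9, 6, 5, 2, 1, 3, 2]⟩ : Fct)) (lfA (⟨14, [11, 5, 2, 3, 1, 2, 12, 2], 10, [3, 4, 5, 9, 6, 5, 12]⟩ : Fct))) (ndA (nat_lit 131) (lfA (⟨10, [7, 7, 11], 15, []⟩ : Fct)) (lfA (⟨15, [4, 9, 6, 12, 7, 12, 4], 15, []⟩ : Fct)))) (ndA (nat_lit 134) (ndA (nat_lit 133) (lfA (⟨15, [3, 4, 7, 5, 7, 5, 12, 4, 7, 7], 15, []⟩ : Fct)) (lfA (⟨15, [4, 7, 12, 6], 8, [2, 3, 2, 4, 3, 2, 4, 3, 8, 10, 4]⟩ : Fct))) (ndA (nat_lit 135) (lfA (⟨15, [5, 7, 12, 6], 14, [1, 12, 2, 1, 3, 2, 12, 5, 10, 2, 12, 2, 4, 10]⟩ : Fct)) (lfA (⟨15, [3, 4, 7, 8, 12, 6, 5, 6, 12,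 5, 2, 1, 3, 2, 4], 15, []⟩ : Fct))))) (ndA (nat_lit 140) (ndA (nat_lit 138) (ndA (nat_lit 137) (lfA (⟨10, [11, 7, 5, 4, 11], 16, []⟩ : Fct)) (lfA (⟨16, [3, 12, 4, 3, 7, 5, 4, 8, 7, 5, 6], 16, []⟩ : Fct))) (ndA (nat_lit 139) (lfA (⟨16, [5, 7, 12, 6, 12, 5], 16, []⟩ : Fct)) (lfA (⟨16, [6, 12, 7, 5, 4, 3, 7, 5, 4, 7, 5], 16, []⟩ : Fct)))) (ndA (nat_lit 142) (ndA (nat_lit 141) (lfA (⟨16, [7, 9, 12, 5, 7], 8, [2, 4, 3, 12, 2, 12, 2, 1, 10, 4, 10]⟩ : Fct)) (lfA (⟨16, [7, 5, 7, 12, 7], 14, [10, 4, 12, 11, 2, 11, 12, 2, 3, 2, 12, 4, 12, 4, 2]⟩ : Fct))) (ndA (nat_lit 143) (lfA (⟨16, [1, 5, 4, 6, 9, 12, 7, 12, 5, 12, 7, 2, 1, 3, 2, 4, 5], 16, []⟩ : Fct)) (lfA (⟨4, [6, 2, 12, 7, 7], 17, []⟩ : Fct))))))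
noncomputable def FT9 : ℕ → Fct := (ndA (nat_lit 152) (ndA (nat_lit 148) (ndA (nat_lit 146) (ndA (nat_lit 145) (lfA (⟨17, [3], 17, []⟩ : Fct)) (lfA (⟨17, [1, 3, 2, 1, 4, 3, 2, 1, 4, 3], 17, []⟩ : Fct))) (ndA (nat_lit 147) (lfA (⟨17, [9, 12, 2, 3, 4, 3], 17, []⟩ : Fct)) (lfA (⟨17, [], 9, [3, 12, 4, 7, 12, 3, 6, 12, 10, 7]⟩ : Fct)))) (ndA (nat_lit 150) (ndA (nat_lit 149) (lfA (⟨17, [2], 9, [4, 11, 9, 6, 5, 7, 4, 12, 5, 12, 6, 9, 5, 3]⟩ : Fct)) (lfA (⟨17, [2, 1, 3, 2], 5, [11, 12, 7, 4, 12, 5, 12, 7, 7, 1]⟩ : Fct))) (ndA (nat_lit 151) (lfA (⟨17, [2, 1, 12, 2], 9, [4, 11, 4, 5, 12, 7, 12, 7, 4, 5, 12, 7, 4]⟩ : Fct)) (lfA (⟨17, [11], 7, [2, 3, 1, 2, 7, 12, 6, 5, 3, 12, 6]⟩ : Fct))))) (ndA (nat_lit 156) (ndA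 (nat_lit 154) (ndA (nat_lit 153) (lfA (⟨17, [4, 9, 12, 2, 1, 3, 2, 5, 12, 10, 2, 1, 10, 2, 12], 17, []⟩ : Fct)) (lfA (⟨17, [2, 1, 12, 2, 1, 5, 4, 3, 10], 13, [2, 5, 7, 4, 12, 6, 12, 9, 5, 7, 1]⟩ : Fct))) (ndA (nat_lit 155) (lfA (⟨3, [7, 5, 2, 12, 7], 18, []⟩ : Fct)) (lfA (⟨18, [1, 2, 1, 4, 3, 2, 1, 4], 18, []⟩ : Fct)))) (ndA (nat_lit 158) (ndA (nat_lit 157) (lfA (⟨18, [1, 4, 9, 12, 2, 3, 4, 5], 18, []⟩ : Fct)) (lfA (⟨18, [1, 2], 9, [4, 5, 7, 7, 12, 6, 8, 12, 5, 4]⟩ : Fct))) (ndA (nat_lit 159) (lfA (⟨18, [1, 3, 2], 12, [4, 3, 5, 7, 12, 4, 3, 12, 7]⟩ : Fct)) (lfA (⟨18, [12, 3, 2], 9, [3, 12, 5, 4, 7, 5, 4, 3, 8, 7]⟩ : Fct))))))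
noncomputable def FT10 : ℕ → Fct := (ndA (nat_lit 168) (ndA (nat_lit 164) (ndA (nat_lit 162) (ndA (nat_lit 161) (lfA (⟨18, [4, 12, 2], 9, [3, 9, 7, 5, 4, 3, 6, 12, 5, 6]⟩ : Fct)) (lfA (⟨18, [5, 12, 2], 9, [5, 12, 7, 5, 6, 12, 4, 5, 7]⟩ : Fct))) (ndA (nat_lit 163) (lfA (⟨18, [12, 2, 12, 11, 2, 11, 5, 1, 2, 12, 8, 5, 3, 2], 18, []⟩ : Fct)) (lfA (⟨18, [4, 1, 2, 11], 7, [3, 2, 12, 6, 12, 2, 4, 12, 6, 5, 6, 12, 5, 6, 5]⟩ : Fct)))) (ndA (nat_lit 166) (ndA (nat_lit 165) (lfA (⟨18, [1, 3, 2, 5, 12, 3, 10, 4, 10], 13, [7, 12, 4, 6, 12, 7, 7, 12, 5]⟩ : Fct)) (lfA (⟨4, [2, 12, 7], 19, []⟩ : Fct))) (ndA (nat_lit 167) (lfA (⟨19, [3], 19, []⟩ : Fct)) (lfA (⟨19, [1, 3, 2, 1, 4, 3, 2, 1, 4, 3], 19, []⟩ : Fct))))) (ndA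 (nat_lit 172) (ndA (nat_lit 170) (ndA (nat_lit 169) (lfA (⟨19, [], 9, [12, 4, 12, 3, 10, 7]⟩ : Fct)) (lfA (⟨19, [1, 2], 9, [4, 3, 10, 4, 7]⟩ : Fct))) (ndA (nat_lit 171) (lfA (⟨19, [4, 12, 2], 9, [4, 11, 3, 4, 5, 6, 4, 12, 7, 12, 7, 5, 7]⟩ : Fct)) (lfA (⟨19, [2, 1, 3, 2], 5, [11, 5, 12, 4, 5, 6, 4]⟩ : Fct)))) (ndA (nat_lit 174) (ndA (nat_lit 173) (lfA (⟨19, [11], 7, [5, 4, 12, 7, 12, 4, 2, 1, 3, 2]⟩ : Fct)) (lfA (⟨19, [4, 1, 2, 11], 7, [3, 2, 12, 6, 12, 2, 6, 4, 12, 8, 6, 5, 12, 7]⟩ : Fct))) (ndA (nat_lit 175) (lfA (⟨19, [2, 1, 3, 2, 12, 3, 10, 4, 10], 7, [1, 4, 7, 5, 4, 6, 12, 5, 12, 6, 9]⟩ : Fct)) (lfA (⟨4, [7, 2, 12, 7], 20, []⟩ : Fct))))))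
noncomputable def FT11 : ℕ → Fct := (ndA (nat_lit 184) (ndA (nat_lit 180) (ndA (nat_lit 178) (ndA (nat_lit 177) (lfA (⟨20, [3], 20, []⟩ : Fct)) (lfA (⟨20, [1, 3, 2, 1, 4, 3, 2, 1, 4, 3], 20, []⟩ : Fct))) (ndA (nat_lit 179) (lfA (⟨20, [], 9, [4, 11, 5, 12, 5, 12, 7, 12, 7]⟩ : Fct)) (lfA (⟨20, [2], 9, [4, 11, 5, 12, 4, 12, 6, 12, 5, 7]⟩ : Fct)))) (ndA (nat_lit 182) (ndA (nat_lit 181) (lfA (⟨20, [1, 2], 9, [4, 5, 6, 5, 12, 5, 12, 7, 10, 4]⟩ : Fct)) (lfA (⟨20, [12, 2], 9, [4, 11, 6, 12, 5, 6, 12, 7, 5, 4]⟩ : Fct))) (ndA (nat_lit 183) (lfA (⟨20, [4, 3, 2], 9, [3, 4, 5, 7, 7, 12, 5, 6, 6, 10]⟩ : Fct)) (lfA (⟨20, [2, 1, 3, 2], 5, [11, 12, 6, 4, 12, 5, 12, 7, 1]⟩ : Fct))))) (ndA (nat_lit 188) (ndA (nat_lit 186)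 (ndA (nat_lit 185) (lfA (⟨20, [1, 4, 12, 2], 9, [4, 11, 6, 12, 8, 6, 3, 4, 5, 6]⟩ : Fct)) (lfA (⟨20, [11], 7, [7, 9, 12, 5, 7, 12, 6, 6, 2, 1, 3, 2]⟩ : Fct))) (ndA (nat_lit 187) (lfA (⟨20, [2, 11], 13, [2, 5, 12, 6, 4, 5, 12, 6, 3, 12]⟩ : Fct)) (lfA (⟨20, [4, 1, 2, 11], 3, [2, 12, 1, 2, 4, 5, 6, 5, 12, 5, 12, 7]⟩ : Fct)))) (ndA (nat_lit 190) (ndA (nat_lit 189) (lfA (⟨20, [5, 4, 1, 2, 11], 13, [2, 5, 7, 12, 7, 4, 12, 7, 7]⟩ : Fct)) (lfA (⟨20, [12, 4, 2, 11], 7, [3, 2, 12, 6, 12, 2, 9, 4, 5, 6, 12, 5, 12, 9, 6]⟩ : Fct))) (ndA (nat_lit 191) (lfA (⟨20, [4, 5, 3, 4, 2, 11], 13, [5, 4, 8, 7, 2, 12, 6, 5, 8, 12]⟩ : Fct)) (lfA (⟨20, [2, 1, 3, 2, 12, 3, 10, 4, 10], 7, [1, 8, 6, 12, 6, 5, 7, 12, 7, 7]⟩ : Fct))))))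
noncomputable def FT12 : ℕ → Fct := (ndA (nat_lit 200) (ndA (nat_lit 196) (ndA (nat_lit 194) (ndA (nat_lit 193) (lfA (⟨20, [2, 1, 3, 2, 5, 12, 3, 10, 4, 10], 7, [1, 5, 4, 12, 7, 5, 9, 6, 12, 6]⟩ : Fct)) (lfA (⟨20, [11, 4, 3, 2, 12, 1, 2], 9, [3, 4, 7, 12, 7, 5, 6, 8, 10, 4, 7]⟩ : Fct))) (ndA (nat_lit 195) (lfA (⟨20, [2, 11, 2], 9, [11, 4, 11, 9, 6, 5, 6, 4, 12, 7, 8, 3]⟩ : Fct)) (lfA (⟨20, [1, 2, 4, 12, 3, 10, 2, 4], 9, [7, 5, 12, 7, 5, 12, 4, 7, 5, 12]⟩ : Fct)))) (ndA (nat_lit 198) (ndA (nat_lit 197) (lfA (⟨20, [4, 1, 2, 11, 2, 3, 4, 12, 2], 9, [3, 4, 6, 6, 12, 4, 6, 8]⟩ : Fct)) (lfA (⟨20, [4, 1, 2, 11, 12, 5, 2, 12, 1, 2], 12, [1, 7, 12, 5, 12, 4, 6, 5, 4, 3, 8]⟩ : Fct))) (ndA (nat_lit 199) (lfA (⟨20,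 [4, 1, 2, 11, 12, 5, 1, 2, 12, 1, 2], 9, [5, 6, 8, 12, 3, 4, 6, 5, 9]⟩ : Fct)) (lfA (⟨20, [2, 11, 4, 2, 11], 13, [2, 3, 4, 5, 12, 7, 7]⟩ : Fct))))) (ndA (nat_lit 204) (ndA (nat_lit 202) (ndA (nat_lit 201) (lfA (⟨20, [2, 11, 4, 2, 11, 5, 12, 1, 2], 9, [11, 4, 11, 12, 4, 12, 7, 5, 7, 12, 6, 5, 1]⟩ : Fct)) (lfA (⟨9, [11], 21, []⟩ : Fct))) (ndA (nat_lit 203) (lfA (⟨21, [9], 21, []⟩ : Fct)) (lfA (⟨21, [12], 21, []⟩ : Fct)))) (ndA (nat_lit 206) (ndA (nat_lit 205) (lfA (⟨21, [], 2, [10, 4, 10, 4, 12, 2, 11, 12, 1, 2, 3, 1, 2, 12, 5]⟩ : Fct)) (lfA (⟨21, [6, 12, 7], 6, [1, 3, 4, 3, 8, 10, 2, 1, 12, 2, 11]⟩ : Fct))) (ndA (nat_lit 207) (lfA (⟨21, [4, 6, 5, 7], 20, [5, 12, 11, 2, 11, 3, 12, 2, 12, 4, 2, 3, 12, 8,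 2]⟩ : Fct)) (lfA (⟨21, [6, 12, 5, 7], 18, [5, 12, 2, 11, 12, 9, 5]⟩ : Fct))))))
noncomputable def FT13 : ℕ → Fct := (ndA (nat_lit 216) (ndA (nat_lit 212) (ndA (nat_lit 210) (ndA (nat_lit 209) (lfA (⟨21, [4, 2, 3, 1, 2, 5, 12, 4, 1], 21, []⟩ : Fct)) (lfA (⟨21, [1, 3, 5, 4, 3, 8, 2, 1, 12, 2, 4], 21, []⟩ : Fct))) (ndA (nat_lit 211) (lfA (⟨21, [3, 4, 5, 6], 20, [1, 2, 4, 9, 12, 4, 12, 3, 2, 10, 2, 12, 2, 11, 4, 10, 2]⟩ : Fct)) (lfA (⟨9, [11, 12, 9, 5, 6], 20, [9, 12, 4, 12, 2, 1, 3, 2, 12, 10, 2, 4, 11, 2, 4, 10]⟩ : Fct)))) (ndA (nat_lit 214) (ndA (nat_lit 213) (lfA (⟨21, [7, 12, 4, 5, 7], 20, [10, 12, 2, 11, 12, 4, 1, 2, 12, 2, 12, 8, 5, 2]⟩ : Fct)) (lfA (⟨21, [6, 12, 5, 4, 7, 7, 5, 7], 20, [3, 2, 4, 12,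 2, 3, 12, 10, 4, 5, 10]⟩ : Fct))) (ndA (nat_lit 215) (lfA (⟨21, [1, 2], 12, [3, 12, 4, 10, 4]⟩ : Fct)) (lfA (⟨13, [12, 3, 2], 22, []⟩ : Fct))))) (ndA (nat_lit 220) (ndA (nat_lit 218) (ndA (nat_lit 217) (lfA (⟨22, [8], 22, []⟩ : Fct)) (lfA (⟨22, [3, 5], 22, []⟩ : Fct))) (ndA (nat_lit 219) (lfA (⟨22, [], 2, [10, 2, 10, 4, 11, 2, 11, 5, 12, 2, 12, 1, 2]⟩ : Fct)) (lfA (⟨22, [12, 5, 12, 6, 5, 7], 6, [12, 4, 3, 12, 10, 2, 4, 11, 2, 1, 11]⟩ : Fct)))) (ndA (nat_lit 222) (ndA (nat_lit 221) (lfA (⟨22, [6, 8, 12, 6, 5, 6], 20, [2, 11, 4, 12, 5, 2, 12, 9, 2, 1]⟩ : Fct)) (lfA (⟨22, [6, 5, 4, 7, 7, 5, 7], 18, [1, 3, 2, 12, 4, 10, 4, 10, 2]⟩ : Fct))) (ndA (nat_lit 223) (lfA (⟨22, [1, 4, 12, 10, 4, 5, 10], 22, []⟩ : Fct))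 (lfA (⟨22, [11], 21, [1, 4, 12, 4, 2, 3, 4, 5]⟩ : Fct))))))
noncomputable def FT14 : ℕ → Fct := (ndA (nat_lit 232) (ndA (nat_lit 228) (ndA (nat_lit 226) (ndA (nat_lit 225) (lfA (⟨13, [4, 7, 5, 6, 6, 2, 12, 7], 23, []⟩ : Fct)) (lfA (⟨23, [4, 3, 2, 1, 4, 3, 2, 1, 8], 23, []⟩ : Fct))) (ndA (nat_lit 227) (lfA (⟨23, [3, 4, 12, 4], 23, []⟩ : Fct)) (lfA (⟨23, [], 9, [11, 4, 11, 12, 7, 5, 6, 6, 12, 7, 3]⟩ : Fct)))) (ndA (nat_lit 230) (ndA (nat_lit 229) (lfA (⟨23, [5, 4, 11], 7, [2, 3, 1, 2, 12, 7, 12, 9, 5, 6, 12, 6, 4]⟩ : Fct)) (lfA (⟨23, [11, 4, 11], 7, [5, 7, 12, 4, 12, 7, 5, 12, 2, 1, 12, 2, 3, 6, 9]⟩ : Fct))) (ndA (nat_lit 231) (lfA (⟨23, [11, 5, 4, 11], 13, [2, 4, 12, 7, 12, 8, 6, 5, 6, 4, 12]⟩ : Fct)) (lfA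 (⟨23, [5, 4, 11, 2, 12, 1, 2], 10, [3, 7, 12, 4, 6, 5, 8, 12, 10, 4]⟩ : Fct))))) (ndA (nat_lit 236) (ndA (nat_lit 234) (ndA (nat_lit 233) (lfA (⟨23, [11, 5, 4, 11, 2, 12, 3, 4, 12, 2], 9, [11, 4, 11, 6, 12, 5, 7, 12, 7, 4, 5, 7, 8, 1]⟩ : Fct)) (lfA (⟨23, [5, 4, 11, 2, 12, 1, 2, 11], 16, [1, 5, 7, 7, 12, 4, 6, 8, 12, 5, 4]⟩ : Fct))) (ndA (nat_lit 235) (lfA (⟨23, [3, 2, 5, 12, 2, 12, 2, 4, 12, 10, 2, 4, 11, 4, 12, 10], 15, [3, 7, 12, 6, 9, 12, 4, 5]⟩ : Fct)) (lfA (⟨23, [12, 2, 4, 12, 2, 4, 12, 2, 12, 10, 2, 10, 12, 4, 11], 7, [7, 12, 6, 6, 12, 5, 2, 1, 3, 2, 4, 5, 7, 7]⟩ : Fct)))) (ndA (nat_lit 238) (ndA (nat_lit 237) (lfA (⟨23, [11, 2, 10, 12, 4, 2, 11, 5, 3, 4, 12, 2, 3, 12], 9, [7, 4, 11, 7, 12, 5, 7,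 12, 4, 5, 6, 4, 5]⟩ : Fct)) (lfA (⟨23, [11, 2, 10, 12, 4, 2, 11, 4, 3, 2, 12, 5, 12, 2], 10, [7, 7, 4, 11, 12, 4, 12, 5, 7, 5, 7, 4, 5, 12, 3]⟩ : Fct))) (ndA (nat_lit 239) (lfA (⟨23, [1, 5, 12, 2, 5, 12, 4, 10, 2, 12, 2, 10, 2, 12], 13, [2, 7, 12, 5, 7, 12, 4, 5, 6, 9, 4, 1]⟩ : Fct)) (lfA (⟨15, [7, 5, 4, 6, 5, 4, 6, 8, 12, 7, 5, 2, 12, 5], 15, []⟩ : Fct))))))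
noncomputable def FT15 : ℕ → Fct := (ndA (nat_lit 248) (ndA (nat_lit 244) (ndA (nat_lit 242) (ndA (nat_lit 241) (lfA (⟨23, [12, 11, 2, 10, 2, 12, 2, 11, 4, 3, 2, 1], 15, [6, 6, 5, 8, 12, 4, 12, 6, 12, 5, 6]⟩ : Fct)) (lfA (⟨10, [7, 7, 11, 7, 5, 7], 23, [1, 2, 3, 8, 12, 10, 2, 1, 4, 5, 11, 4, 11]⟩ : Fct))) (ndA (nat_lit 243) (lfA (⟨10, [7, 7, 11, 7, 5, 6], 23, [9, 12, 2, 1, 4, 12, 4, 12, 10, 2, 4, 10, 2, 10, 4, 3]⟩ : Fct)) (lfA (⟨10, [7, 7, 11, 6, 12, 7, 7], 14, [10, 4, 12, 1, 2, 11, 12, 4, 12, 8, 1, 2, 3, 4]⟩ : Fct)))) (ndA (nat_lit 246) (ndA (nat_lit 245) (lfA (⟨10, [7, 7, 11, 7, 12, 8, 5, 7], 23, [3, 2, 1, 9, 12, 2, 1, 5, 4, 12, 10, 2, 4, 11, 4, 12, 10, 2]⟩ : Fct)) (lfA (⟨23, [1, 2, 12, 11, 2, 11, 4,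 5, 12, 8, 1], 16, [4, 7, 8, 12, 6, 5, 12, 4, 7, 9]⟩ : Fct))) (ndA (nat_lit 247) (lfA (⟨23, [1, 2, 9, 12, 2, 3, 5, 12, 5, 10, 2, 4, 5, 10, 2, 4, 12], 7, [3, 2, 12, 1, 2, 7, 5, 7, 5, 3, 1]⟩ : Fct)) (lfA (⟨14, [2, 3, 2, 5, 4, 3, 2, 4, 3, 8, 10, 2, 4, 11, 4, 10], 16, [3, 4, 5, 6, 12, 4, 5, 7, 8, 12, 5]⟩ : Fct))))) (ndA (nat_lit 252) (ndA (nat_lit 250) (ndA (nat_lit 249) (lfA (⟨23, [1, 5, 4, 9, 12, 2, 1, 4, 12, 2, 10, 2, 4, 10, 2, 12, 5], 7, [3, 2, 12, 1, 2, 8, 6, 5, 12, 6, 3, 12, 4, 5, 4]⟩ : Fct)) (lfA (⟨23, [1, 3, 2, 5, 9, 12, 2, 4, 3, 10, 2, 4, 5, 11, 4, 12], 10, [7, 7, 4, 11, 7, 4, 5, 7, 4, 5, 12, 6, 12, 4, 12]⟩ : Fct))) (ndA (nat_lit 251) (lfA (⟨23, [2, 9, 12, 5, 12, 2, 3, 5, 4, 10, 2, 10, 4, 11, 4, 12],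 16, [7, 5, 12, 4, 6, 5, 6, 12, 4, 3, 7]⟩ : Fct)) (lfA (⟨15, [1, 3, 2], 24, []⟩ : Fct)))) (ndA (nat_lit 254) (ndA (nat_lit 253) (lfA (⟨24, [4, 8, 7, 5, 4, 7], 24, []⟩ : Fct)) (lfA (⟨24, [1, 12, 4, 12, 6, 5, 4, 3, 8], 24, []⟩ : Fct))) (ndA (nat_lit 255) (lfA (⟨24, [4, 5, 4, 3, 7, 12, 5, 12, 7, 8], 24, []⟩ : Fct)) (lfA (⟨24, [], 23, [10, 12, 4, 10, 4, 2, 11, 2, 12, 9, 1, 2, 3, 4, 5, 1]⟩ : Fct))))))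
noncomputable def FT16 : ℕ → Fct := (ndA (nat_lit 264) (ndA (nat_lit 260) (ndA (nat_lit 258) (ndA (nat_lit 257) (lfA (⟨24, [7, 5, 7], 23, [8, 12, 2, 1, 4, 12, 4, 12, 10, 2, 4, 11, 2, 12, 11]⟩ : Fct)) (lfA (⟨24, [6, 12, 6], 23, [10, 12, 4, 10, 4, 2, 11, 5, 4, 12, 2, 3, 4, 1]⟩ : Fct))) (ndA (nat_lit 259) (lfA (⟨24, [4, 11], 16, [4, 9, 6, 5, 6, 12, 4, 6, 6, 5, 12, 2, 1, 12, 4]⟩ : Fct)) (lfA (⟨24, [7, 5, 7, 4, 11], 16, [1, 4, 5, 6, 12, 6, 5, 4, 12, 6, 6, 2, 1, 3, 2]⟩ : Fct)))) (ndA (nat_lit 262) (ndA (nat_lit 261) (lfA (⟨24, [3, 6, 12, 6, 12, 10, 4, 10], 16, [1, 4, 12, 7, 5, 4, 7, 5, 6, 9, 2, 1, 12, 2, 5, 12, 5]⟩ : Fct)) (lfA (⟨24, [4, 11, 4, 12, 8, 7, 5, 7], 23, [5, 4, 11, 2, 12, 1, 2, 11, 4, 5, 12, 4, 1,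 2, 1]⟩ : Fct))) (ndA (nat_lit 263) (lfA (⟨16, [1, 4, 6, 9, 12, 5, 12, 6, 5, 2, 1, 12, 2, 3, 4, 7], 23, [3, 12, 2, 4, 12, 5, 4, 10, 2, 12, 2, 11, 4, 10, 2]⟩ : Fct)) (lfA (⟨24, [5, 12, 7, 5, 4, 8, 12, 6, 8, 10, 4, 6, 9, 10], 14, [4, 3, 2, 1, 12, 5, 12, 4, 10, 2, 10, 4, 10]⟩ : Fct))))) (ndA (nat_lit 268) (ndA (nat_lit 266) (ndA (nat_lit 265) (lfA (⟨14, [4, 3, 2, 1, 12, 5, 12, 4, 10, 2], 16, [5, 12, 4, 6, 5, 9, 7, 12, 4, 5, 2, 1, 3, 2]⟩ : Fct)) (lfA (⟨15, [2], 25, []⟩ : Fct))) (ndA (nat_lit 267) (lfA (⟨25, [5, 12, 6, 5, 8, 12, 5], 25, []⟩ : Fct)) (lfA (⟨25, [5, 7, 12, 5, 6, 12, 6, 5, 8], 25, []⟩ : Fct)))) (ndA (nat_lit 270) (ndA (nat_lit 269) (lfA (⟨25, [6, 5, 6], 23, [10, 12, 4, 10, 4, 2, 11, 12, 5, 12, 2,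 12, 2, 12, 9, 1]⟩ : Fct)) (lfA (⟨25, [6, 5, 9, 7], 23, [12, 11, 2, 10, 2, 12, 2, 11, 4, 3, 2, 12, 9, 5, 2]⟩ : Fct))) (ndA (nat_lit 271) (lfA (⟨25, [1, 3, 6, 5, 6, 10], 16, [5, 4, 6, 5, 4, 12, 7, 5, 7, 2, 1, 3, 2, 12]⟩ : Fct)) (lfA (⟨25, [1, 6, 5, 4, 3, 7, 10], 7, [4, 12, 7, 9, 12, 5, 12, 6, 9, 12, 2, 12, 7, 5, 9, 6]⟩ : Fct))))))
noncomputable def FT17 : ℕ → Fct := (ndA (nat_lit 280) (ndA (nat_lit 276) (ndA (nat_lit 274) (ndA (nat_lit 273) (lfA (⟨25, [6, 5, 6, 12, 3, 10, 4, 10], 16, [3, 5, 4, 7, 7, 5, 6, 8, 12, 2, 12, 3, 6, 12, 5]⟩ : Fct)) (lfA (⟨25, [1, 6, 5, 9, 7, 5, 4, 3, 10], 16, [4, 3, 7, 7, 12, 5, 6, 5, 6, 2, 3, 12, 4, 12]⟩ : Fct))) (ndA (nat_lit 275) (lfA (⟨25, [6, 5, 4, 3, 8, 7, 12, 7, 10, 7, 7],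 19, [11, 5, 12, 9, 5, 2, 3, 1]⟩ : Fct)) (lfA (⟨25, [1, 4, 12, 4, 6, 12, 5, 4, 7, 10, 6, 6], 11, [1, 2, 3, 4, 3, 2, 12, 5, 10, 2, 4, 3, 4]⟩ : Fct)))) (ndA (nat_lit 278) (ndA (nat_lit 277) (lfA (⟨25, [6, 5, 4, 3, 8, 7, 12, 7, 5, 10, 7], 20, [3, 8, 12, 2, 3, 5, 10, 2, 1, 10]⟩ : Fct)) (lfA (⟨25, [1, 6, 5, 4, 8, 7, 5, 7, 10, 4, 7, 5, 8, 6], 19, [4, 1, 2, 11, 5, 12, 5, 1, 2, 12, 9, 4, 2, 3, 2]⟩ : Fct))) (ndA (nat_lit 279) (lfA (⟨25, [6, 5, 4, 7, 12, 5, 12, 10, 4, 6, 5, 6], 19, [11, 4, 12, 5, 2, 12, 9, 1]⟩ : Fct)) (lfA (⟨25, [11, 6, 4, 11, 8, 5, 6, 3, 12, 8, 4, 5, 6], 17, [11, 5, 3, 1, 2, 12, 2, 3]⟩ : Fct))))) (ndA (nat_lit 284) (ndA (nat_lit 282) (ndA (nat_lit 281) (lfA (⟨25, [11, 6, 4, 11, 6, 4, 3, 12, 9, 6,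 5, 7, 4, 5, 7], 18, [1, 2, 1, 4, 8, 12, 5, 10, 2, 1, 4, 12, 4]⟩ : Fct)) (lfA (⟨16, [4, 3, 7, 7, 12, 5, 6, 5, 6, 2, 3, 12, 4, 7, 5, 7], 19, [10, 2, 11, 12, 4, 1, 2, 11, 8, 5]⟩ : Fct))) (ndA (nat_lit 283) (lfA (⟨16, [6, 6, 2, 3, 12, 2, 12, 5, 6, 4, 12, 7, 5, 6, 1], 19, [2, 10, 4, 11, 4, 2, 11, 12, 2, 12, 5, 12, 4, 1]⟩ : Fct)) (lfA (⟨16, [1, 5, 12, 7, 5, 4, 12, 7, 7, 2, 1, 12, 7, 12, 5], 19, [11, 4, 12, 2, 11, 4, 11, 8, 4, 5, 4]⟩ : Fct)))) (ndA (nat_lit 286) (ndA (nat_lit 285) (lfA (⟨16, [9, 12, 4, 6, 5, 6, 9, 12, 4, 7, 2, 12, 5, 6, 6, 12], 20, [9, 12, 2, 1, 10, 2, 1, 4, 11, 4, 5]⟩ : Fct)) (lfA (⟨17, [10, 12, 2, 11, 12, 2, 11, 12, 5, 12, 3, 4, 2, 12, 1, 2], 16, [1, 12, 5, 4, 6, 5, 8, 12, 4, 7, 2, 1, 3, 2,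 4, 3, 5, 6]⟩ : Fct))) (ndA (nat_lit 287) (lfA (⟨18, [1, 2, 1, 4, 8, 12, 5, 10, 2, 10, 4, 12, 11], 16, [5, 12, 6, 5, 7, 9, 12, 6, 5, 4, 2, 1, 3, 2, 4, 5, 6, 9]⟩ : Fct)) (lfA (⟨19, [10, 2, 11, 12, 4, 1, 2, 11, 5, 12, 4, 12, 8, 3, 2], 10, [6, 12, 5, 6, 12, 6, 9, 12, 4, 10, 4, 6, 10, 6, 8]⟩ : Fct))))))
noncomputable def FT18 : ℕ → Fct := (ndA (nat_lit 296) (ndA (nat_lit 292) (ndA (nat_lit 290) (ndA (nat_lit 289) (lfA (⟨19, [4, 9, 12, 2, 12, 5, 12, 4, 10, 2, 12, 10, 2, 10, 4], 24, [12, 3, 7, 5, 12, 7, 12, 4, 10, 4, 6, 5, 8]⟩ : Fct)) (lfA (⟨20, [9, 12, 2, 1, 10, 2, 4, 10, 2], 24, [8, 12, 6, 5, 4, 6, 5, 12, 6, 8, 10, 4, 5, 10, 6, 6]⟩ : Fct))) (ndA (nat_lit 291) (lfA (⟨16, [3, 12, 5, 12, 7, 5, 4, 8, 6, 5, 12,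 2, 12, 4, 6, 12], 22, [5, 7, 5, 6, 12, 4, 12, 7, 7, 5, 10, 4, 5]⟩ : Fct)) (lfA (⟨19, [9, 12, 2, 4, 3, 2, 4, 3, 10, 2, 4, 11, 2, 4, 12], 7, [3, 8, 12, 5, 4, 7, 5, 7, 12, 4, 2, 1, 3, 2, 4, 3, 5, 7]⟩ : Fct)))) (ndA (nat_lit 294) (ndA (nat_lit 293) (lfA (⟨19, [3, 4, 3, 2, 4, 3, 9, 12, 5, 12, 10, 4, 10, 2, 10, 4, 12], 16, [8, 7, 5, 6, 12, 3, 2, 12, 7, 7, 5, 4, 12, 7, 9, 1]⟩ : Fct)) (lfA (⟨20, [1, 2, 3, 2, 9, 12, 2, 10, 2, 4, 10, 2, 12, 2], 16, [5, 7, 5, 4, 2, 3, 1, 2, 8, 6, 4, 12, 6, 5, 7, 12, 5, 4]⟩ : Fct))) (ndA (nat_lit 295) (lfA (⟨19, [2, 4, 5, 9, 12, 5, 10, 2, 4, 11, 2, 3, 4, 3], 9, [4, 12, 3, 6, 6, 5, 12, 7, 10, 4, 7, 5, 6]⟩ : Fct)) (lfA (⟨19, [1, 2, 4, 9, 12, 2, 1, 5, 10, 2, 4, 10, 2, 4, 12, 11], 25,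 [1, 5, 6, 12, 5, 6, 8, 10, 4, 6, 5]⟩ : Fct))))) (ndA (nat_lit 300) (ndA (nat_lit 298) (ndA (nat_lit 297) (lfA (⟨20, [4, 2, 10, 2, 12, 2, 11, 5, 4, 12, 9, 4, 1, 2, 1], 25, [9, 6, 5, 12, 6, 5, 4, 6, 5, 9, 6, 10, 4, 6, 6, 10, 6]⟩ : Fct)) (lfA (⟨7, [2], 26, []⟩ : Fct))) (ndA (nat_lit 299) (lfA (⟨26, [4, 5, 9, 6, 5, 4], 26, []⟩ : Fct)) (lfA (⟨26, [7], 14, [2]⟩ : Fct)))) (ndA (nat_lit 302) (ndA (nat_lit 301) (lfA (⟨26, [6, 6], 14, [11, 8, 2]⟩ : Fct)) (lfA (⟨26, [5, 9, 7], 23, [11, 4, 11, 1, 2, 3, 4, 12, 5, 2, 12, 9]⟩ : Fct))) (ndA (nat_lit 303) (lfA (⟨26, [5, 8, 7], 20, [2, 1, 3, 2, 1, 4, 5, 12, 4, 10, 4, 10, 2]⟩ : Fct)) (lfA (⟨26, [9, 12, 4, 5, 7], 23, [1, 9, 12, 5, 12, 4, 10, 2, 12, 4]⟩ : Fct))))))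
noncomputable def FT19 : ℕ → Fct := (ndA (nat_lit 312) (ndA (nat_lit 308) (ndA (nat_lit 306) (ndA (nat_lit 305) (lfA (⟨26, [7, 12, 6, 5, 7], 23, [4, 5, 12, 2, 3, 2, 10, 2, 10, 12, 2, 5, 12, 11]⟩ : Fct)) (lfA (⟨26, [1, 5, 7, 7, 12, 7, 5, 4, 6, 5, 10, 4, 7, 5, 9, 6], 26, []⟩ : Fct))) (ndA (nat_lit 307) (lfA (⟨26, [7, 5, 4, 11], 16, [5, 8, 7, 12, 4, 6, 8, 12, 5, 7, 2, 1, 12, 2, 3]⟩ : Fct)) (lfA (⟨26, [6, 6, 4, 11], 16, [7, 5, 7, 12, 3, 7, 8, 12, 4, 2, 1, 3, 2, 12, 2, 1]⟩ : Fct)))) (ndA (nat_lit 310) (ndA (nat_lit 309) (lfA (⟨26, [9, 5, 7, 4, 11], 16, [5, 4, 7, 7, 5, 4, 12, 6, 5, 7, 9, 2, 12, 5, 6, 12, 2]⟩ : Fct)) (lfA (⟨26, [5, 8, 7, 12, 3, 10, 4, 10], 16, [3, 7, 5, 4, 12, 7, 5, 9, 12, 7, 2, 12, 7, 12, 2,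 4]⟩ : Fct))) (ndA (nat_lit 311) (lfA (⟨26, [5, 8, 7, 5, 12, 3, 10, 4, 10], 21, [1, 7, 12, 4, 5, 7, 9, 12, 2, 3, 4, 12]⟩ : Fct)) (lfA (⟨26, [7, 5, 4, 11, 7, 7, 3, 4, 12, 7, 5, 7], 17, [10, 12, 2, 11, 12, 2, 11, 4, 2, 12, 8, 2, 3, 4, 1]⟩ : Fct))))) (ndA (nat_lit 316) (ndA (nat_lit 314) (ndA (nat_lit 313) (lfA (⟨26, [4, 12, 5, 4, 7, 12, 7, 9, 12, 10, 4, 6, 10, 4, 7], 6, [12, 4, 11, 4, 2, 11, 5, 12, 4, 2, 12, 3]⟩ : Fct)) (lfA (⟨7, [2, 7, 12, 4, 12, 6], 27, []⟩ : Fct))) (ndA (nat_lit 315) (lfA (⟨27, [3, 2], 27, []⟩ : Fct)) (lfA (⟨27, [4, 3, 2], 26, [3, 7, 12, 4, 5, 7]⟩ : Fct)))) (ndA (nat_lit 318) (ndA (nat_lit 317) (lfA (⟨27, [4, 3, 4, 2, 11], 16, [2, 12, 9, 5, 7, 12, 2, 6, 8, 5, 6, 12, 5, 12, 6, 6, 3]⟩ :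 Fct)) (lfA (⟨27, [4, 3, 4, 2, 11, 5, 12, 2], 26, [7, 5, 4, 11, 12, 6, 4, 12, 9, 6]⟩ : Fct))) (ndA (nat_lit 319) (lfA (⟨27, [11, 2, 11, 12, 2, 11, 12, 2, 3, 2, 12, 2, 1], 16, [9, 12, 4, 6, 9, 12, 5, 6, 12, 6, 2, 1, 12, 2, 5, 12, 3, 6]⟩ : Fct)) (lfA (⟨7, [2, 12, 4, 12, 8, 6], 28, []⟩ : Fct))))))
noncomputable def FT20 : ℕ → Fct := (ndA (nat_lit 328) (ndA (nat_lit 324) (ndA (nat_lit 322) (ndA (nat_lit 321) (lfA (⟨28, [1, 2, 3, 5, 4, 3, 2, 1, 8], 28, []⟩ : Fct)) (lfA (⟨28, [1, 2], 10, [1, 7, 5, 7, 8, 12, 4, 6, 5]⟩ : Fct))) (ndA (nat_lit 323) (lfA (⟨28, [1, 3, 2], 10, [3, 5, 8, 12, 6]⟩ : Fct)) (lfA (⟨28, [1, 4, 5, 12, 2], 26, [5, 4, 8, 6, 5, 12, 3, 4, 6, 5, 7]⟩ : Fct)))) (ndA (nat_lit 326) (ndA (nat_lit 325)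 (lfA (⟨28, [1, 2, 11, 4, 11], 16, [4, 5, 8, 7, 5, 12, 4, 7, 12, 5, 6, 9]⟩ : Fct)) (lfA (⟨28, [1, 2, 11, 5, 4, 11], 16, [4, 5, 6, 5, 8, 7, 12, 4, 6]⟩ : Fct))) (ndA (nat_lit 327) (lfA (⟨28, [1, 3, 2, 5, 12, 3, 10, 4, 10], 16, [1, 4, 9, 7, 12, 5, 4, 7, 5, 4]⟩ : Fct)) (lfA (⟨28, [3, 12, 4, 3, 2, 12, 3, 10, 4, 10], 16, [12, 7, 5, 12, 4, 7, 5, 7, 5, 4, 3, 2, 3, 12, 6, 12, 2, 3]⟩ : Fct))))) (ndA (nat_lit 332) (ndA (nat_lit 330) (ndA (nat_lit 329) (lfA (⟨28, [1, 2, 11, 5, 4, 11, 2, 12, 3, 2], 22, [5, 4, 6, 9, 12, 5, 4, 6, 5, 6, 9, 10, 4, 5]⟩ : Fct)) (lfA (⟨28, [2, 3, 12, 2, 1, 12, 2, 10, 2, 10, 12, 4, 12, 3], 26, [4, 3, 12, 6, 5, 12, 4, 10, 4, 6, 5, 6, 6]⟩ : Fct))) (ndA (nat_lit 331) (lfA (⟨28, [11, 5, 4, 11,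 5, 4, 2, 11, 1, 2, 3, 2, 12, 5, 4], 13, [12, 3, 2, 7, 5, 4, 12, 7, 5, 6, 4, 5, 7]⟩ : Fct)) (lfA (⟨7, [2, 12, 7, 4, 12, 6, 6], 29, []⟩ : Fct)))) (ndA (nat_lit 334) (ndA (nat_lit 333) (lfA (⟨29, [4, 12, 2, 12, 4, 3], 29, []⟩ : Fct)) (lfA (⟨29, [12, 2], 26, [1, 4, 6, 5, 9, 6, 12, 4, 7, 5]⟩ : Fct))) (ndA (nat_lit 335) (lfA (⟨29, [2, 1, 3, 2], 10, [4, 5, 4, 12, 6, 5, 8, 7, 10, 4, 7, 5, 10]⟩ : Fct)) (lfA (⟨29, [1, 5, 12, 2], 26, [3, 7, 12, 4, 5, 4, 6, 6, 5]⟩ : Fct))))))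
noncomputable def FT21 : ℕ → Fct := (ndA (nat_lit 344) (ndA (nat_lit 340) (ndA (nat_lit 338) (ndA (nat_lit 337) (lfA (⟨29, [8, 12, 2, 4, 3, 4, 12, 5, 10, 2, 12], 29, []⟩ : Fct)) (lfA (⟨29, [5, 2, 3, 4, 1, 2, 11], 16, [5, 6, 12, 6, 5, 4, 6, 12, 5, 6, 9]⟩ : Fct))) (ndA (nat_lit 339) (lfA (⟨29, [5, 12, 4, 1, 2, 11], 21, [6, 5, 12, 4, 7, 5, 8, 6, 12, 6, 2, 1, 12, 6, 5, 12, 2]⟩ : Fct)) (lfA (⟨29, [5, 12, 1, 2, 11, 4, 11], 16, [5, 12, 4, 7, 9, 12, 4, 7, 5, 2, 1, 12, 2, 7, 5, 7, 9]⟩ : Fct)))) (ndA (nat_lit 342) (ndA (nat_lit 341) (lfA (⟨29, [1, 2, 4, 3, 2, 9, 12, 4, 12, 10, 2, 4, 10, 2, 10, 4, 3], 29, []⟩ : Fct)) (lfA (⟨29, [5, 2, 3, 4, 1, 2, 11, 2, 12, 1, 2], 26, [7, 5, 4, 11, 9, 7, 4, 12, 7, 5, 4, 12, 6, 6]⟩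 : Fct))) (ndA (nat_lit 343) (lfA (⟨29, [5, 12, 1, 2, 11, 4, 11, 12, 2, 12, 2, 3, 1, 2], 26, [7, 5, 4, 11, 5, 7, 12, 5, 7, 1]⟩ : Fct)) (lfA (⟨13, [6, 12, 2], 30, []⟩ : Fct))))) (ndA (nat_lit 348) (ndA (nat_lit 346) (ndA (nat_lit 345) (lfA (⟨30, [3, 5, 9, 12, 6, 5, 4, 7, 5, 8], 30, []⟩ : Fct)) (lfA (⟨30, [], 20, [2, 11, 4, 2, 11, 2, 3, 4, 1, 2, 3, 2, 12, 9, 2]⟩ : Fct))) (ndA (nat_lit 347) (lfA (⟨30, [12, 5, 6], 20, [3, 8, 12, 2, 4, 12, 2, 5, 10, 2, 4]⟩ : Fct)) (lfA (⟨30, [4, 6, 6, 5, 7], 6, [4, 10, 4, 12, 11, 2, 11, 12, 4, 5, 4, 2, 12]⟩ : Fct)))) (ndA (nat_lit 350) (ndA (nat_lit 349) (lfA (⟨30, [5, 4, 7, 12, 7], 17, [3, 2, 9, 12, 5, 12, 2, 12, 10, 2, 4, 12, 5]⟩ : Fct)) (lfA (⟨30, [7, 5, 7, 12, 7], 23, [1,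 5, 9, 12, 4, 12, 2, 1]⟩ : Fct))) (ndA (nat_lit 351) (lfA (⟨30, [5, 7, 5, 12, 7, 7], 23, [9, 12, 2, 1, 3, 2, 1, 12, 10, 2, 1, 4, 5, 11, 12, 2, 12]⟩ : Fct)) (lfA (⟨30, [12, 3, 4, 6, 5, 8, 7], 20, [1, 2, 4, 5, 4, 12, 5, 10, 2, 1, 4, 12]⟩ : Fct))))))
noncomputable def FT22 : ℕ → Fct := (ndA (nat_lit 360) (ndA (nat_lit 356) (ndA (nat_lit 354) (ndA (nat_lit 353) (lfA (⟨30, [12, 5, 7, 5, 12, 4, 3, 6, 5, 4, 7, 10, 4, 5, 10, 7, 5, 8], 30, []⟩ : Fct)) (lfA (⟨30, [11, 5, 4, 11], 7, [1, 6, 6, 6, 12, 6, 5, 4, 6, 12, 5, 2, 3, 12, 4, 12]⟩ : Fct))) (ndA (nat_lit 355) (lfA (⟨30, [11, 5, 4, 11, 8, 7, 5, 7], 19, [12, 2, 11, 5, 4, 2, 11, 5, 12, 8, 5, 4, 2, 3, 4]⟩ : Fct)) (lfA (⟨30, [11, 5, 4, 11, 12, 4, 12, 7], 20, [2, 1,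 3, 2, 1, 12, 4, 5, 4, 10, 4, 5, 10, 2, 3]⟩ : Fct)))) (ndA (nat_lit 358) (ndA (nat_lit 357) (lfA (⟨30, [11, 5, 4, 11, 7, 4, 12, 6], 29, [1, 2, 3, 4, 8, 12, 5, 12, 2, 3, 4]⟩ : Fct)) (lfA (⟨30, [11, 5, 4, 11, 12, 4, 12, 6], 20, [12, 4, 2, 11, 12, 8, 5, 1, 2, 3, 4, 3, 1]⟩ : Fct))) (ndA (nat_lit 359) (lfA (⟨30, [11, 5, 4, 11, 12, 4, 12, 6, 6], 20, [11, 5, 4, 12, 9, 4, 2, 1]⟩ : Fct)) (lfA (⟨30, [11, 5, 4, 11, 12, 4, 5, 6, 5, 6], 17, [11, 12, 4, 12, 1, 2, 12, 5, 12, 9]⟩ : Fct))))) (ndA (nat_lit 364) (ndA (nat_lit 362) (ndA (nat_lit 361) (lfA (⟨30, [11, 5, 4, 11, 5, 7, 12, 9, 5, 6], 17, [5, 9, 12, 10, 2, 1, 4, 12, 5]⟩ : Fct)) (lfA (⟨30, [11, 5, 4, 11, 6, 5, 7, 12, 4, 5, 7], 20, [1, 2, 1, 3, 2, 5, 9, 12, 4, 10,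 4, 10, 2, 3, 12]⟩ : Fct))) (ndA (nat_lit 363) (lfA (⟨30, [11, 5, 4, 11, 6, 3, 4, 12, 7, 5, 7], 29, [12, 3, 2, 1]⟩ : Fct)) (lfA (⟨30, [11, 5, 4, 11, 9, 5, 7, 12, 4, 5, 6], 17, [11, 3, 2, 12, 5, 12, 9, 5, 2]⟩ : Fct)))) (ndA (nat_lit 366) (ndA (nat_lit 365) (lfA (⟨30, [11, 5, 4, 11, 5, 6, 12, 6, 3, 4, 5, 7], 20, [11, 3, 4, 5, 2, 12, 2, 12, 9, 2, 3, 1]⟩ : Fct)) (lfA (⟨30, [11, 5, 4, 11, 5, 12, 6, 5, 6, 4, 5, 6], 23, [3, 2, 4, 12, 3, 2, 12, 10, 2, 4, 10, 4, 5, 12]⟩ : Fct))) (ndA (nat_lit 367) (lfA (⟨30, [11, 5, 4, 11, 5, 4, 12, 6, 5, 6, 12, 6], 20, [2, 1, 3, 2, 1, 5, 4, 8, 10, 4, 10, 2, 12, 2]⟩ : Fct)) (lfA (⟨30, [11, 5, 4, 11, 7, 7, 12, 5, 7, 8, 4, 5, 7], 20, [11, 5, 3, 2, 12, 8, 2, 3, 4]⟩ : Fct))))))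
noncomputable def FT23 : ℕ → Fct := (ndA (nat_lit 376) (ndA (nat_lit 372) (ndA (nat_lit 370) (ndA (nat_lit 369) (lfA (⟨30, [11, 5, 4, 11, 7, 7, 5, 7, 4, 5, 12, 8, 7], 19, [2, 1, 3, 2, 1, 8, 12, 4, 12, 5, 10, 4, 10, 2, 3]⟩ : Fct)) (lfA (⟨30, [11, 5, 4, 11, 12, 5, 6, 5, 6, 3, 4, 5, 6], 27, [3, 2, 9, 12, 3, 2, 1, 12]⟩ : Fct))) (ndA (nat_lit 371) (lfA (⟨30, [7, 11, 7, 4, 11], 31, []⟩ : Fct)) (lfA (⟨31, [1, 6, 5, 12, 4, 6, 5, 12, 6, 5, 12], 31, []⟩ : Fct)))) (ndA (nat_lit 374) (ndA (nat_lit 373) (lfA (⟨31, [3, 4, 7, 5, 7, 12, 3, 4, 6, 5], 31, []⟩ : Fct)) (lfA (⟨31, [5, 4, 6, 5, 7], 20, [4, 12, 10, 5, 4, 2, 11, 2, 12, 3, 4, 2, 12, 2]⟩ : Fct))) (ndA (nat_lit 375) (lfA (⟨31, [9, 7, 5, 12, 7], 17, [4, 9, 12, 3,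 2, 1, 4, 3, 2, 10, 2, 12, 4, 10, 4, 10]⟩ : Fct)) (lfA (⟨31, [12, 6, 5, 9, 6], 6, [11, 4, 2, 10, 4, 2, 11, 4, 3, 4, 2, 3, 2]⟩ : Fct))))) (ndA (nat_lit 380) (ndA (nat_lit 378) (ndA (nat_lit 377) (lfA (⟨31, [1, 8, 7, 5, 4, 3, 2, 3, 4, 5, 6, 9], 31, []⟩ : Fct)) (lfA (⟨31, [1, 9, 7, 5, 12, 7, 12, 2], 30, [8, 7, 11, 5, 4, 11, 12, 4, 5, 7, 4, 5, 6, 4, 1]⟩ : Fct))) (ndA (nat_lit 379) (lfA (⟨31, [3, 9, 7, 5, 12, 7, 12, 2], 30, [5, 4, 7, 12, 5, 6, 8, 12, 4, 6, 10, 4, 7, 5]⟩ : Fct)) (lfA (⟨31, [9, 7, 5, 12, 4, 6, 12, 2], 9, [5, 4, 3, 6, 5, 9, 7, 12, 4, 5, 4, 10, 4, 10, 7, 7]⟩ : Fct)))) (ndA (nat_lit 382) (ndA (nat_lit 381) (lfA (⟨31, [1, 8, 6, 5, 12, 6, 5, 12, 2, 12, 6, 12, 5], 31, []⟩ : Fct)) (lfA (⟨31, [9, 7, 5,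 12, 7, 2, 3, 4, 3, 2], 26, [11, 9, 5, 7, 4, 3, 12, 6, 9, 5]⟩ : Fct))) (ndA (nat_lit 383) (lfA (⟨31, [12, 6, 5, 9, 6, 12, 2], 22, [12, 7, 12, 7, 5, 6, 12, 6, 10, 4, 10]⟩ : Fct)) (lfA (⟨31, [1, 12, 6, 5, 9, 6, 12, 2], 12, [5, 4, 12, 4, 6, 5, 7, 12, 10, 4, 10]⟩ : Fct))))))
noncomputable def FT24 : ℕ → Fct := (ndA (nat_lit 392) (ndA (nat_lit 388) (ndA (nat_lit 386) (ndA (nat_lit 385) (lfA (⟨6, [11, 4, 2, 10, 4, 2, 11, 5, 12, 4, 1, 2, 12], 26, [4, 8, 6, 12, 4, 12, 6, 5, 10, 4, 6]⟩ : Fct)) (lfA (⟨31, [12, 3, 6, 5, 9, 6, 2, 1, 12, 2], 26, [7, 7, 5, 4, 11, 4, 5, 7, 7, 12, 6, 5, 6, 4]⟩ : Fct))) (ndA (nat_lit 387) (lfA (⟨31, [7, 12, 7, 7, 5, 12, 4, 6, 9, 2], 26, [7, 7, 11, 7, 4, 11, 7, 5, 12, 8, 7, 5, 6]⟩ : Fct))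 (lfA (⟨31, [1, 9, 7, 5, 7, 12, 6, 12, 2], 19, [10, 4, 1, 2, 10, 4, 2, 11, 12, 2, 3, 4, 12, 2, 12, 9, 5, 3]⟩ : Fct)))) (ndA (nat_lit 390) (ndA (nat_lit 389) (lfA (⟨31, [5, 6, 6, 5, 7, 12, 3, 6, 8, 12, 2], 20, [12, 10, 2, 11, 4, 2, 11, 12, 1, 2, 3, 4, 12, 8]⟩ : Fct)) (lfA (⟨31, [1, 9, 7, 5, 12, 7, 12, 5, 7, 2, 12, 6], 20, [1, 2, 4, 9, 12, 4, 12, 2, 3, 2, 10, 2, 10, 12, 10, 2]⟩ : Fct))) (ndA (nat_lit 391) (lfA (⟨31, [1, 5, 6, 5, 12, 6, 12, 5, 2, 12, 7], 20, [1, 2, 4, 9, 12, 5, 12, 4, 10, 2, 10, 4, 5, 10, 12]⟩ : Fct)) (lfA (⟨31, [1, 5, 6, 5, 8, 7, 12, 7, 12, 2, 3, 4, 5, 7], 20, [11, 2, 12, 2, 11, 4, 11, 5, 12, 9, 4, 5, 1]⟩ : Fct))))) (ndA (nat_lit 396) (ndA (nat_lit 394) (ndA (nat_lit 393) (lfA (⟨31, [1, 9,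 7, 5, 12, 7, 9, 12, 4, 2, 12, 7, 5, 7], 19, [3, 2, 1, 4, 5, 9, 10, 2, 4, 11, 2, 12, 4]⟩ : Fct)) (lfA (⟨31, [1, 6, 9, 12, 5, 7, 9, 12, 4, 7, 2, 1, 12, 7, 5, 4, 7], 27, [8, 12, 3, 5, 12, 2, 10, 4, 5, 10]⟩ : Fct))) (ndA (nat_lit 395) (lfA (⟨30, [1, 8, 12, 5, 6, 5, 4, 7, 12, 5, 6, 10, 4, 5, 10, 6], 27, [4, 2, 12, 11, 2, 11, 12, 2, 12, 9, 5, 4, 1]⟩ : Fct)) (lfA (⟨31, [1, 7, 5, 12, 6, 5, 12, 7, 8, 2, 3, 12, 6, 5, 12], 27, [1, 5, 8, 12, 2, 1, 4, 12, 10, 2, 10, 12, 2, 11, 12, 4]⟩ : Fct)))) (ndA (nat_lit 398) (ndA (nat_lit 397) (lfA (⟨31, [4, 5, 8, 7, 5, 12, 4, 7, 9, 2, 12, 7], 23, [3, 2, 4, 8, 12, 3, 2, 12, 5, 10, 2, 4, 5, 11]⟩ : Fct)) (lfA (⟨30, [7, 12, 5, 12, 7, 12, 7, 5, 10, 4, 7, 7, 10], 20, [2, 11, 5, 12,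 11, 2, 11, 12, 4, 1, 2, 12, 8, 4, 2]⟩ : Fct))) (ndA (nat_lit 399) (lfA (⟨30, [7, 7, 5, 4, 11, 12, 4, 12, 6, 5, 6, 9, 3, 4, 5, 6], 19, [4, 10, 5, 4, 1, 2, 11, 9, 1, 2, 3, 4, 5, 3, 1]⟩ : Fct)) (lfA (⟨30, [1, 3, 5, 4, 7, 5, 9, 6, 12, 4, 7, 9, 10, 7], 20, [11, 4, 10, 4, 12, 2, 11, 5, 2, 12, 2, 12, 4, 2, 12, 8, 5]⟩ : Fct))))))
noncomputable def FT25 : ℕ → Fct := (ndA (nat_lit 408) (ndA (nat_lit 404) (ndA (nat_lit 402) (ndA (nat_lit 401) (lfA (⟨31, [3, 5, 6, 5, 12, 6, 12, 2, 12, 5, 12, 7], 20, [1, 2, 4, 5, 4, 9, 12, 10, 2, 1, 10, 4, 5, 11]⟩ : Fct)) (lfA (⟨31, [3, 6, 9, 12, 4, 5, 7, 12, 2], 29, [1, 2, 3, 4, 8, 12, 5, 12, 2, 12, 10, 4, 10]⟩ : Fct))) (ndA (nat_lit 403) (lfA (⟨31, [1, 8, 7, 5, 7, 8, 12, 7, 12, 2,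 12, 2, 4, 7], 29, [9, 12, 3, 2, 12, 4, 12, 10, 4, 5]⟩ : Fct)) (lfA (⟨31, [4, 12, 6, 5, 12, 2, 8, 6, 5, 7, 12, 7, 8, 4, 5], 20, [3, 4, 8, 12, 4, 10, 2, 10, 4, 5, 12, 10]⟩ : Fct)))) (ndA (nat_lit 406) (ndA (nat_lit 405) (lfA (⟨30, [7, 7, 5, 4, 11, 4, 5, 7, 12, 4, 12, 9, 7, 5, 4, 12], 29, [2, 12, 2, 1, 12, 5, 10, 2, 1, 10]⟩ : Fct)) (lfA (⟨9, [6, 11, 8, 7, 4, 11, 8, 5, 7, 4, 12, 5, 12, 6, 9, 1], 23, [5, 4, 2, 11, 4, 1, 2, 11, 12, 8, 5, 2, 3, 4, 3, 4, 2]⟩ : Fct))) (ndA (nat_lit 407) (lfA (⟨26, [9, 6, 5, 12, 3, 7, 5, 9, 10, 6, 6], 20, [8, 12, 2, 1, 12, 4, 12, 2, 12, 10, 2, 4, 12, 5]⟩ : Fct)) (lfA (⟨20, [2, 8, 12, 2, 3, 12, 5, 4, 10, 2, 4, 10, 2, 11, 12], 30, [7, 7, 5, 4, 11, 12, 5, 7, 12, 5, 7, 4, 12, 5, 12]⟩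 : Fct))))) (ndA (nat_lit 412) (ndA (nat_lit 410) (ndA (nat_lit 409) (lfA (⟨13, [7], 32, []⟩ : Fct)) (lfA (⟨32, [1, 2, 3, 2], 32, []⟩ : Fct))) (ndA (nat_lit 411) (lfA (⟨32, [], 12, [11, 4, 11, 7]⟩ : Fct)) (lfA (⟨32, [2], 9, [11, 4, 11, 3, 12, 6, 4]⟩ : Fct)))) (ndA (nat_lit 414) (ndA (nat_lit 413) (lfA (⟨32, [4, 3, 2], 9, [10, 4, 5, 10, 6]⟩ : Fct)) (lfA (⟨32, [2, 1, 12, 2], 30, [1, 4, 7, 5, 4, 9, 7, 12, 7]⟩ : Fct))) (ndA (nat_lit 415) (lfA (⟨32, [11], 31, [7, 12, 5, 12, 2, 4, 5, 12, 7, 5, 6, 3, 4]⟩ : Fct)) (lfA (⟨32, [5, 4, 11], 31, [7, 12, 5, 12, 2, 12, 9, 7, 5, 7, 12, 9, 7, 4, 5, 4]⟩ : Fct))))))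
noncomputable def FT26 : ℕ → Fct := (ndA (nat_lit 424) (ndA (nat_lit 420) (ndA (nat_lit 418) (ndA (nat_lit 417) (lfA (⟨32, [4, 2, 11], 21, [1, 4, 5, 12, 7, 7, 12, 7, 5, 12]⟩ : Fct)) (lfA (⟨32, [4, 3, 4, 2, 11], 31, [1, 9, 6, 5, 12, 6, 5, 7, 8, 2, 12, 5, 6, 5, 6]⟩ : Fct))) (ndA (nat_lit 419) (lfA (⟨32, [2, 12, 1, 2, 11], 7, [3, 7, 9, 12, 4, 3, 6, 5, 7, 12, 2, 1, 12, 6, 5, 12]⟩ : Fct)) (lfA (⟨32, [11, 2, 12, 2], 9, [1, 4, 12, 6, 5, 4, 6, 6, 5, 10, 4, 5, 10, 7, 9]⟩ : Fct)))) (ndA (nat_lit 422) (ndA (nat_lit 421) (lfA (⟨32, [1, 10, 2, 12, 2], 26, [7, 12, 3, 7, 5, 4, 8, 7, 5, 6, 10, 4, 5, 6, 9]⟩ : Fct)) (lfA (⟨32, [11, 4, 3, 2, 12, 1, 2], 9, [6, 11, 8, 7, 4, 11, 3, 12, 7, 8, 7, 5, 7, 4]⟩ : Fct))) (ndA (nat_lit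 423) (lfA (⟨32, [11, 12, 5, 1, 2, 12, 1, 2], 12, [1, 9, 7, 5, 12, 4, 6, 12, 5, 7, 9, 10, 4, 6, 5, 10, 7]⟩ : Fct)) (lfA (⟨32, [1, 12, 5, 4, 10, 2, 4], 22, [5, 4, 11, 7, 4, 11, 4, 12, 7, 5, 7, 5, 4, 12, 7]⟩ : Fct))))) (ndA (nat_lit 428) (ndA (nat_lit 426) (ndA (nat_lit 425) (lfA (⟨32, [5, 4, 11, 2, 12, 2, 3, 1, 2], 30, [4, 7, 9, 12, 5, 4, 6, 12, 10, 4, 5, 6, 10, 6, 8]⟩ : Fct)) (lfA (⟨32, [10, 4, 2, 10, 2, 12, 2, 11, 2, 12, 5, 2, 3, 12, 8, 2], 32, []⟩ : Fct))) (ndA (nat_lit 427) (lfA (⟨32, [4, 3, 4, 2, 11, 12, 4, 2, 12, 1, 2], 26, [9, 12, 3, 4, 12, 6, 5, 4, 10, 4, 6, 5, 7, 8]⟩ : Fct)) (lfA (⟨32, [2, 1, 12, 2, 1, 10, 2, 1, 4, 3, 2], 30, [11, 5, 4, 11, 12, 5, 7, 4, 12, 6, 5, 7, 12, 7]⟩ : Fct)))) (ndA (nat_lit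 430) (ndA (nat_lit 429) (lfA (⟨32, [5, 12, 4, 3, 2, 12, 2, 1, 10, 2], 26, [7, 9, 7, 12, 4, 12, 3, 7, 5, 6]⟩ : Fct)) (lfA (⟨32, [4, 3, 4, 3, 12, 10, 2, 12, 5, 11], 13, [2, 12, 4, 5, 7, 12, 7, 4, 12, 5, 4, 1]⟩ : Fct))) (ndA (nat_lit 431) (lfA (⟨32, [1, 4, 3, 4, 12, 10, 2, 12, 5, 11], 31, [7, 7, 4, 2, 12, 1, 2, 8, 7, 3, 12, 8, 6, 5, 6, 4, 5]⟩ : Fct)) (lfA (⟨32, [12, 11, 12, 2, 11, 12, 2, 12, 4, 5, 2, 12, 3], 30, [3, 6, 5, 12, 6, 9, 12, 4, 6, 5, 4, 10, 4, 5, 6, 6, 10]⟩ : Fct))))))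
noncomputable def FT27 : ℕ → Fct := (ndA (nat_lit 440) (ndA (nat_lit 436) (ndA (nat_lit 434) (ndA (nat_lit 433) (lfA (⟨13, [4, 12, 7], 33, []⟩ : Fct)) (lfA (⟨33, [1, 3, 2, 4, 3, 2, 4, 3], 33, []⟩ : Fct))) (ndA (nat_lit 435) (lfA (⟨33, [], 12, [11, 4, 11, 4, 12, 7]⟩ : Fct)) (lfA (⟨33, [2, 1, 3, 2], 9, [11, 4, 11, 6, 3, 4]⟩ : Fct)))) (ndA (nat_lit 438) (ndA (nat_lit 437) (lfA (⟨33, [2, 12, 3, 2], 9, [11, 4, 11, 3, 12, 7, 4, 5, 6, 6, 12, 3, 4]⟩ : Fct)) (lfA (⟨33, [2, 1, 4, 3, 2], 9, [11, 4, 11, 4, 12, 6, 3]⟩ : Fct))) (ndA (nat_lit 439) (lfA (⟨33, [11], 31, [1, 12, 6, 5, 6, 6, 12, 4, 7, 5, 6, 2, 12, 7, 7]⟩ : Fct)) (lfA (⟨33, [5, 4, 11], 31, [1, 4, 6, 12, 5, 12, 6, 5, 6, 8, 2, 1, 3, 4, 5]⟩ : Fct))))) (ndA (nat_lit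 444) (ndA (nat_lit 442) (ndA (nat_lit 441) (lfA (⟨33, [2, 3, 4, 1, 2, 11], 21, [3, 4, 12, 7, 12, 5, 7, 7, 12]⟩ : Fct)) (lfA (⟨33, [2, 12, 3, 2, 11, 4, 11], 7, [3, 2, 12, 6, 12, 2, 8, 5, 7, 12, 4, 12, 6, 5, 4, 12]⟩ : Fct))) (ndA (nat_lit 443) (lfA (⟨33, [2, 12, 3, 2, 5, 12, 3, 10, 4, 10], 13, [2, 6, 12, 7, 8, 5, 6, 4, 5, 7, 4, 3]⟩ : Fct)) (lfA (⟨33, [8, 12, 2, 4, 3, 2, 4, 3, 2, 1, 10, 2, 10, 12, 10, 2], 33, []⟩ : Fct)))) (ndA (nat_lit 446) (ndA (nat_lit 445) (lfA (⟨33, [11, 4, 3, 2], 26, [1, 7, 5, 6, 12, 6, 5, 9, 12, 4, 10, 4, 10, 7, 5]⟩ : Fct)) (lfA (⟨33, [11, 12, 3, 2], 22, [12, 6, 12, 5, 6, 9, 12, 4, 6, 10, 4, 10]⟩ : Fct))) (ndA (nat_lit 447) (lfA (⟨33, [12, 5, 12, 10, 2], 12, [5, 4, 11, 7, 4, 11, 9,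 5, 6, 5, 6, 4, 12, 5, 1]⟩ : Fct)) (lfA (⟨33, [11, 12, 3, 4, 12, 2], 9, [1, 6, 8, 12, 5, 7, 12, 7, 12, 4, 10, 4, 6, 10]⟩ : Fct))))))
noncomputable def FT28 : ℕ → Fct := (ndA (nat_lit 456) (ndA (nat_lit 452) (ndA (nat_lit 450) (ndA (nat_lit 449) (lfA (⟨33, [11, 2, 12, 3, 4, 12, 2], 9, [5, 6, 12, 5, 12, 6, 8, 12, 10, 4, 6, 5, 10, 7]⟩ : Fct)) (lfA (⟨33, [4, 5, 4, 12, 3, 10, 2, 4], 30, [5, 12, 3, 6, 6, 5, 4, 12, 10, 4, 5, 10, 7, 5]⟩ : Fct))) (ndA (nat_lit 451) (lfA (⟨33, [2, 1, 3, 2, 1, 4, 12, 10, 2, 4], 26, [4, 3, 6, 5, 7, 12, 4, 5, 6, 6, 5, 10, 4, 6, 10, 6]⟩ : Fct)) (lfA (⟨33, [2, 12, 3, 2, 11, 4, 11, 4, 3, 1, 2], 30, [1, 5, 12, 4, 6, 5, 6, 6, 12, 6, 10, 4, 5, 6, 10]⟩ : Fct)))) (ndA (nat_lit 454) (ndA (nat_lit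 453) (lfA (⟨33, [1, 12, 4, 3, 2, 12, 2, 10, 4, 10, 2], 9, [3, 12, 4, 12, 5, 6, 8, 10, 4, 6, 5, 6, 9]⟩ : Fct)) (lfA (⟨33, [2, 12, 2, 3, 2, 1, 4, 10, 4, 5, 10, 2], 9, [11, 4, 11, 8, 5, 7, 4, 5, 6, 12, 3, 4]⟩ : Fct))) (ndA (nat_lit 455) (lfA (⟨33, [2, 12, 3, 2, 12, 4, 12, 3, 10, 4, 5, 10, 2], 9, [11, 4, 11, 6, 5, 6, 4, 12, 7, 8, 7, 5, 7, 1]⟩ : Fct)) (lfA (⟨33, [2, 1, 12, 2, 12, 3, 2, 1, 10, 2, 10, 12, 4, 3], 9, [11, 4, 11, 6, 5, 7, 4, 12, 8, 5, 7, 4, 1]⟩ : Fct))))) (ndA (nat_lit 460) (ndA (nat_lit 458) (ndA (nat_lit 457) (lfA (⟨33, [3, 12, 10, 2, 4, 11, 4, 11], 16, [2, 12, 7, 2, 3, 4, 12, 2, 7, 9, 5, 6, 4, 12, 4, 1]⟩ : Fct)) (lfA (⟨33, [10, 12, 2, 11, 5, 4, 11], 31, [8, 12, 7, 12, 4, 5, 6, 12, 2, 3, 12, 2,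 7, 5, 7]⟩ : Fct))) (ndA (nat_lit 459) (lfA (⟨33, [12, 5, 12, 2, 1, 3, 2, 10, 2, 10, 4, 11], 31, [3, 7, 12, 4, 12, 3, 7, 5, 7, 2, 12, 4, 3, 6, 12]⟩ : Fct)) (lfA (⟨33, [1, 2, 1, 3, 2, 12, 5, 10, 2, 4, 10, 4, 12, 10], 13, [2, 12, 4, 12, 8, 6, 5, 7, 7, 4, 5]⟩ : Fct)))) (ndA (nat_lit 462) (ndA (nat_lit 461) (lfA (⟨33, [4, 5, 4, 12, 3, 10, 2, 4, 11, 4, 11], 7, [5, 6, 12, 6, 12, 6, 5, 6, 12, 2, 12, 6, 12, 6, 5]⟩ : Fct)) (lfA (⟨33, [2, 12, 2, 3, 2, 1, 5, 4, 10, 4, 10, 2, 11, 4, 11], 31, [7, 7, 5, 6, 2, 12, 2, 7, 8, 5, 7, 12, 5, 12, 4, 1]⟩ : Fct))) (ndA (nat_lit 463) (lfA (⟨33, [2, 3, 12, 2, 4, 3, 5, 10, 2, 4, 10, 2, 11, 12], 25, [6, 6, 11, 12, 6, 5, 6, 12, 5, 6, 4, 5, 6]⟩ : Fct)) (lfA (⟨33, [12, 2, 1, 12, 4, 10,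 2, 10, 12, 4, 10, 4], 24, [7, 5, 7, 4, 11, 12, 6, 8, 5, 6, 4, 5, 6, 5, 3]⟩ : Fct))))))
noncomputable def FT29 : ℕ → Fct := (ndA (nat_lit 472) (ndA (nat_lit 468) (ndA (nat_lit 466) (ndA (nat_lit 465) (lfA (⟨33, [10, 12, 2, 11, 5, 4, 11, 2, 3, 1, 2], 26, [1, 8, 12, 6, 5, 7, 10, 4, 5, 6, 9]⟩ : Fct)) (lfA (⟨33, [10, 12, 2, 11, 5, 4, 11, 1, 2, 3, 4, 3, 1, 2], 9, [1, 12, 6, 6, 5, 12, 4, 5, 7, 10, 4, 6, 5, 10, 4]⟩ : Fct))) (ndA (nat_lit 467) (lfA (⟨33, [12, 11, 2, 12, 11, 2, 11, 12, 5, 4, 2, 12, 5, 2, 1], 22, [5, 4, 11, 7, 4, 11, 4, 5, 6, 12, 4, 5, 6, 9, 4]⟩ : Fct)) (lfA (⟨33, [10, 5, 12, 4, 11, 1, 2, 11, 1, 2, 12, 5, 2, 3, 2, 1], 22, [5, 12, 3, 4, 12, 7, 5, 8, 6]⟩ : Fct)))) (ndA (nat_lit 470) (ndA (nat_lit 469)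 (lfA (⟨33, [4, 5, 4, 12, 3, 10, 2, 4, 10, 4, 11, 2], 25, [11, 6, 4, 11, 9, 6, 5, 7, 4, 3, 12, 6, 5, 7, 4, 5]⟩ : Fct)) (lfA (⟨33, [11, 1, 2, 10, 4, 2, 11, 4, 3, 4, 2, 3, 2], 30, [11, 5, 4, 11, 12, 6, 6, 4, 12, 6, 9, 5, 3]⟩ : Fct))) (ndA (nat_lit 471) (lfA (⟨33, [11, 1, 2, 10, 4, 2, 11, 4, 3, 2, 12, 5, 12, 5, 3, 2], 25, [11, 6, 4, 11, 9, 5, 6, 12, 5, 12, 9, 7, 4, 5]⟩ : Fct)) (lfA (⟨33, [1, 12, 2, 1, 5, 4, 3, 4, 10, 2, 4, 5, 10, 2, 12, 5], 26, [11, 3, 4, 5, 7, 5, 4, 12, 6, 5, 1]⟩ : Fct))))) (ndA (nat_lit 476) (ndA (nat_lit 474) (ndA (nat_lit 473) (lfA (⟨13, [12, 7], 34, []⟩ : Fct)) (lfA (⟨34, [1, 2], 34, []⟩ : Fct))) (ndA (nat_lit 475) (lfA (⟨34, [], 12, [12, 10, 4, 10, 7]⟩ : Fct)) (lfA (⟨34, [12, 2], 30,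 [6, 12, 6, 5, 9, 6, 12, 4, 5, 7]⟩ : Fct)))) (ndA (nat_lit 478) (ndA (nat_lit 477) (lfA (⟨34, [12, 2, 1, 3, 2], 9, [11, 4, 11, 3, 4, 5, 7, 12, 5, 3, 12]⟩ : Fct)) (lfA (⟨34, [3, 2, 1, 4, 3, 2], 9, [11, 4, 11, 4, 12, 5, 6, 3]⟩ : Fct))) (ndA (nat_lit 479) (lfA (⟨34, [12, 2, 1, 5, 12, 2], 9, [11, 4, 11, 4, 5, 6, 12, 4, 3, 12, 7, 7, 5, 4]⟩ : Fct)) (lfA (⟨34, [11], 31, [7, 12, 5, 12, 2, 4, 5, 7, 12, 5, 12, 6, 12, 4, 1]⟩ : Fct))))))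
noncomputable def FT30 : ℕ → Fct := (ndA (nat_lit 488) (ndA (nat_lit 484) (ndA (nat_lit 482) (ndA (nat_lit 481) (lfA (⟨34, [5, 4, 11], 31, [7, 12, 5, 12, 2, 12, 7, 3, 12, 8, 6, 5, 7, 4, 5]⟩ : Fct)) (lfA (⟨34, [12, 2, 3, 4, 1, 2, 11], 31, [6, 6, 5, 12, 1, 2, 12, 5, 6, 6, 4, 5, 12, 7, 5, 12, 3]⟩ : Fct))) (ndA (nat_lit 483) (lfA (⟨34, [3, 2, 1, 4, 3, 2, 1, 4, 3, 10], 31, [6, 6, 5, 12, 1, 2, 12, 5, 6, 12, 5, 12, 5, 6]⟩ : Fct)) (lfA (⟨34, [3, 2, 1, 4, 3, 2, 12, 3, 10, 4, 10], 31, [1, 4, 7, 8, 12, 5, 6, 9, 12, 2, 12, 4, 7, 12, 2]⟩ : Fct)))) (ndA (nat_lit 486) (ndA (nat_lit 485) (lfA (⟨34, [12, 2, 1, 5, 12, 2, 1, 3, 10], 31, [4, 3, 12, 6, 8, 12, 5, 6, 5, 2, 12, 6, 5, 12]⟩ : Fct)) (lfA (⟨34, [11, 3, 12, 2], 9,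 [7, 5, 12, 7, 5, 9, 12, 6, 10, 4, 5, 10, 6, 9]⟩ : Fct))) (ndA (nat_lit 487) (lfA (⟨34, [11, 12, 4, 3, 2], 26, [7, 7, 5, 4, 11, 7, 12, 9, 7, 7, 4, 5, 4]⟩ : Fct)) (lfA (⟨34, [1, 10, 2, 12, 2], 26, [7, 7, 5, 4, 11, 12, 6, 4, 12, 8, 5, 6, 12, 4, 5, 1]⟩ : Fct))))) (ndA (nat_lit 492) (ndA (nat_lit 490) (ndA (nat_lit 489) (lfA (⟨34, [5, 12, 10, 2, 4], 26, [11, 5, 12, 8, 7, 5, 6, 4, 5, 6]⟩ : Fct)) (lfA (⟨34, [11, 12, 5, 2, 12, 1, 2], 26, [11, 12, 5, 7, 4, 12, 5, 12, 6, 6, 5]⟩ : Fct))) (ndA (nat_lit 491) (lfA (⟨34, [11, 2, 3, 4, 2, 3, 1, 2], 9, [4, 3, 12, 7, 9, 12, 6, 5, 7, 10, 4, 5, 10, 6, 9]⟩ : Fct)) (lfA (⟨34, [5, 4, 11, 12, 2], 30, [3, 7, 7, 5, 4, 7, 12, 3, 5, 6, 9, 10, 4, 5, 6, 6]⟩ : Fct)))) (ndA (nat_lit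 494) (ndA (nat_lit 493) (lfA (⟨34, [5, 4, 11, 2, 12, 2], 26, [11, 7, 5, 7, 3, 12, 7, 5, 6, 5, 4]⟩ : Fct)) (lfA (⟨34, [5, 4, 11, 2, 12, 3, 2], 9, [7, 5, 4, 8, 7, 12, 3, 7, 5, 6, 10, 4, 6, 6, 10, 7]⟩ : Fct))) (ndA (nat_lit 495) (lfA (⟨34, [5, 12, 4, 12, 10, 2, 4], 26, [11, 12, 5, 7, 5, 7, 4, 5, 7, 3, 4, 3]⟩ : Fct)) (lfA (⟨34, [5, 4, 11, 2, 3, 12, 2], 22, [1, 6, 12, 5, 4, 6, 5, 4, 3, 8, 10, 4, 10, 7, 5, 6]⟩ : Fct))))))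
noncomputable def FT31 : ℕ → Fct := (ndA (nat_lit 504) (ndA (nat_lit 500) (ndA (nat_lit 498) (ndA (nat_lit 497) (lfA (⟨34, [12, 2, 3, 4, 1, 2, 11, 2, 12, 1, 2], 26, [5, 6, 5, 4, 8, 6, 12, 5, 6, 10, 4, 6, 5, 10, 4]⟩ : Fct)) (lfA (⟨34, [12, 2, 3, 4, 1, 2, 11, 5, 4, 3, 2], 26, [6, 6, 6, 12, 5, 4, 7, 5, 6, 9, 12, 10, 4, 10, 6]⟩ : Fct))) (ndA (nat_lit 499) (lfA (⟨34, [12, 2, 3, 4, 1, 2, 11, 12, 4, 3, 2], 30, [3, 7, 7, 5, 6, 12, 4, 12, 6, 5, 10, 4, 5, 6, 5]⟩ : Fct)) (lfA (⟨34, [12, 2, 1, 3, 2, 1, 4, 10, 2, 12, 2], 26, [11, 4, 12, 8, 6, 5, 12, 7, 4, 1]⟩ : Fct)))) (ndA (nat_lit 502) (ndA (nat_lit 501) (lfA (⟨34, [4, 3, 2, 12, 2, 12, 2, 1, 10, 2, 4], 26, [11, 8, 7, 5, 6, 3, 4, 5, 6, 3, 12, 9]⟩ : Fct)) (lfA (⟨34,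 [10, 4, 2, 11, 1, 2, 11, 12, 4, 12, 5, 2, 3, 4, 2], 30, [5, 4, 7, 5, 7, 5, 4, 10, 4, 5, 6, 10, 7]⟩ : Fct))) (ndA (nat_lit 503) (lfA (⟨34, [3, 2, 1, 4, 3, 2, 1, 12, 10, 4, 10, 2], 26, [11, 12, 4, 12, 8, 6, 5, 12, 7, 7]⟩ : Fct)) (lfA (⟨34, [1, 4, 12, 2, 1, 3, 2, 5, 10, 4, 5, 10, 2], 9, [4, 6, 8, 12, 5, 7, 8, 12, 4, 7, 5, 10, 4, 10, 6, 9]⟩ : Fct))))) (ndA (nat_lit 508) (ndA (nat_lit 506) (ndA (nat_lit 505) (lfA (⟨34, [1, 12, 2, 4, 3, 10, 2, 10, 12, 5], 26, [7, 7, 11, 7, 4, 11, 12, 7, 5, 6, 3, 4, 5, 6, 4, 3]⟩ : Fct)) (lfA (⟨34, [3, 2, 1, 4, 3, 2, 5, 12, 4, 10, 4, 5, 10, 2], 9, [8, 12, 7, 5, 12, 4, 6, 5, 12, 7, 9, 10, 4, 5, 6, 10, 4]⟩ : Fct))) (ndA (nat_lit 507) (lfA (⟨34, [12, 2, 1, 5, 12, 2, 10, 2, 1, 12,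 2], 26, [11, 9, 5, 7, 3, 12, 4, 12, 6, 4]⟩ : Fct)) (lfA (⟨34, [5, 12, 4, 2, 11, 2, 12, 2, 3, 4, 12, 5], 26, [11, 6, 9, 5, 6, 4, 5, 12, 9, 6, 3]⟩ : Fct)))) (ndA (nat_lit 510) (ndA (nat_lit 509) (lfA (⟨34, [1, 4, 3, 2, 1, 4, 3, 2, 10, 2, 10, 4, 11], 31, [1, 9, 6, 5, 12, 5, 7, 7, 2, 12, 7, 5, 7]⟩ : Fct)) (lfA (⟨34, [12, 11, 12, 2, 11], 16, [1, 4, 6, 5, 12, 6, 9, 12, 5, 2, 12, 5, 6, 9, 12, 2]⟩ : Fct))) (ndA (nat_lit 511) (lfA (⟨34, [2, 1, 3, 2, 1, 12, 5, 12, 10, 2, 1, 4, 10, 4, 10], 16, [2, 12, 9, 5, 7, 12, 2, 8, 7, 12, 4, 12, 9, 6, 5, 4]⟩ : Fct)) (lfA (⟨34, [5, 12, 10, 2, 4, 11, 4, 11], 16, [3, 4, 6, 5, 7, 12, 3, 6, 6, 2, 3, 12, 7, 12, 2]⟩ : Fct))))))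
noncomputable def FT32 : ℕ → Fct := (ndA (nat_lit 520) (ndA (nat_lit 516) (ndA (nat_lit 514) (ndA (nat_lit 513) (lfA (⟨34, [2, 1, 3, 2, 1, 12, 10, 2, 4, 5, 10, 12], 16, [8, 5, 7, 3, 2, 12, 1, 2, 12, 6, 3, 12, 7, 8, 5, 6]⟩ : Fct)) (lfA (⟨34, [2, 1, 3, 2, 5, 12, 3, 10, 2, 1, 4, 5, 10, 4, 11], 13, [2, 12, 9, 7, 5, 7, 12, 7, 8, 5]⟩ : Fct))) (ndA (nat_lit 515) (lfA (⟨34, [2, 10, 5, 4, 11, 2, 11, 5, 12, 2, 3], 31, [3, 12, 4, 5, 6, 5, 12, 2, 12, 4, 3]⟩ : Fct)) (lfA (⟨34, [12, 2, 1, 5, 4, 3, 2, 10, 2, 1, 4, 10, 4, 10], 31, [5, 12, 6, 5, 6, 12, 5, 4, 2, 12, 4, 3, 2, 7, 12]⟩ : Fct)))) (ndA (nat_lit 518) (ndA (nat_lit 517) (lfA (⟨34, [5, 12, 4, 12, 10, 2, 4, 5, 11, 4, 11], 31, [7, 7, 4, 2, 12, 1, 2, 6, 5, 6, 4, 12,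 7, 7, 5, 7, 7, 3]⟩ : Fct)) (lfA (⟨34, [1, 5, 12, 4, 12, 10, 2, 10, 12, 5, 12], 16, [7, 8, 12, 5, 6, 12, 5, 4, 2, 12, 3, 7, 5, 7]⟩ : Fct))) (ndA (nat_lit 519) (lfA (⟨34, [12, 4, 11, 4, 11, 2, 11, 3, 12, 2, 3, 4, 1, 2], 16, [3, 6, 5, 6, 8, 12, 6, 5, 2, 12, 7, 5, 12, 2, 12]⟩ : Fct)) (lfA (⟨34, [1, 12, 2, 1, 3, 2, 12, 4, 5, 10, 2, 4, 5, 11, 4, 11], 16, [2, 12, 9, 5, 7, 12, 2, 6, 4, 5, 6, 4, 5, 7, 3, 12]⟩ : Fct))))) (ndA (nat_lit 524) (ndA (nat_lit 522) (ndA (nat_lit 521) (lfA (⟨34, [11, 12, 2, 11, 4, 2, 11, 12, 4, 12, 2, 3, 4], 31, [1, 4, 12, 5, 6, 5, 4, 8, 12, 5, 2, 12, 7, 5, 9]⟩ : Fct)) (lfA (⟨34, [12, 2, 1, 3, 2, 1, 4, 10, 2, 12, 2, 11], 21, [5, 12, 6, 3, 12, 2, 5, 7, 7, 3, 12, 4, 12, 6, 5, 4]⟩ : Fct)))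 (ndA (nat_lit 523) (lfA (⟨34, [4, 3, 2, 12, 2, 12, 2, 1, 10, 2, 4, 11, 4, 11], 31, [4, 12, 4, 7, 5, 7, 12, 4, 5, 7, 2, 3, 12, 2, 7, 9]⟩ : Fct)) (lfA (⟨34, [3, 2, 1, 4, 3, 2, 1, 12, 10, 4, 10, 2, 11], 21, [5, 12, 3, 6, 9, 12, 6, 5, 4, 6, 2, 12, 3, 6, 5, 12]⟩ : Fct)))) (ndA (nat_lit 526) (ndA (nat_lit 525) (lfA (⟨34, [10, 2, 11, 12, 2, 11, 2, 12, 2, 3, 1, 2, 1], 31, [5, 12, 4, 6, 12, 7, 7, 5, 4, 2, 12, 7, 5, 9, 12, 6]⟩ : Fct)) (lfA (⟨34, [1, 12, 2, 4, 3, 10, 2, 1, 4, 10], 16, [6, 8, 12, 6, 5, 4, 7, 5, 8, 12, 6, 2, 1, 12, 2, 6, 5, 9]⟩ : Fct))) (ndA (nat_lit 527) (lfA (⟨34, [11, 2, 11, 4, 11, 5, 2, 3, 1, 2, 12, 4, 3], 31, [1, 9, 6, 5, 12, 4, 7, 5, 4, 9, 2, 3, 12, 6, 5, 8]⟩ : Fct)) (lfA (⟨34, [4, 5, 12, 2,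 12, 4, 5, 10, 2, 4, 11, 4, 12, 10], 16, [2, 12, 9, 5, 7, 12, 2, 5, 7, 12, 4, 5, 7, 7]⟩ : Fct))))))
noncomputable def FT33 : ℕ → Fct := (ndA (nat_lit 536) (ndA (nat_lit 532) (ndA (nat_lit 530) (ndA (nat_lit 529) (lfA (⟨34, [1, 2, 4, 3, 12, 5, 12, 10, 2, 10, 4, 5, 11, 12], 12, [5, 6, 12, 3, 4, 6, 10, 4, 6, 9, 10, 4]⟩ : Fct)) (lfA (⟨34, [1, 2, 4, 3, 4, 12, 2, 1, 10, 2, 4, 10, 4, 10, 4], 26, [3, 9, 6, 12, 5, 7, 12, 4, 3, 6, 5, 7, 10, 4, 6, 10, 7]⟩ : Fct))) (ndA (nat_lit 531) (lfA (⟨34, [12, 11, 12, 2, 11, 3, 2, 12, 2], 26, [6, 6, 4, 11, 5, 6, 12, 6, 4, 12, 6, 5, 6, 5]⟩ : Fct)) (lfA (⟨34, [11, 12, 2, 11, 12, 2, 11, 5, 4, 3, 4, 2, 12, 1], 25, [5, 4, 7, 12, 5, 12, 6, 5, 4, 8, 10, 4, 6, 6]⟩ : Fct)))) (ndA (nat_lit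 534) (ndA (nat_lit 533) (lfA (⟨34, [11, 2, 12, 11, 2, 11, 4, 3, 2, 12, 4, 12], 26, [6, 6, 4, 11, 5, 6, 9, 4, 5, 6, 12, 7, 7, 4]⟩ : Fct)) (lfA (⟨34, [2, 1, 3, 2, 1, 12, 10, 2, 1, 4, 5, 11, 12, 2], 25, [5, 7, 5, 12, 7, 5, 4, 12, 7, 10, 4, 5, 7]⟩ : Fct))) (ndA (nat_lit 535) (lfA (⟨34, [11, 12, 4, 11, 2, 11, 3, 12, 2, 3, 12, 5], 9, [11, 4, 11, 12, 6, 4, 5, 12, 6, 6, 12, 4]⟩ : Fct)) (lfA (⟨34, [4, 3, 12, 5, 10, 2, 1, 4, 10, 4, 11], 12, [3, 5, 6, 12, 5, 6, 9, 12, 7, 9, 10, 4, 5, 10, 6, 9]⟩ : Fct))))) (ndA (nat_lit 540) (ndA (nat_lit 538) (ndA (nat_lit 537) (lfA (⟨34, [2, 4, 12, 2, 5, 12, 2, 1, 4, 10, 2, 1, 10, 12, 4, 10], 12, [9, 7, 5, 4, 6, 5, 12, 7, 9, 10, 4, 5, 6, 10, 6, 8]⟩ : Fct)) (lfA (⟨34, [4, 2, 11,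 4, 11, 1, 2, 11, 12, 5, 1, 2, 12, 5], 25, [4, 11, 7, 5, 4, 11, 5, 7, 5, 12, 9, 4, 5, 6, 5]⟩ : Fct))) (ndA (nat_lit 539) (lfA (⟨34, [5, 12, 2, 12, 3, 2, 1, 12, 2, 10, 2, 10, 12, 2, 5, 11], 12, [5, 4, 11, 7, 4, 11, 6, 3, 4, 5, 6, 5]⟩ : Fct)) (lfA (⟨34, [2, 10, 4, 2, 11, 4, 2, 12, 4, 2, 12, 4], 26, [4, 3, 12, 6, 5, 4, 12, 7, 10, 4, 5, 10, 7, 5, 8]⟩ : Fct)))) (ndA (nat_lit 542) (ndA (nat_lit 541) (lfA (⟨34, [12, 2, 3, 4, 3, 2, 1, 10, 2, 10, 12, 2, 11, 12, 4], 26, [11, 5, 12, 6, 6, 3, 12, 4, 5, 6]⟩ : Fct)) (lfA (⟨34, [2, 1, 5, 4, 3, 2, 12, 3, 10, 2, 12, 10, 2, 11, 2], 9, [11, 8, 6, 5, 6, 12, 9, 6, 3, 4, 5]⟩ : Fct))) (ndA (nat_lit 543) (lfA (⟨34, [3, 4, 5, 12, 2, 10, 2, 4, 10, 2, 12, 11], 9, [1, 6, 12, 4, 7,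 7, 12, 5, 4, 7, 5, 6, 10, 4, 6, 10, 4, 7]⟩ : Fct)) (lfA (⟨34, [12, 4, 3, 2, 1, 5, 12, 10, 2, 4, 5, 10], 25, [1, 6, 5, 4, 9, 12, 6, 12, 5, 4, 10, 4, 5, 6, 9]⟩ : Fct))))))
noncomputable def FT34 : ℕ → Fct := (ndA (nat_lit 552) (ndA (nat_lit 548) (ndA (nat_lit 546) (ndA (nat_lit 545) (lfA (⟨34, [1, 3, 2, 1, 12, 4, 5, 10, 2, 1, 10, 4, 12, 5, 11], 25, [4, 11, 7, 5, 4, 11, 7, 12, 8, 6, 12, 3, 4, 12, 6]⟩ : Fct)) (lfA (⟨34, [3, 2, 11, 5, 12, 4, 2, 11, 4, 3, 2, 12, 1, 2, 12, 1], 21, [1, 7, 12, 5, 7, 9, 12, 5, 4, 7, 2, 12, 4, 6]⟩ : Fct))) (ndA (nat_lit 547) (lfA (⟨34, [1, 4, 12, 2, 4, 5, 12, 2, 1, 10, 2, 1, 10, 4, 10, 2], 31, [6, 9, 5, 7, 2, 12, 1, 2, 12, 6, 5, 7, 4, 12, 8, 4]⟩ : Fct)) (lfA (⟨34, [12, 2, 12, 4,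 3, 12, 2, 10, 4, 10, 2, 12, 5, 11], 16, [3, 7, 5, 12, 7, 8, 12, 4, 5, 4, 2, 1, 12, 4, 6, 12, 2]⟩ : Fct)))) (ndA (nat_lit 550) (ndA (nat_lit 549) (lfA (⟨34, [1, 4, 12, 2, 1, 10, 2, 4, 10, 4, 10, 4, 3], 26, [11, 6, 12, 4, 12, 8, 6, 5, 6, 4, 5, 3]⟩ : Fct)) (lfA (⟨16, [12, 3, 2], 35, []⟩ : Fct))) (ndA (nat_lit 551) (lfA (⟨35, [5, 4, 7, 5, 4, 6, 5, 8], 35, []⟩ : Fct)) (lfA (⟨35, [6, 6], 23, [4, 3, 4, 9, 12, 2, 3, 4, 12, 10, 2, 1, 10, 4, 11, 4]⟩ : Fct))))) (ndA (nat_lit 556) (ndA (nat_lit 554) (ndA (nat_lit 553) (lfA (⟨35, [8, 6], 27, [9, 12, 2, 4, 3, 2, 5, 10, 4, 10, 2, 12, 2, 10]⟩ : Fct)) (lfA (⟨35, [12, 6], 18, [4, 2, 11, 4, 11, 2, 11, 12, 3, 2, 12, 8, 4, 1]⟩ : Fct))) (ndA (nat_lit 555) (lfA (⟨35, [6, 5,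 7], 28, [1, 2, 11, 4, 11, 8, 4, 5, 4, 2]⟩ : Fct)) (lfA (⟨35, [12, 7, 7], 34, [1, 2, 1, 9, 12, 2, 1, 4, 12, 4, 10, 2, 1, 4, 12, 11, 2, 10]⟩ : Fct)))) (ndA (nat_lit 558) (ndA (nat_lit 557) (lfA (⟨35, [6, 12, 7], 19, [3, 12, 2, 12, 4, 12, 10, 2, 4, 12, 10, 2, 11, 4, 5]⟩ : Fct)) (lfA (⟨35, [5, 8, 6], 23, [1, 2, 1, 3, 2, 12, 2, 3, 4, 10, 2, 1, 4, 12, 10, 2, 3]⟩ : Fct))) (ndA (nat_lit 559) (lfA (⟨35, [5, 7, 7, 12, 3, 4, 6, 8, 12, 5, 10, 4, 7, 5, 9], 35, []⟩ : Fct)) (lfA (⟨35, [6, 6, 5, 4, 11], 16, [1, 5, 9, 6, 12, 4, 7, 2, 1, 3]⟩ : Fct))))))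
noncomputable def FT35 : ℕ → Fct := (ndA (nat_lit 568) (ndA (nat_lit 564) (ndA (nat_lit 562) (ndA (nat_lit 561) (lfA (⟨35, [8, 6, 11, 5, 4, 11], 31, [8, 5, 6, 2, 12, 1, 2, 6, 9, 5, 6, 12, 6, 3, 4, 3]⟩ : Fct)) (lfA (⟨35, [1, 12, 6, 5, 4, 3, 10], 13, [3, 5, 7, 12, 4, 12, 3, 7, 5, 8, 2, 1]⟩ : Fct))) (ndA (nat_lit 563) (lfA (⟨35, [6, 5, 7, 12, 3, 10, 4, 10], 16, [1, 4, 7, 7, 12, 5, 4, 7, 7, 5, 2, 1, 12]⟩ : Fct)) (lfA (⟨35, [1, 12, 4, 3, 6, 6, 10], 21, [7, 5, 7, 9, 12, 3, 6, 12, 5, 4, 2, 12, 3, 6, 5, 9, 12]⟩ : Fct)))) (ndA (nat_lit 566) (ndA (nat_lit 565) (lfA (⟨35, [3, 6, 12, 7, 5, 12, 10, 4, 10], 31, [1, 5, 12, 5, 7, 12, 7, 12, 4, 2, 3, 4]⟩ : Fct)) (lfA (⟨35, [8, 6, 11, 5, 4, 11, 9, 5, 6], 34, [2, 9, 12,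 2, 12, 2, 4, 5, 10, 2, 4, 10, 2, 10, 12, 2]⟩ : Fct))) (ndA (nat_lit 567) (lfA (⟨35, [8, 6, 11, 5, 4, 11, 8, 4, 5, 6], 20, [2, 1, 3, 4, 3, 2, 9, 12, 3, 2, 10, 2, 1, 12, 2]⟩ : Fct)) (lfA (⟨35, [8, 6, 11, 5, 4, 11, 4, 5, 12, 7, 5, 7], 20, [1, 4, 12, 2, 1, 12, 2, 4, 12, 10, 2, 4, 11, 4, 10, 2]⟩ : Fct))))) (ndA (nat_lit 572) (ndA (nat_lit 570) (ndA (nat_lit 569) (lfA (⟨35, [8, 6, 11, 5, 4, 11, 12, 6, 12, 4, 12, 7], 20, [2, 4, 3, 2, 5, 9, 12, 4, 10, 2, 1, 4, 12, 11, 2, 10]⟩ : Fct)) (lfA (⟨35, [8, 6, 11, 5, 4, 11, 12, 6, 6, 5, 12, 7], 34, [2, 12, 3, 2, 12, 4, 3, 10, 2, 10, 4, 5, 11]⟩ : Fct))) (ndA (nat_lit 571) (lfA (⟨35, [6, 5, 4, 11, 5, 6, 12, 4, 5, 6, 6, 5, 1], 34, [11, 12, 4, 11, 2, 11, 4, 2, 12, 5, 1, 2]⟩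 : Fct)) (lfA (⟨35, [6, 5, 4, 11, 12, 7, 3, 4, 12, 9, 7, 5, 7, 3], 34, [11, 12, 4, 11, 2, 11, 4, 12, 1, 2, 12, 4, 12, 9, 1]⟩ : Fct)))) (ndA (nat_lit 574) (ndA (nat_lit 573) (lfA (⟨35, [4, 11, 7, 4, 11, 12, 5, 3, 12, 7, 5, 6, 9], 19, [11, 4, 12, 2, 11, 4, 11, 12, 9, 4, 5, 3, 2]⟩ : Fct)) (lfA (⟨35, [6, 12, 4, 3, 6, 9, 10, 4, 10, 6], 33, [5, 4, 2, 11, 4, 2, 11, 5, 12, 4, 2, 3, 12, 2, 3]⟩ : Fct))) (ndA (nat_lit 575) (lfA (⟨35, [11, 5, 4, 11, 8, 7, 5, 12, 7, 5, 12, 9], 20, [4, 3, 2, 5, 9, 12, 2, 10, 2, 12, 2, 11, 2, 11, 4]⟩ : Fct)) (lfA (⟨21, [5, 7], 36, []⟩ : Fct))))))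
noncomputable def FT36 : ℕ → Fct := (ndA (nat_lit 584) (ndA (nat_lit 580) (ndA (nat_lit 578) (ndA (nat_lit 577) (lfA (⟨36, [2, 1, 3, 2, 4, 3, 2, 1, 4], 36, []⟩ : Fct)) (lfA (⟨36, [], 9, [11, 5, 7]⟩ : Fct))) (ndA (nat_lit 579) (lfA (⟨36, [1, 2], 12, [3, 12, 4, 10, 4, 5, 7]⟩ : Fct)) (lfA (⟨36, [3, 2], 12, [9, 12, 4, 12, 10, 4, 5, 7]⟩ : Fct)))) (ndA (nat_lit 582) (ndA (nat_lit 581) (lfA (⟨36, [4, 3, 2], 9, [11, 4, 5, 12, 9, 7, 4, 1]⟩ : Fct)) (lfA (⟨36, [4, 11], 31, [6, 6, 5, 12, 1, 2, 12, 6, 4, 5, 6, 3, 12, 6, 8, 5]⟩ : Fct))) (ndA (nat_lit 583) (lfA (⟨36, [4, 1, 2, 11], 31, [1, 6, 12, 4, 5, 4, 7, 5, 6, 12, 6, 2, 1, 12, 6]⟩ : Fct)) (lfA (⟨36, [8, 12, 5, 12, 2, 1, 12, 2, 5, 10, 2, 1, 12, 2, 11, 4], 36, []⟩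 : Fct))))) (ndA (nat_lit 588) (ndA (nat_lit 586) (ndA (nat_lit 585) (lfA (⟨36, [5, 3, 4, 2, 11], 31, [7, 12, 5, 12, 5, 6, 8, 2, 12, 6, 5, 12]⟩ : Fct)) (lfA (⟨36, [4, 3, 2, 4, 3, 8, 12, 5, 12, 10, 2, 4, 3, 4], 36, []⟩ : Fct))) (ndA (nat_lit 587) (lfA (⟨36, [4, 11, 12, 5, 2, 12, 1, 2], 26, [5, 7, 8, 12, 3, 5, 12, 6, 10, 4, 6, 5, 8, 10]⟩ : Fct)) (lfA (⟨36, [4, 1, 2, 11, 12, 2], 12, [5, 4, 11, 7, 4, 11, 6, 5, 7, 5, 12, 7, 8, 3]⟩ : Fct)))) (ndA (nat_lit 590) (ndA (nat_lit 589) (lfA (⟨36, [4, 1, 2, 11, 4, 3, 2, 12, 1, 2], 9, [3, 4, 8, 12, 6, 5, 4, 7, 5, 4, 10, 4, 5, 6, 10]⟩ : Fct)) (lfA (⟨3, [2, 12, 7], 37, []⟩ : Fct))) (ndA (nat_lit 591) (lfA (⟨37, [1, 2, 1, 4, 3, 2, 1, 4], 37, []⟩ : Fct)) (lfA (⟨37, [], 12,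 [12, 7]⟩ : Fct))))))
noncomputable def FT37 : ℕ → Fct := (ndA (nat_lit 600) (ndA (nat_lit 596) (ndA (nat_lit 594) (ndA (nat_lit 593) (lfA (⟨37, [2], 12, [1, 3, 4, 12, 7]⟩ : Fct)) (lfA (⟨37, [1, 2], 9, [7]⟩ : Fct))) (ndA (nat_lit 595) (lfA (⟨37, [3, 2], 12, [3, 12, 7, 5, 4, 6, 5, 6, 9]⟩ : Fct)) (lfA (⟨37, [12, 2], 9, [1, 6, 12, 6, 5, 4, 12, 5, 6, 9]⟩ : Fct)))) (ndA (nat_lit 598) (ndA (nat_lit 597) (lfA (⟨37, [1, 3, 2], 12, [1, 4, 12, 5, 12, 7]⟩ : Fct)) (lfA (⟨37, [1, 12, 2], 12, [4, 5, 7, 5, 8, 6, 12, 6, 8]⟩ : Fct))) (ndA (nat_lit 599) (lfA (⟨37, [4, 3, 2], 9, [3, 4, 5, 12, 6]⟩ : Fct)) (lfA (⟨37, [12, 3, 2], 9, [6, 6, 5, 6, 12, 4, 7, 5, 9]⟩ : Fct))))) (ndA (nat_lit 604) (ndA (nat_lit 602) (ndA (nat_lit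 601) (lfA (⟨37, [3, 12, 2], 12, [5, 6, 5, 12, 7, 7, 12, 4, 12, 5]⟩ : Fct)) (lfA (⟨37, [5, 12, 2], 9, [6, 8, 12, 3, 7, 5, 4, 6, 5, 4]⟩ : Fct))) (ndA (nat_lit 603) (lfA (⟨37, [2, 1, 3, 2], 9, [1, 12, 5, 7]⟩ : Fct)) (lfA (⟨37, [2, 1, 12, 2], 12, [1, 6, 5, 8, 7, 12, 7, 12]⟩ : Fct)))) (ndA (nat_lit 606) (ndA (nat_lit 605) (lfA (⟨37, [1, 4, 12, 2], 12, [9, 6, 12, 6, 5, 4, 6, 5, 7, 12]⟩ : Fct)) (lfA (⟨37, [3, 4, 3, 2], 12, [1, 4, 6, 5, 7, 12, 4, 6, 9, 12, 5, 4]⟩ : Fct))) (ndA (nat_lit 607) (lfA (⟨37, [5, 4, 3, 2], 12, [1, 6, 5, 9, 6, 12, 4, 6, 9, 12]⟩ : Fct)) (lfA (⟨37, [2, 12, 3, 2], 12, [3, 6, 12, 4, 7, 5, 4, 6, 5, 9]⟩ : Fct))))))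
noncomputable def FT38 : ℕ → Fct := (ndA (nat_lit 616) (ndA (nat_lit 612) (ndA (nat_lit 610) (ndA (nat_lit 609) (lfA (⟨37, [3, 2, 12, 2], 12, [3, 4, 8, 12, 7, 5, 6, 6, 12, 4, 6, 5]⟩ : Fct)) (lfA (⟨37, [2, 4, 12, 2], 12, [6, 5, 4, 7, 7, 12, 5, 12, 7, 7, 5]⟩ : Fct))) (ndA (nat_lit 611) (lfA (⟨37, [2, 3, 12, 2], 12, [7, 7, 12, 3, 5, 6, 8]⟩ : Fct)) (lfA (⟨37, [12, 2, 1, 3, 2], 12, [4, 8, 12, 7, 5, 8, 12, 4, 6, 5, 9, 7]⟩ : Fct)))) (ndA (nat_lit 614) (ndA (nat_lit 613) (lfA (⟨37, [1, 3, 4, 3, 2], 9, [5, 12, 4, 12, 6]⟩ : Fct)) (lfA (⟨37, [1, 5, 4, 3, 2], 9, [3, 5, 4, 7, 12, 3, 7, 12, 5, 7, 7]⟩ : Fct))) (ndA (nat_lit 615) (lfA (⟨37, [3, 2, 1, 12, 2], 9, [3, 5, 4, 7, 5, 12, 7, 5, 12, 6, 8]⟩ : Fct)) (lfA (⟨37, [3,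 2, 12, 3, 2], 12, [1, 12, 5, 6, 9, 12, 7, 5, 12, 4]⟩ : Fct))))) (ndA (nat_lit 620) (ndA (nat_lit 618) (ndA (nat_lit 617) (lfA (⟨37, [3, 2, 1, 4, 3, 2], 9, [1, 12, 4, 5, 4, 6]⟩ : Fct)) (lfA (⟨37, [2, 3, 2, 1, 4, 3, 2], 9, [1, 6]⟩ : Fct))) (ndA (nat_lit 619) (lfA (⟨37, [5, 12, 2, 1, 5, 12, 2], 5, [3, 4, 5, 6, 5, 4, 12, 5, 12]⟩ : Fct)) (lfA (⟨37, [11, 5, 4, 11], 31, [7, 9, 12, 5, 12, 4, 6, 9, 2, 12, 3, 7, 5, 7]⟩ : Fct)))) (ndA (nat_lit 622) (ndA (nat_lit 621) (lfA (⟨37, [2, 11, 4, 11], 31, [3, 4, 3, 12, 6, 12, 6, 5, 4, 7, 2, 3, 12, 2, 7]⟩ : Fct)) (lfA (⟨37, [3, 2, 11, 5, 4, 11], 31, [7, 12, 5, 12, 2, 4, 5, 12, 6, 12, 5, 12, 8, 3]⟩ : Fct))) (ndA (nat_lit 623) (lfA (⟨37, [12, 4, 2, 11], 7, [2, 3, 1, 2, 7, 12,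 8, 6, 12, 5, 6, 12, 8]⟩ : Fct)) (lfA (⟨37, [1, 3, 2, 5, 12, 3, 10, 4, 10], 31, [7, 12, 5, 12, 2, 12, 4, 3, 12, 5, 6, 8, 5]⟩ : Fct))))))
noncomputable def FT39 : ℕ → Fct := (ndA (nat_lit 632) (ndA (nat_lit 628) (ndA (nat_lit 626) (ndA (nat_lit 625) (lfA (⟨37, [12, 1, 2, 11], 21, [1, 2, 8, 7, 3, 4, 12, 6, 5, 7, 7, 3]⟩ : Fct)) (lfA (⟨37, [12, 1, 2, 11, 4, 11], 31, [7, 8, 12, 5, 12, 7, 9, 2, 12, 5, 6, 12]⟩ : Fct))) (ndA (nat_lit 627) (lfA (⟨37, [12, 3, 2, 11, 4, 11], 31, [4, 7, 7, 12, 4, 6, 5, 12, 4, 2, 12, 2, 6, 5, 6]⟩ : Fct)) (lfA (⟨37, [12, 3, 2, 11, 5, 4, 11], 31, [7, 8, 12, 6, 5, 7, 8, 12, 2, 3, 12, 2]⟩ : Fct)))) (ndA (nat_lit 630) (ndA (nat_lit 629) (lfA (⟨37, [3, 12, 2, 11, 4, 11], 31, [7, 12, 5, 12,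 2, 5, 6, 5, 12, 6, 8, 4, 5, 6, 12]⟩ : Fct)) (lfA (⟨37, [5, 12, 2, 11, 4, 11], 31, [5, 12, 4, 6, 12, 5, 6, 6, 2, 3, 4, 5, 6, 5, 12]⟩ : Fct))) (ndA (nat_lit 631) (lfA (⟨37, [2, 1, 12, 2, 5, 12, 3, 10, 4, 10], 31, [7, 12, 5, 12, 2, 12, 7, 5, 7, 5, 7, 12, 1]⟩ : Fct)) (lfA (⟨37, [4, 12, 1, 2, 11, 4, 11], 31, [3, 9, 6, 12, 4, 6, 5, 7, 12, 2, 12, 5, 12, 6]⟩ : Fct))))) (ndA (nat_lit 636) (ndA (nat_lit 634) (ndA (nat_lit 633) (lfA (⟨37, [3, 4, 3, 2, 5, 12, 3, 10, 4, 10], 31, [8, 7, 5, 7, 12, 3, 7, 9, 12, 2, 12, 3, 2, 6, 6]⟩ : Fct)) (lfA (⟨37, [4, 5, 4, 3, 2, 12, 3, 10, 4, 10], 31, [7, 12, 5, 12, 2, 7, 5, 4, 12, 7, 5, 7, 8, 4]⟩ : Fct))) (ndA (nat_lit 635) (lfA (⟨37, [2, 12, 3, 2, 5, 12, 3, 10, 4, 10], 31, [7, 12,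 5, 12, 2, 12, 5, 12, 9, 6, 5, 6, 9, 3]⟩ : Fct)) (lfA (⟨37, [2, 12, 2, 5, 12, 3, 2, 10, 4, 10], 31, [7, 12, 5, 12, 2, 12, 6, 12, 8, 5, 7, 5, 4, 12, 5]⟩ : Fct)))) (ndA (nat_lit 638) (ndA (nat_lit 637) (lfA (⟨37, [2, 4, 12, 2, 5, 12, 3, 10, 4, 10], 31, [5, 4, 3, 7, 7, 5, 7, 12, 7, 5, 4, 2, 3, 4, 12]⟩ : Fct)) (lfA (⟨37, [2, 3, 12, 2, 11, 4, 11], 31, [7, 12, 5, 12, 2, 7, 5, 12, 4, 12, 7, 5, 7, 4, 12, 9, 1]⟩ : Fct))) (ndA (nat_lit 639) (lfA (⟨37, [3, 12, 2, 1, 3, 2, 5, 12, 10, 4, 10], 31, [7, 12, 5, 12, 2, 5, 7, 4, 5, 4, 12, 7, 5, 6, 3, 4]⟩ : Fct)) (lfA (⟨37, [1, 5, 4, 3, 2, 12, 3, 10, 4, 10], 13, [2, 5, 7, 12, 5, 7, 8, 4, 5, 7, 3]⟩ : Fct))))))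
noncomputable def FT40 : ℕ → Fct := (ndA (nat_lit 648) (ndA (nat_lit 644) (ndA (nat_lit 642) (ndA (nat_lit 641) (lfA (⟨37, [1, 4, 5, 4, 3, 2, 12, 3, 10, 4, 10], 13, [2, 9, 7, 5, 7, 4, 12, 8, 5, 7, 12, 5, 1]⟩ : Fct)) (lfA (⟨37, [3, 2, 1, 12, 2, 12, 3, 10, 4, 10], 13, [2, 12, 6, 5, 6, 6, 3, 12, 4, 5, 7, 9]⟩ : Fct))) (ndA (nat_lit 643) (lfA (⟨37, [2, 12, 4, 3, 12, 2, 1, 10, 4, 10], 13, [6, 6, 6, 5, 4, 7, 2, 3, 12, 7, 5, 8, 6]⟩ : Fct)) (lfA (⟨37, [3, 2, 12, 3, 2, 12, 3, 10, 4, 10], 31, [3, 4, 9, 12, 3, 6, 5, 7, 7, 2, 12, 3, 2, 7, 7]⟩ : Fct)))) (ndA (nat_lit 646) (ndA (nat_lit 645) (lfA (⟨37, [3, 2, 1, 4, 3, 2, 1, 4, 3, 10], 7, [4, 9, 6, 5, 7, 12, 4, 2, 1, 12, 2, 4, 7, 9]⟩ : Fct)) (lfA (⟨37, [5, 4, 12, 2, 1,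 5, 12, 2, 3, 10, 4, 10], 7, [12, 4, 7, 5, 4, 9, 12, 7, 5, 6]⟩ : Fct))) (ndA (nat_lit 647) (lfA (⟨37, [1, 2, 1, 3, 2, 12, 2, 12, 2, 10, 4, 10], 7, [12, 7, 5, 4, 12, 6, 6, 5, 7, 9, 12]⟩ : Fct)) (lfA (⟨37, [11, 5, 4, 11, 1, 2], 22, [7, 5, 8, 6, 5, 12, 4, 12, 7, 5, 12, 10, 4, 10, 7, 5]⟩ : Fct))))) (ndA (nat_lit 652) (ndA (nat_lit 650) (ndA (nat_lit 649) (lfA (⟨37, [3, 5, 10, 4, 10, 2], 30, [7, 7, 5, 4, 11, 12, 8, 7, 5, 7, 8, 4, 5, 3, 1]⟩ : Fct)) (lfA (⟨37, [1, 5, 10, 4, 10, 2], 9, [7, 12, 3, 5, 6, 5, 4, 7, 5, 7, 10, 4, 6, 6, 10]⟩ : Fct))) (ndA (nat_lit 651) (lfA (⟨37, [1, 3, 4, 5, 4, 10, 4, 10, 2], 12, [5, 4, 11, 7, 4, 11, 12, 6, 12, 5, 7, 7, 4, 12]⟩ : Fct)) (lfA (⟨37, [11, 5, 4, 11, 4, 3, 2, 12, 1, 2], 35,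 [6, 6, 5, 12, 4, 5, 6, 6, 5, 7, 10, 4, 10, 7, 7]⟩ : Fct)))) (ndA (nat_lit 654) (ndA (nat_lit 653) (lfA (⟨37, [11, 5, 4, 11, 1, 2, 12, 2, 3, 1, 2], 26, [11, 12, 6, 12, 5, 12, 7, 7, 4, 5, 12]⟩ : Fct)) (lfA (⟨37, [11, 5, 4, 11, 12, 2, 12, 2, 3, 1, 2], 22, [5, 4, 11, 7, 4, 11, 5, 12, 5, 12, 7, 5, 4]⟩ : Fct))) (ndA (nat_lit 655) (lfA (⟨37, [11, 5, 4, 11, 1, 2, 3, 4, 3, 1, 2], 35, [11, 5, 4, 11, 7, 12, 9, 4, 5, 7, 12, 9, 4, 5]⟩ : Fct)) (lfA (⟨37, [11, 5, 4, 11, 12, 5, 1, 2, 12, 1, 2], 30, [3, 7, 5, 7, 9, 12, 4, 3, 12, 10, 4, 5, 7, 10, 4]⟩ : Fct))))))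
noncomputable def FT41 : ℕ → Fct := (ndA (nat_lit 664) (ndA (nat_lit 660) (ndA (nat_lit 658) (ndA (nat_lit 657) (lfA (⟨37, [11, 5, 4, 11, 3, 12, 5, 2, 12, 1, 2], 22, [1, 4, 6, 5, 6, 12, 4, 12, 7, 12, 10, 4, 5, 10]⟩ : Fct)) (lfA (⟨37, [2, 11, 4, 11, 4, 3, 2], 35, [3, 4, 7, 5, 7, 12, 3, 4, 7, 7, 5, 10, 4, 6, 5, 9, 10]⟩ : Fct))) (ndA (nat_lit 659) (lfA (⟨37, [2, 11, 4, 11, 1, 2, 12, 2, 3, 1, 2], 26, [11, 9, 6, 5, 6, 4, 5, 12, 1]⟩ : Fct)) (lfA (⟨37, [3, 2, 11, 5, 4, 11, 2, 3, 1, 2], 35, [3, 6, 6, 5, 4, 6, 5, 6, 12, 5, 7, 10, 4, 5, 10, 7, 7]⟩ : Fct)))) (ndA (nat_lit 662) (ndA (nat_lit 661) (lfA (⟨37, [3, 2, 12, 3, 4, 10, 4, 5, 10, 2], 26, [7, 9, 12, 5, 12, 6, 5, 4, 10, 4, 10, 7, 5, 6]⟩ : Fct)) (lfA (⟨37, [3,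 2, 11, 5, 4, 11, 12, 2, 3, 1, 2], 30, [5, 6, 5, 6, 12, 4, 6, 6, 5, 12, 10, 4, 6, 10, 7]⟩ : Fct))) (ndA (nat_lit 663) (lfA (⟨37, [1, 2, 12, 2, 1, 10, 2, 10, 12, 4, 3], 26, [3, 6, 12, 6, 5, 4, 6, 12, 10, 4, 5, 10]⟩ : Fct)) (lfA (⟨37, [3, 2, 11, 5, 4, 11, 12, 2, 12, 2, 3, 1, 2], 26, [4, 12, 5, 6, 6, 12, 4, 10, 4, 6, 5, 7, 10]⟩ : Fct))))) (ndA (nat_lit 668) (ndA (nat_lit 666) (ndA (nat_lit 665) (lfA (⟨37, [12, 4, 2, 11, 4, 12, 2], 30, [11, 5, 4, 11, 5, 7, 12, 4, 5, 7, 9, 4, 5, 7]⟩ : Fct)) (lfA (⟨37, [12, 4, 2, 11, 5, 4, 3, 2], 30, [6, 6, 6, 12, 5, 6, 5, 12, 10, 4, 6, 5, 10, 4]⟩ : Fct))) (ndA (nat_lit 667) (lfA (⟨37, [12, 4, 2, 11, 12, 4, 3, 2], 26, [4, 7, 5, 4, 9, 6, 12, 6, 12]⟩ : Fct)) (lfA (⟨37, [12, 4,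 2, 11, 2, 12, 3, 2], 26, [4, 7, 9, 7, 5, 4, 12, 3, 6, 5]⟩ : Fct)))) (ndA (nat_lit 670) (ndA (nat_lit 669) (lfA (⟨37, [12, 4, 2, 11, 2, 3, 4, 12, 2], 10, [7, 7, 4, 11, 6, 5, 6, 12, 6, 9, 4, 3]⟩ : Fct)) (lfA (⟨37, [1, 3, 2, 4, 5, 4, 12, 3, 10, 4, 10, 2], 22, [1, 5, 4, 6, 12, 5, 6, 6, 12, 10, 4, 10]⟩ : Fct))) (ndA (nat_lit 671) (lfA (⟨37, [2, 12, 2, 11, 1, 2, 11, 4, 12, 1, 2, 12, 5, 12], 35, [3, 6, 5, 4, 7, 5, 8, 12, 7, 12, 10, 4, 10, 7, 9]⟩ : Fct)) (lfA (⟨37, [1, 12, 2, 1, 10, 2, 1, 4, 3, 2], 26, [3, 12, 6, 5, 4, 7, 5, 9, 7, 10, 4, 5, 10, 6]⟩ : Fct))))))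
noncomputable def FT42 : ℕ → Fct := (ndA (nat_lit 680) (ndA (nat_lit 676) (ndA (nat_lit 674) (ndA (nat_lit 673) (lfA (⟨37, [12, 1, 2, 11, 12, 5, 2, 12, 1, 2], 26, [1, 9, 12, 6, 12, 4, 12, 7, 5, 9, 10, 4, 6, 5, 6, 10]⟩ : Fct)) (lfA (⟨37, [12, 1, 2, 11, 4, 11, 3, 4, 3, 2], 35, [12, 4, 6, 5, 4, 3, 6, 10, 4, 6, 5, 10]⟩ : Fct))) (ndA (nat_lit 675) (lfA (⟨37, [12, 1, 2, 11, 4, 11, 3, 4, 2, 3, 1, 2], 9, [6, 11, 8, 7, 4, 11, 12, 7, 4, 12, 7, 9, 3]⟩ : Fct)) (lfA (⟨37, [12, 3, 2, 11, 4, 11, 5, 4, 2, 3, 1, 2], 26, [4, 7, 8, 12, 7, 5, 12, 4, 7, 5, 6, 10, 4, 6, 5]⟩ : Fct)))) (ndA (nat_lit 678) (ndA (nat_lit 677) (lfA (⟨37, [12, 3, 2, 11, 4, 11, 5, 3, 4, 2, 3, 1, 2], 30, [6, 12, 4, 5, 6, 12, 6, 5, 8, 10, 4, 5, 10, 7,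 9]⟩ : Fct)) (lfA (⟨37, [12, 3, 2, 11, 4, 11, 5, 12, 5, 2, 12, 1, 2], 30, [7, 7, 5, 4, 11, 12, 6, 12, 5, 12, 6, 9, 4, 5]⟩ : Fct))) (ndA (nat_lit 679) (lfA (⟨37, [12, 3, 2, 11, 5, 4, 11, 3, 1, 2, 12, 1, 2], 26, [5, 6, 9, 12, 6, 5, 4, 12, 6, 9, 10, 4, 5, 10]⟩ : Fct)) (lfA (⟨37, [3, 12, 2, 11, 4, 11, 4, 12, 3, 2], 9, [6, 11, 8, 7, 4, 11, 3, 4, 5, 7, 12, 7, 12, 8, 4, 3]⟩ : Fct))))) (ndA (nat_lit 684) (ndA (nat_lit 682) (ndA (nat_lit 681) (lfA (⟨37, [3, 12, 2, 1, 12, 5, 4, 10, 4, 10, 2], 26, [11, 8, 7, 5, 7, 4, 3, 12, 8, 6, 5]⟩ : Fct)) (lfA (⟨37, [3, 12, 2, 11, 4, 11, 5, 12, 5, 2, 12, 1, 2], 12, [1, 9, 7, 5, 12, 7, 12, 5, 12, 7, 10, 4, 5, 6, 10, 4]⟩ : Fct))) (ndA (nat_lit 683) (lfA (⟨37, [5, 12, 2, 11, 4, 11,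 4, 2, 12, 1, 2], 26, [9, 7, 5, 12, 3, 4, 12, 7, 5, 6, 10, 4, 5, 6, 5, 4]⟩ : Fct)) (lfA (⟨37, [5, 12, 2, 11, 4, 11, 3, 1, 2, 12, 1, 2], 35, [8, 6, 11, 5, 4, 11, 12, 7, 5, 6, 12, 9, 4, 5, 4, 1]⟩ : Fct)))) (ndA (nat_lit 686) (ndA (nat_lit 685) (lfA (⟨37, [3, 4, 12, 11, 2, 11, 3, 4, 5, 3, 4, 1, 2, 12, 3], 9, [4, 3, 8, 12, 7, 5, 9, 10, 4, 6, 10, 7, 8]⟩ : Fct)) (lfA (⟨37, [3, 4, 12, 11, 2, 11, 2, 3, 12, 2, 12, 2, 3, 1], 9, [4, 8, 6, 5, 12, 3, 7, 5, 8, 10, 4, 6, 10, 7, 7]⟩ : Fct))) (ndA (nat_lit 687) (lfA (⟨37, [1, 12, 4, 3, 2, 12, 2, 10, 2, 1, 10, 2, 12], 35, [5, 4, 7, 9, 7, 5, 4, 12, 6, 12, 10, 4, 10, 7, 9]⟩ : Fct)) (lfA (⟨37, [2, 11, 12, 2, 11, 5, 4, 3, 2, 1], 35, [8, 12, 7, 5, 8, 12, 6, 12, 5, 10, 4, 6, 10,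 7, 8]⟩ : Fct))))))
noncomputable def FT43 : ℕ → Fct := (ndA (nat_lit 696) (ndA (nat_lit 692) (ndA (nat_lit 690) (ndA (nat_lit 689) (lfA (⟨37, [4, 3, 12, 2, 12, 4, 3, 2, 12, 10, 2, 1, 10, 2, 12], 35, [8, 6, 11, 5, 4, 11, 12, 9, 7, 12, 5, 12, 7, 9, 4, 1]⟩ : Fct)) (lfA (⟨37, [4, 3, 2, 12, 11, 2, 11, 3, 4, 12, 2, 12, 3], 35, [1, 6, 8, 12, 4, 6, 9, 12, 10, 4, 5, 10, 7, 7]⟩ : Fct))) (ndA (nat_lit 691) (lfA (⟨37, [3, 2, 1, 5, 4, 3, 4, 10, 2, 12, 10, 4], 35, [8, 6, 11, 5, 4, 11, 5, 6, 5, 12, 4, 12, 1]⟩ : Fct)) (lfA (⟨37, [1, 12, 4, 3, 2, 12, 2, 1, 4, 10, 4, 10, 2], 9, [1, 7, 12, 7, 12, 4, 6, 12, 5, 10, 4, 5, 6, 10, 6, 9]⟩ : Fct)))) (ndA (nat_lit 694) (ndA (nat_lit 693) (lfA (⟨37, [1, 2, 1, 4, 12, 2, 5, 12, 2,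 3, 10, 2, 10, 12, 4, 3], 22, [5, 4, 11, 7, 4, 11, 5, 12, 6, 5, 6, 12, 8, 4, 5, 7, 5]⟩ : Fct)) (lfA (⟨37, [2, 1, 12, 2, 12, 2, 3, 5, 10, 2, 1, 10, 2, 12, 5], 30, [7, 7, 5, 4, 11, 5, 4, 12, 7, 8, 5, 6, 12, 9]⟩ : Fct))) (ndA (nat_lit 695) (lfA (⟨37, [4, 5, 12, 2, 12, 10, 4, 5, 10, 2], 12, [7, 12, 4, 5, 4, 7, 12, 7, 10, 4, 10, 7]⟩ : Fct)) (lfA (⟨37, [12, 2, 11, 12, 2, 11, 4, 2, 3, 1, 2, 12, 2], 30, [7, 7, 5, 4, 11, 12, 7, 5, 4, 12, 6, 5, 4, 12]⟩ : Fct))))) (ndA (nat_lit 700) (ndA (nat_lit 698) (ndA (nat_lit 697) (lfA (⟨37, [3, 12, 2, 4, 12, 2, 1, 5, 10, 2, 10, 12, 4, 3, 12], 30, [3, 9, 7, 5, 12, 4, 6, 5, 7, 8, 12, 10, 7, 9]⟩ : Fct)) (lfA (⟨37, [4, 12, 2, 4, 12, 2, 1, 5, 10, 2, 10, 12, 4, 3, 12], 26, [11, 6,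 5, 7, 12, 7, 4, 5, 12, 1]⟩ : Fct))) (ndA (nat_lit 699) (lfA (⟨37, [2, 3, 12, 2, 3, 4, 5, 10, 4, 10, 2], 9, [6, 11, 8, 7, 4, 11, 4, 5, 6, 3, 4, 12, 8, 3]⟩ : Fct)) (lfA (⟨37, [2, 3, 12, 2, 11, 4, 11, 4, 3, 2, 12, 1, 2], 22, [5, 4, 11, 7, 4, 11, 5, 7, 12, 6, 9, 3]⟩ : Fct)))) (ndA (nat_lit 702) (ndA (nat_lit 701) (lfA (⟨37, [2, 11, 1, 2, 11, 2, 12, 5, 2, 3, 4, 1, 2, 1], 30, [7, 7, 5, 4, 11, 7, 4, 12, 5, 7, 12, 6, 4, 1]⟩ : Fct)) (lfA (⟨37, [2, 11, 1, 2, 11, 2, 12, 5, 4, 2, 3, 4, 2], 30, [1, 12, 4, 6, 12, 6, 5, 4, 3, 10, 4, 6, 9]⟩ : Fct))) (ndA (nat_lit 703) (lfA (⟨37, [2, 11, 1, 2, 11, 5, 4, 3, 4, 2, 3, 4, 3], 9, [6, 11, 8, 7, 4, 11, 7, 7, 4, 5, 7, 12, 5, 12, 8, 4]⟩ : Fct)) (lfA (⟨37, [12, 3, 2, 5, 12, 2, 12,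 10, 2, 12, 10, 4], 30, [3, 6, 9, 12, 6, 5, 4, 6, 5, 6]⟩ : Fct))))))
noncomputable def FT44 : ℕ → Fct := (ndA (nat_lit 712) (ndA (nat_lit 708) (ndA (nat_lit 706) (ndA (nat_lit 705) (lfA (⟨37, [1, 2, 4, 3, 2, 12, 10, 2, 10, 12, 4, 3, 12], 35, [6, 5, 4, 11, 7, 4, 12, 6, 5, 6, 9, 4, 5, 3, 1]⟩ : Fct)) (lfA (⟨37, [1, 2, 1, 5, 4, 12, 5, 10, 2, 12, 10, 4], 35, [1, 12, 5, 6, 5, 4, 10, 4, 7, 10]⟩ : Fct))) (ndA (nat_lit 707) (lfA (⟨37, [4, 12, 11, 2, 11, 5, 2, 3, 12, 2, 12, 2, 3, 1], 35, [6, 5, 4, 11, 4, 5, 4, 12, 8, 7, 5, 4, 12, 7]⟩ : Fct)) (lfA (⟨37, [2, 1, 12, 4, 12, 2, 1, 3, 2, 10, 2, 10, 12, 4, 3], 26, [6, 6, 12, 5, 12, 7, 7, 10, 4, 6]⟩ : Fct)))) (ndA (nat_lit 710) (ndA (nat_lit 709) (lfA (⟨37, [4, 2, 11, 5,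 12, 2, 11, 12, 4, 12, 3], 30, [4, 5, 4, 7, 12, 5, 12, 10, 4, 6, 5, 10, 4]⟩ : Fct)) (lfA (⟨37, [1, 2, 5, 4, 12, 5, 10, 2, 12, 10, 4], 26, [11, 12, 7, 5, 12, 8, 7, 5, 4, 12]⟩ : Fct))) (ndA (nat_lit 711) (lfA (⟨37, [4, 2, 11, 5, 12, 2, 11, 2, 3, 12, 4, 5, 2, 3, 1], 30, [3, 7, 7, 5, 4, 7, 5, 6, 12, 5, 10, 7, 9]⟩ : Fct)) (lfA (⟨37, [3, 12, 2, 4, 3, 4, 3, 2, 1, 10, 2, 1, 4, 12, 2, 5], 9, [1, 4, 6, 8, 12, 7, 5, 6, 12, 10, 4, 7, 5]⟩ : Fct))))) (ndA (nat_lit 716) (ndA (nat_lit 714) (ndA (nat_lit 713) (lfA (⟨37, [10, 4, 2, 11, 1, 2, 11, 4, 2, 3, 4, 1, 2, 1], 9, [4, 3, 12, 7, 9, 12, 5, 6, 9, 10, 4, 7, 5]⟩ : Fct)) (lfA (⟨37, [3, 2, 4, 3, 4, 5, 10, 2, 10, 12, 4, 3], 30, [11, 5, 4, 11, 12, 6, 6, 5, 7, 4, 5, 12, 9, 7,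 5]⟩ : Fct))) (ndA (nat_lit 715) (lfA (⟨37, [4, 11, 2, 11, 12, 3, 2, 12, 1, 2, 3, 4, 12], 26, [4, 3, 12, 6, 5, 12, 4, 6, 9]⟩ : Fct)) (lfA (⟨37, [4, 11, 2, 11, 12, 3, 4, 3, 2, 12, 4, 1], 25, [11, 6, 4, 11, 7, 4, 5, 12, 9, 7, 4, 12, 9, 7]⟩ : Fct)))) (ndA (nat_lit 718) (ndA (nat_lit 717) (lfA (⟨37, [2, 1, 4, 3, 10, 2, 10, 12, 4, 3], 30, [1, 12, 4, 5, 4, 7, 7, 5, 7, 12, 10, 4, 6, 5, 10]⟩ : Fct)) (lfA (⟨37, [4, 5, 12, 4, 10, 4, 10, 2, 11], 16, [5, 9, 12, 6, 5, 4, 7, 12, 3, 5, 6, 2, 12, 4, 6, 12, 6]⟩ : Fct))) (ndA (nat_lit 719) (lfA (⟨37, [3, 5, 10, 4, 10, 2, 11, 4, 11], 7, [8, 7, 12, 3, 4, 12, 2, 3, 4, 5, 6, 5, 12, 6, 12, 4, 5, 4]⟩ : Fct)) (lfA (⟨37, [1, 3, 4, 3, 10, 4, 5, 10, 2, 11], 21, [3, 5, 12, 4, 6, 5,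 4, 7]⟩ : Fct))))))
noncomputable def FT45 : ℕ → Fct := (ndA (nat_lit 728) (ndA (nat_lit 724) (ndA (nat_lit 722) (ndA (nat_lit 721) (lfA (⟨37, [5, 4, 3, 4, 10, 4, 5, 10, 2, 11], 31, [7, 12, 5, 12, 2, 8, 7, 5, 12, 6, 4, 12, 8, 5, 6, 3]⟩ : Fct)) (lfA (⟨37, [10, 5, 12, 4, 2, 11, 12, 5, 2, 3, 4, 3, 2, 12], 16, [4, 5, 6, 12, 7, 7, 12, 5, 2, 12, 4, 6, 12]⟩ : Fct))) (ndA (nat_lit 723) (lfA (⟨37, [10, 5, 4, 1, 2, 11, 12, 5, 2, 3, 4, 3, 2, 12, 1], 16, [7, 12, 8, 5, 6, 12, 2, 3, 12, 8, 5, 7, 4, 5, 6, 6, 4]⟩ : Fct)) (lfA (⟨37, [2, 5, 12, 2, 4, 12, 2, 12, 5, 10, 2, 10, 4, 5, 11, 12], 16, [5, 7, 5, 4, 12, 7, 12, 7, 5, 6, 2, 12, 5, 7, 5, 4]⟩ : Fct)))) (ndA (nat_lit 726) (ndA (nat_lit 725) (lfA (⟨37, [3, 2, 10, 12, 4,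 2, 11, 1, 2, 3, 4, 5, 3, 1], 7, [8, 6, 5, 6, 12, 3, 4, 12, 7, 7, 2, 1, 12, 6, 5, 9]⟩ : Fct)) (lfA (⟨37, [1, 3, 2, 1, 12, 2, 3, 4, 12, 10, 2, 1, 4, 5, 10, 4], 13, [12, 3, 2, 7, 4, 5, 6, 12, 4, 12, 7, 12, 1]⟩ : Fct))) (ndA (nat_lit 727) (lfA (⟨37, [2, 1, 4, 12, 4, 12, 10, 4, 10, 2, 11], 16, [12, 3, 2, 7, 5, 7, 9, 4, 5, 6, 12, 5, 3]⟩ : Fct)) (lfA (⟨37, [2, 3, 5, 4, 10, 4, 10, 2, 11, 4, 11], 13, [6, 12, 4, 6, 5, 6, 9, 6, 12, 4, 2, 12, 5]⟩ : Fct))))) (ndA (nat_lit 732) (ndA (nat_lit 730) (ndA (nat_lit 729) (lfA (⟨37, [3, 2, 12, 3, 4, 10, 4, 10, 2, 11, 4, 11], 31, [5, 12, 6, 5, 6, 9, 6, 12, 4, 2, 1, 12, 2, 5, 6, 5, 8]⟩ : Fct)) (lfA (⟨37, [1, 2, 3, 12, 2, 3, 10, 2, 10, 12, 4, 5, 10], 16, [9, 7, 12, 5, 4, 7, 7,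 5, 12, 2, 1, 12, 2, 5, 6, 5, 8]⟩ : Fct))) (ndA (nat_lit 731) (lfA (⟨37, [11, 12, 5, 4, 2, 11, 4, 1, 2, 12, 5, 2, 12], 16, [3, 8, 7, 5, 12, 4, 5, 7, 5, 7, 5, 2, 1, 12, 2, 6, 6]⟩ : Fct)) (lfA (⟨37, [12, 2, 1, 12, 4, 10, 2, 4, 5, 11, 4, 11], 31, [3, 5, 6, 5, 12, 6, 9, 12, 2]⟩ : Fct)))) (ndA (nat_lit 734) (ndA (nat_lit 733) (lfA (⟨37, [12, 2, 3, 4, 12, 3, 10, 2, 4, 11], 21, [5, 12, 6, 3, 12, 2, 12, 6, 6, 4, 5, 7, 4, 5, 4, 3]⟩ : Fct)) (lfA (⟨37, [2, 12, 2, 12, 4, 10, 2, 12, 2, 11, 4, 11], 31, [5, 9, 12, 6, 5, 7, 12, 4, 6, 2, 12, 7, 12, 2, 5]⟩ : Fct))) (ndA (nat_lit 735) (lfA (⟨37, [1, 3, 2, 4, 5, 4, 12, 3, 10, 4, 10, 2, 11, 4, 11], 13, [12, 3, 2, 5, 7, 4, 12, 5, 6, 6, 12, 1]⟩ : Fct)) (lfA (⟨37, [12, 3, 2, 1,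 4, 3, 4, 10, 2, 12, 2, 10, 4, 10], 16, [1, 5, 8, 7, 12, 7, 7, 5, 4, 7, 5, 7, 2, 1, 12, 2, 5, 6, 9]⟩ : Fct))))))
noncomputable def FT46 : ℕ → Fct := (ndA (nat_lit 744) (ndA (nat_lit 740) (ndA (nat_lit 738) (ndA (nat_lit 737) (lfA (⟨37, [11, 4, 2, 10, 2, 12, 2, 11, 3, 4, 1, 2], 21, [7, 5, 6, 9, 12, 3, 7, 12, 4, 2, 1, 12, 4, 6, 12, 4]⟩ : Fct)) (lfA (⟨37, [5, 4, 10, 4, 12, 2, 11, 5, 4, 12, 1, 2, 12, 5], 7, [8, 7, 12, 3, 4, 12, 2, 12, 8, 5, 7, 12, 4, 12, 6, 5]⟩ : Fct))) (ndA (nat_lit 739) (lfA (⟨37, [11, 12, 4, 11, 1, 2, 11, 5, 4, 2, 12, 2, 3, 2], 16, [2, 12, 9, 5, 7, 12, 2, 12, 7, 7, 5, 12, 7, 4, 5, 4, 3]⟩ : Fct)) (lfA (⟨37, [3, 2, 4, 12, 2, 3, 5, 10, 2, 4, 10, 4, 11], 25, [4, 11, 7, 5, 4, 11, 6, 12, 6, 5,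 7, 4, 12, 6, 8, 5, 6]⟩ : Fct)))) (ndA (nat_lit 742) (ndA (nat_lit 741) (lfA (⟨37, [3, 4, 10, 4, 11, 4, 2, 11, 5, 4, 2, 3, 1, 2], 35, [7, 7, 12, 3, 5, 7, 12, 4, 5, 6, 8]⟩ : Fct)) (lfA (⟨37, [3, 4, 10, 4, 11, 4, 2, 11, 5, 2, 3, 4, 3, 2], 25, [3, 5, 4, 7, 5, 6, 9, 12, 4, 5, 4, 10, 4, 7, 5, 8, 6]⟩ : Fct))) (ndA (nat_lit 743) (lfA (⟨37, [12, 3, 2, 12, 2, 1, 4, 12, 2, 10, 2, 10, 4, 12, 11], 22, [4, 8, 12, 6, 12, 5, 6, 5, 12, 4, 10, 4, 6, 5, 6]⟩ : Fct)) (lfA (⟨37, [12, 2, 1, 3, 2, 1, 4, 10, 2, 12, 10, 12, 2, 10], 24, [4, 3, 5, 7, 9, 12, 5, 12, 5, 10, 4, 6, 10, 7]⟩ : Fct))))) (ndA (nat_lit 748) (ndA (nat_lit 746) (ndA (nat_lit 745) (lfA (⟨37, [3, 4, 10, 4, 11, 4, 2, 11, 12, 5, 2, 12, 1, 2], 26, [7, 5, 4, 11, 4,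 12, 7, 5, 7, 4, 5, 12, 6, 8, 3]⟩ : Fct)) (lfA (⟨37, [1, 4, 12, 4, 12, 2, 10, 2, 1, 12, 4, 10], 25, [11, 6, 4, 11, 5, 4, 12, 5, 6, 6, 12, 4, 12]⟩ : Fct))) (ndA (nat_lit 747) (lfA (⟨37, [3, 4, 11, 4, 11, 2, 11, 2, 12, 2, 3, 1, 2, 1], 26, [1, 6, 6, 5, 4, 6, 5, 7, 8, 10, 4, 6, 6, 10]⟩ : Fct)) (lfA (⟨37, [1, 3, 2, 12, 4, 12, 2, 10, 2, 4, 10, 2, 12, 4, 10], 9, [12, 7, 5, 4, 8, 6, 5, 12, 10, 4, 6, 9, 10, 4]⟩ : Fct)))) (ndA (nat_lit 750) (ndA (nat_lit 749) (lfA (⟨37, [10, 5, 12, 4, 2, 11, 12, 4, 2, 3, 2, 12, 2, 3], 26, [5, 8, 12, 4, 7, 12, 5, 7, 7, 10, 4, 6, 5, 6, 6]⟩ : Fct)) (lfA (⟨37, [2, 4, 3, 2, 1, 4, 12, 10, 2, 12, 2, 12, 10, 4], 25, [4, 11, 7, 5, 4, 11, 7, 7, 4, 5, 6, 4, 12, 7, 5, 6]⟩ : Fct))) (ndA (nat_lit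 751) (lfA (⟨37, [10, 5, 4, 10, 4, 2, 11, 5, 12, 2, 3, 4, 2, 1], 25, [4, 11, 5, 6, 4, 11, 4, 5, 12, 9, 7, 12, 4, 12, 6, 5, 1]⟩ : Fct)) (lfA (⟨37, [10, 5, 4, 10, 4, 2, 11, 5, 2, 12, 4, 12, 3], 26, [7, 5, 4, 11, 8, 7, 12, 7, 4, 5, 6, 6, 12, 6]⟩ : Fct))))))
noncomputable def FT47 : ℕ → Fct := (ndA (nat_lit 760) (ndA (nat_lit 756) (ndA (nat_lit 754) (ndA (nat_lit 753) (lfA (⟨37, [3, 2, 4, 3, 4, 12, 10, 2, 1, 4, 5, 10, 4, 5], 26, [3, 9, 7, 5, 12, 4, 6, 5, 7, 8, 12]⟩ : Fct)) (lfA (⟨37, [2, 1, 3, 2, 12, 2, 1, 3, 4, 10, 2, 4, 12, 5, 10, 2, 3], 30, [11, 5, 4, 11, 6, 9, 5, 6, 4, 12, 9, 4, 1]⟩ : Fct))) (ndA (nat_lit 755) (lfA (⟨37, [1, 2, 3, 5, 12, 5, 10, 2, 4, 5, 11, 4, 12, 5], 30, [11, 5, 4, 11, 4, 5, 7, 3, 12,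 7, 5, 7, 4, 5]⟩ : Fct)) (lfA (⟨37, [10, 12, 4, 11, 4, 2, 11, 12, 2, 12, 2, 3, 12], 26, [7, 5, 4, 7, 5, 7, 12, 5, 6, 6, 10, 4, 7, 5, 8]⟩ : Fct)))) (ndA (nat_lit 758) (ndA (nat_lit 757) (lfA (⟨37, [3, 4, 3, 2, 1, 12, 4, 5, 10, 2, 4, 10, 2, 11, 4, 5], 25, [6, 5, 8, 12, 7, 5, 4, 6, 5, 6, 10, 4, 10, 6]⟩ : Fct)) (lfA (⟨37, [10, 12, 4, 11, 4, 2, 11, 2, 12, 3, 4, 3, 2, 12, 1, 2, 1], 24, [3, 6, 12, 5, 4, 6, 5, 6, 5, 4, 10, 4, 6, 5]⟩ : Fct))) (ndA (nat_lit 759) (lfA (⟨37, [5, 12, 4, 10, 4, 2, 11, 2, 12, 4, 1, 2], 9, [11, 4, 11, 4, 5, 4, 12, 7, 7, 5, 7, 12, 9, 4]⟩ : Fct)) (lfA (⟨37, [2, 3, 2, 12, 2, 5, 4, 10, 2, 1, 4, 12, 11, 2, 1], 30, [1, 12, 5, 4, 6, 5, 12, 4, 7, 12, 10, 4, 5, 10, 6, 5]⟩ : Fct))))) (ndA (nat_lit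 764) (ndA (nat_lit 762) (ndA (nat_lit 761) (lfA (⟨37, [3, 2, 4, 3, 2, 4, 5, 12, 10, 2, 4, 10, 4, 10], 25, [4, 11, 5, 6, 4, 11, 5, 7, 5, 12, 6, 5, 6, 1]⟩ : Fct)) (lfA (⟨37, [11, 12, 2, 11, 5, 4, 2, 11, 1, 2, 3, 4, 5, 4, 3], 35, [4, 9, 7, 5, 6, 12, 4, 12, 6, 6]⟩ : Fct))) (ndA (nat_lit 763) (lfA (⟨37, [12, 2, 1, 3, 2, 4, 3, 12, 10, 2, 10, 12, 4, 11], 35, [7, 5, 7, 12, 4, 6, 12, 5, 7, 7]⟩ : Fct)) (lfA (⟨37, [4, 12, 4, 5, 10, 2, 4, 10, 2, 3, 4, 12], 35, [6, 9, 12, 3, 4, 6, 5, 6, 10, 4, 5, 10, 7, 5, 8]⟩ : Fct)))) (ndA (nat_lit 766) (ndA (nat_lit 765) (lfA (⟨37, [1, 2, 5, 12, 3, 10, 2, 12, 4, 10, 4, 10], 26, [5, 6, 5, 8, 12, 6, 12, 4, 10, 7, 9]⟩ : Fct)) (lfA (⟨37, [1, 2, 11, 4, 2, 11, 2, 12, 2, 3, 4, 5, 4, 2,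 1], 12, [4, 11, 7, 7, 5, 7, 4, 3, 4, 5, 3]⟩ : Fct))) (ndA (nat_lit 767) (lfA (⟨37, [1, 2, 3, 4, 12, 2, 1, 4, 10, 2, 1, 4, 5, 11, 4], 35, [7, 7, 4, 11, 12, 9, 7, 5, 3, 12, 7, 5]⟩ : Fct)) (lfA (⟨37, [4, 5, 12, 3, 2, 12, 10, 2, 1, 10, 4, 11], 26, [4, 9, 12, 3, 7, 5, 4, 9, 12, 10, 4, 7, 10, 7]⟩ : Fct))))))
noncomputable def FT48 : ℕ → Fct := (ndA (nat_lit 776) (ndA (nat_lit 772) (ndA (nat_lit 770) (ndA (nat_lit 769) (lfA (⟨37, [3, 12, 2, 1, 3, 2, 4, 10, 2, 1, 4, 11], 26, [4, 3, 5, 9, 6, 5, 12, 4, 7, 5]⟩ : Fct)) (lfA (⟨37, [1, 2, 4, 3, 2, 4, 10, 2, 12, 2, 11, 4, 11], 25, [4, 11, 5, 6, 4, 11, 5, 12, 8, 7, 5, 6, 3, 4, 5, 7, 3]⟩ : Fct))) (ndA (nat_lit 771) (lfA (⟨9, [7, 11], 38, []⟩ : Fct)) (lfA (⟨38, [12], 38,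 []⟩ : Fct)))) (ndA (nat_lit 774) (ndA (nat_lit 773) (lfA (⟨38, [], 37, [1, 2, 11]⟩ : Fct)) (lfA (⟨38, [5, 7], 20, [2, 10, 5, 12, 4, 2, 11, 9, 4, 2, 1]⟩ : Fct))) (ndA (nat_lit 775) (lfA (⟨38, [6, 5, 7], 37, [8, 12, 3, 2, 4, 12, 10]⟩ : Fct)) (lfA (⟨38, [5, 8, 7], 33, [10, 12, 4, 11, 2, 11, 3, 2, 12, 4, 12, 9, 2]⟩ : Fct))))) (ndA (nat_lit 780) (ndA (nat_lit 778) (ndA (nat_lit 777) (lfA (⟨38, [6, 12, 7], 37, [1, 2, 4, 5, 4, 3, 10]⟩ : Fct)) (lfA (⟨38, [7, 5, 6], 37, [11, 12, 11, 2, 11, 5, 1]⟩ : Fct))) (ndA (nat_lit 779) (lfA (⟨38, [6, 5, 6], 19, [4, 12, 2, 11, 5, 3, 12, 9, 4]⟩ : Fct)) (lfA (⟨38, [5, 12, 6], 37, [1, 2, 1, 5, 4, 8, 12, 2, 10, 2, 1, 12, 2, 11, 4, 5]⟩ : Fct)))) (ndA (nat_lit 782) (ndA (nat_lit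 781) (lfA (⟨38, [7, 12, 6], 37, [4, 3, 4, 2, 11, 12, 1]⟩ : Fct)) (lfA (⟨38, [6, 12, 6], 37, [11, 5, 12, 2, 11, 5, 3, 2, 12, 9, 1]⟩ : Fct))) (ndA (nat_lit 783) (lfA (⟨38, [4, 6, 5, 7], 37, [8, 12, 4, 3, 2, 12, 2, 12, 10, 2, 1, 10, 2, 12]⟩ : Fct)) (lfA (⟨38, [4, 7, 5, 7], 33, [1, 5, 12, 10, 2, 10, 12, 4, 3, 12]⟩ : Fct))))))
noncomputable def FT49 : ℕ → Fct := (ndA (nat_lit 792) (ndA (nat_lit 788) (ndA (nat_lit 786) (ndA (nat_lit 785) (lfA (⟨38, [5, 7, 5, 7], 34, [5, 12, 4, 11, 2, 12, 2, 11, 5, 4, 12, 9, 1]⟩ : Fct)) (lfA (⟨38, [7, 7, 5, 7], 19, [5, 12, 11, 2, 11, 4, 11, 4, 5, 2, 12, 4, 1]⟩ : Fct))) (ndA (nat_lit 787) (lfA (⟨38, [8, 7, 5, 7], 34, [3, 4, 10, 4, 2, 11, 3, 1, 2, 12, 4, 12, 9, 5, 3, 2]⟩ : Fct))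 (lfA (⟨38, [9, 6, 5, 7], 37, [3, 2, 1, 9, 12, 2, 3, 4, 10]⟩ : Fct)))) (ndA (nat_lit 790) (ndA (nat_lit 789) (lfA (⟨38, [4, 6, 12, 7], 11, [1, 2, 1, 5, 4, 12, 2, 1, 3, 10, 4]⟩ : Fct)) (lfA (⟨38, [4, 7, 12, 7], 33, [1, 5, 9, 12, 10, 2, 10, 12, 4, 11]⟩ : Fct))) (ndA (nat_lit 791) (lfA (⟨38, [8, 6, 5, 6], 34, [12, 10, 2, 10, 4, 2, 11, 12, 5, 4, 2, 3, 2, 1]⟩ : Fct)) (lfA (⟨38, [7, 12, 5, 6], 37, [11, 2, 3, 1, 2, 1]⟩ : Fct))))) (ndA (nat_lit 796) (ndA (nat_lit 794) (ndA (nat_lit 793) (lfA (⟨38, [4, 7, 12, 6], 20, [8, 12, 2, 1, 3, 2, 12, 4, 5, 10, 2, 1, 10, 2]⟩ : Fct)) (lfA (⟨38, [3, 4, 7, 5, 7, 12, 4, 5, 7, 2, 1, 3, 2, 4, 3, 5, 7], 38, []⟩ : Fct))) (ndA (nat_lit 795) (lfA (⟨38, [5, 4, 7, 5, 7], 34, [1, 8, 12,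 5, 12, 4, 10, 2, 10, 12, 4]⟩ : Fct)) (lfA (⟨38, [9, 6, 12, 5, 7], 18, [8, 12, 2, 3, 2, 4, 3, 12, 10]⟩ : Fct)))) (ndA (nat_lit 798) (ndA (nat_lit 797) (lfA (⟨38, [4, 9, 6, 12, 7], 37, [12, 2, 4, 12, 5, 4, 10, 4]⟩ : Fct)) (lfA (⟨38, [5, 6, 12, 6, 6], 37, [2, 9, 12, 2, 4, 3, 12, 5, 10, 2, 4, 10, 2, 10, 12]⟩ : Fct))) (ndA (nat_lit 799) (lfA (⟨38, [6, 6, 5, 12, 6], 33, [10, 5, 2, 12, 11, 2, 11, 12, 2, 3, 12, 8, 4, 3, 2]⟩ : Fct)) (lfA (⟨38, [6, 12, 5, 12, 6], 20, [2, 3, 5, 4, 8, 12, 10, 4]⟩ : Fct))))))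
noncomputable def FT50 : ℕ → Fct := (ndA (nat_lit 808) (ndA (nat_lit 804) (ndA (nat_lit 802) (ndA (nat_lit 801) (lfA (⟨38, [5, 4, 8, 7, 5, 7], 37, [4, 11, 4, 12, 2, 11, 5, 4, 12, 2, 3, 12, 8, 4, 5]⟩ : Fct)) (lfA (⟨38, [6, 8, 12, 5, 12, 7], 34, [4, 8, 12, 3, 2, 12, 2, 4, 3, 10, 2, 4, 12, 5, 10, 2, 11]⟩ : Fct))) (ndA (nat_lit 803) (lfA (⟨38, [4, 5, 6, 8, 12, 7], 32, [1, 2, 9, 12, 2, 3, 4, 3, 4, 10, 2, 1, 10, 2, 10]⟩ : Fct)) (lfA (⟨38, [7, 8, 12, 6, 5, 6], 37, [12, 3, 2, 4, 12, 2, 10]⟩ : Fct)))) (ndA (nat_lit 806) (ndA (nat_lit 805) (lfA (⟨38, [4, 6, 5, 8, 12, 6], 36, [1, 3, 2, 1, 4, 9, 12, 2, 3, 10, 2, 1, 10, 2]⟩ : Fct)) (lfA (⟨38, [8, 6, 5, 4, 6, 5, 7], 37, [4, 9, 12, 2, 4, 5, 12, 2, 1, 10, 2, 4, 5, 11,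 2, 4]⟩ : Fct))) (ndA (nat_lit 807) (lfA (⟨38, [5, 4, 9, 7, 5, 12, 7], 33, [12, 11, 5, 4, 2, 11, 4, 2, 11, 4, 5, 12, 9, 2, 1]⟩ : Fct)) (lfA (⟨38, [7, 5, 12, 4, 6, 5, 6], 23, [1, 2, 3, 5, 8, 12, 2, 12, 2, 4, 12, 10, 2, 1, 4, 5, 11, 4]⟩ : Fct))))) (ndA (nat_lit 812) (ndA (nat_lit 810) (ndA (nat_lit 809) (lfA (⟨38, [8, 6, 5, 7, 12, 4, 5, 7], 37, [2, 11, 2, 12, 2, 11, 1, 2, 12, 9, 4, 5, 2]⟩ : Fct)) (lfA (⟨38, [8, 7, 5, 4, 12, 7, 5, 7], 37, [1, 8, 12, 2, 4, 5, 12, 2, 5, 10, 2, 4, 11, 2, 3, 4, 12]⟩ : Fct))) (ndA (nat_lit 811) (lfA (⟨38, [8, 6, 5, 4, 6, 5, 12, 7], 34, [2, 1, 3, 2, 1, 5, 12, 2, 10, 2, 12, 10, 2, 10, 4, 12]⟩ : Fct)) (lfA (⟨38, [4, 12, 2], 30, [3, 8, 7, 12, 5, 6, 8, 12, 4, 10, 4, 6, 5]⟩ : Fct))))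 (ndA (nat_lit 814) (ndA (nat_lit 813) (lfA (⟨38, [2, 1, 3, 2], 12, [7, 5, 7, 12, 4, 5, 6, 5, 9, 12, 10]⟩ : Fct)) (lfA (⟨38, [1, 4, 12, 2], 26, [7, 11, 6, 5, 4, 11, 6, 12, 8, 7, 5, 3, 12]⟩ : Fct))) (ndA (nat_lit 815) (lfA (⟨38, [2, 3, 12, 2], 26, [5, 7, 5, 4, 11, 12, 6, 5, 7, 12, 4, 5, 3]⟩ : Fct)) (lfA (⟨38, [4, 2, 1, 3, 2], 9, [6, 12, 6, 12, 4, 12, 5, 7, 8, 10, 4, 6, 10, 4, 5]⟩ : Fct))))))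
noncomputable def FT51 : ℕ → Fct := (ndA (nat_lit 824) (ndA (nat_lit 820) (ndA (nat_lit 818) (ndA (nat_lit 817) (lfA (⟨38, [3, 2, 1, 12, 2], 30, [1, 9, 6, 5, 4, 12, 6, 5, 7, 7, 12, 10, 4, 5, 7, 5]⟩ : Fct)) (lfA (⟨38, [4, 2, 1, 12, 2], 30, [9, 12, 6, 5, 4, 3, 7, 5, 7, 10, 4, 5, 10, 7, 5]⟩ : Fct))) (ndA (nat_lit 819) (lfA (⟨38, [5, 2, 1, 12, 2], 35, [4, 5, 7, 5, 4, 11, 4, 5, 12, 7, 7, 4, 5, 1]⟩ : Fct)) (lfA (⟨38, [2, 3, 4, 3, 2], 35, [4, 5, 6, 12, 4, 7, 12, 6, 12, 10, 4, 6, 10, 4, 7]⟩ : Fct)))) (ndA (nat_lit 822) (ndA (nat_lit 821) (lfA (⟨38, [3, 4, 2, 1, 3, 2], 10, [7, 11, 4, 12, 6, 5, 12, 7, 5]⟩ : Fct)) (lfA (⟨38, [1, 5, 2, 1, 12, 2], 35, [1, 5, 4, 12, 6, 5, 9, 7, 12, 5, 10, 4, 5, 7, 7]⟩ : Fct))) (ndA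 (nat_lit 823) (lfA (⟨38, [4, 3, 2, 1, 12, 2], 30, [4, 12, 4, 12, 3, 7, 12, 7, 5, 4, 10, 4, 6, 10, 4, 5]⟩ : Fct)) (lfA (⟨38, [3, 2, 1, 3, 4, 3, 2], 26, [4, 11, 8, 5, 6, 12, 5, 7, 4]⟩ : Fct))))) (ndA (nat_lit 828) (ndA (nat_lit 826) (ndA (nat_lit 825) (lfA (⟨38, [3, 5, 4, 2, 1, 3, 2], 35, [3, 5, 12, 6, 5, 9, 12, 5, 6, 10, 4, 5, 10, 7, 9]⟩ : Fct)) (lfA (⟨38, [5, 7, 2, 12, 2], 30, [5, 12, 4, 12, 6, 5, 4, 12, 10, 4, 5, 6, 10, 6, 9]⟩ : Fct))) (ndA (nat_lit 827) (lfA (⟨38, [1, 5, 4, 6, 12, 2], 30, [5, 4, 11, 7, 4, 11, 8, 6, 5, 7, 4, 12, 5, 6, 8, 1]⟩ : Fct)) (lfA (⟨38, [1, 5, 7, 5, 12, 2], 25, [4, 7, 7, 5, 6, 12, 4, 12, 6, 6, 10, 4, 6, 5, 10, 6]⟩ : Fct)))) (ndA (nat_lit 830) (ndA (nat_lit 829) (lfA (⟨38, [3, 5,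 4, 3, 6, 2], 30, [6, 6, 6, 12, 6, 9, 10, 4, 5, 6, 10, 4]⟩ : Fct)) (lfA (⟨38, [3, 5, 7, 2, 1, 12, 2], 35, [12, 5, 4, 6, 5, 4, 7, 5, 8, 12, 10, 4, 5, 6, 5, 8]⟩ : Fct))) (ndA (nat_lit 831) (lfA (⟨38, [5, 7, 5, 2, 1, 12, 2], 35, [7, 7, 5, 6, 4, 11, 8, 7, 12, 7, 5, 12, 4, 5, 7, 1]⟩ : Fct)) (lfA (⟨38, [5, 7, 12, 5, 4, 3, 2, 1, 12, 2, 1], 30, [11, 7, 5, 4, 11, 8, 5, 7, 4, 12, 8, 5, 4]⟩ : Fct))))))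
noncomputable def FT52 : ℕ → Fct := (ndA (nat_lit 840) (ndA (nat_lit 836) (ndA (nat_lit 834) (ndA (nat_lit 833) (lfA (⟨38, [5, 7, 12, 3, 4, 12, 2], 26, [8, 5, 6, 4, 11, 12, 4, 12, 7, 5, 6, 5, 12, 4]⟩ : Fct)) (lfA (⟨38, [5, 7, 2, 12, 3, 4, 12, 2], 35, [11, 8, 6, 4, 11, 5, 12, 5, 6, 12, 6, 6, 12, 5, 4]⟩ : Fct))) (ndA (nat_lit 835) (lfA (⟨38, [1, 5, 6, 5, 7, 12, 2], 26, [9, 6, 5, 7, 4, 11, 8, 6, 5, 6, 12, 4, 1]⟩ : Fct)) (lfA (⟨38, [3, 5, 6, 5, 4, 3, 6, 2], 35, [3, 12, 4, 12, 6, 5, 4, 3, 10, 4, 6, 9, 10, 7]⟩ : Fct)))) (ndA (nat_lit 838) (ndA (nat_lit 837) (lfA (⟨38, [3, 6, 5, 7, 2, 12, 3, 2], 26, [8, 7, 12, 4, 6, 5, 7, 9, 12, 7, 10, 4, 10, 7, 7]⟩ : Fct)) (lfA (⟨38, [6, 5, 7, 12, 4, 12, 3, 2], 25, [9, 5, 7,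 4, 11, 6, 5, 7, 12, 7, 4, 5, 7, 5]⟩ : Fct))) (ndA (nat_lit 839) (lfA (⟨38, [5, 6, 5, 4, 6, 2, 1, 3, 2], 30, [1, 3, 4, 3, 6, 6, 5, 7, 8, 10, 4, 5, 6, 10, 6]⟩ : Fct)) (lfA (⟨38, [6, 5, 7, 2, 1, 3, 4, 3, 2], 30, [5, 6, 5, 4, 11, 5, 6, 5, 12, 6, 4, 3]⟩ : Fct))))) (ndA (nat_lit 844) (ndA (nat_lit 842) (ndA (nat_lit 841) (lfA (⟨38, [1, 3, 6, 5, 7, 2, 1, 12, 2], 26, [4, 7, 5, 7, 5, 12, 4, 3, 6, 12, 10, 4, 5]⟩ : Fct)) (lfA (⟨38, [6, 5, 7, 12, 4, 2, 1, 12, 2], 30, [1, 12, 4, 6, 12, 6, 5, 4, 10, 4, 6, 10, 4]⟩ : Fct))) (ndA (nat_lit 843) (lfA (⟨38, [6, 5, 7, 12, 3, 5, 2, 1, 12, 2, 3], 35, [9, 7, 5, 4, 6, 5, 7, 12, 3, 7, 10, 4, 5, 10]⟩ : Fct)) (lfA (⟨38, [3, 5, 6, 5, 4, 6, 2, 1, 3, 2], 26, [1, 9, 7, 5, 4, 6, 12, 5,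 7, 8, 10, 4, 6, 6, 10]⟩ : Fct)))) (ndA (nat_lit 846) (ndA (nat_lit 845) (lfA (⟨38, [5, 8, 7, 2, 12, 2], 24, [4, 3, 5, 4, 3, 7, 9, 7, 5, 10, 4, 6, 5, 6, 6]⟩ : Fct)) (lfA (⟨38, [5, 4, 8, 6, 12, 2], 35, [4, 3, 7, 5, 7, 7, 10, 4, 6, 10, 4, 7]⟩ : Fct))) (ndA (nat_lit 847) (lfA (⟨38, [5, 8, 7, 12, 4, 3, 2], 30, [11, 5, 6, 4, 11, 7, 5, 6, 12, 7, 8, 5, 4, 3]⟩ : Fct)) (lfA (⟨38, [3, 5, 8, 7, 2, 12, 2], 25, [11, 8, 6, 4, 11, 8, 5, 6, 12, 5, 12, 6, 4, 5, 3, 4]⟩ : Fct))))))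
noncomputable def FT53 : ℕ → Fct := (ndA (nat_lit 856) (ndA (nat_lit 852) (ndA (nat_lit 850) (ndA (nat_lit 849) (lfA (⟨38, [3, 5, 4, 8, 6, 12, 2], 22, [6, 11, 7, 4, 11, 7, 12, 9, 6, 5, 7, 7, 3]⟩ : Fct)) (lfA (⟨38, [3, 5, 8, 7, 2, 1, 12, 2], 25, [5, 4, 12, 7, 5, 7, 8, 12, 10, 4, 6, 10, 7, 8]⟩ : Fct))) (ndA (nat_lit 851) (lfA (⟨38, [5, 4, 8, 6, 2, 1, 12, 2], 26, [6, 5, 4, 8, 12, 6, 5, 6, 12, 10, 4, 6, 5, 6, 6]⟩ : Fct)) (lfA (⟨38, [3, 5, 8, 7, 5, 4, 3, 2], 26, [6, 12, 5, 4, 3, 6, 5, 7, 10, 4, 5, 6]⟩ : Fct)))) (ndA (nat_lit 854) (ndA (nat_lit 853) (lfA (⟨38, [5, 8, 7, 12, 3, 4, 12, 2], 22, [4, 6, 6, 5, 4, 12, 7, 12, 5, 12, 6, 10, 4, 10]⟩ : Fct)) (lfA (⟨38, [3, 6, 12, 7, 2], 35, [4, 6, 5, 6, 12, 6, 12, 5, 10,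 4, 6, 10, 4]⟩ : Fct))) (ndA (nat_lit 855) (lfA (⟨38, [1, 6, 12, 4, 6, 12, 2], 30, [5, 4, 11, 7, 5, 4, 11, 12, 6, 4, 5, 6, 5, 6, 4]⟩ : Fct)) (lfA (⟨38, [6, 12, 4, 6, 12, 3, 2], 26, [12, 7, 12, 5, 7, 8, 12, 6, 10, 4, 5, 10, 7, 9]⟩ : Fct))))) (ndA (nat_lit 860) (ndA (nat_lit 858) (ndA (nat_lit 857) (lfA (⟨38, [6, 12, 4, 6, 2, 12, 2], 35, [12, 5, 4, 7, 5, 4, 7, 5, 10, 4, 6, 10]⟩ : Fct)) (lfA (⟨38, [6, 12, 7, 2, 3, 12, 2], 30, [5, 4, 12, 7, 5, 7, 5, 4, 10, 4, 6, 6, 10, 7]⟩ : Fct))) (ndA (nat_lit 859) (lfA (⟨38, [6, 12, 3, 4, 6, 12, 2], 26, [6, 5, 6, 6, 12, 3, 5, 10, 4, 6, 6]⟩ : Fct)) (lfA (⟨38, [7, 5, 6, 2, 1, 12, 2], 22, [12, 4, 7, 5, 12, 7, 5, 8, 12, 4, 10, 4, 5, 7]⟩ : Fct)))) (ndA (nat_lit 862) (ndA (nat_lit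 861) (lfA (⟨38, [1, 5, 7, 5, 6, 12, 2], 26, [7, 7, 11, 6, 5, 6, 6, 5]⟩ : Fct)) (lfA (⟨38, [7, 5, 6, 2, 12, 3, 2], 35, [5, 12, 6, 5, 12, 4, 12, 7, 5, 9, 6, 10, 4, 7, 5, 6, 9]⟩ : Fct))) (ndA (nat_lit 863) (lfA (⟨38, [3, 7, 5, 6, 2, 12, 3, 2], 22, [6, 9, 5, 7, 4, 11, 6, 4, 5, 7, 8, 1]⟩ : Fct)) (lfA (⟨38, [3, 7, 5, 4, 7, 2, 1, 3, 2], 30, [7, 11, 7, 7, 4, 11, 12, 5, 6, 3, 12, 5, 7, 5]⟩ : Fct))))))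
noncomputable def FT54 : ℕ → Fct := (ndA (nat_lit 872) (ndA (nat_lit 868) (ndA (nat_lit 866) (ndA (nat_lit 865) (lfA (⟨38, [7, 5, 6, 2, 1, 3, 4, 3, 2], 25, [5, 4, 11, 6, 6, 4, 12, 7, 5, 4, 12, 6, 1]⟩ : Fct)) (lfA (⟨38, [1, 6, 5, 6, 5, 4, 3, 2], 35, [3, 4, 6, 12, 3, 5, 6, 5, 9, 7, 10, 4, 5, 7, 10, 4]⟩ : Fct))) (ndA (nat_lit 867) (lfA (⟨38, [6, 5, 6, 5, 2, 1, 12, 2], 30, [1, 6, 12, 5, 4, 7, 5, 4, 3, 7, 10, 4, 5, 6, 5, 4]⟩ : Fct)) (lfA (⟨38, [5, 12, 3, 6, 2], 22, [11, 8, 5, 6, 4, 11, 5, 12, 9, 6, 4, 5, 6, 4, 1]⟩ : Fct)))) (ndA (nat_lit 870) (ndA (nat_lit 869) (lfA (⟨38, [5, 12, 4, 3, 7, 2], 25, [3, 9, 12, 7, 5, 12, 7, 7, 5, 10, 4, 5, 6, 10, 4]⟩ : Fct)) (lfA (⟨38, [5, 12, 6, 2, 1, 12, 2], 35, [3, 4, 5, 12,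 7, 12, 7, 5, 6, 8, 10, 4, 5, 10, 6, 6]⟩ : Fct))) (ndA (nat_lit 871) (lfA (⟨38, [1, 5, 12, 6, 2, 1, 12, 2], 35, [4, 7, 12, 5, 12, 4, 6, 12, 5, 7, 8, 10, 4, 10, 6, 6]⟩ : Fct)) (lfA (⟨38, [1, 5, 12, 4, 7, 5, 12, 2], 30, [9, 6, 5, 12, 3, 6, 6, 10, 4, 5, 6, 9]⟩ : Fct))))) (ndA (nat_lit 876) (ndA (nat_lit 874) (ndA (nat_lit 873) (lfA (⟨38, [5, 12, 3, 6, 2, 12, 3, 2], 26, [6, 5, 6, 9, 12, 3, 5, 6, 12, 10, 4, 7, 5, 6]⟩ : Fct)) (lfA (⟨38, [5, 12, 3, 6, 5, 2, 1, 12, 2], 24, [4, 11, 7, 5, 4, 11, 5, 4, 12, 5, 7, 5, 7, 12, 6]⟩ : Fct))) (ndA (nat_lit 875) (lfA (⟨38, [5, 12, 3, 6, 2, 1, 3, 2, 12, 2], 25, [11, 8, 7, 4, 11, 7, 9, 5, 7, 4, 5, 6, 12, 9, 1]⟩ : Fct)) (lfA (⟨38, [3, 7, 12, 6, 2], 25, [6, 12, 5, 12, 7, 5, 8,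 7, 10, 4, 5, 7]⟩ : Fct)))) (ndA (nat_lit 878) (ndA (nat_lit 877) (lfA (⟨38, [7, 12, 4, 7, 12, 2], 25, [7, 9, 7, 5, 4, 6, 12, 5, 12, 6, 10, 4, 5, 10, 6]⟩ : Fct)) (lfA (⟨38, [1, 6, 12, 6, 2], 25, [4, 11, 7, 4, 11, 7, 8, 5, 7, 4, 12, 6, 6, 1]⟩ : Fct))) (ndA (nat_lit 879) (lfA (⟨38, [6, 12, 3, 6, 12, 2], 25, [7, 7, 5, 4, 11, 12, 8, 7, 4, 5, 6, 12, 6, 8, 4, 1]⟩ : Fct)) (lfA (⟨38, [6, 12, 6, 5, 4, 3, 2], 25, [1, 6, 8, 12, 5, 12, 6, 10, 4, 5, 7, 5, 7, 9]⟩ : Fct))))))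
noncomputable def FT55 : ℕ → Fct := (ndA (nat_lit 888) (ndA (nat_lit 884) (ndA (nat_lit 882) (ndA (nat_lit 881) (lfA (⟨38, [4, 7, 5, 4, 3, 6, 2, 1, 12, 2], 26, [1, 3, 5, 4, 3, 7, 7, 5, 6, 8, 10, 4, 5, 6, 10]⟩ : Fct)) (lfA (⟨38, [5, 7, 5, 7, 2, 12, 3, 2], 25, [11, 7, 5, 7, 4, 11, 6, 4, 12, 6, 5, 7, 7, 3, 12, 5]⟩ : Fct))) (ndA (nat_lit 883) (lfA (⟨38, [3, 5, 7, 5, 4, 6, 12, 2], 25, [12, 6, 12, 4, 7, 12, 7, 9, 10, 4, 5, 7, 9]⟩ : Fct)) (lfA (⟨34, [3, 2, 4, 3, 9, 12, 2, 5, 10, 2, 1, 12, 2, 11], 30, [7, 7, 12, 7, 5, 9, 10, 4, 5, 6, 10, 4]⟩ : Fct)))) (ndA (nat_lit 886) (ndA (nat_lit 885) (lfA (⟨38, [1, 5, 7, 5, 7, 5, 2, 1, 12, 2], 25, [5, 6, 12, 4, 3, 7, 12, 10, 4, 6, 10, 7]⟩ : Fct)) (lfA (⟨38, [1, 3, 7, 7, 5,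 4, 3, 6, 2], 25, [3, 12, 7, 7, 5, 6, 12, 10, 4, 7, 7, 10]⟩ : Fct))) (ndA (nat_lit 887) (lfA (⟨38, [8, 7, 5, 4, 3, 6, 2], 25, [4, 5, 7, 5, 8, 12, 4, 6, 9, 10, 4, 5, 10, 6, 5]⟩ : Fct)) (lfA (⟨38, [9, 6, 5, 7, 12, 3, 2], 24, [4, 3, 12, 6, 5, 7, 7, 12, 4, 10, 4, 7, 5, 9, 10]⟩ : Fct))))) (ndA (nat_lit 892) (ndA (nat_lit 890) (ndA (nat_lit 889) (lfA (⟨38, [5, 9, 6, 5, 4, 6, 2, 1, 3, 2], 35, [6, 5, 4, 7, 5, 4, 12, 6, 5, 9, 10, 4, 5, 7, 5]⟩ : Fct)) (lfA (⟨38, [3, 4, 6, 12, 4, 6, 2, 1, 12, 2], 25, [6, 5, 4, 8, 6, 12, 6, 5, 6, 6, 10, 4, 6]⟩ : Fct))) (ndA (nat_lit 891) (lfA (⟨38, [4, 7, 12, 4, 6, 12, 3, 2], 25, [6, 6, 5, 4, 11, 7, 5, 7, 7, 4, 12, 6, 5, 6, 5]⟩ : Fct)) (lfA (⟨34, [12, 10, 2, 10, 4, 2, 11, 3, 2, 12,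 3, 2, 12, 1, 2], 30, [6, 6, 11, 7, 4, 11, 12, 7, 7, 12, 7, 4, 1]⟩ : Fct)))) (ndA (nat_lit 894) (ndA (nat_lit 893) (lfA (⟨33, [5, 9, 12, 3, 2, 12, 2, 5, 12, 10, 2, 4, 11, 4, 11], 12, [3, 5, 4, 8, 12, 7, 5, 4, 10, 7, 9]⟩ : Fct)) (lfA (⟨34, [1, 2, 4, 8, 12, 4, 12, 3, 2, 1, 10, 2, 10, 4, 10, 4, 12], 26, [6, 5, 7, 4, 11, 7, 5, 7, 12, 4, 5, 7, 9, 4, 1]⟩ : Fct))) (ndA (nat_lit 895) (lfA (⟨34, [5, 8, 12, 4, 3, 2, 12, 2, 10, 2, 1, 10, 12, 4, 10], 35, [4, 5, 4, 7, 5, 4, 3, 7, 9, 12, 7, 10, 4, 6, 10, 4]⟩ : Fct)) (lfA (⟨37, [2, 11, 4, 1, 2, 11, 5, 2, 12, 4, 1, 2, 12, 9, 5], 30, [7, 5, 12, 4, 5, 7, 12, 7, 10, 4, 10, 6, 6]⟩ : Fct))))))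
noncomputable def FT56 : ℕ → Fct := (ndA (nat_lit 904) (ndA (nat_lit 900) (ndA (nat_lit 898) (ndA (nat_lit 897) (lfA (⟨23, [2, 4, 8, 12, 4, 12, 2, 3, 4, 10, 2, 1, 4, 5, 11, 4], 26, [5, 12, 3, 4, 12, 6, 5, 4, 9, 10, 4, 6, 5, 6, 9]⟩ : Fct)) (lfA (⟨37, [1, 2, 11, 5, 12, 4, 2, 11, 12, 8, 4, 3, 4], 30, [3, 4, 12, 7, 12, 5, 7, 5, 4, 10, 4, 5, 7, 10, 6]⟩ : Fct))) (ndA (nat_lit 899) (lfA (⟨38, [4, 8, 12, 2, 12, 7], 37, [1, 3, 2, 4, 9, 12, 3, 2, 12, 2, 10, 2, 10, 4]⟩ : Fct)) (lfA (⟨38, [4, 12, 4, 5, 2, 12, 7], 23, [11, 2, 11, 4, 11, 2, 12, 5, 2, 12, 4, 2, 12, 9]⟩ : Fct)))) (ndA (nat_lit 902) (ndA (nat_lit 901) (lfA (⟨38, [4, 12, 7, 7, 2, 12, 7], 32, [1, 2, 8, 12, 2, 3, 5, 12, 2, 10, 2, 12, 5, 10, 2]⟩ : Fct)) (lfA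 (⟨38, [4, 12, 4, 2, 12, 6, 5, 7], 37, [11, 12, 4, 1, 2, 11, 5, 12, 2, 12, 8, 4, 1, 2, 1]⟩ : Fct))) (ndA (nat_lit 903) (lfA (⟨38, [4, 12, 6, 8, 2, 12, 5, 6], 37, [4, 11, 2, 11, 4, 11, 5, 1, 2, 12, 9, 2, 3, 2, 1]⟩ : Fct)) (lfA (⟨38, [4, 8, 12, 6, 2, 12, 5, 6], 23, [12, 2, 12, 2, 11, 4, 5, 4, 3]⟩ : Fct))))) (ndA (nat_lit 908) (ndA (nat_lit 906) (ndA (nat_lit 905) (lfA (⟨38, [4, 12, 4, 5, 6, 2, 12, 6], 32, [3, 2, 8, 12, 3, 2, 12, 2, 5, 12, 10, 2, 10, 4, 12, 2, 4]⟩ : Fct)) (lfA (⟨38, [4, 8, 12, 7, 9, 2, 12, 5, 7], 20, [5, 4, 2, 11, 1, 2, 11, 4, 3, 4, 2, 12, 2, 3]⟩ : Fct))) (ndA (nat_lit 907) (lfA (⟨38, [4, 12, 2, 4, 12, 6, 12, 5, 7], 34, [4, 12, 3, 2, 12, 2, 10, 2, 1, 10, 2]⟩ : Fct)) (lfA (⟨38, [4, 12, 2, 7,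 12, 8, 4, 5, 6], 37, [10, 4, 11, 4, 1, 2, 11, 12, 4, 2, 12, 8, 4, 1]⟩ : Fct)))) (ndA (nat_lit 910) (ndA (nat_lit 909) (lfA (⟨38, [4, 12, 2, 3, 4, 12, 5, 7, 5, 7], 34, [12, 2, 11, 4, 10, 4, 2, 11, 12, 8, 5, 2, 3, 4, 3, 4, 2]⟩ : Fct)) (lfA (⟨38, [4, 12, 2, 7, 3, 4, 12, 7, 5, 7], 34, [3, 2, 4, 3, 12, 2, 12, 10, 4]⟩ : Fct))) (ndA (nat_lit 911) (lfA (⟨38, [4, 12, 2, 7, 7, 12, 4, 12, 7, 5, 7], 32, [1, 3, 4, 9, 12, 2, 12, 3, 10, 2, 1, 10, 2, 10]⟩ : Fct)) (lfA (⟨38, [5, 7, 2, 1, 3, 2, 4, 5, 6], 34, [12, 2, 11, 1, 2, 11, 5, 1, 2, 12, 1, 2, 3, 12, 9]⟩ : Fct))))))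
noncomputable def FT57 : ℕ → Fct := (ndA (nat_lit 920) (ndA (nat_lit 916) (ndA (nat_lit 914) (ndA (nat_lit 913) (lfA (⟨38, [5, 8, 7, 2, 1, 3, 2, 4, 5, 6], 37, [4, 2, 10, 4, 10, 4, 2, 11, 2, 12, 2, 12, 5, 4, 3]⟩ : Fct)) (lfA (⟨38, [2, 3, 1, 2, 8, 6, 4, 5, 7, 12, 7], 32, [10, 2, 12, 2, 11, 12, 2, 12, 5, 2, 3, 12, 9, 2]⟩ : Fct))) (ndA (nat_lit 915) (lfA (⟨38, [2, 3, 1, 2, 4, 5, 7, 3, 4, 5, 6], 36, [1, 2, 3, 4, 3, 5, 10, 2, 12, 4, 11]⟩ : Fct)) (lfA (⟨38, [2, 3, 1, 2, 6, 5, 4, 12, 6, 5, 6], 34, [12, 3, 2, 12, 4, 12, 3, 10, 2, 10, 12, 5, 10]⟩ : Fct)))) (ndA (nat_lit 918) (ndA (nat_lit 917) (lfA (⟨38, [2, 3, 1, 2, 12, 5, 12, 9, 6, 4, 5, 7], 33, [4, 8, 12, 2, 3, 12, 2, 3, 4, 10, 2, 4, 10, 4, 12, 10, 4]⟩ : Fct))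 (lfA (⟨38, [2, 3, 1, 2, 6, 5, 4, 12, 5, 7, 5, 7], 37, [11, 1, 2, 11, 12, 2, 11, 9, 4, 5, 4, 2, 3, 1, 2]⟩ : Fct))) (ndA (nat_lit 919) (lfA (⟨38, [2, 3, 1, 2, 5, 6, 5, 4, 12, 7, 5, 7], 34, [2, 4, 3, 2, 4, 3, 4, 12, 10, 2, 12, 10, 4]⟩ : Fct)) (lfA (⟨38, [2, 3, 1, 2, 7, 12, 4, 12, 6, 9, 5, 7], 34, [4, 12, 11, 2, 11, 4, 5, 12, 9, 4]⟩ : Fct))))) (ndA (nat_lit 924) (ndA (nat_lit 922) (ndA (nat_lit 921) (lfA (⟨38, [2, 3, 1, 2, 6, 12, 7, 5, 6, 4, 5, 6], 37, [3, 4, 8, 12, 2, 12, 3, 5, 12, 10, 2, 4, 10, 2, 12, 2]⟩ : Fct)) (lfA (⟨38, [2, 3, 1, 2, 5, 12, 5, 7, 5, 7, 4, 5, 7], 20, [4, 3, 2, 1, 4, 3, 4, 8, 10, 2, 12, 2, 11, 4, 11]⟩ : Fct))) (ndA (nat_lit 923) (lfA (⟨38, [2, 3, 1, 2, 7, 12, 5, 12, 7, 12, 4, 5, 6], 34,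 [11, 4, 11, 5, 3, 12, 4]⟩ : Fct)) (lfA (⟨38, [1, 4, 12, 2, 3, 4, 5, 7], 36, [2, 1, 4, 3, 2, 1, 8, 12, 10, 2, 4, 11, 4, 12, 3]⟩ : Fct)))) (ndA (nat_lit 926) (ndA (nat_lit 925) (lfA (⟨38, [1, 4, 12, 5, 2, 12, 6, 12, 6], 37, [3, 12, 2, 4, 3, 12, 5, 10, 4, 5, 10, 2, 11]⟩ : Fct)) (lfA (⟨38, [4, 12, 1, 2, 12, 7, 12, 8, 5, 7], 34, [4, 12, 1, 2, 11, 9, 2, 3, 4, 5, 2]⟩ : Fct))) (ndA (nat_lit 927) (lfA (⟨38, [1, 4, 9, 12, 4, 5, 7, 2, 12, 7], 37, [1, 2, 3, 9, 12, 5, 12, 2, 1, 4, 10, 2, 1, 12, 2, 10]⟩ : Fct)) (lfA (⟨38, [4, 12, 1, 2, 12, 7, 4, 5, 12, 6], 32, [2, 8, 12, 2, 1, 4, 5, 12, 4, 10, 2, 12, 11, 2]⟩ : Fct))))))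
noncomputable def FT58 : ℕ → Fct := (ndA (nat_lit 936) (ndA (nat_lit 932) (ndA (nat_lit 930) (ndA (nat_lit 929) (lfA (⟨38, [1, 4, 12, 4, 7, 5, 6, 8, 2, 12, 7], 37, [1, 2, 1, 9, 12, 2, 1, 3, 5, 10, 2, 1, 4, 5, 11, 12, 2]⟩ : Fct)) (lfA (⟨38, [1, 4, 12, 7, 5, 7, 2, 3, 4, 5, 6], 28, [2, 4, 9, 12, 2, 3, 12, 2, 1, 10, 2, 12, 4, 12, 10, 2]⟩ : Fct))) (ndA (nat_lit 931) (lfA (⟨38, [8, 12, 4, 5, 6, 12, 2, 12, 2, 4, 6], 34, [1, 2, 5, 4, 3, 4, 3, 2, 1, 9, 10, 2, 4, 11, 4, 3]⟩ : Fct)) (lfA (⟨38, [4, 12, 1, 2, 5, 7, 12, 5, 7, 4, 5, 7], 34, [4, 2, 11, 4, 10, 4, 2, 11, 3, 12, 8, 4, 5, 2, 3, 4]⟩ : Fct)))) (ndA (nat_lit 934) (ndA (nat_lit 933) (lfA (⟨38, [4, 12, 1, 2, 12, 6, 5, 7, 7, 4, 5, 7], 32, [2, 4, 12, 3, 2, 12, 10,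 2, 1, 4, 3, 2, 12]⟩ : Fct)) (lfA (⟨38, [1, 4, 12, 4, 7, 7, 2, 12, 5, 7, 5, 7], 37, [11, 5, 4, 2, 11, 5, 12, 2, 12, 4, 2, 12, 4, 2]⟩ : Fct))) (ndA (nat_lit 935) (lfA (⟨38, [4, 12, 1, 2, 7, 12, 7, 5, 6, 4, 5, 6], 34, [4, 3, 2, 12, 2, 3, 5, 10, 2, 1, 4, 11, 4, 10]⟩ : Fct)) (lfA (⟨38, [4, 12, 1, 2, 12, 5, 7, 5, 7, 3, 4, 5, 7], 34, [5, 4, 8, 12, 3, 2, 12, 4, 10, 2, 12, 2, 11, 2, 12, 11]⟩ : Fct))))) (ndA (nat_lit 940) (ndA (nat_lit 938) (ndA (nat_lit 937) (lfA (⟨38, [3, 4, 9, 12, 6, 12, 2, 12, 2, 7, 5, 7], 23, [11, 4, 1, 2, 12, 11, 2, 11, 5, 3, 4, 1, 2, 1]⟩ : Fct)) (lfA (⟨38, [2, 3, 12, 2, 7, 5, 7], 29, [11, 4, 11, 4, 1, 2, 12, 5, 2, 12, 8, 4, 2]⟩ : Fct))) (ndA (nat_lit 939) (lfA (⟨38, [2, 3, 12, 2, 6, 5, 6],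 34, [12, 2, 10, 12, 4, 2, 11, 1, 2, 12, 5, 4, 1, 2, 12, 2, 1]⟩ : Fct)) (lfA (⟨38, [2, 3, 12, 2, 6, 5, 6, 12, 6], 37, [11, 4, 12, 11, 1, 2, 11, 4, 12, 5, 12, 3, 2, 12, 9]⟩ : Fct)))) (ndA (nat_lit 942) (ndA (nat_lit 941) (lfA (⟨38, [2, 3, 12, 2, 8, 5, 7, 12, 5, 7], 37, [12, 11, 2, 12, 10, 12, 2, 11, 5, 12, 9, 4, 2, 3, 1]⟩ : Fct)) (lfA (⟨38, [2, 3, 12, 2, 12, 7, 5, 12, 8, 6], 23, [2, 12, 3, 2, 1, 12, 4, 12, 10, 4, 10, 2, 3, 12, 2]⟩ : Fct))) (ndA (nat_lit 943) (lfA (⟨38, [2, 3, 12, 2, 8, 6, 4, 12, 6, 6, 5, 7], 29, [1, 2, 1, 5, 10, 2, 1, 4, 10, 2, 4, 5]⟩ : Fct)) (lfA (⟨38, [2, 3, 12, 2, 7, 5, 12, 4, 12, 6, 5, 6], 34, [4, 2, 11, 4, 11, 2, 11, 2, 3, 12, 8, 2, 3, 4]⟩ : Fct))))))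
noncomputable def FT59 : ℕ → Fct := (ndA (nat_lit 952) (ndA (nat_lit 948) (ndA (nat_lit 946) (ndA (nat_lit 945) (lfA (⟨38, [4, 6, 5, 7, 2, 1, 3, 2, 4, 5, 6], 37, [2, 4, 12, 2, 4, 12, 2, 10, 2, 12, 10, 2, 11, 4]⟩ : Fct)) (lfA (⟨38, [4, 2, 3, 1, 2, 12, 6, 5, 6, 4, 5, 6], 34, [3, 4, 5, 12, 2, 10, 2, 4, 10, 2, 4, 12, 3]⟩ : Fct))) (ndA (nat_lit 947) (lfA (⟨38, [4, 2, 12, 1, 2, 7, 12, 9, 5, 7], 34, [11, 12, 4, 2, 11, 4, 2, 11, 3, 12, 4, 2, 12, 5]⟩ : Fct)) (lfA (⟨38, [5, 2, 1, 12, 2, 5, 6, 5, 6], 34, [5, 12, 4, 3, 2, 12, 2, 10, 2, 12, 11, 12]⟩ : Fct)))) (ndA (nat_lit 950) (ndA (nat_lit 949) (lfA (⟨38, [5, 2, 12, 1, 2, 6, 12, 9, 4, 5, 6], 34, [2, 1, 3, 2, 8, 12, 2, 4, 3, 10, 2, 4, 3, 5]⟩ : Fct)) (lfA (⟨38, [5,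 2, 12, 1, 2, 6, 12, 6, 5, 7, 4, 5, 7], 34, [1, 2, 8, 12, 4, 12, 2, 1, 12, 10, 2, 10, 4, 12, 10, 2]⟩ : Fct))) (ndA (nat_lit 951) (lfA (⟨38, [5, 2, 12, 1, 2, 4, 12, 6, 5, 7, 3, 4, 5, 7], 34, [2, 3, 2, 4, 8, 12, 2, 12, 10, 2, 4, 10, 2, 12, 2]⟩ : Fct)) (lfA (⟨38, [2, 3, 4, 3, 2, 12, 9, 4, 5, 7], 34, [1, 2, 9, 12, 3, 2, 12, 3, 10, 2, 10, 12, 2, 4, 3]⟩ : Fct))))) (ndA (nat_lit 956) (ndA (nat_lit 954) (ndA (nat_lit 953) (lfA (⟨38, [2, 3, 4, 3, 2, 6, 12, 7, 4, 5, 6], 37, [4, 12, 2, 1, 12, 2, 5, 4, 10, 2, 4, 10, 4, 5]⟩ : Fct)) (lfA (⟨38, [3, 12, 5, 4, 2, 1, 12, 2, 6, 5, 9, 7], 37, [10, 2, 10, 4, 11, 2, 11, 12, 9, 5, 2, 3, 2]⟩ : Fct))) (ndA (nat_lit 955) (lfA (⟨38, [2, 3, 4, 3, 2, 4, 12, 5, 6, 12, 5, 6], 20, [2,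 1, 3, 2, 5, 4, 9, 12, 4, 10, 2, 4, 10, 2, 1, 10, 4, 5]⟩ : Fct)) (lfA (⟨10, [7, 11, 4, 5, 12, 6, 5, 12, 7, 4, 5, 7], 34, [12, 2, 11, 4, 11, 5, 4, 2, 3]⟩ : Fct)))) (ndA (nat_lit 958) (ndA (nat_lit 957) (lfA (⟨38, [1, 4, 7, 12, 5, 6, 2, 1, 3, 2, 4, 3, 5, 7], 34, [12, 2, 11, 4, 11, 2, 11, 9, 5, 3, 4]⟩ : Fct)) (lfA (⟨38, [4, 3, 2, 12, 1, 2, 8, 7, 12, 4, 5, 6, 4, 5, 7], 29, [2, 11, 4, 11, 4, 2, 11, 5, 4, 12, 3, 2, 12, 4, 2]⟩ : Fct))) (ndA (nat_lit 959) (lfA (⟨9, [6, 11], 39, []⟩ : Fct)) (lfA (⟨39, [12], 39, []⟩ : Fct))))))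
noncomputable def FT60 : ℕ → Fct := (ndA (nat_lit 968) (ndA (nat_lit 964) (ndA (nat_lit 962) (ndA (nat_lit 961) (lfA (⟨39, [], 37, [2, 1, 3, 2, 1, 4, 3, 2, 10]⟩ : Fct)) (lfA (⟨39, [5, 8, 6], 33, [8, 12, 2, 3, 2, 4, 12, 3, 10, 2, 4, 11, 2, 1]⟩ : Fct))) (ndA (nat_lit 963) (lfA (⟨39, [1, 12, 7, 12, 7, 5, 4, 7, 12, 2, 1, 3, 4, 5, 6], 39, []⟩ : Fct)) (lfA (⟨39, [9, 6, 5, 7], 20, [5, 8, 12, 5, 12, 2, 1, 12, 2, 10, 2, 12, 5, 11]⟩ : Fct)))) (ndA (nat_lit 966) (ndA (nat_lit 965) (lfA (⟨39, [4, 12, 7, 7], 33, [2, 1, 4, 3, 5, 4, 9, 10, 2, 4, 10, 2, 1, 10]⟩ : Fct)) (lfA (⟨39, [3, 4, 5, 6], 37, [2, 1, 5, 4, 8, 12, 2, 5, 12, 10, 2, 4, 3, 4, 5]⟩ : Fct))) (ndA (nat_lit 967) (lfA (⟨39, [4, 6, 12, 6, 5, 9, 12, 7, 12, 2,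 1, 3, 2, 4], 39, []⟩ : Fct)) (lfA (⟨39, [7, 5, 12, 6], 20, [5, 4, 11, 2, 11, 3, 12, 4, 5, 4, 2]⟩ : Fct))))) (ndA (nat_lit 972) (ndA (nat_lit 970) (ndA (nat_lit 969) (lfA (⟨39, [4, 7, 12, 6, 5, 7], 33, [4, 11, 2, 12, 4, 2, 3, 12, 9, 2, 1]⟩ : Fct)) (lfA (⟨39, [7, 5, 6, 12, 4, 7, 5, 7], 36, [3, 12, 5, 12, 10, 4, 10]⟩ : Fct))) (ndA (nat_lit 971) (lfA (⟨39, [2], 35, [3, 6, 5, 12, 4, 6, 12, 6, 5, 6, 9, 10, 4, 10]⟩ : Fct)) (lfA (⟨39, [1, 3, 2], 22, [6, 5, 7, 4, 11, 5, 7, 5, 12, 7, 9, 4, 5, 6, 4]⟩ : Fct)))) (ndA (nat_lit 974) (ndA (nat_lit 973) (lfA (⟨39, [4, 3, 2], 30, [1, 8, 6, 5, 4, 6, 12, 5, 6, 8, 12, 10, 4]⟩ : Fct)) (lfA (⟨39, [2, 12, 2], 26, [1, 7, 5, 12, 6, 12, 6, 5, 12, 10, 4, 7, 5]⟩ : Fct))) (ndA (nat_lit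 975) (lfA (⟨39, [5, 12, 2], 35, [6, 5, 8, 6, 12, 4, 6, 12, 5, 10, 4, 5, 6, 6, 10]⟩ : Fct)) (lfA (⟨39, [2, 1, 3, 2], 12, [1, 5, 12, 5, 6, 5, 10]⟩ : Fct))))))
noncomputable def FT61 : ℕ → Fct := (ndA (nat_lit 984) (ndA (nat_lit 980) (ndA (nat_lit 978) (ndA (nat_lit 977) (lfA (⟨39, [1, 3, 4, 3, 2], 30, [3, 4, 5, 7, 12, 3, 4, 7, 7, 5, 10, 7]⟩ : Fct)) (lfA (⟨39, [3, 2, 1, 12, 2], 30, [6, 9, 5, 6, 4, 11, 5, 12, 6, 4, 3, 12, 5, 7, 5]⟩ : Fct))) (ndA (nat_lit 979) (lfA (⟨39, [3, 5, 4, 2, 1, 3, 2], 26, [11, 8, 5, 7, 4, 11, 5, 12, 7, 3, 12, 7, 9, 5, 6, 4, 5]⟩ : Fct)) (lfA (⟨13, [7, 12, 2], 40, []⟩ : Fct)))) (ndA (nat_lit 982) (ndA (nat_lit 981) (lfA (⟨40, [4, 6, 5, 4, 7, 12, 6, 6], 40, []⟩ : Fct)) (lfA (⟨40, [],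 32, [12, 2]⟩ : Fct))) (ndA (nat_lit 983) (lfA (⟨40, [6], 20, [4, 5, 3, 4, 2, 11, 9, 5, 1, 2, 3, 4, 3, 4, 2, 3]⟩ : Fct)) (lfA (⟨40, [7, 7], 34, [1, 3, 4, 9, 12, 2]⟩ : Fct))))) (ndA (nat_lit 988) (ndA (nat_lit 986) (ndA (nat_lit 985) (lfA (⟨40, [12, 7], 37, [1, 5, 12, 2, 1, 12, 2, 1, 3, 10, 2, 10, 12, 5]⟩ : Fct)) (lfA (⟨40, [5, 6], 34, [3, 2, 9, 12, 2, 4, 12, 10, 2, 4, 11, 4, 12, 10]⟩ : Fct))) (ndA (nat_lit 987) (lfA (⟨40, [6, 6], 37, [2, 4, 9, 12, 2, 3, 10, 2, 10, 4, 10, 2, 10]⟩ : Fct)) (lfA (⟨40, [4, 5, 7], 20, [5, 4, 1, 2, 11, 1, 2, 3, 4, 12, 2, 3, 4, 12, 8]⟩ : Fct)))) (ndA (nat_lit 990) (ndA (nat_lit 989) (lfA (⟨40, [7, 5, 7], 34, [11, 12, 4, 11, 2, 11, 4, 12, 9, 4, 3, 2, 1]⟩ : Fct)) (lfA (⟨40, [5, 9,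 7], 37, [2, 9, 12, 5, 12, 2, 3, 5, 4, 10, 2, 4, 11, 2, 12, 2]⟩ : Fct))) (ndA (nat_lit 991) (lfA (⟨40, [12, 5, 7], 20, [2, 11, 12, 2, 3, 4, 1, 2, 12, 3, 2]⟩ : Fct)) (lfA (⟨40, [8, 12, 7], 33, [3, 2, 4, 8, 12, 2, 1, 3, 2, 10, 2, 10, 12, 5]⟩ : Fct))))))
noncomputable def FT62 : ℕ → Fct := (ndA (nat_lit 1000) (ndA (nat_lit 996) (ndA (nat_lit 994) (ndA (nat_lit 993) (lfA (⟨40, [4, 5, 6], 34, [11, 12, 4, 11, 2, 11, 4, 5, 3, 2, 12, 8, 2, 3, 2]⟩ : Fct)) (lfA (⟨40, [6, 5, 6], 37, [3, 2, 9, 12, 3, 2, 1, 12, 4, 10, 2, 4, 11, 4, 12]⟩ : Fct))) (ndA (nat_lit 995) (lfA (⟨40, [5, 9, 6], 34, [4, 3, 4, 3, 8, 10, 4, 10, 2, 10, 4, 12]⟩ : Fct)) (lfA (⟨40, [8, 12, 6], 37, [1, 3, 2, 5, 4, 3, 4, 3, 9, 10, 2, 1, 10, 12]⟩ : Fct))))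 (ndA (nat_lit 998) (ndA (nat_lit 997) (lfA (⟨40, [4, 5, 8, 7], 34, [4, 3, 2, 5, 12, 3, 2, 10, 2, 12, 10, 2, 4, 10]⟩ : Fct)) (lfA (⟨40, [8, 7, 5, 7], 32, [12, 5, 4, 3, 2]⟩ : Fct))) (ndA (nat_lit 999) (lfA (⟨40, [9, 6, 5, 7], 37, [8, 12, 2, 1, 3, 5, 4, 3, 2, 10, 2, 10, 4, 11, 2, 10]⟩ : Fct)) (lfA (⟨40, [12, 6, 5, 7], 28, [2, 5, 4, 9, 12, 4, 10, 2, 4, 10, 2, 12, 10]⟩ : Fct))))) (ndA (nat_lit 1004) (ndA (nat_lit 1002) (ndA (nat_lit 1001) (lfA (⟨40, [6, 5, 9, 7], 32, [12, 10, 12, 2, 11, 2, 3, 2, 12, 8, 5]⟩ : Fct)) (lfA (⟨40, [4, 5, 9, 6], 34, [5, 9, 12, 2, 4, 5]⟩ : Fct))) (ndA (nat_lit 1003) (lfA (⟨40, [6, 5, 9, 6], 37, [2, 4, 12, 2, 3, 2, 4, 10, 2, 4, 10, 2, 4, 12]⟩ : Fct)) (lfA (⟨40, [8, 12, 5, 6], 33, [2,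 1, 8, 12, 2, 3, 12, 2, 1, 10, 2, 12, 10, 2, 3]⟩ : Fct)))) (ndA (nat_lit 1006) (ndA (nat_lit 1005) (lfA (⟨40, [11], 38, [7, 5, 4, 6, 5, 4, 12, 6, 9, 12, 5, 2, 12, 7, 12, 2, 3]⟩ : Fct)) (lfA (⟨40, [4, 11], 38, [4, 5, 6, 6, 6, 12, 3, 6, 5, 4, 2, 12, 4, 3, 2]⟩ : Fct))) (ndA (nat_lit 1007) (lfA (⟨40, [5, 4, 11], 38, [1, 5, 4, 6, 12, 5, 12, 6, 12, 5, 2, 1, 12, 6, 6]⟩ : Fct)) (lfA (⟨40, [11, 4, 11], 38, [3, 4, 9, 12, 3, 5, 6, 5, 2, 12, 6, 12, 2, 6, 5, 7]⟩ : Fct))))))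
noncomputable def FT63 : ℕ → Fct := (ndA (nat_lit 1016) (ndA (nat_lit 1012) (ndA (nat_lit 1010) (ndA (nat_lit 1009) (lfA (⟨40, [11, 5, 4, 11], 38, [5, 4, 9, 6, 12, 6, 12, 5, 6, 2, 3, 12, 7, 12, 2]⟩ : Fct)) (lfA (⟨40, [6, 11], 38, [3, 2, 12, 6, 12, 2, 6, 4, 5, 7, 12, 8, 7, 3, 4]⟩ : Fct))) (ndA (nat_lit 1011) (lfA (⟨40, [6, 4, 11], 39, [4, 9, 12, 4, 6, 5, 7, 12, 5, 2, 1]⟩ : Fct)) (lfA (⟨40, [6, 5, 4, 11], 21, [4, 7, 12, 5, 4, 6, 5, 4, 8, 6, 12, 3, 2, 1, 3, 2, 4, 5]⟩ : Fct)))) (ndA (nat_lit 1014) (ndA (nat_lit 1013) (lfA (⟨40, [6, 11, 4, 11], 31, [6, 6, 2, 12, 5, 6, 12, 2, 12, 7, 4, 12, 6, 6, 6, 3]⟩ : Fct)) (lfA (⟨40, [6, 11, 5, 4, 11], 38, [1, 6, 12, 5, 12, 4, 7, 5, 12, 4, 2, 1, 12, 2, 5]⟩ : Fct))) (ndA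 (nat_lit 1015) (lfA (⟨40, [7, 7, 11], 38, [12, 1, 2, 4, 12, 8, 5, 7, 12, 7, 3, 4]⟩ : Fct)) (lfA (⟨40, [7, 7, 4, 11], 31, [1, 3, 4, 7, 7, 12, 5, 6, 8, 2, 3, 12, 7]⟩ : Fct))))) (ndA (nat_lit 1020) (ndA (nat_lit 1018) (ndA (nat_lit 1017) (lfA (⟨40, [7, 7, 5, 4, 11], 38, [12, 2, 12, 7, 5, 12, 2, 6, 6, 5, 6, 4, 12, 7, 7, 5, 7, 3]⟩ : Fct)) (lfA (⟨40, [7, 7, 11, 4, 11], 16, [6, 12, 5, 12, 2, 5, 12, 6, 12, 4, 5, 7, 5, 12, 3]⟩ : Fct))) (ndA (nat_lit 1019) (lfA (⟨40, [7, 7, 11, 5, 4, 11], 38, [1, 4, 6, 12, 5, 12, 7, 9, 2, 12, 7, 12]⟩ : Fct)) (lfA (⟨40, [3, 12, 7, 10], 38, [5, 9, 12, 3, 4, 6, 12, 7, 2, 3, 4, 3, 5]⟩ : Fct)))) (ndA (nat_lit 1022) (ndA (nat_lit 1021) (lfA (⟨40, [1, 12, 4, 3, 6, 10], 21, [6, 2, 12, 3,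 2, 12, 4, 12, 7, 12, 6, 5, 6, 9, 3]⟩ : Fct)) (lfA (⟨40, [3, 12, 7, 12, 10, 4, 10], 38, [8, 6, 5, 12, 4, 6, 12, 5, 7, 8, 2, 1, 3, 2, 12, 2]⟩ : Fct))) (ndA (nat_lit 1023) (lfA (⟨40, [5, 6, 4, 11], 38, [3, 7, 12, 5, 12, 5, 7, 12, 2, 12, 4, 3, 7, 9]⟩ : Fct)) (lfA (⟨40, [5, 6, 5, 4, 11], 38, [4, 9, 12, 3, 6, 5, 12, 6, 5, 2, 12, 2, 7, 5, 6]⟩ : Fct))))))
noncomputable def FT64 : ℕ → Fct := (ndA (nat_lit 1032) (ndA (nat_lit 1028) (ndA (nat_lit 1026) (ndA (nat_lit 1025) (lfA (⟨40, [5, 6, 11, 4, 11], 38, [2, 12, 6, 2, 12, 3, 2, 12, 7, 8, 3, 4, 5, 7, 4, 3]⟩ : Fct)) (lfA (⟨40, [5, 6, 11, 5, 4, 11], 31, [6, 12, 3, 4, 12, 7, 5, 8, 7, 2, 3, 4, 5, 7, 12, 7]⟩ : Fct))) (ndA (nat_lit 1027) (lfA (⟨40, [6, 6, 11], 38, [2,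 12, 3, 4, 12, 2, 7, 5, 12, 6, 12, 9, 4, 5, 7, 12, 1]⟩ : Fct)) (lfA (⟨40, [6, 6, 4, 11], 38, [5, 7, 7, 7, 12, 4, 6, 2, 1, 3, 2, 12]⟩ : Fct)))) (ndA (nat_lit 1030) (ndA (nat_lit 1029) (lfA (⟨40, [6, 6, 5, 4, 11], 38, [4, 12, 4, 6, 5, 4, 8, 2, 3, 12, 7, 12, 2, 3, 4]⟩ : Fct)) (lfA (⟨40, [6, 6, 11, 4, 11], 38, [1, 3, 7, 5, 6, 8, 2, 12, 2, 3, 6, 5]⟩ : Fct))) (ndA (nat_lit 1031) (lfA (⟨40, [6, 6, 11, 5, 4, 11], 38, [4, 9, 12, 3, 4, 6, 5, 9, 2, 3, 12, 2, 6, 5, 8]⟩ : Fct)) (lfA (⟨40, [1, 4, 5, 4, 3, 6, 10], 39, [7, 5, 12, 3, 6, 9, 12, 2, 3, 12, 4, 12]⟩ : Fct))))) (ndA (nat_lit 1036) (ndA (nat_lit 1034) (ndA (nat_lit 1033) (lfA (⟨40, [4, 5, 7, 5, 4, 11], 38, [1, 5, 8, 12, 4, 6, 12, 7, 5, 2, 1, 3, 4, 3, 2, 1]⟩ :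 Fct)) (lfA (⟨40, [4, 5, 7, 12, 3, 10, 4, 10], 7, [3, 4, 12, 7, 5, 7, 12, 4, 12, 2, 12, 7, 9]⟩ : Fct))) (ndA (nat_lit 1035) (lfA (⟨40, [4, 5, 7, 5, 12, 3, 10, 4, 10], 31, [12, 8, 7, 12, 2, 7, 8, 5, 6, 12, 4, 5, 6, 3]⟩ : Fct)) (lfA (⟨40, [7, 5, 7, 12, 3, 10, 4, 10], 38, [5, 7, 2, 12, 3, 2, 12, 6, 5, 3, 4, 12, 9, 7, 5, 6]⟩ : Fct)))) (ndA (nat_lit 1038) (ndA (nat_lit 1037) (lfA (⟨40, [7, 5, 7, 5, 12, 3, 10, 4, 10], 38, [4, 3, 8, 6, 5, 4, 7, 12, 7, 2, 1, 3, 4, 5, 6, 12, 2]⟩ : Fct)) (lfA (⟨40, [9, 5, 7, 5, 4, 11], 38, [12, 2, 12, 7, 4, 12, 2, 7, 5, 12, 8, 7, 12, 7, 7, 5]⟩ : Fct))) (ndA (nat_lit 1039) (lfA (⟨40, [5, 9, 7, 12, 3, 10, 4, 10], 38, [3, 6, 6, 12, 5, 4, 7, 8, 12, 2, 1, 12, 6, 12]⟩ : Fct)) (lfA (⟨40,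 [1, 12, 5, 7, 5, 4, 3, 10], 16, [7, 7, 12, 6, 5, 4, 7, 12, 5, 7, 2, 12, 7, 5, 6, 9, 12]⟩ : Fct))))))
noncomputable def FT65 : ℕ → Fct := (ndA (nat_lit 1048) (ndA (nat_lit 1044) (ndA (nat_lit 1042) (ndA (nat_lit 1041) (lfA (⟨40, [3, 12, 5, 7, 12, 10, 4, 10], 31, [1, 6, 12, 4, 12, 5, 6, 9, 12, 5, 2, 12, 6, 5, 6, 8]⟩ : Fct)) (lfA (⟨40, [3, 12, 5, 7, 5, 12, 10, 4, 10], 38, [4, 12, 7, 12, 2, 7, 12, 9, 4, 5, 7, 12, 4, 5, 6, 6]⟩ : Fct))) (ndA (nat_lit 1043) (lfA (⟨40, [3, 8, 12, 7, 10], 39, [6, 12, 4, 12, 6, 5, 4, 6, 5, 2, 3, 4, 5]⟩ : Fct)) (lfA (⟨40, [1, 8, 12, 4, 3, 6, 10], 38, [1, 5, 4, 9, 7, 5, 12, 4, 6, 12, 2, 1, 3, 2, 12]⟩ : Fct)))) (ndA (nat_lit 1046) (ndA (nat_lit 1045) (lfA (⟨40, [1, 8, 12, 7, 5, 4,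 3, 10], 39, [7, 4, 12, 3, 2, 8, 6, 4, 3, 12, 5]⟩ : Fct)) (lfA (⟨40, [4, 5, 6, 12, 3, 10, 4, 10], 38, [6, 6, 5, 4, 7, 7, 12, 5, 6, 12, 2, 12, 3, 2, 6, 12]⟩ : Fct))) (ndA (nat_lit 1047) (lfA (⟨40, [1, 6, 5, 4, 3, 7, 10], 38, [3, 7, 8, 12, 7, 5, 8, 7, 12, 2, 3, 12, 4]⟩ : Fct)) (lfA (⟨40, [6, 5, 6, 12, 3, 10, 4, 10], 38, [3, 4, 12, 2, 4, 12, 6, 12, 9, 5, 6, 12, 4, 5, 1]⟩ : Fct))))) (ndA (nat_lit 1052) (ndA (nat_lit 1050) (ndA (nat_lit 1049) (lfA (⟨40, [6, 5, 6, 5, 12, 3, 10, 4, 10], 31, [1, 3, 4, 6, 5, 4, 6, 5, 2, 1, 12, 2, 1, 3]⟩ : Fct)) (lfA (⟨40, [9, 5, 6, 4, 11], 38, [6, 12, 7, 5, 12, 4, 6, 5, 12, 2, 12, 6, 5, 7, 8]⟩ : Fct))) (ndA (nat_lit 1051) (lfA (⟨40, [1, 5, 9, 6, 5, 4, 3, 10], 38, [12, 5, 6, 12,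 3, 2, 12, 6, 8, 4, 5, 6, 4, 3, 12]⟩ : Fct)) (lfA (⟨40, [5, 9, 6, 12, 3, 10, 4, 10], 38, [12, 6, 5, 7, 12, 4, 12, 6, 5, 7, 2, 12, 4, 3, 12, 2, 6, 5]⟩ : Fct)))) (ndA (nat_lit 1054) (ndA (nat_lit 1053) (lfA (⟨40, [3, 8, 12, 6, 10], 38, [7, 5, 6, 8, 12, 4, 12, 2, 1, 3, 4, 3]⟩ : Fct)) (lfA (⟨40, [1, 8, 12, 4, 3, 7, 10], 38, [6, 3, 1, 2, 12, 1, 2, 6, 4, 12, 9, 6, 12, 9, 5]⟩ : Fct))) (ndA (nat_lit 1055) (lfA (⟨40, [3, 8, 12, 6, 12, 10, 4, 10], 38, [7, 7, 5, 4, 12, 7, 5, 4, 6, 2, 12, 6, 5, 9, 12]⟩ : Fct)) (lfA (⟨40, [3, 8, 12, 6, 5, 12, 10, 4, 10], 21, [9, 5, 6, 3, 12, 2, 4, 5, 4, 12, 6, 6, 3, 12, 7, 5]⟩ : Fct))))))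
noncomputable def FT66 : ℕ → Fct := (ndA (nat_lit 1064) (ndA (nat_lit 1060) (ndA (nat_lit 1058) (ndA (nat_lit 1057) (lfA (⟨40, [1, 4, 5, 4, 3, 8, 6, 10], 38, [3, 12, 5, 12, 7, 5, 12, 4, 6, 2, 1, 12, 2, 7, 7]⟩ : Fct)) (lfA (⟨40, [8, 7, 5, 7, 4, 11], 38, [6, 2, 3, 12, 2, 4, 12, 6, 4, 12, 8, 6, 5, 4]⟩ : Fct))) (ndA (nat_lit 1059) (lfA (⟨40, [8, 7, 5, 6, 4, 11, 9], 38, [1, 7, 5, 6, 6, 12, 5, 4, 6, 2, 3, 12, 2, 7, 7]⟩ : Fct)) (lfA (⟨40, [1, 12, 5, 6, 5, 4, 3, 6, 10], 38, [5, 4, 6, 5, 8, 7, 12, 7, 2, 12, 7, 5, 12, 6, 6]⟩ : Fct)))) (ndA (nat_lit 1062) (ndA (nat_lit 1061) (lfA (⟨40, [6, 5, 9, 7, 12, 3, 10, 4, 10], 38, [6, 5, 7, 3, 2, 12, 2, 12, 7, 5, 6, 5, 4, 12, 7, 7, 1]⟩ : Fct)) (lfA (⟨40, [6, 5, 9, 7, 5, 12,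 3, 10, 4, 10], 38, [6, 6, 5, 4, 7, 12, 5, 7, 7, 12, 2, 3, 12, 7, 12, 5]⟩ : Fct))) (ndA (nat_lit 1063) (lfA (⟨40, [1, 4, 5, 9, 6, 5, 4, 3, 10], 38, [12, 5, 12, 6, 12, 1, 2, 7, 12, 5, 7, 5, 4, 12, 8, 3]⟩ : Fct)) (lfA (⟨40, [4, 5, 9, 6, 12, 3, 10, 4, 10], 38, [5, 4, 3, 7, 5, 7, 8, 12, 2, 1, 12, 2, 1, 3]⟩ : Fct))))) (ndA (nat_lit 1068) (ndA (nat_lit 1066) (ndA (nat_lit 1065) (lfA (⟨40, [4, 5, 9, 6, 5, 12, 3, 10, 4, 10], 38, [4, 3, 5, 4, 8, 7, 5, 4, 6, 2, 1, 12, 2, 3, 6, 5, 8]⟩ : Fct)) (lfA (⟨40, [6, 9, 5, 6, 4, 11], 38, [1, 4, 6, 12, 5, 4, 7, 7, 12, 5, 4, 2, 12, 7, 9]⟩ : Fct))) (ndA (nat_lit 1067) (lfA (⟨40, [3, 5, 4, 8, 12, 7, 10], 38, [3, 9, 12, 6, 12, 4, 3, 2, 12, 6, 12, 4]⟩ : Fct)) (lfA (⟨38, [2, 1, 12,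 2], 41, []⟩ : Fct)))) (ndA (nat_lit 1070) (ndA (nat_lit 1069) (lfA (⟨41, [4, 3, 5, 4], 41, []⟩ : Fct)) (lfA (⟨41, [], 37, [1, 2, 11, 2, 12, 1, 2]⟩ : Fct))) (ndA (nat_lit 1071) (lfA (⟨41, [7], 34, [12, 2, 11, 4, 11, 4, 12, 2, 12, 2, 12, 3]⟩ : Fct)) (lfA (⟨41, [6], 36, [4, 11, 5, 4, 1, 2, 11, 8, 5, 4, 2, 3, 4, 2]⟩ : Fct))))))
noncomputable def FT67 : ℕ → Fct := (ndA (nat_lit 1080) (ndA (nat_lit 1076) (ndA (nat_lit 1074) (ndA (nat_lit 1073) (lfA (⟨41, [7, 5, 7], 29, [11, 4, 11, 12, 5, 3, 12, 2, 12, 2, 12, 8, 2]⟩ : Fct)) (lfA (⟨41, [6, 5, 7], 37, [11, 12, 4, 1, 2, 11, 8, 5, 4, 1]⟩ : Fct))) (ndA (nat_lit 1075) (lfA (⟨41, [5, 12, 7], 23, [11, 2, 11, 4, 11, 4, 12, 9, 1, 2, 3, 4, 1]⟩ : Fct)) (lfA (⟨41, [7, 12,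 7], 34, [2, 1, 4, 5, 4, 3, 2, 9, 12, 5, 10, 2, 12, 10]⟩ : Fct)))) (ndA (nat_lit 1078) (ndA (nat_lit 1077) (lfA (⟨41, [6, 5, 6], 34, [1, 2, 1, 5, 4, 3, 2, 10, 2, 4, 10, 2, 4, 12, 4]⟩ : Fct)) (lfA (⟨41, [5, 8, 6], 37, [1, 3, 2, 4, 9, 12, 3, 2, 12, 5, 10, 2, 12, 10, 2]⟩ : Fct))) (ndA (nat_lit 1079) (lfA (⟨41, [5, 7, 5, 7], 18, [12, 3, 4, 2, 11, 12, 4, 2, 3, 2, 12, 4]⟩ : Fct)) (lfA (⟨41, [8, 6, 5, 6], 20, [1, 2, 1, 4, 3, 5, 10, 2, 4, 5, 11, 2, 12, 10]⟩ : Fct))))) (ndA (nat_lit 1084) (ndA (nat_lit 1082) (ndA (nat_lit 1081) (lfA (⟨41, [7, 4, 11, 7, 12, 5, 7, 9, 4, 3], 41, []⟩ : Fct)) (lfA (⟨41, [11], 38, [1, 7, 5, 4, 6, 5, 12, 6, 12, 5, 2, 12, 5, 6, 5, 4]⟩ : Fct))) (ndA (nat_lit 1083) (lfA (⟨41, [4, 11], 38,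 [1, 2, 12, 1, 2, 7, 4, 5, 7, 9, 3]⟩ : Fct)) (lfA (⟨41, [11, 4, 11], 31, [7, 7, 2, 3, 4, 12, 2, 12, 9, 4, 5, 6, 12, 6, 3]⟩ : Fct)))) (ndA (nat_lit 1086) (ndA (nat_lit 1085) (lfA (⟨41, [7, 11], 38, [3, 7, 5, 4, 9, 12, 6, 12, 5, 12, 7, 2, 1, 12, 5, 6, 12]⟩ : Fct)) (lfA (⟨41, [7, 5, 4, 11], 38, [1, 7, 5, 4, 6, 5, 7, 7, 12, 2, 12, 3, 2, 7, 9]⟩ : Fct))) (ndA (nat_lit 1087) (lfA (⟨41, [7, 11, 4, 11], 38, [3, 2, 12, 6, 12, 3, 2, 5, 6, 12, 4, 12, 9, 5, 6, 1]⟩ : Fct)) (lfA (⟨41, [7, 11, 5, 4, 11], 16, [5, 6, 5, 4, 8, 6, 12, 6, 5, 7, 7, 12, 2, 12, 2, 7]⟩ : Fct))))))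
noncomputable def FT68 : ℕ → Fct := (ndA (nat_lit 1096) (ndA (nat_lit 1092) (ndA (nat_lit 1090) (ndA (nat_lit 1089) (lfA (⟨41, [6, 11], 39, [4, 3, 5, 4, 6, 6, 12, 5, 7, 8, 12, 2, 1, 12, 2, 1]⟩ : Fct)) (lfA (⟨41, [6, 4, 11], 38, [7, 5, 7, 3, 12, 2, 5, 6, 6, 12, 5, 7, 5, 3, 4]⟩ : Fct))) (ndA (nat_lit 1091) (lfA (⟨41, [6, 5, 4, 11], 31, [1, 6, 12, 4, 5, 7, 5, 4, 2, 3, 12, 7, 5, 4, 8]⟩ : Fct)) (lfA (⟨41, [6, 11, 4, 11], 38, [7, 5, 6, 5, 12, 2, 5, 6, 12, 8, 6, 5, 4, 12, 5, 6, 6]⟩ : Fct)))) (ndA (nat_lit 1094) (ndA (nat_lit 1093) (lfA (⟨41, [6, 11, 5, 4, 11], 38, [1, 3, 4, 5, 4, 6, 12, 6, 5, 2, 1, 12, 2, 1]⟩ : Fct)) (lfA (⟨41, [1, 3, 7, 5, 7, 10], 31, [6, 4, 5, 6, 12, 3, 2, 4, 12, 6, 5, 7, 4, 12, 1]⟩ : Fct)))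 (ndA (nat_lit 1095) (lfA (⟨41, [7, 5, 7, 12, 3, 10, 4, 10], 38, [2, 12, 5, 7, 12, 2, 8, 6, 12, 5, 7, 9, 4, 5, 6]⟩ : Fct)) (lfA (⟨41, [7, 5, 7, 5, 12, 3, 10, 4, 10], 38, [4, 2, 12, 7, 5, 12, 2, 7, 5, 12, 4, 12, 6, 12, 1]⟩ : Fct))))) (ndA (nat_lit 1100) (ndA (nat_lit 1098) (ndA (nat_lit 1097) (lfA (⟨41, [6, 5, 7, 4, 11], 38, [1, 5, 7, 12, 5, 4, 7, 5, 4, 9, 2, 12, 4, 3, 12, 2]⟩ : Fct)) (lfA (⟨41, [6, 5, 7, 5, 4, 11], 38, [4, 12, 6, 5, 4, 8, 2, 3, 12, 2, 3, 7]⟩ : Fct))) (ndA (nat_lit 1099) (lfA (⟨41, [5, 6, 5, 7, 12, 3, 10, 4, 10], 38, [1, 5, 7, 5, 4, 6, 5, 6, 12, 5, 12, 2, 1, 3, 4, 5]⟩ : Fct)) (lfA (⟨41, [1, 5, 12, 7, 5, 4, 3, 10], 38, [3, 12, 5, 2, 12, 1, 2, 6, 12, 8, 7, 4, 3, 12, 6, 6, 5]⟩ : Fct)))) (ndA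 (nat_lit 1102) (ndA (nat_lit 1101) (lfA (⟨41, [3, 5, 12, 7, 12, 10, 4, 10], 38, [7, 5, 9, 12, 6, 12, 4, 7, 5, 7, 2, 12, 5, 6, 12, 4, 7]⟩ : Fct)) (lfA (⟨41, [3, 5, 12, 7, 5, 12, 10, 4, 10], 38, [12, 5, 4, 7, 7, 5, 7, 12, 4, 2, 12, 3, 2, 6, 6]⟩ : Fct))) (ndA (nat_lit 1103) (lfA (⟨41, [1, 7, 12, 4, 3, 6, 10], 38, [7, 2, 12, 1, 2, 12, 6, 12, 6, 3, 4, 12, 9, 7]⟩ : Fct)) (lfA (⟨41, [3, 7, 12, 7, 12, 10, 4, 10], 38, [1, 7, 7, 5, 4, 7, 8, 12, 5, 2, 1, 3, 4]⟩ : Fct))))))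
noncomputable def FT69 : ℕ → Fct := (ndA (nat_lit 1108) (ndA (nat_lit 1106) (ndA (nat_lit 1105) (lfA (⟨41, [1, 3, 6, 5, 6, 10], 38, [1, 4, 8, 7, 5, 4, 12, 6, 12, 5, 7, 2, 1, 12, 2, 4]⟩ : Fct)) (lfA (⟨41, [1, 6, 5, 4, 3, 7, 10], 16, [4, 12, 6, 5, 9, 12, 7, 12, 4, 5, 4, 2, 12, 3, 2, 6, 9]⟩ : Fct))) (ndA (nat_lit 1107) (lfA (⟨41, [6, 5, 6, 5, 4, 11], 16, [8, 6, 4, 2, 12, 2, 5, 6, 5, 12, 7, 4, 5, 6, 5, 12]⟩ : Fct)) (lfA (⟨41, [6, 5, 6, 5, 12, 3, 10, 4, 10], 38, [7, 5, 7, 2, 12, 3, 2, 12, 6, 5, 6, 5, 4, 12, 9, 3]⟩ : Fct)))) (ndA (nat_lit 1110) (ndA (nat_lit 1109) (lfA (⟨41, [1, 3, 5, 8, 6, 10], 38, [8, 5, 6, 12, 3, 2, 5, 12, 8, 5, 7, 12, 4, 12]⟩ : Fct)) (lfA (⟨41, [5, 8, 6, 12, 3, 10, 4, 10], 38, [1, 4, 5,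 4, 6, 5, 9, 7, 2, 1, 12, 2, 1, 5]⟩ : Fct))) (ndA (nat_lit 1111) (lfA (⟨41, [5, 7, 5, 7, 12, 3, 10, 4, 10], 21, [6, 12, 5, 4, 3, 6, 8, 12, 5, 2, 1, 12, 2, 1]⟩ : Fct)) (lfA (⟨41, [8, 6, 5, 6, 5, 4, 11], 21, [12, 3, 4, 6, 5, 12, 7, 9, 2, 1, 12, 2, 5]⟩ : Fct)))))
noncomputable def FT : ℕ → Fct := (ndA (nat_lit 560) (ndA (nat_lit 272) (ndA (nat_lit 128) (ndA (nat_lit 64) (ndA (nat_lit 32) (ndA (nat_lit 16) FT0 FT1) (ndA (nat_lit 48) FT2 FT3)) (ndA (nat_lit 96) (ndA (nat_lit 80) FT4 FT5) (ndA (nat_lit 112) FT6 FT7))) (ndA (nat_lit 192) (ndA (nat_lit 160) (ndA (nat_lit 144) FT8 FT9) (ndA (nat_lit 176) FT10 FT11)) (ndA (nat_lit 224) (ndA (nat_lit 208) FT12 FT13) (ndA (nat_lit 240) FT14 (ndA (nat_lit 256) FT15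 FT16))))) (ndA (nat_lit 416) (ndA (nat_lit 336) (ndA (nat_lit 304) (ndA (nat_lit 288) FT17 FT18) (ndA (nat_lit 320) FT19 FT20)) (ndA (nat_lit 368) (ndA (nat_lit 352) FT21 FT22) (ndA (nat_lit 384) FT23 (ndA (nat_lit 400) FT24 FT25)))) (ndA (nat_lit 480) (ndA (nat_lit 448) (ndA (nat_lit 432) FT26 FT27) (ndA (nat_lit 464) FT28 FT29)) (ndA (nat_lit 512) (ndA (nat_lit 496) FT30 FT31) (ndA (nat_lit 528) FT32 (ndA (nat_lit 544) FT33 FT34)))))) (ndA (nat_lit 832) (ndA (nat_lit 688) (ndA (nat_lit 624) (ndA (nat_lit 592) (ndA (nat_lit 576) FT35 FT36) (ndA (nat_lit 608) FT37 FT38)) (ndA (nat_lit 656) (ndA (nat_lit 640) FT39 FT40) (ndA (nat_lit 672) FT41 FT42))) (ndA (nat_lit 752) (ndA (nat_lit 720) (ndA (nat_lit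 704) FT43 FT44) (ndA (nat_lit 736) FT45 FT46)) (ndA (nat_lit 784) (ndA (nat_lit 768) FT47 FT48) (ndA (nat_lit 800) FT49 (ndA (nat_lit 816) FT50 FT51))))) (ndA (nat_lit 976) (ndA (nat_lit 896) (ndA (nat_lit 864) (ndA (nat_lit 848) FT52 FT53) (ndA (nat_lit 880) FT54 FT55)) (ndA (nat_lit 928) (ndA (nat_lit 912) FT56 FT57) (ndA (nat_lit 944) FT58 (ndA (nat_lit 960) FT59 FT60)))) (ndA (nat_lit 1040) (ndA (nat_lit 1008) (ndA (nat_lit 992) FT61 FT62) (ndA (nat_lit 1024) FT63 FT64)) (ndA (nat_lit 1072) (ndA (nat_lit 1056) FT65 FT66) (ndA (nat_lit 1088) FT67 (ndA (nat_lit 1104) FT68 FT69)))))))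

noncomputable def DT0 : ℕ → Der := (ndA (nat_lit 8) (ndA (nat_lit 4) (ndA (nat_lit 2) (ndA (nat_lit 1) (lfA (⟨1, 0, 0, [], [], 0⟩ : Der)) (lfA (⟨1, 0, 0, [], [], 0⟩ : Der))) (ndA (nat_lit 3) (lfA (⟨1, 0, 0, [], [], 0⟩ : Der)) (lfA (⟨1, 0, 0, [], [], 0⟩ : Der)))) (ndA (nat_lit 6) (ndA (nat_lit 5) (lfA (⟨1, 0, 0, [], [], 0⟩ : Der)) (lfA (⟨1, 0, 0, [], [], 0⟩ : Der))) (ndA (nat_lit 7) (lfA (⟨1, 0, 0, [], [], 0⟩ : Der)) (lfA (⟨0, 0, 0, [], [], 1⟩ : Der))))) (ndA (nat_lit 12) (ndA (nat_lit 10) (ndA (nat_lit 9) (lfA (⟨2, 0, 0, [], [⟨0, [], 15, 1, [1]⟩, ⟨0, [0], 14, 0, []⟩], 1⟩ : Der)) (lfA (⟨2, 0, 0, [], [⟨0, [], 15, 1, [3]⟩, ⟨0, [4], 14, 0, []⟩], 1⟩ : Der))) (ndA (nat_lit 11) (lfA (⟨2, 0, 0, [], [⟨0, [], 15,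 1, [4]⟩, ⟨0, [6], 14, 0, []⟩], 1⟩ : Der)) (lfA (⟨2, 0, 0, [], [⟨0, [], 15, 1, [5]⟩, ⟨0, [8], 14, 0, []⟩], 1⟩ : Der)))) (ndA (nat_lit 14) (ndA (nat_lit 13) (lfA (⟨2, 0, 0, [], [⟨0, [], 15, 1, [6]⟩, ⟨0, [10], 14, 0, []⟩], 1⟩ : Der)) (lfA (⟨2, 0, 0, [], [⟨0, [], 15, 1, [8]⟩, ⟨0, [12], 14, 0, []⟩], 1⟩ : Der))) (ndA (nat_lit 15) (lfA (⟨0, 0, 0, [], [], 2⟩ : Der)) (lfA (⟨2, 0, 0, [], [⟨0, [], 29, 2, [1]⟩, ⟨0, [0], 28, 0, []⟩], 2⟩ : Der))))))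
noncomputable def DT1 : ℕ → Der := (ndA (nat_lit 24) (ndA (nat_lit 20) (ndA (nat_lit 18) (ndA (nat_lit 17) (lfA (⟨2, 0, 0, [], [⟨0, [], 29, 2, [2]⟩, ⟨0, [2], 28, 0, []⟩], 2⟩ : Der)) (lfA (⟨2, 0, 0, [], [⟨0, [], 29, 2, [3]⟩, ⟨0, [4], 28, 0, []⟩], 2⟩ : Der))) (ndA (nat_lit 19) (lfA (⟨2, 0, 0, [], [⟨0, [], 29, 2, [4]⟩, ⟨0, [6], 28, 0, []⟩], 2⟩ : Der)) (lfA (⟨2, 0, 0, [], [⟨0, [], 29, 2, [5]⟩, ⟨0, [8], 28, 0, []⟩], 2⟩ : Der)))) (ndA (nat_lit 22) (ndA (nat_lit 21) (lfA (⟨2, 0, 0, [], [⟨0, [], 29, 2, []⟩, ⟨0, [], 14, 0, []⟩], 1⟩ : Der)) (lfA (⟨0, 0, 0, [], [], 0⟩ : Der))) (ndA (nat_lit 23) (lfA (⟨2, 0, 0, [], [⟨0, [], 43, 0, [1]⟩, ⟨0, [16], 42, 1, []⟩], 0⟩ : Der)) (lfA (⟨2, 0, 0, [], [⟨0, [], 43, 0, [1, 12]⟩,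 ⟨0, [18], 42, 1, []⟩], 0⟩ : Der))))) (ndA (nat_lit 28) (ndA (nat_lit 26) (ndA (nat_lit 25) (lfA (⟨2, 0, 0, [], [⟨0, [], 43, 0, [3, 4, 3, 5]⟩, ⟨0, [22, 21], 42, 1, []⟩], 0⟩ : Der)) (lfA (⟨2, 0, 0, [], [⟨0, [], 43, 0, [8]⟩, ⟨0, [26], 42, 1, []⟩], 0⟩ : Der))) (ndA (nat_lit 27) (lfA (⟨2, 0, 0, [], [⟨0, [], 43, 0, [3, 4, 12, 3, 6, 12, 4, 12, 6, 12]⟩, ⟨0, [24, 22, 20, 18, 21, 23, 25], 42, 1, []⟩], 0⟩ : Der)) (lfA (⟨2, 0, 0, [], [⟨0, [], 43, 0, [8, 12, 7, 5, 4, 6, 5, 8, 7, 12]⟩, ⟨0, [24, 22, 24, 20, 25, 23, 25, 21], 42, 1, []⟩], 0⟩ : Der)))) (ndA (nat_lit 30) (ndA (nat_lit 29) (lfA (⟨2, 0, 0, [], [⟨0, [], 43, 0, []⟩, ⟨0, [], 41, 1, [11, 4, 11]⟩], 2⟩ : Der)) (lfA (⟨0, 0, 0, [], [], 0⟩ : Der))) (ndA (nat_lit 31)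 (lfA (⟨2, 0, 0, [], [⟨0, [], 59, 0, [1]⟩, ⟨0, [16], 58, 1, []⟩], 0⟩ : Der)) (lfA (⟨2, 0, 0, [], [⟨0, [], 59, 0, [3]⟩, ⟨0, [18], 58, 1, []⟩], 0⟩ : Der))))))
noncomputable def DT2 : ℕ → Der := (ndA (nat_lit 40) (ndA (nat_lit 36) (ndA (nat_lit 34) (ndA (nat_lit 33) (lfA (⟨2, 0, 0, [], [⟨0, [], 59, 0, [5]⟩, ⟨0, [22], 58, 1, []⟩], 0⟩ : Der)) (lfA (⟨2, 0, 0, [], [⟨0, [], 59, 0, [9]⟩, ⟨0, [26], 58, 1, []⟩], 0⟩ : Der))) (ndA (nat_lit 35) (lfA (⟨2, 0, 0, [], [⟨0, [], 59, 0, [1, 12]⟩, ⟨0, [20, 18, 21], 58, 1, []⟩], 0⟩ : Der)) (lfA (⟨2, 0, 0, [], [⟨0, [], 59, 0, [5, 7, 5, 6]⟩, ⟨0, [24, 22, 25], 58, 1, []⟩], 0⟩ : Der)))) (ndA (nat_lit 38) (ndA (nat_lit 37) (lfA (⟨2, 0, 0, [], [⟨0, [], 59, 0, []⟩, ⟨0, [], 41, 1, [11]⟩],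 2⟩ : Der)) (lfA (⟨2, 0, 0, [], [⟨0, [], 72, 0, [2, 1, 3, 2, 5]⟩, ⟨0, [32, 34, 31, 33], 73, 2, []⟩], 0⟩ : Der))) (ndA (nat_lit 39) (lfA (⟨0, 0, 0, [], [], 1⟩ : Der)) (lfA (⟨2, 0, 0, [], [⟨0, [], 77, 1, [3]⟩, ⟨0, [44], 76, 0, []⟩], 1⟩ : Der))))) (ndA (nat_lit 44) (ndA (nat_lit 42) (ndA (nat_lit 41) (lfA (⟨2, 0, 0, [], [⟨0, [], 77, 1, [8]⟩, ⟨0, [50], 76, 0, []⟩], 1⟩ : Der)) (lfA (⟨2, 0, 0, [], [⟨0, [], 77, 1, [1, 7, 5, 12, 6, 5, 12, 5]⟩, ⟨0, [52, 47], 76, 0, []⟩], 1⟩ : Der))) (ndA (nat_lit 43) (lfA (⟨2, 0, 0, [], [⟨0, [], 77, 1, [12, 5, 12]⟩, ⟨0, [48, 46, 49], 76, 0, []⟩], 1⟩ : Der)) (lfA (⟨2, 0, 0, [], [⟨0, [], 77, 1, [3, 5, 12, 5, 6, 12, 5, 7]⟩, ⟨0, [54, 52, 55], 76, 0, []⟩], 1⟩ : Der)))) (ndA (nat_lit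 46) (ndA (nat_lit 45) (lfA (⟨2, 0, 0, [], [⟨0, [], 77, 1, []⟩, ⟨0, [], 56, 0, [2, 1, 3, 2]⟩], 2⟩ : Der)) (lfA (⟨2, 0, 0, [], [⟨0, [], 88, 1, [1, 4, 11, 4, 5, 10]⟩, ⟨0, [32, 30, 36, 34, 39, 37, 33], 89, 2, []⟩], 1⟩ : Der))) (ndA (nat_lit 47) (lfA (⟨2, 0, 0, [], [⟨0, [], 88, 1, [11]⟩, ⟨0, [], 73, 2, [2, 12, 2, 12, 2, 12, 4]⟩], 0⟩ : Der)) (lfA (⟨0, 0, 0, [], [], 2⟩ : Der))))))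
noncomputable def DT3 : ℕ → Der := (ndA (nat_lit 56) (ndA (nat_lit 52) (ndA (nat_lit 50) (ndA (nat_lit 49) (lfA (⟨2, 0, 0, [], [⟨0, [], 95, 2, [1]⟩, ⟨0, [60], 94, 0, []⟩], 2⟩ : Der)) (lfA (⟨2, 0, 0, [], [⟨0, [], 95, 2, [3]⟩, ⟨0, [62], 94, 0, []⟩], 2⟩ : Der))) (ndA (nat_lit 51) (lfA (⟨2, 0, 0, [], [⟨0, [], 95, 2, [5]⟩, ⟨0, [70, 65], 94, 0, []⟩], 2⟩ : Der)) (lfA (⟨2, 0, 0, [], [⟨0, [], 95, 2, [2, 1, 3, 2]⟩, ⟨0, [74, 65], 94, 0, []⟩], 2⟩ : Der)))) (ndA (nat_lit 54) (ndA (nat_lit 53) (lfA (⟨2, 0, 0, [], [⟨0, [], 95, 2, [12, 3, 5, 12]⟩, ⟨0, [64, 68, 70, 65, 69, 65], 94, 0, []⟩], 2⟩ : Der)) (lfA (⟨2, 0, 0, [], [⟨0, [], 95, 2, [3, 5, 12, 2, 1, 3, 2, 12, 5]⟩, ⟨0, [64, 68, 74, 65, 69, 65], 94, 0, []⟩], 2⟩ : Der)))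 (ndA (nat_lit 55) (lfA (⟨2, 0, 0, [], [⟨0, [], 95, 2, []⟩, ⟨0, [], 59, 0, [7]⟩], 1⟩ : Der)) (lfA (⟨2, 0, 0, [], [⟨0, [], 95, 2, [2, 1, 4, 3, 2]⟩, ⟨0, [], 93, 0, [1, 3, 5, 6]⟩], 1⟩ : Der))))) (ndA (nat_lit 60) (ndA (nat_lit 58) (ndA (nat_lit 57) (lfA (⟨2, 0, 0, [], [⟨0, [], 108, 2, [4, 11]⟩, ⟨0, [25, 21, 23, 25], 42, 1, [1, 3, 4, 12, 5, 7, 8, 12, 5, 7]⟩], 0⟩ : Der)) (lfA (⟨2, 0, 0, [], [⟨0, [], 112, 2, [2, 1, 5, 4, 3, 2]⟩, ⟨0, [55, 48], 76, 0, [6, 9, 12, 3, 7, 5, 7, 8, 12]⟩], 1⟩ : Der))) (ndA (nat_lit 59) (lfA (⟨0, 0, 0, [], [], 0⟩ : Der)) (lfA (⟨2, 0, 0, [], [⟨0, [], 117, 0, [1, 12]⟩, ⟨0, [78], 116, 1, []⟩], 0⟩ : Der)))) (ndA (nat_lit 62) (ndA (nat_lit 61) (lfA (⟨2, 0, 0, [], [⟨0, [], 117, 0, [1, 6, 12,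 7]⟩, ⟨0, [90, 78, 91], 116, 1, []⟩], 0⟩ : Der)) (lfA (⟨2, 0, 0, [], [⟨0, [], 117, 0, [6, 12, 7, 7, 12, 6]⟩, ⟨0, [80, 82, 86, 81, 87], 116, 1, []⟩], 0⟩ : Der))) (ndA (nat_lit 63) (lfA (⟨2, 0, 0, [], [⟨0, [], 117, 0, [1, 7, 12, 4, 7, 5, 7, 5, 4, 8]⟩, ⟨0, [80, 82, 90, 85, 81], 116, 1, []⟩], 0⟩ : Der)) (lfA (⟨2, 0, 0, [], [⟨0, [], 117, 0, [6, 6, 12, 7, 7, 12]⟩, ⟨0, [80, 84, 86, 81, 83], 116, 1, []⟩], 0⟩ : Der))))))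
noncomputable def DT4 : ℕ → Der := (ndA (nat_lit 72) (ndA (nat_lit 68) (ndA (nat_lit 66) (ndA (nat_lit 65) (lfA (⟨2, 0, 0, [], [⟨0, [], 117, 0, [1]⟩, ⟨0, [82, 80, 82, 80, 83, 80], 116, 1, []⟩], 0⟩ : Der)) (lfA (⟨2, 0, 0, [], [⟨0, [], 117, 0, [6]⟩, ⟨0, [91], 111, 1, [3, 4, 11]⟩], 2⟩ : Der))) (ndA (nat_lit 67) (lfA (⟨2, 0, 0, [], [⟨0, [], 117, 0, [7, 7]⟩, ⟨0, [80, 87, 91, 83, 81], 111, 1, [3, 5, 4, 8, 10, 4, 10, 4]⟩], 2⟩ : Der)) (lfA (⟨2, 0, 0, [4, 3, 6, 6, 2, 1, 3, 2], [⟨0, [], 117, 0, [4, 6, 12, 6]⟩, ⟨0, [87, 82, 91, 80, 87], 115, 1, [3, 4, 9, 11, 4, 12, 5]⟩, ⟨0, [105, 99], 133, 2, [2, 1, 4, 3, 2, 1]⟩], 0⟩ : Der)))) (ndA (nat_lit 70) (ndA (nat_lit 69) (lfA (⟨0, 0, 0, [], [], 2⟩ : Der)) (lfA (⟨2, 0, 0,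 [], [⟨0, [], 137, 2, [3, 4, 12, 4]⟩, ⟨0, [126, 119], 136, 0, []⟩], 2⟩ : Der))) (ndA (nat_lit 71) (lfA (⟨2, 0, 0, [], [⟨0, [], 137, 2, [1, 12, 2, 1, 3, 2]⟩, ⟨0, [134, 121], 136, 0, []⟩], 2⟩ : Der)) (lfA (⟨2, 0, 0, [], [⟨0, [], 137, 2, []⟩, ⟨0, [], 117, 0, [4, 5, 9, 7]⟩], 1⟩ : Der))))) (ndA (nat_lit 76) (ndA (nat_lit 74) (ndA (nat_lit 73) (lfA (⟨2, 0, 0, [], [⟨0, [], 142, 2, [3, 8, 12, 4, 11, 4, 10]⟩, ⟨0, [82, 90, 87, 81], 143, 1, []⟩], 2⟩ : Der)) (lfA (⟨2, 0, 0, [], [⟨0, [], 142, 2, [1, 5, 12, 11, 12]⟩, ⟨0, [84, 90, 85], 143, 1, []⟩], 2⟩ : Der))) (ndA (nat_lit 75) (lfA (⟨0, 0, 0, [], [], 1⟩ : Der)) (lfA (⟨2, 0, 0, [], [⟨0, [], 149, 1, [4, 3, 5, 4]⟩, ⟨0, [46, 45], 148, 0, []⟩], 1⟩ : Der)))) (ndA (nat_lit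 78) (ndA (nat_lit 77) (lfA (⟨2, 0, 0, [], [⟨0, [], 149, 1, [8]⟩, ⟨0, [50], 148, 0, []⟩], 1⟩ : Der)) (lfA (⟨2, 0, 0, [], [⟨0, [], 149, 1, [1, 4, 3, 4]⟩, ⟨0, [48, 46, 52, 48, 53, 48, 53, 45], 148, 0, []⟩], 1⟩ : Der))) (ndA (nat_lit 79) (lfA (⟨2, 0, 0, [], [⟨0, [], 149, 1, [4, 9, 6, 5, 4, 7, 9, 12, 6]⟩, ⟨0, [52, 50, 55, 46, 53, 54, 53, 45], 148, 0, []⟩], 1⟩ : Der)) (lfA (⟨2, 0, 0, [], [⟨0, [], 149, 1, []⟩, ⟨0, [], 56, 0, [2, 1, 12, 2]⟩], 2⟩ : Der))))))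
noncomputable def DT5 : ℕ → Der := (ndA (nat_lit 88) (ndA (nat_lit 84) (ndA (nat_lit 82) (ndA (nat_lit 81) (lfA (⟨2, 0, 0, [], [⟨0, [], 149, 1, [6, 12, 7]⟩, ⟨0, [50, 55, 53, 47, 48], 113, 0, [2, 4, 3, 4, 12, 2, 1]⟩], 2⟩ : Der)) (lfA (⟨2, 0, 0, [], [⟨0, [], 149, 1, [6, 5, 6, 12, 7]⟩, ⟨0, [49, 53, 47, 54, 51], 113, 0, [8, 12, 2, 1, 3, 2, 12, 2, 4, 5]⟩], 2⟩ : Der))) (ndA (nat_lit 83) (lfA (⟨2, 0, 0, [], [⟨0, [], 158, 1, [4, 11]⟩, ⟨0, [33, 35, 37, 31, 33], 73, 2, [1, 2, 4, 12, 2, 5, 12, 2, 12]⟩], 0⟩ : Der)) (lfA (⟨2, 0, 0, [], [⟨0, [], 162, 1, [5, 4, 11]⟩, ⟨0, [101, 99], 133, 2, [1, 2, 4, 8, 12, 2, 4, 12, 2, 12]⟩], 0⟩ : Der)))) (ndA (nat_lit 86) (ndA (nat_lit 85) (lfA (⟨2, 0, 0, [], [⟨0, [], 164, 1, [12, 5,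 12, 7]⟩, ⟨0, [], 94, 0, [1, 2, 1, 3, 2, 4, 3, 2, 4, 3]⟩], 2⟩ : Der)) (lfA (⟨2, 0, 0, [], [⟨0, [], 168, 1, [11]⟩, ⟨0, [], 131, 2, [1, 2, 1, 3, 2, 5, 12]⟩], 0⟩ : Der))) (ndA (nat_lit 87) (lfA (⟨0, 0, 0, [], [], 1⟩ : Der)) (lfA (⟨2, 0, 0, [], [⟨0, [], 173, 1, [4, 3, 5, 4]⟩, ⟨0, [118], 172, 0, []⟩], 1⟩ : Der))))) (ndA (nat_lit 92) (ndA (nat_lit 90) (ndA (nat_lit 89) (lfA (⟨2, 0, 0, [], [⟨0, [], 173, 1, [3, 4, 12, 6, 5, 7, 12, 4, 3]⟩, ⟨0, [120], 172, 0, []⟩], 1⟩ : Der)) (lfA (⟨2, 0, 0, [], [⟨0, [], 173, 1, [4, 3, 12, 6, 8, 12, 5, 4]⟩, ⟨0, [124, 123], 172, 0, []⟩], 1⟩ : Der))) (ndA (nat_lit 91) (lfA (⟨2, 0, 0, [], [⟨0, [], 173, 1, [6, 8, 12, 4, 6, 5, 4, 12, 7, 9]⟩, ⟨0, [126], 172, 0, []⟩], 1⟩ : Der)) (lfA (⟨2,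 0, 0, [], [⟨0, [], 173, 1, [1, 7, 7, 12, 4, 5, 4, 6, 12, 6]⟩, ⟨0, [128, 123], 172, 0, []⟩], 1⟩ : Der)))) (ndA (nat_lit 94) (ndA (nat_lit 93) (lfA (⟨2, 0, 0, [], [⟨0, [], 173, 1, [4, 12, 6, 6]⟩, ⟨0, [], 136, 0, [2, 3, 2, 4, 3, 2, 1, 8]⟩], 2⟩ : Der)) (lfA (⟨2, 0, 0, [], [⟨0, [], 184, 1, [11]⟩, ⟨0, [147, 141, 144], 137, 2, [3, 2, 5, 8, 12, 2, 12, 2, 1, 4]⟩], 0⟩ : Der))) (ndA (nat_lit 95) (lfA (⟨2, 0, 0, [], [⟨0, [], 186, 1, [12, 7, 12, 5, 7]⟩, ⟨0, [135, 125, 123], 130, 0, [3, 4, 8, 12, 2, 1, 4, 12, 2, 4, 12]⟩], 2⟩ : Der)) (lfA (⟨2, 0, 0, [6, 4, 11, 9, 6, 12, 6, 5, 7, 12], [⟨0, [], 186, 1, [5, 7, 5, 12, 7]⟩, ⟨0, [135, 124, 119], 132, 0, [2, 1, 3, 2, 4, 3, 4, 3, 2, 9]⟩, ⟨0, [99], 189, 2, [9, 11, 12]⟩], 1⟩ :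 Der))))))
noncomputable def DT6 : ℕ → Der := (ndA (nat_lit 104) (ndA (nat_lit 100) (ndA (nat_lit 98) (ndA (nat_lit 97) (lfA (⟨0, 0, 0, [], [], 2⟩ : Der)) (lfA (⟨2, 0, 0, [], [⟨0, [], 193, 2, [3, 5, 12, 5, 12]⟩, ⟨0, [46, 49, 46, 48, 53], 192, 0, []⟩], 2⟩ : Der))) (ndA (nat_lit 99) (lfA (⟨2, 0, 0, [], [⟨0, [], 193, 2, [4, 12, 3, 4]⟩, ⟨0, [54, 52, 48, 47, 55, 49], 192, 0, []⟩], 2⟩ : Der)) (lfA (⟨2, 0, 0, [], [⟨0, [], 193, 2, []⟩, ⟨0, [], 43, 0, [7]⟩], 1⟩ : Der)))) (ndA (nat_lit 102) (ndA (nat_lit 101) (lfA (⟨2, 0, 0, [], [⟨0, [], 193, 2, [2, 1, 3, 2]⟩, ⟨0, [], 76, 0, [7]⟩], 1⟩ : Der)) (lfA (⟨2, 0, 0, [], [⟨0, [], 193, 2, [2, 1, 4, 12, 2]⟩, ⟨0, [53, 48, 47, 48, 45], 148, 0, [1, 4, 5, 12, 6, 12, 4, 12]⟩], 1⟩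 : Der))) (ndA (nat_lit 103) (lfA (⟨2, 0, 0, [], [⟨0, [], 198, 2, [1, 5, 8, 12, 10, 12]⟩, ⟨0, [20, 18, 22, 24, 23, 25, 21], 199, 1, []⟩], 2⟩ : Der)) (lfA (⟨2, 0, 0, [], [⟨0, [], 200, 2, [4, 11]⟩, ⟨0, [], 116, 1, []⟩], 0⟩ : Der))))) (ndA (nat_lit 108) (ndA (nat_lit 106) (ndA (nat_lit 105) (lfA (⟨0, 0, 0, [], [], 1⟩ : Der)) (lfA (⟨2, 0, 0, [], [⟨0, [], 209, 1, [8]⟩, ⟨0, [50], 208, 0, []⟩], 1⟩ : Der))) (ndA (nat_lit 107) (lfA (⟨2, 0, 0, [], [⟨0, [], 209, 1, [4, 5]⟩, ⟨0, [46, 48, 47], 208, 0, []⟩], 1⟩ : Der)) (lfA (⟨2, 0, 0, [], [⟨0, [], 209, 1, [8, 7, 5, 4, 6, 5, 8, 7]⟩, ⟨0, [46, 54, 47], 208, 0, []⟩], 1⟩ : Der)))) (ndA (nat_lit 110) (ndA (nat_lit 109) (lfA (⟨2, 0, 0, [], [⟨0, [], 209, 1, []⟩, ⟨0, [], 56,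 0, [2]⟩], 2⟩ : Der)) (lfA (⟨2, 0, 0, [], [⟨0, [], 209, 1, [6, 5, 7]⟩, ⟨0, [50, 55, 47], 113, 0, [1, 4, 12, 2]⟩], 2⟩ : Der))) (ndA (nat_lit 111) (lfA (⟨2, 0, 0, [], [⟨0, [], 216, 1, [1, 5, 10, 4, 5, 11]⟩, ⟨0, [32, 38, 35, 33], 217, 2, []⟩], 1⟩ : Der)) (lfA (⟨0, 0, 0, [], [], 0⟩ : Der))))))
noncomputable def DT7 : ℕ → Der := (ndA (nat_lit 120) (ndA (nat_lit 116) (ndA (nat_lit 114) (ndA (nat_lit 113) (lfA (⟨2, 0, 0, [], [⟨0, [], 223, 0, [8]⟩, ⟨0, [210], 222, 1, []⟩], 0⟩ : Der)) (lfA (⟨2, 0, 0, [], [⟨0, [], 223, 0, [3, 5, 4, 3]⟩, ⟨0, [212], 222, 1, []⟩], 0⟩ : Der))) (ndA (nat_lit 115) (lfA (⟨2, 0, 0, [], [⟨0, [], 223, 0, [8, 12, 6, 5, 4, 9, 6, 5, 6, 12]⟩, ⟨0, [214], 222, 1, []⟩], 0⟩ : Der)) (lfA (⟨2, 0, 0,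 [], [⟨0, [], 223, 0, [1, 12, 5, 12]⟩, ⟨0, [220], 222, 1, []⟩], 0⟩ : Der)))) (ndA (nat_lit 118) (ndA (nat_lit 117) (lfA (⟨2, 0, 0, [], [⟨0, [], 223, 0, []⟩, ⟨0, [], 216, 1, [11, 4, 11]⟩], 2⟩ : Der)) (lfA (⟨2, 0, 0, [], [⟨0, [], 232, 0, [1, 12, 2, 1, 5, 12]⟩, ⟨0, [38, 31], 233, 2, []⟩], 0⟩ : Der))) (ndA (nat_lit 119) (lfA (⟨2, 0, 0, [], [⟨0, [], 232, 0, [1, 2, 3, 2, 12, 2, 1, 12]⟩, ⟨0, [36, 34, 32, 38, 36, 34, 37, 39, 33, 35, 37, 31], 233, 2, []⟩], 0⟩ : Der)) (lfA (⟨2, 0, 0, [], [⟨0, [], 232, 0, [2]⟩, ⟨0, [37, 33, 35, 37, 39, 37, 35, 37, 33, 35, 37, 39, 33, 31], 159, 2, [10, 4, 10, 4]⟩], 1⟩ : Der))))) (ndA (nat_lit 124) (ndA (nat_lit 122) (ndA (nat_lit 121) (lfA (⟨2, 0, 0, [], [⟨0, [], 238, 0, [6, 12, 7]⟩,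 ⟨0, [], 160, 1, [10, 4, 11, 4, 12]⟩], 2⟩ : Der)) (lfA (⟨0, 0, 0, [], [], 2⟩ : Der))) (ndA (nat_lit 123) (lfA (⟨2, 0, 0, [], [⟨0, [], 243, 2, [1, 12]⟩, ⟨0, [122, 121], 242, 0, []⟩], 2⟩ : Der)) (lfA (⟨2, 0, 0, [], [⟨0, [], 243, 2, [1]⟩, ⟨0, [128], 242, 0, []⟩], 2⟩ : Der)))) (ndA (nat_lit 126) (ndA (nat_lit 125) (lfA (⟨2, 0, 0, [], [⟨0, [], 243, 2, [1, 4, 12, 2, 1, 3, 2, 4]⟩, ⟨0, [134], 242, 0, []⟩], 2⟩ : Der)) (lfA (⟨2, 0, 0, [], [⟨0, [], 243, 2, []⟩, ⟨0, [], 117, 0, [7]⟩], 1⟩ : Der))) (ndA (nat_lit 127) (lfA (⟨2, 0, 0, [], [⟨0, [], 243, 2, [2, 1, 3, 2]⟩, ⟨0, [], 171, 0, [12, 3, 5, 7, 7]⟩], 1⟩ : Der)) (lfA (⟨2, 0, 0, [], [⟨0, [], 250, 2, [1, 3, 4, 5, 8, 10, 12, 4]⟩, ⟨0, [82, 90, 83], 251, 1, []⟩], 2⟩ : Der))))))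
noncomputable def DT8 : ℕ → Der := (ndA (nat_lit 136) (ndA (nat_lit 132) (ndA (nat_lit 130) (ndA (nat_lit 129) (lfA (⟨2, 0, 0, [], [⟨0, [], 252, 2, [11]⟩, ⟨0, [153], 170, 1, [12, 3, 5, 6, 5, 9]⟩], 0⟩ : Der)) (lfA (⟨2, 0, 0, [], [⟨0, [], 256, 2, [12, 2]⟩, ⟨0, [135, 123], 172, 0, [3, 4, 5, 9, 6, 5, 12]⟩], 1⟩ : Der))) (ndA (nat_lit 131) (lfA (⟨0, 0, 0, [], [], 0⟩ : Der)) (lfA (⟨2, 0, 0, [], [⟨0, [], 261, 0, [4, 9, 6, 12, 7, 12, 4]⟩, ⟨0, [178, 175], 260, 1, []⟩], 0⟩ : Der)))) (ndA (nat_lit 134) (ndA (nat_lit 133) (lfA (⟨2, 0, 0, [], [⟨0, [], 261, 0, [3, 4, 7, 5, 7, 5, 12, 4, 7, 7]⟩, ⟨0, [190, 181], 260, 1, []⟩], 0⟩ : Der)) (lfA (⟨2, 0, 0, [], [⟨0, [], 261, 0, [4, 7, 12, 6]⟩, ⟨0, [], 184, 1, [4, 11, 4]⟩], 2⟩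 : Der))) (ndA (nat_lit 135) (lfA (⟨2, 0, 0, [], [⟨0, [], 261, 0, [5, 7, 12, 6]⟩, ⟨0, [178], 259, 1, [1, 4, 5, 4, 12, 11]⟩], 2⟩ : Der)) (lfA (⟨2, 0, 0, [4, 7, 12, 6], [⟨0, [], 266, 0, [1, 4, 8, 12, 2, 1, 4, 3, 2, 12]⟩, ⟨0, [144, 140, 144, 139], 267, 2, []⟩], 0⟩ : Der))))) (ndA (nat_lit 140) (ndA (nat_lit 138) (ndA (nat_lit 137) (lfA (⟨0, 0, 0, [], [], 0⟩ : Der)) (lfA (⟨2, 0, 0, [], [⟨0, [], 273, 0, [3, 12, 4, 3, 7, 5, 4, 8, 7, 5, 6]⟩, ⟨0, [178, 177], 272, 1, []⟩], 0⟩ : Der))) (ndA (nat_lit 139) (lfA (⟨2, 0, 0, [], [⟨0, [], 273, 0, [5, 7, 12, 6, 12, 5]⟩, ⟨0, [174, 180, 183], 272, 1, []⟩], 0⟩ : Der)) (lfA (⟨2, 0, 0, [], [⟨0, [], 273, 0, [6, 12, 7, 5, 4, 3, 7, 5, 4, 7, 5]⟩, ⟨0, [176, 180, 191, 175], 272, 1,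 []⟩], 0⟩ : Der)))) (ndA (nat_lit 142) (ndA (nat_lit 141) (lfA (⟨2, 0, 0, [], [⟨0, [], 273, 0, [7, 9, 12, 5, 7]⟩, ⟨0, [190], 184, 1, [3, 4, 9, 11, 4, 11, 4, 5]⟩], 2⟩ : Der)) (lfA (⟨2, 0, 0, [], [⟨0, [], 273, 0, [7, 5, 7, 12, 7]⟩, ⟨0, [190, 178], 259, 1, [1, 4, 5, 10, 4, 10]⟩], 2⟩ : Der))) (ndA (nat_lit 143) (lfA (⟨2, 0, 0, [7, 9, 12, 5, 7], [⟨0, [], 280, 0, [2, 1, 9, 12, 2, 5, 4, 12, 2]⟩, ⟨0, [144, 140, 144, 139], 281, 2, []⟩], 0⟩ : Der)) (lfA (⟨0, 0, 0, [], [], 2⟩ : Der))))))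
noncomputable def DT9 : ℕ → Der := (ndA (nat_lit 152) (ndA (nat_lit 148) (ndA (nat_lit 146) (ndA (nat_lit 145) (lfA (⟨2, 0, 0, [], [⟨0, [], 287, 2, [3]⟩, ⟨0, [74, 65], 286, 0, []⟩], 2⟩ : Der)) (lfA (⟨2, 0, 0, [], [⟨0, [], 287, 2, [1, 3, 2, 1, 4, 3, 2, 1, 4, 3]⟩, ⟨0, [60, 64, 68, 74, 65, 69, 65, 61], 286, 0, []⟩], 2⟩ : Der))) (ndA (nat_lit 147) (lfA (⟨2, 0, 0, [], [⟨0, [], 287, 2, [9, 12, 2, 3, 4, 3]⟩, ⟨0, [64, 66, 70, 68, 64, 69, 75, 71, 69], 286, 0, []⟩], 2⟩ : Der)) (lfA (⟨2, 0, 0, [], [⟨0, [], 287, 2, []⟩, ⟨0, [69, 75, 65, 69, 65, 61], 165, 0, [4, 12, 4, 7, 7, 12, 3, 6]⟩], 1⟩ : Der)))) (ndA (nat_lit 150) (ndA (nat_lit 149) (lfA (⟨2, 0, 0, [], [⟨0, [], 287, 2, [2]⟩, ⟨0, [71, 63, 69, 75, 66, 71], 165,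 0, [7, 12, 7, 5, 4, 6, 12, 5, 6, 8, 12, 4]⟩], 1⟩ : Der)) (lfA (⟨2, 0, 0, [], [⟨0, [], 287, 2, [2, 1, 3, 2]⟩, ⟨0, [69, 75], 93, 0, [1, 12, 4, 6, 12, 5, 12, 7, 7]⟩], 1⟩ : Der))) (ndA (nat_lit 151) (lfA (⟨2, 0, 0, [], [⟨0, [], 287, 2, [2, 1, 12, 2]⟩, ⟨0, [75, 69, 71, 65, 63, 69, 65], 165, 0, [3, 4, 6, 5, 4, 7, 5, 7, 12, 5, 7]⟩], 1⟩ : Der)) (lfA (⟨2, 0, 0, [], [⟨0, [], 294, 2, [11]⟩, ⟨0, [], 170, 1, [1, 5, 7, 5, 8, 6, 12, 6, 9]⟩], 0⟩ : Der))))) (ndA (nat_lit 156) (ndA (nat_lit 154) (ndA (nat_lit 153) (lfA (⟨2, 0, 0, [2, 1, 3, 2], [⟨0, [], 298, 2, [1, 9, 10, 4, 5, 11]⟩, ⟨0, [80, 83, 90, 85, 83, 81], 299, 1, []⟩], 2⟩ : Der)) (lfA (⟨2, 0, 0, [], [⟨0, [], 300, 2, [5, 4, 11]⟩, ⟨0, [156, 151], 239, 1, [1, 5, 4,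 6, 12, 6, 9, 12, 5, 7]⟩], 0⟩ : Der))) (ndA (nat_lit 155) (lfA (⟨0, 0, 0, [], [], 2⟩ : Der)) (lfA (⟨2, 0, 0, [], [⟨0, [], 309, 2, [1, 2, 1, 4, 3, 2, 1, 4]⟩, ⟨0, [48, 46, 52, 48, 53, 47, 48, 47], 308, 0, []⟩], 2⟩ : Der)))) (ndA (nat_lit 158) (ndA (nat_lit 157) (lfA (⟨2, 0, 0, [], [⟨0, [], 309, 2, [1, 4, 9, 12, 2, 3, 4, 5]⟩, ⟨0, [52, 51, 55, 46, 53, 54, 48, 47], 308, 0, []⟩], 2⟩ : Der)) (lfA (⟨2, 0, 0, [], [⟨0, [], 309, 2, [1, 2]⟩, ⟨0, [54, 53, 48, 53], 148, 0, [4, 5, 7, 7, 12, 6, 8, 12, 5, 4]⟩], 1⟩ : Der))) (ndA (nat_lit 159) (lfA (⟨2, 0, 0, [], [⟨0, [], 309, 2, [1, 3, 2]⟩, ⟨0, [54, 53, 47, 55, 47, 49], 208, 0, [4, 3, 5, 7, 12, 4, 3, 12, 7]⟩], 1⟩ : Der)) (lfA (⟨2, 0, 0, [], [⟨0, [], 309, 2, [12, 3, 2]⟩,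 ⟨0, [53, 54], 148, 0, [3, 12, 5, 4, 7, 5, 4, 3, 8, 7]⟩], 1⟩ : Der))))))
noncomputable def DT10 : ℕ → Der := (ndA (nat_lit 168) (ndA (nat_lit 164) (ndA (nat_lit 162) (ndA (nat_lit 161) (lfA (⟨2, 0, 0, [], [⟨0, [], 309, 2, [4, 12, 2]⟩, ⟨0, [53, 55, 47, 49], 148, 0, [3, 9, 7, 5, 4, 3, 6, 12, 5, 6]⟩], 1⟩ : Der)) (lfA (⟨2, 0, 0, [], [⟨0, [], 309, 2, [5, 12, 2]⟩, ⟨0, [48, 53, 45], 148, 0, [5, 12, 7, 5, 6, 12, 4, 5, 7]⟩], 1⟩ : Der))) (ndA (nat_lit 163) (lfA (⟨2, 0, 0, [3, 1, 2, 11, 4, 11, 5, 12, 9, 5, 1], [⟨0, [], 309, 2, [2, 4, 12, 2]⟩, ⟨0, [47, 55, 53, 45], 208, 0, [9, 7, 12, 3, 4, 6, 12, 7, 7]⟩, ⟨0, [221], 317, 1, [9, 11, 12, 4, 12, 11]⟩], 2⟩ : Der)) (lfA (⟨2, 0, 0, [], [⟨0, [], 314, 2, [4, 11]⟩, ⟨0, [], 166,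 1, [1, 5, 7, 9, 12, 7, 5, 7, 12, 7]⟩], 0⟩ : Der)))) (ndA (nat_lit 166) (ndA (nat_lit 165) (lfA (⟨2, 0, 0, [], [⟨0, [], 316, 2, [5, 11, 4, 11]⟩, ⟨0, [], 222, 1, [7, 12, 4, 6, 12, 7, 7, 12, 5]⟩], 0⟩ : Der)) (lfA (⟨0, 0, 0, [], [], 2⟩ : Der))) (ndA (nat_lit 167) (lfA (⟨2, 0, 0, [], [⟨0, [], 331, 2, [3]⟩, ⟨0, [74, 65], 330, 0, []⟩], 2⟩ : Der)) (lfA (⟨2, 0, 0, [], [⟨0, [], 331, 2, [1, 3, 2, 1, 4, 3, 2, 1, 4, 3]⟩, ⟨0, [60, 64, 68, 74, 65, 69, 65, 61], 330, 0, []⟩], 2⟩ : Der))))) (ndA (nat_lit 172) (ndA (nat_lit 170) (ndA (nat_lit 169) (lfA (⟨2, 0, 0, [], [⟨0, [], 331, 2, []⟩, ⟨0, [69, 75, 65, 69, 65, 61], 165, 0, [5, 12, 5, 7]⟩], 1⟩ : Der)) (lfA (⟨2, 0, 0, [], [⟨0, [], 331, 2, [1, 2]⟩, ⟨0, [65, 63, 69, 65],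 165, 0, [1, 4, 7]⟩], 1⟩ : Der))) (ndA (nat_lit 171) (lfA (⟨2, 0, 0, [], [⟨0, [], 331, 2, [4, 12, 2]⟩, ⟨0, [66, 71, 69, 67, 71], 165, 0, [3, 4, 5, 4, 7, 12, 7, 12, 7, 5, 7]⟩], 1⟩ : Der)) (lfA (⟨2, 0, 0, [], [⟨0, [], 331, 2, [2, 1, 3, 2]⟩, ⟨0, [69, 75], 93, 0, [3, 4, 3, 12, 5, 7]⟩], 1⟩ : Der)))) (ndA (nat_lit 174) (ndA (nat_lit 173) (lfA (⟨2, 0, 0, [], [⟨0, [], 336, 2, [11]⟩, ⟨0, [], 170, 1, [1, 5, 7, 5, 12, 6]⟩], 0⟩ : Der)) (lfA (⟨2, 0, 0, [], [⟨0, [], 338, 2, [4, 11]⟩, ⟨0, [], 166, 1, [7, 5, 6, 12, 7, 12, 5]⟩], 0⟩ : Der))) (ndA (nat_lit 175) (lfA (⟨2, 0, 0, [], [⟨0, [], 342, 2, [11, 4, 11]⟩, ⟨0, [87, 85, 91, 87, 81], 116, 1, [1, 4, 7, 5, 4, 6, 12, 5, 12, 6, 9]⟩], 0⟩ : Der)) (lfA (⟨0, 0, 0, [], [], 2⟩ :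 Der))))))
noncomputable def DT11 : ℕ → Der := (ndA (nat_lit 184) (ndA (nat_lit 180) (ndA (nat_lit 178) (ndA (nat_lit 177) (lfA (⟨2, 0, 0, [], [⟨0, [], 351, 2, [3]⟩, ⟨0, [74, 65], 350, 0, []⟩], 2⟩ : Der)) (lfA (⟨2, 0, 0, [], [⟨0, [], 351, 2, [1, 3, 2, 1, 4, 3, 2, 1, 4, 3]⟩, ⟨0, [60, 64, 68, 74, 65, 69, 65, 61], 350, 0, []⟩], 2⟩ : Der))) (ndA (nat_lit 179) (lfA (⟨2, 0, 0, [], [⟨0, [], 351, 2, []⟩, ⟨0, [69, 75, 65, 69, 65, 61], 165, 0, [5, 12, 5, 12, 7, 12, 7]⟩], 1⟩ : Der)) (lfA (⟨2, 0, 0, [], [⟨0, [], 351, 2, [2]⟩, ⟨0, [71, 69, 75, 65, 69, 71], 165, 0, [5, 12, 4, 12, 6, 12, 5, 7]⟩], 1⟩ : Der)))) (ndA (nat_lit 182) (ndA (nat_lit 181) (lfA (⟨2, 0, 0, [], [⟨0, [], 351, 2, [1, 2]⟩, ⟨0, [71, 69, 71, 65, 69, 65],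 165, 0, [3, 5, 12, 7, 12, 4, 12, 7, 12]⟩], 1⟩ : Der)) (lfA (⟨2, 0, 0, [], [⟨0, [], 351, 2, [12, 2]⟩, ⟨0, [71, 65, 69, 65, 69, 71], 165, 0, [4, 7, 5, 6, 12, 7, 5, 12]⟩], 1⟩ : Der))) (ndA (nat_lit 183) (lfA (⟨2, 0, 0, [], [⟨0, [], 351, 2, [4, 3, 2]⟩, ⟨0, [65, 69, 71, 65, 69, 71], 165, 0, [4, 3, 4, 5, 7, 12, 5, 6]⟩], 1⟩ : Der)) (lfA (⟨2, 0, 0, [], [⟨0, [], 351, 2, [2, 1, 3, 2]⟩, ⟨0, [69, 75], 93, 0, [1, 12, 4, 7, 12, 5, 12, 7]⟩], 1⟩ : Der))))) (ndA (nat_lit 188) (ndA (nat_lit 186) (ndA (nat_lit 185) (lfA (⟨2, 0, 0, [], [⟨0, [], 351, 2, [1, 4, 12, 2]⟩, ⟨0, [65, 69, 75, 66, 71], 165, 0, [6, 8, 12, 3, 4, 7, 5, 6]⟩], 1⟩ : Der)) (lfA (⟨2, 0, 0, [], [⟨0, [], 356, 2, [11]⟩, ⟨0, [152], 170, 1, [1, 5, 7, 5, 7, 9,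 12, 6]⟩], 0⟩ : Der))) (ndA (nat_lit 187) (lfA (⟨2, 0, 0, [], [⟨0, [], 358, 2, [11]⟩, ⟨0, [], 239, 1, [3, 5, 12, 6, 12, 4, 5, 6, 12]⟩], 0⟩ : Der)) (lfA (⟨2, 0, 0, [], [⟨0, [], 360, 2, [4, 11]⟩, ⟨0, [], 149, 1, [4, 5, 6, 5, 12, 5, 12, 7]⟩], 0⟩ : Der)))) (ndA (nat_lit 190) (ndA (nat_lit 189) (lfA (⟨2, 0, 0, [], [⟨0, [], 360, 2, [5, 4, 11]⟩, ⟨0, [151], 239, 1, [5, 7, 12, 4, 6, 12, 7, 7]⟩], 0⟩ : Der)) (lfA (⟨2, 0, 0, [], [⟨0, [], 362, 2, [4, 11]⟩, ⟨0, [], 166, 1, [5, 6, 12, 5, 12, 5, 7, 5, 7]⟩], 0⟩ : Der))) (ndA (nat_lit 191) (lfA (⟨2, 0, 0, [], [⟨0, [], 364, 2, [5, 4, 11]⟩, ⟨0, [153, 157], 239, 1, [4, 8, 7, 12, 6, 5, 4, 8, 12]⟩], 0⟩ : Der)) (lfA (⟨2, 0, 0, [], [⟨0, [], 366, 2, [11, 4, 11]⟩, ⟨0, [85, 83, 81],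 116, 1, [1, 8, 6, 12, 6, 5, 7, 12, 7, 7]⟩], 0⟩ : Der))))))
noncomputable def DT12 : ℕ → Der := (ndA (nat_lit 200) (ndA (nat_lit 196) (ndA (nat_lit 194) (ndA (nat_lit 193) (lfA (⟨2, 0, 0, [], [⟨0, [], 366, 2, [5, 11, 4, 11]⟩, ⟨0, [85, 81], 116, 1, [1, 5, 4, 12, 7, 5, 9, 6, 12, 6]⟩], 0⟩ : Der)) (lfA (⟨2, 0, 0, [], [⟨0, [], 370, 2, [4, 3, 2, 1, 12, 2]⟩, ⟨0, [134, 125, 121], 167, 0, [1, 9, 12, 7, 5, 6, 6, 12, 4]⟩], 1⟩ : Der))) (ndA (nat_lit 195) (lfA (⟨2, 0, 0, [], [⟨0, [], 372, 2, [2]⟩, ⟨0, [228, 237, 227], 238, 0, [4, 5, 7, 7, 5, 12, 6, 5, 4, 3]⟩], 1⟩ : Der)) (lfA (⟨2, 0, 0, [], [⟨0, [], 374, 2, [1, 4, 3, 2]⟩, ⟨0, [47, 55, 51, 53], 148, 0, [7, 5, 12, 7, 5, 12, 4, 7, 5, 12]⟩], 1⟩ : Der)))) (ndA (nat_lit 198)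 (ndA (nat_lit 197) (lfA (⟨2, 0, 0, [], [⟨0, [], 374, 2, [2, 3, 4, 12, 2]⟩, ⟨0, [53, 51, 53, 45], 148, 0, [3, 4, 6, 6, 12, 4, 6, 8]⟩], 1⟩ : Der)) (lfA (⟨2, 0, 0, [], [⟨0, [], 374, 2, [12, 2, 1, 5, 12, 2]⟩, ⟨0, [51, 53], 208, 0, [1, 7, 12, 5, 12, 4, 6, 5, 4, 3, 8]⟩], 1⟩ : Der))) (ndA (nat_lit 199) (lfA (⟨2, 0, 0, [], [⟨0, [], 374, 2, [1, 12, 2, 1, 5, 12, 2]⟩, ⟨0, [54, 50, 53], 148, 0, [5, 6, 8, 12, 3, 4, 6, 5, 9]⟩], 1⟩ : Der)) (lfA (⟨2, 0, 0, [], [⟨0, [], 388, 2, [4, 11]⟩, ⟨0, [153, 157, 151], 239, 1, [3, 4, 5, 12, 7, 7]⟩], 0⟩ : Der))))) (ndA (nat_lit 204) (ndA (nat_lit 202) (ndA (nat_lit 201) (lfA (⟨2, 0, 0, [], [⟨0, [], 398, 2, [1, 5, 12, 2]⟩, ⟨0, [228, 236, 231], 238, 0, [1, 4, 5, 6, 12, 7, 5, 4, 7, 12]⟩],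 1⟩ : Der)) (lfA (⟨0, 0, 0, [], [], 0⟩ : Der))) (ndA (nat_lit 203) (lfA (⟨2, 0, 0, [], [⟨0, [], 403, 0, [9]⟩, ⟨0, [152], 402, 1, []⟩], 0⟩ : Der)) (lfA (⟨2, 0, 0, [], [⟨0, [], 403, 0, [12]⟩, ⟨0, [154], 402, 1, []⟩], 0⟩ : Der)))) (ndA (nat_lit 206) (ndA (nat_lit 205) (lfA (⟨2, 0, 0, [], [⟨0, [], 403, 0, []⟩, ⟨0, [], 158, 1, [11]⟩], 2⟩ : Der)) (lfA (⟨2, 0, 0, [], [⟨0, [], 403, 0, [6, 12, 7]⟩, ⟨0, [152], 160, 1, [9, 12, 11, 12]⟩], 2⟩ : Der))) (ndA (nat_lit 207) (lfA (⟨2, 0, 0, [], [⟨0, [], 403, 0, [4, 6, 5, 7]⟩, ⟨0, [156, 151], 387, 1, [9, 11, 4, 3, 5]⟩], 2⟩ : Der)) (lfA (⟨2, 0, 0, [], [⟨0, [], 403, 0, [6, 12, 5, 7]⟩, ⟨0, [157, 151], 323, 1, [8, 11, 12, 5]⟩], 2⟩ : Der))))))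
noncomputable def DT13 : ℕ → Der := (ndA (nat_lit 216) (ndA (nat_lit 212) (ndA (nat_lit 210) (ndA (nat_lit 209) (lfA (⟨2, 0, 0, [1, 4, 5, 6, 5, 7, 12, 5, 2, 1, 3, 2, 12], [⟨0, [], 403, 0, [4, 6, 12, 7]⟩, ⟨0, [157, 153], 365, 1, [1, 8, 10, 4, 11, 4, 3]⟩, ⟨0, [355], 413, 2, [1, 5, 12, 2, 1, 3, 2, 5, 12]⟩], 0⟩ : Der)) (lfA (⟨2, 0, 0, [5, 6, 5, 4, 12, 6, 5, 9, 2, 1, 3, 2, 12, 2], [⟨0, [], 403, 0, [6, 5, 12, 7]⟩, ⟨0, [157, 155, 153], 321, 1, [3, 4, 10]⟩, ⟨0, [324, 311], 415, 2, [2, 9, 12, 2, 4, 12, 2, 1, 12]⟩], 0⟩ : Der))) (ndA (nat_lit 211) (lfA (⟨2, 0, 0, [], [⟨0, [], 403, 0, [3, 4, 5, 6]⟩, ⟨0, [152, 156, 151], 401, 1, [3, 4, 5, 9, 10]⟩], 2⟩ : Der)) (lfA (⟨2, 0, 0, [], [⟨0, [], 402, 1, [9, 12, 5, 6]⟩, ⟨0,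 [416, 419], 420, 0, [1, 3, 2, 4, 3, 4]⟩], 2⟩ : Der)))) (ndA (nat_lit 214) (ndA (nat_lit 213) (lfA (⟨2, 0, 0, [], [⟨0, [], 403, 0, [7, 12, 4, 5, 7]⟩, ⟨0, [153, 157], 387, 1, [4, 9, 11, 4, 10, 4, 10]⟩], 2⟩ : Der)) (lfA (⟨2, 0, 0, [], [⟨0, [], 403, 0, [6, 12, 5, 4, 7, 7, 5, 7]⟩, ⟨0, [157, 151], 369, 1, [4, 10, 4, 10, 4]⟩], 2⟩ : Der))) (ndA (nat_lit 215) (lfA (⟨2, 0, 0, [], [⟨0, [], 408, 0, [1, 2]⟩, ⟨0, [35, 37, 39, 35, 37, 33, 35, 37, 39, 33, 35, 37, 33], 217, 2, [3, 12, 4, 10, 4]⟩], 1⟩ : Der)) (lfA (⟨0, 0, 0, [], [], 1⟩ : Der))))) (ndA (nat_lit 220) (ndA (nat_lit 218) (ndA (nat_lit 217) (lfA (⟨2, 0, 0, [], [⟨0, [], 431, 1, [8]⟩, ⟨0, [224], 430, 0, []⟩], 1⟩ : Der)) (lfA (⟨2, 0, 0, [], [⟨0, [], 431, 1, [3,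 5]⟩, ⟨0, [230, 234, 231], 430, 0, []⟩], 1⟩ : Der))) (ndA (nat_lit 219) (lfA (⟨2, 0, 0, [], [⟨0, [], 431, 1, []⟩, ⟨0, [], 232, 0, [12, 3, 2]⟩], 2⟩ : Der)) (lfA (⟨2, 0, 0, [], [⟨0, [], 431, 1, [12, 5, 12, 6, 5, 7]⟩, ⟨0, [226], 240, 0, [2, 12, 4, 3, 2, 5, 12, 5, 12]⟩], 2⟩ : Der)))) (ndA (nat_lit 222) (ndA (nat_lit 221) (lfA (⟨2, 0, 0, [], [⟨0, [], 431, 1, [6, 8, 12, 6, 5, 6]⟩, ⟨0, [237, 225, 229], 373, 0, [4, 9, 12, 2, 5, 12, 2, 1]⟩], 2⟩ : Der)) (lfA (⟨2, 0, 0, [], [⟨0, [], 431, 1, [6, 5, 4, 7, 7, 5, 7]⟩, ⟨0, [231, 229], 329, 0, [4, 3, 12, 5, 12, 2]⟩], 2⟩ : Der))) (ndA (nat_lit 223) (lfA (⟨2, 0, 0, [11, 5, 4, 11, 12, 6, 4, 5, 7, 8, 4, 5, 7, 1], [⟨0, [], 431, 1, [7, 5, 4, 6, 5, 8, 7]⟩, ⟨0, [229], 329, 0, [3,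 5, 4, 3, 2, 8]⟩, ⟨0, [311, 324], 443, 2, [1, 4, 5, 10, 4, 5, 11]⟩], 1⟩ : Der)) (lfA (⟨2, 0, 0, [], [⟨0, [], 436, 1, [11]⟩, ⟨0, [35, 37, 35, 33], 409, 2, [1, 4, 12, 2, 4, 3, 4, 5]⟩], 0⟩ : Der))))))
noncomputable def DT14 : ℕ → Der := (ndA (nat_lit 232) (ndA (nat_lit 228) (ndA (nat_lit 226) (ndA (nat_lit 225) (lfA (⟨0, 0, 0, [], [], 2⟩ : Der)) (lfA (⟨2, 0, 0, [], [⟨0, [], 449, 2, [4, 3, 2, 1, 4, 3, 2, 1, 8]⟩, ⟨0, [224, 226, 236], 448, 0, []⟩], 2⟩ : Der))) (ndA (nat_lit 227) (lfA (⟨2, 0, 0, [], [⟨0, [], 449, 2, [3, 4, 12, 4]⟩, ⟨0, [230, 234, 231, 227], 448, 0, []⟩], 2⟩ : Der)) (lfA (⟨2, 0, 0, [], [⟨0, [], 449, 2, []⟩, ⟨0, [], 238, 0, [4, 7, 5, 6, 6, 12, 7]⟩], 1⟩ : Der)))) (ndA (nat_lit 230) (ndA (nat_lit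 229) (lfA (⟨2, 0, 0, [], [⟨0, [], 454, 2, [5, 4, 11]⟩, ⟨0, [], 170, 1, [7, 12, 6, 12, 6, 5, 4, 7, 9]⟩], 0⟩ : Der)) (lfA (⟨2, 0, 0, [], [⟨0, [], 454, 2, [11, 4, 11]⟩, ⟨0, [152], 166, 1, [7, 5, 7, 8, 12, 6, 5, 4]⟩], 0⟩ : Der))) (ndA (nat_lit 231) (lfA (⟨2, 0, 0, [], [⟨0, [], 454, 2, [5, 11, 4, 11]⟩, ⟨0, [157], 239, 1, [4, 12, 7, 8, 12, 6, 5, 4, 7, 12]⟩], 0⟩ : Der)) (lfA (⟨2, 0, 0, [], [⟨0, [], 456, 2, [2, 1, 12, 2]⟩, ⟨0, [127], 187, 0, [5, 7, 12, 3, 4, 7, 9, 12]⟩], 1⟩ : Der))))) (ndA (nat_lit 236) (ndA (nat_lit 234) (ndA (nat_lit 233) (lfA (⟨2, 0, 0, [], [⟨0, [], 460, 2, [2, 12, 3, 4, 12, 2]⟩, ⟨0, [228, 236, 226], 238, 0, [4, 6, 5, 4, 9, 12, 6, 5, 9, 7, 12, 7]⟩], 1⟩ : Der)) (lfA (⟨2, 0, 0, [], [⟨0, [], 462,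 2, [11]⟩, ⟨0, [191], 272, 1, [1, 5, 7, 7, 12, 4, 6, 8, 12, 5, 4]⟩], 0⟩ : Der))) (ndA (nat_lit 235) (lfA (⟨2, 0, 0, [], [⟨0, [], 462, 2, [11, 4, 11]⟩, ⟨0, [], 260, 1, [3, 7, 12, 6, 9, 12, 4, 5]⟩], 0⟩ : Der)) (lfA (⟨2, 0, 0, [], [⟨0, [], 464, 2, [11]⟩, ⟨0, [153], 170, 1, [6, 5, 7, 12, 4, 5, 7, 7]⟩], 0⟩ : Der)))) (ndA (nat_lit 238) (ndA (nat_lit 237) (lfA (⟨2, 0, 0, [], [⟨0, [], 470, 2, [4, 3, 2]⟩, ⟨0, [135], 171, 0, [1, 7, 7, 5, 4, 6, 12, 5, 7, 5]⟩], 1⟩ : Der)) (lfA (⟨2, 0, 0, [], [⟨0, [], 470, 2, [1, 4, 3, 2]⟩, ⟨0, [134, 127], 187, 0, [12, 4, 7, 12, 7, 12, 7, 5, 4, 7, 5]⟩], 1⟩ : Der))) (ndA (nat_lit 239) (lfA (⟨2, 0, 0, [], [⟨0, [], 472, 2, [4, 11]⟩, ⟨0, [], 239, 1, [1, 7, 5, 4, 12, 6, 5, 12, 4, 7, 9]⟩],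 0⟩ : Der)) (lfA (⟨2, 0, 0, [1, 7, 5, 4, 6, 8, 12, 5, 12, 7, 8], [⟨0, [], 469, 0, [4, 8, 12, 2, 5, 12, 4, 12]⟩, ⟨0, [451], 474, 2, [11, 4, 11]⟩, ⟨0, [181], 260, 1, [1, 7, 5, 4, 6, 8, 12, 5, 12, 7, 8]⟩], 0⟩ : Der))))))
noncomputable def DT15 : ℕ → Der := (ndA (nat_lit 248) (ndA (nat_lit 244) (ndA (nat_lit 242) (ndA (nat_lit 241) (lfA (⟨2, 0, 0, [], [⟨0, [], 474, 2, [5, 11, 4, 11]⟩, ⟨0, [175], 260, 1, [6, 6, 5, 8, 12, 4, 12, 6, 12, 5, 6]⟩], 0⟩ : Der)) (lfA (⟨2, 0, 0, [], [⟨0, [], 260, 1, [7, 5, 7]⟩, ⟨0, [270, 479, 265, 478, 263], 469, 0, [1, 2, 5, 4, 3, 2, 9, 12]⟩], 2⟩ : Der))) (ndA (nat_lit 243) (lfA (⟨2, 0, 0, [], [⟨0, [], 260, 1, [7, 5, 6]⟩, ⟨0, [478, 264, 262, 478, 262], 469, 0, [1, 2, 8, 12, 3, 2, 4,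 3, 4, 3, 2]⟩], 2⟩ : Der)) (lfA (⟨2, 0, 0, [], [⟨0, [], 260, 1, [6, 12, 7, 7]⟩, ⟨0, [262, 264, 478, 265, 262], 268, 0, [2, 3, 8, 12, 2, 3, 4, 5]⟩], 2⟩ : Der)))) (ndA (nat_lit 246) (ndA (nat_lit 245) (lfA (⟨2, 0, 0, [], [⟨0, [], 260, 1, [7, 8, 12, 5, 7]⟩, ⟨0, [265, 478, 263, 265], 481, 0, [1, 5, 8, 12, 2, 4, 12, 2, 4]⟩], 2⟩ : Der)) (lfA (⟨2, 0, 0, [], [⟨0, [], 483, 2, [4, 11]⟩, ⟨0, [], 272, 1, [4, 7, 8, 12, 6, 5, 12, 4, 7, 9]⟩], 0⟩ : Der))) (ndA (nat_lit 247) (lfA (⟨2, 0, 0, [], [⟨0, [], 485, 2, [11]⟩, ⟨0, [], 173, 1, [1, 3, 7, 5, 7, 5]⟩], 0⟩ : Der)) (lfA (⟨2, 0, 0, [], [⟨0, [], 487, 2, [4, 11]⟩, ⟨0, [191, 175], 272, 1, [3, 4, 5, 6, 12, 4, 5, 7, 8, 12, 5]⟩], 0⟩ : Der))))) (ndA (nat_lit 252) (ndA (nat_lit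 250) (ndA (nat_lit 249) (lfA (⟨2, 0, 0, [], [⟨0, [], 489, 2, [5, 4, 11]⟩, ⟨0, [178, 191], 173, 1, [8, 6, 5, 12, 3, 6, 12, 4, 5, 4]⟩], 0⟩ : Der)) (lfA (⟨2, 0, 0, [], [⟨0, [], 492, 2, [2, 12, 2]⟩, ⟨0, [127], 187, 0, [4, 12, 5, 6, 5, 7, 12, 4, 5, 7, 12]⟩], 1⟩ : Der))) (ndA (nat_lit 251) (lfA (⟨2, 0, 0, [], [⟨0, [], 498, 2, [5, 4, 11]⟩, ⟨0, [183], 272, 1, [7, 5, 12, 4, 6, 5, 6, 12, 4, 3, 7]⟩], 0⟩ : Der)) (lfA (⟨0, 0, 0, [], [], 1⟩ : Der)))) (ndA (nat_lit 254) (ndA (nat_lit 253) (lfA (⟨2, 0, 0, [], [⟨0, [], 503, 1, [4, 8, 7, 5, 4, 7]⟩, ⟨0, [264, 263], 502, 0, []⟩], 1⟩ : Der)) (lfA (⟨2, 0, 0, [], [⟨0, [], 503, 1, [1, 12, 4, 12, 6, 5, 4, 3, 8]⟩, ⟨0, [270, 264, 478, 262], 502, 0, []⟩], 1⟩ : Der))) (ndA (nat_lit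 255) (lfA (⟨2, 0, 0, [], [⟨0, [], 503, 1, [4, 5, 4, 3, 7, 12, 5, 12, 7, 8]⟩, ⟨0, [479, 264, 478, 263], 502, 0, []⟩], 1⟩ : Der)) (lfA (⟨2, 0, 0, [], [⟨0, [], 503, 1, []⟩, ⟨0, [271, 265], 469, 0, [2, 9, 12, 2, 1, 4, 12, 2, 3, 5]⟩], 2⟩ : Der))))))
noncomputable def DT16 : ℕ → Der := (ndA (nat_lit 264) (ndA (nat_lit 260) (ndA (nat_lit 258) (ndA (nat_lit 257) (lfA (⟨2, 0, 0, [], [⟨0, [], 503, 1, [7, 5, 7]⟩, ⟨0, [270, 479, 265, 478, 263], 469, 0, [1, 5, 4, 3, 2, 9, 12, 2]⟩], 2⟩ : Der)) (lfA (⟨2, 0, 0, [], [⟨0, [], 503, 1, [6, 12, 6]⟩, ⟨0, [265, 478, 478, 478, 263], 469, 0, [2, 12, 3, 2, 5, 12, 2]⟩], 2⟩ : Der))) (ndA (nat_lit 259) (lfA (⟨2, 0, 0, [], [⟨0, [], 510, 1, [4, 11]⟩, ⟨0, [450], 490, 2, [5, 4, 3, 2,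 1, 9, 12, 4]⟩], 0⟩ : Der)) (lfA (⟨2, 0, 0, [], [⟨0, [], 512, 1, [4, 11]⟩, ⟨0, [453], 490, 2, [3, 12, 2, 1, 3, 2]⟩], 0⟩ : Der)))) (ndA (nat_lit 262) (ndA (nat_lit 261) (lfA (⟨2, 0, 0, [], [⟨0, [], 514, 1, [11, 4, 11]⟩, ⟨0, [453], 500, 2, [1, 2, 3, 5, 4, 3, 2, 4, 3, 9, 12]⟩], 0⟩ : Der)) (lfA (⟨2, 0, 0, [], [⟨0, [], 516, 1, [4, 8, 12, 7, 5, 7]⟩, ⟨0, [275, 279], 467, 0, [1, 4, 5, 12, 2, 1, 4]⟩], 2⟩ : Der))) (ndA (nat_lit 263) (lfA (⟨2, 0, 0, [], [⟨0, [], 521, 0, [4, 6, 5, 12, 7]⟩, ⟨0, [507, 509], 522, 1, [12, 3, 4, 12, 10]⟩], 2⟩ : Der)) (lfA (⟨2, 0, 0, [], [⟨0, [], 520, 1, [12, 4, 6, 5, 8, 7]⟩, ⟨0, [279, 274], 495, 0, [3, 2, 1, 4, 3, 2, 8, 12, 2]⟩], 2⟩ : Der))))) (ndA (nat_lit 268) (ndA (nat_lit 266) (ndA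 (nat_lit 265) (lfA (⟨2, 0, 0, [], [⟨0, [], 527, 2, [11, 4, 11]⟩, ⟨0, [504, 507], 518, 1, [7, 7, 12, 3, 6, 5, 9, 7, 12]⟩], 0⟩ : Der)) (lfA (⟨0, 0, 0, [], [], 1⟩ : Der))) (ndA (nat_lit 267) (lfA (⟨2, 0, 0, [], [⟨0, [], 531, 1, [5, 12, 6, 5, 8, 12, 5]⟩, ⟨0, [262, 271, 478, 271, 264], 530, 0, []⟩], 1⟩ : Der)) (lfA (⟨2, 0, 0, [], [⟨0, [], 531, 1, [5, 7, 12, 5, 6, 12, 6, 5, 8]⟩, ⟨0, [262, 479, 262, 265, 478], 530, 0, []⟩], 1⟩ : Der)))) (ndA (nat_lit 270) (ndA (nat_lit 269) (lfA (⟨2, 0, 0, [], [⟨0, [], 531, 1, [6, 5, 6]⟩, ⟨0, [262, 478, 265, 479, 270, 262], 469, 0, [1, 9, 12, 2, 1, 12, 2, 1, 3, 2]⟩], 2⟩ : Der)) (lfA (⟨2, 0, 0, [], [⟨0, [], 531, 1, [6, 5, 9, 7]⟩, ⟨0, [264, 262], 481, 0, [1, 9, 12, 2, 5]⟩], 2⟩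 : Der))) (ndA (nat_lit 271) (lfA (⟨2, 0, 0, [], [⟨0, [], 536, 1, [11]⟩, ⟨0, [453], 490, 2, [2, 1, 3, 2, 5, 12, 5]⟩], 0⟩ : Der)) (lfA (⟨2, 0, 0, [], [⟨0, [], 536, 1, [4, 11]⟩, ⟨0, [453, 451], 492, 2, [2, 3, 4, 12, 2, 12, 5]⟩], 0⟩ : Der))))))
noncomputable def DT17 : ℕ → Der := (ndA (nat_lit 280) (ndA (nat_lit 276) (ndA (nat_lit 274) (ndA (nat_lit 273) (lfA (⟨2, 0, 0, [], [⟨0, [], 536, 1, [11, 4, 11]⟩, ⟨0, [], 525, 2, [2, 1, 4, 9, 12, 2, 5, 4, 12, 3]⟩], 0⟩ : Der)) (lfA (⟨2, 0, 0, [], [⟨0, [], 538, 1, [5, 4, 11]⟩, ⟨0, [453], 490, 2, [1, 2, 3, 2, 5, 12, 5, 12]⟩], 0⟩ : Der))) (ndA (nat_lit 275) (lfA (⟨2, 0, 0, [], [⟨0, [], 542, 1, [9, 7, 12, 7]⟩, ⟨0, [134, 127, 121], 345, 0, [5, 9, 12, 2, 1, 3, 5]⟩], 2⟩ : Der))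 (lfA (⟨2, 0, 0, [], [⟨0, [], 542, 1, [12, 6, 12, 6]⟩, ⟨0, [135, 135], 207, 0, [4, 12, 2, 5, 12, 2, 3, 12, 2]⟩], 2⟩ : Der)))) (ndA (nat_lit 278) (ndA (nat_lit 277) (lfA (⟨2, 0, 0, [], [⟨0, [], 542, 1, [9, 7, 12, 6, 5, 7]⟩, ⟨0, [129, 125, 134], 385, 0, [2, 1, 4, 8, 12, 2, 3, 4, 12, 3]⟩], 2⟩ : Der)) (lfA (⟨2, 0, 0, [], [⟨0, [], 542, 1, [3, 6, 5, 4, 7, 5, 6]⟩, ⟨0, [119], 347, 0, [1, 3, 2, 4, 3, 4, 3, 2, 9, 12, 3]⟩], 2⟩ : Der))) (ndA (nat_lit 279) (lfA (⟨2, 0, 0, [], [⟨0, [], 542, 1, [12, 5, 12, 4, 6, 5, 6]⟩, ⟨0, [135, 124, 127], 345, 0, [4, 9, 12, 2, 1, 5, 12]⟩], 2⟩ : Der)) (lfA (⟨2, 0, 0, [], [⟨0, [], 542, 1, [5, 6, 5, 12, 4, 7, 7, 5, 7]⟩, ⟨0, [135, 127, 121], 303, 0, [1, 3, 2, 5, 12, 2, 3]⟩], 2⟩ : Der)))))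 (ndA (nat_lit 284) (ndA (nat_lit 282) (ndA (nat_lit 281) (lfA (⟨2, 0, 0, [], [⟨0, [], 542, 1, [4, 6, 5, 6, 12, 4, 7, 5, 7]⟩, ⟨0, [134, 124], 327, 0, [4, 9, 12, 3, 2, 12, 2, 4, 3]⟩], 2⟩ : Der)) (lfA (⟨2, 0, 0, [], [⟨0, [], 547, 0, [12, 7, 5, 7]⟩, ⟨0, [], 554, 1, [9, 10, 12, 5, 4, 11]⟩], 2⟩ : Der))) (ndA (nat_lit 283) (lfA (⟨2, 0, 0, [], [⟨0, [], 547, 0, [12, 4, 7, 7, 5, 7]⟩, ⟨0, [534, 533], 548, 1, [4, 5, 4, 8, 11, 12, 4, 11]⟩], 2⟩ : Der)) (lfA (⟨2, 0, 0, [], [⟨0, [], 547, 0, [7, 12, 6, 5, 12, 7]⟩, ⟨0, [534, 533], 556, 1, [3, 4, 9, 11, 4, 11, 4, 3]⟩], 2⟩ : Der)))) (ndA (nat_lit 286) (ndA (nat_lit 285) (lfA (⟨2, 0, 0, [], [⟨0, [], 547, 0, [5, 4, 8, 6, 5, 12, 7]⟩, ⟨0, [533], 552, 1, [5, 4, 8, 10, 4, 11]⟩],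 2⟩ : Der)) (lfA (⟨2, 0, 0, [], [⟨0, [], 559, 2, [11, 4, 11]⟩, ⟨0, [], 540, 1, [1, 6, 6, 5, 4, 8, 6, 5, 12, 6]⟩], 0⟩ : Der))) (ndA (nat_lit 287) (lfA (⟨2, 0, 0, [], [⟨0, [], 561, 2, [11, 4, 11]⟩, ⟨0, [], 540, 1, [1, 6, 5, 4, 6, 6, 5, 7, 8, 12, 7, 12]⟩], 0⟩ : Der)) (lfA (⟨2, 0, 0, [], [⟨0, [], 563, 2, [12, 4, 12, 3, 2]⟩, ⟨0, [285], 273, 0, [1, 12, 4, 12, 6, 6, 5, 7, 9, 12, 7]⟩], 1⟩ : Der))))))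
noncomputable def DT18 : ℕ → Der := (ndA (nat_lit 296) (ndA (nat_lit 292) (ndA (nat_lit 290) (ndA (nat_lit 289) (lfA (⟨2, 0, 0, [], [⟨0, [], 563, 2, [2, 3, 4, 12, 2]⟩, ⟨0, [275, 285, 275], 519, 0, [4, 3, 8, 6, 12, 6, 12, 5]⟩], 1⟩ : Der)) (lfA (⟨2, 0, 0, [], [⟨0, [], 569, 2, [5, 4, 3, 2]⟩, ⟨0, [285], 521, 0, [7, 7, 5, 4, 7, 8, 12, 5, 7]⟩], 1⟩ : Der))) (ndA (nat_lit 291) (lfA (⟨2, 0, 0, [], [⟨0, [], 568, 0, [2, 3, 12, 2]⟩, ⟨0, [], 441, 2, [4, 9, 10, 4, 11, 4, 11]⟩], 1⟩ : Der)) (lfA (⟨2, 0, 0, [], [⟨0, [], 574, 2, [5, 4, 11]⟩, ⟨0, [191], 186, 1, [1, 5, 8, 12, 7, 5, 4, 12, 5, 7]⟩], 0⟩ : Der)))) (ndA (nat_lit 294) (ndA (nat_lit 293) (lfA (⟨2, 0, 0, [], [⟨0, [], 576, 2, [5, 11, 4, 11]⟩, ⟨0, [508, 506], 516,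 1, [4, 5, 6, 8, 12, 7, 5, 7, 12, 5]⟩], 0⟩ : Der)) (lfA (⟨2, 0, 0, [], [⟨0, [], 578, 2, [11, 4, 11]⟩, ⟨0, [506], 518, 1, [3, 4, 3, 5, 4, 7, 8]⟩], 0⟩ : Der))) (ndA (nat_lit 295) (lfA (⟨2, 0, 0, [], [⟨0, [], 582, 2, [4, 12, 2]⟩, ⟨0, [134, 124], 171, 0, [1, 12, 6, 5, 12, 4, 6, 5, 12, 6]⟩], 1⟩ : Der)) (lfA (⟨2, 0, 0, [], [⟨0, [], 584, 2, [2, 1, 12, 2]⟩, ⟨0, [285], 541, 0, [3, 7, 5, 4, 6, 5, 8, 7, 12, 6, 8]⟩], 1⟩ : Der))))) (ndA (nat_lit 300) (ndA (nat_lit 298) (ndA (nat_lit 297) (lfA (⟨2, 0, 0, [], [⟨0, [], 586, 2, [1, 4, 3, 2]⟩, ⟨0, [284, 277], 545, 0, [8, 7, 5, 4, 12, 5, 7, 12, 5, 6]⟩], 1⟩ : Der)) (lfA (⟨0, 0, 0, [], [], 1⟩ : Der))) (ndA (nat_lit 299) (lfA (⟨2, 0, 0, [], [⟨0, [], 595, 1, [4, 5, 9, 6, 5, 4]⟩,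 ⟨0, [118, 122, 125], 594, 0, []⟩], 1⟩ : Der)) (lfA (⟨2, 0, 0, [], [⟨0, [], 595, 1, [7]⟩, ⟨0, [], 242, 0, [2]⟩], 2⟩ : Der)))) (ndA (nat_lit 302) (ndA (nat_lit 301) (lfA (⟨2, 0, 0, [], [⟨0, [], 595, 1, [6, 6]⟩, ⟨0, [], 257, 0, [2, 1, 3, 5, 8]⟩], 2⟩ : Der)) (lfA (⟨2, 0, 0, [], [⟨0, [], 595, 1, [5, 9, 7]⟩, ⟨0, [124, 134, 127], 459, 0, [1, 2, 3, 4, 9, 12, 2, 5, 12]⟩], 2⟩ : Der))) (ndA (nat_lit 303) (lfA (⟨2, 0, 0, [], [⟨0, [], 595, 1, [5, 8, 7]⟩, ⟨0, [124, 127, 124], 385, 0, [2, 5, 4]⟩], 2⟩ : Der)) (lfA (⟨2, 0, 0, [], [⟨0, [], 595, 1, [9, 12, 4, 5, 7]⟩, ⟨0, [134, 125, 123], 457, 0, [5, 8, 12, 5, 12, 2, 12, 4]⟩], 2⟩ : Der))))))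
noncomputable def DT19 : ℕ → Der := (ndA (nat_lit 312) (ndA (nat_lit 308) (ndA (nat_lit 306) (ndA (nat_lit 305) (lfA (⟨2, 0, 0, [], [⟨0, [], 595, 1, [7, 12, 6, 5, 7]⟩, ⟨0, [135, 127, 119], 471, 0, [2, 1, 12, 2, 1, 12, 4]⟩], 2⟩ : Der)) (lfA (⟨2, 0, 0, [1, 12, 4, 6, 5, 4, 3, 8, 7, 5, 10, 4, 5], [⟨0, [], 595, 1, [4, 5, 12, 7, 7]⟩, ⟨0, [125, 127, 134, 119], 493, 0, [2, 1, 4, 8, 12, 2, 5, 12, 4, 5]⟩, ⟨0, [453], 607, 2, [4, 5, 4, 9, 11, 4, 5]⟩], 1⟩ : Der))) (ndA (nat_lit 307) (lfA (⟨2, 0, 0, [], [⟨0, [], 598, 1, [5, 4, 11]⟩, ⟨0, [248, 245], 528, 2, [2, 1, 5, 12, 2, 1, 3, 2, 5]⟩], 0⟩ : Der)) (lfA (⟨2, 0, 0, [], [⟨0, [], 600, 1, [4, 11]⟩, ⟨0, [255, 247], 283, 2, [1, 2, 4, 8, 12, 4, 12, 3, 2, 12]⟩], 0⟩ : Der))))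 (ndA (nat_lit 310) (ndA (nat_lit 309) (lfA (⟨2, 0, 0, [], [⟨0, [], 602, 1, [4, 11]⟩, ⟨0, [451], 525, 2, [1, 2, 12, 2, 3, 2, 5, 4, 3]⟩], 0⟩ : Der)) (lfA (⟨2, 0, 0, [], [⟨0, [], 604, 1, [11, 4, 11]⟩, ⟨0, [355], 586, 2, [3, 2, 8, 12, 2, 12, 2, 12, 3, 4]⟩], 0⟩ : Der))) (ndA (nat_lit 311) (lfA (⟨2, 0, 0, [], [⟨0, [], 604, 1, [5, 11, 4, 11]⟩, ⟨0, [355], 425, 2, [1, 9, 12, 2, 3, 4, 12]⟩], 0⟩ : Der)) (lfA (⟨2, 0, 0, [], [⟨0, [], 612, 1, [3, 4, 6, 6, 12, 7, 5, 7]⟩, ⟨0, [277], 571, 0, [4, 8, 12, 2, 1, 5, 4, 3, 2]⟩], 2⟩ : Der))))) (ndA (nat_lit 316) (ndA (nat_lit 314) (ndA (nat_lit 313) (lfA (⟨2, 0, 0, [], [⟨0, [], 620, 1, [5, 7, 12, 4, 5, 7, 12, 7]⟩, ⟨0, [418, 418, 405], 410, 0, [9, 12, 3, 2, 4, 12, 2, 3]⟩], 2⟩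 : Der)) (lfA (⟨0, 0, 0, [], [], 2⟩ : Der))) (ndA (nat_lit 315) (lfA (⟨2, 0, 0, [], [⟨0, [], 627, 2, [3, 2]⟩, ⟨0, [120, 122, 135], 626, 0, []⟩], 2⟩ : Der)) (lfA (⟨2, 0, 0, [], [⟨0, [], 627, 2, [4, 3, 2]⟩, ⟨0, [129, 135], 594, 0, [3, 7, 12, 4, 5, 7]⟩], 1⟩ : Der)))) (ndA (nat_lit 318) (ndA (nat_lit 317) (lfA (⟨2, 0, 0, [], [⟨0, [], 630, 2, [4, 11]⟩, ⟨0, [611, 597], 612, 1, [8, 12, 5, 7, 12, 5, 7, 7, 12]⟩], 0⟩ : Der)) (lfA (⟨2, 0, 0, [], [⟨0, [], 632, 2, [5, 12, 2]⟩, ⟨0, [278, 284], 613, 0, [12, 4, 7, 9, 12, 6]⟩], 1⟩ : Der))) (ndA (nat_lit 319) (lfA (⟨2, 0, 0, [], [⟨0, [], 634, 2, [5, 11, 4, 11]⟩, ⟨0, [], 616, 1, [4, 3, 7, 5, 7, 9, 12, 5, 12, 4]⟩], 0⟩ : Der)) (lfA (⟨0, 0, 0, [], [], 2⟩ : Der))))))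
noncomputable def DT20 : ℕ → Der := (ndA (nat_lit 328) (ndA (nat_lit 324) (ndA (nat_lit 322) (ndA (nat_lit 321) (lfA (⟨2, 0, 0, [], [⟨0, [], 639, 2, [1, 2, 3, 5, 4, 3, 2, 1, 8]⟩, ⟨0, [124, 123], 638, 0, []⟩], 2⟩ : Der)) (lfA (⟨2, 0, 0, [], [⟨0, [], 639, 2, [1, 2]⟩, ⟨0, [134], 172, 0, [1, 7, 5, 7, 8, 12, 4, 6, 5]⟩], 1⟩ : Der))) (ndA (nat_lit 323) (lfA (⟨2, 0, 0, [], [⟨0, [], 639, 2, [1, 3, 2]⟩, ⟨0, [], 172, 0, [3, 5, 8, 12, 6]⟩], 1⟩ : Der)) (lfA (⟨2, 0, 0, [], [⟨0, [], 639, 2, [1, 4, 5, 12, 2]⟩, ⟨0, [127, 135], 594, 0, [5, 4, 8, 6, 5, 12, 3, 4, 6, 5, 7]⟩], 1⟩ : Der)))) (ndA (nat_lit 326) (ndA (nat_lit 325) (lfA (⟨2, 0, 0, [], [⟨0, [], 642, 2, [11, 4, 11]⟩, ⟨0, [191, 175], 272, 1, [4, 5, 8, 7, 5, 12, 4,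 7, 12, 5, 6, 9]⟩], 0⟩ : Der)) (lfA (⟨2, 0, 0, [], [⟨0, [], 642, 2, [5, 11, 4, 11]⟩, ⟨0, [178], 272, 1, [4, 5, 6, 5, 8, 7, 12, 4, 6]⟩], 0⟩ : Der))) (ndA (nat_lit 327) (lfA (⟨2, 0, 0, [], [⟨0, [], 644, 2, [5, 11, 4, 11]⟩, ⟨0, [175], 272, 1, [1, 4, 9, 7, 12, 5, 4, 7, 5, 4]⟩], 0⟩ : Der)) (lfA (⟨2, 0, 0, [], [⟨0, [], 646, 2, [5, 11, 4, 11]⟩, ⟨0, [611], 614, 1, [1, 3, 4, 6, 5, 9, 7, 12, 4, 12, 5]⟩], 0⟩ : Der))))) (ndA (nat_lit 332) (ndA (nat_lit 330) (ndA (nat_lit 329) (lfA (⟨2, 0, 0, [], [⟨0, [], 650, 2, [2, 12, 3, 2]⟩, ⟨0, [279, 274], 580, 0, [1, 5, 4, 9, 7, 5, 12, 4, 7, 5, 12, 4]⟩], 1⟩ : Der)) (lfA (⟨2, 0, 0, [], [⟨0, [], 654, 2, [2, 3, 4, 12, 2]⟩, ⟨0, [275, 278, 275], 613, 0, [9, 12, 4, 5, 4, 7, 12, 5, 7,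 8]⟩], 1⟩ : Der))) (ndA (nat_lit 331) (lfA (⟨2, 0, 0, [], [⟨0, [], 656, 2, [11]⟩, ⟨0, [435, 445], 431, 1, [7, 5, 4, 12, 7, 5, 4, 7, 5, 7]⟩], 0⟩ : Der)) (lfA (⟨0, 0, 0, [], [], 2⟩ : Der)))) (ndA (nat_lit 334) (ndA (nat_lit 333) (lfA (⟨2, 0, 0, [], [⟨0, [], 663, 2, [4, 12, 2, 12, 4, 3]⟩, ⟨0, [120, 122, 135], 662, 0, []⟩], 2⟩ : Der)) (lfA (⟨2, 0, 0, [], [⟨0, [], 663, 2, [12, 2]⟩, ⟨0, [134, 127, 124], 594, 0, [1, 4, 6, 5, 9, 6, 12, 4, 7, 5]⟩], 1⟩ : Der))) (ndA (nat_lit 335) (lfA (⟨2, 0, 0, [], [⟨0, [], 663, 2, [2, 1, 3, 2]⟩, ⟨0, [134, 127], 187, 0, [9, 12, 6, 5, 12, 4, 7, 5, 6, 8]⟩], 1⟩ : Der)) (lfA (⟨2, 0, 0, [], [⟨0, [], 663, 2, [1, 5, 12, 2]⟩, ⟨0, [129, 135], 594, 0, [3, 7, 12, 4, 5, 4, 6, 6, 5]⟩], 1⟩ :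 Der))))))
noncomputable def DT21 : ℕ → Der := (ndA (nat_lit 344) (ndA (nat_lit 340) (ndA (nat_lit 338) (ndA (nat_lit 337) (lfA (⟨2, 0, 0, [12, 2], [⟨0, [], 666, 2, [5, 8, 12, 11, 12]⟩, ⟨0, [610, 596], 667, 1, []⟩], 2⟩ : Der)) (lfA (⟨2, 0, 0, [], [⟨0, [], 668, 2, [5, 4, 11]⟩, ⟨0, [178], 272, 1, [5, 6, 12, 6, 5, 4, 6, 12, 5, 6, 9]⟩], 0⟩ : Der))) (ndA (nat_lit 339) (lfA (⟨2, 0, 0, [], [⟨0, [], 670, 2, [4, 11]⟩, ⟨0, [611, 597], 620, 1, [1, 5, 12, 4, 7, 5, 4, 9, 7, 12, 5]⟩], 0⟩ : Der)) (lfA (⟨2, 0, 0, [], [⟨0, [], 670, 2, [11, 4, 11]⟩, ⟨0, [596], 618, 1, [3, 5, 6, 5, 4, 7, 12, 7, 5, 7, 9]⟩], 0⟩ : Der)))) (ndA (nat_lit 342) (ndA (nat_lit 341) (lfA (⟨2, 0, 0, [5, 12, 4, 1, 2, 11, 2, 12, 8, 1, 2, 3, 1], [⟨0, [],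 670, 2, [5, 11, 4, 11]⟩, ⟨0, [596], 620, 1, [4, 7, 5, 4, 12, 6, 5, 4, 8, 12, 6]⟩, ⟨0, [405], 677, 0, [2, 1, 8, 12, 2, 1, 3]⟩], 2⟩ : Der)) (lfA (⟨2, 0, 0, [], [⟨0, [], 674, 2, [2, 1, 12, 2]⟩, ⟨0, [274, 278], 613, 0, [4, 9, 6, 12, 7, 5, 4, 12, 6, 6]⟩], 1⟩ : Der))) (ndA (nat_lit 343) (lfA (⟨2, 0, 0, [], [⟨0, [], 678, 2, [12, 2, 12, 2, 1, 3, 2]⟩, ⟨0, [274, 279, 274], 613, 0, [1, 5, 7, 12, 5, 7]⟩], 1⟩ : Der)) (lfA (⟨0, 0, 0, [], [], 1⟩ : Der))))) (ndA (nat_lit 348) (ndA (nat_lit 346) (ndA (nat_lit 345) (lfA (⟨2, 0, 0, [], [⟨0, [], 687, 1, [3, 5, 9, 12, 6, 5, 4, 7, 5, 8]⟩, ⟨0, [228, 236, 228, 226], 686, 0, []⟩], 1⟩ : Der)) (lfA (⟨2, 0, 0, [], [⟨0, [], 687, 1, []⟩, ⟨0, [237, 227, 224], 399, 0, [1, 2, 1, 9, 12,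 2, 3, 4, 12, 4]⟩], 2⟩ : Der))) (ndA (nat_lit 347) (lfA (⟨2, 0, 0, [], [⟨0, [], 687, 1, [12, 5, 6]⟩, ⟨0, [236, 235, 227, 224], 377, 0, [1, 9, 12, 4, 3, 2, 12, 2, 12]⟩], 2⟩ : Der)) (lfA (⟨2, 0, 0, [], [⟨0, [], 687, 1, [4, 6, 6, 5, 7]⟩, ⟨0, [235, 227], 240, 0, [2, 1, 12, 4, 5]⟩], 2⟩ : Der)))) (ndA (nat_lit 350) (ndA (nat_lit 349) (lfA (⟨2, 0, 0, [], [⟨0, [], 687, 1, [5, 4, 7, 12, 7]⟩, ⟨0, [231, 228], 307, 0, [3, 2, 1, 8, 12, 2, 1, 5, 4, 12, 4]⟩], 2⟩ : Der)) (lfA (⟨2, 0, 0, [], [⟨0, [], 687, 1, [7, 5, 7, 12, 7]⟩, ⟨0, [235, 224], 448, 0, [1, 5, 9, 12, 4, 12, 2, 1]⟩], 2⟩ : Der))) (ndA (nat_lit 351) (lfA (⟨2, 0, 0, [], [⟨0, [], 687, 1, [5, 7, 5, 12, 7, 7]⟩, ⟨0, [235, 225, 229], 477, 0, [9, 12, 3, 2, 1, 12, 5]⟩],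 2⟩ : Der)) (lfA (⟨2, 0, 0, [], [⟨0, [], 687, 1, [12, 3, 4, 6, 5, 8, 7]⟩, ⟨0, [237, 225, 228, 225], 377, 0, [3, 12, 4, 12, 2, 1, 12]⟩], 2⟩ : Der))))))
noncomputable def DT22 : ℕ → Der := (ndA (nat_lit 360) (ndA (nat_lit 356) (ndA (nat_lit 354) (ndA (nat_lit 353) (lfA (⟨2, 0, 0, [1, 5, 4, 7, 12, 7, 8, 12, 5, 4, 10, 4, 10], [⟨0, [], 687, 1, [7, 5, 9, 6, 12, 4, 5, 7]⟩, ⟨0, [237, 231, 224], 307, 0, [5, 4, 9, 12, 2, 1, 4]⟩, ⟨0, [304, 293], 697, 2, [3, 5, 4, 8, 11, 4, 11]⟩], 1⟩ : Der)) (lfA (⟨2, 0, 0, [], [⟨0, [], 690, 1, [5, 11, 4, 11]⟩, ⟨0, [355], 382, 2, [1, 9, 12, 4, 12, 2, 3, 12, 5, 12]⟩], 0⟩ : Der))) (ndA (nat_lit 355) (lfA (⟨2, 0, 0, [], [⟨0, [], 706, 1, [8, 7, 5, 7]⟩, ⟨0, [129, 124, 123, 121], 583, 0,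 [3, 4, 3, 2, 1, 4, 9, 12, 2, 5]⟩], 2⟩ : Der)) (lfA (⟨2, 0, 0, [], [⟨0, [], 706, 1, [12, 4, 12, 7]⟩, ⟨0, [124, 127], 385, 0, [1, 3, 4, 3, 2, 5, 4, 3]⟩], 2⟩ : Der)))) (ndA (nat_lit 358) (ndA (nat_lit 357) (lfA (⟨2, 0, 0, [], [⟨0, [], 706, 1, [4, 6, 12, 6]⟩, ⟨0, [129, 125, 127, 119], 662, 0, [1, 2, 3, 4, 8, 12, 5, 12, 2, 3, 4]⟩], 2⟩ : Der)) (lfA (⟨2, 0, 0, [], [⟨0, [], 706, 1, [12, 4, 12, 6]⟩, ⟨0, [125, 134, 125], 379, 0, [1, 8, 12, 2, 1, 3, 5, 4, 3]⟩], 2⟩ : Der))) (ndA (nat_lit 359) (lfA (⟨2, 0, 0, [], [⟨0, [], 706, 1, [12, 4, 12, 6, 6]⟩, ⟨0, [124, 127, 124], 371, 0, [5, 4, 9, 12, 2, 1, 4]⟩], 2⟩ : Der)) (lfA (⟨2, 0, 0, [], [⟨0, [], 706, 1, [12, 4, 5, 6, 5, 6]⟩, ⟨0, [134, 124, 127], 303, 0, [1, 9, 12, 4,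 12, 2, 12, 5, 12]⟩], 2⟩ : Der))))) (ndA (nat_lit 364) (ndA (nat_lit 362) (ndA (nat_lit 361) (lfA (⟨2, 0, 0, [], [⟨0, [], 706, 1, [5, 7, 9, 12, 5, 6]⟩, ⟨0, [134, 124], 303, 0, [4, 8, 12, 2, 3, 12, 2, 12]⟩], 2⟩ : Der)) (lfA (⟨2, 0, 0, [], [⟨0, [], 706, 1, [6, 5, 7, 12, 4, 5, 7]⟩, ⟨0, [135, 121], 383, 0, [1, 3, 4, 9, 12, 2, 3, 5, 12]⟩], 2⟩ : Der))) (ndA (nat_lit 363) (lfA (⟨2, 0, 0, [], [⟨0, [], 706, 1, [3, 4, 7, 12, 7, 5, 7]⟩, ⟨0, [134, 127, 121], 662, 0, [12, 3, 2, 1]⟩], 2⟩ : Der)) (lfA (⟨2, 0, 0, [], [⟨0, [], 706, 1, [5, 9, 7, 12, 4, 5, 6]⟩, ⟨0, [134, 127, 119], 303, 0, [3, 2, 9, 12, 5, 12, 2, 5]⟩], 2⟩ : Der)))) (ndA (nat_lit 366) (ndA (nat_lit 365) (lfA (⟨2, 0, 0, [], [⟨0, [], 706, 1, [5, 6, 12, 3, 4,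 7, 5, 7]⟩, ⟨0, [127, 134, 125], 371, 0, [1, 2, 9, 12, 2, 5, 12, 2, 4, 3, 2]⟩], 2⟩ : Der)) (lfA (⟨2, 0, 0, [], [⟨0, [], 706, 1, [5, 12, 6, 5, 4, 7, 5, 6]⟩, ⟨0, [124, 134, 123], 497, 0, [4, 8, 12, 2, 12, 3, 5, 12]⟩], 2⟩ : Der))) (ndA (nat_lit 367) (lfA (⟨2, 0, 0, [], [⟨0, [], 706, 1, [5, 4, 12, 6, 5, 6, 12, 6]⟩, ⟨0, [124, 135], 383, 0, [8, 12, 4, 3, 2, 5, 12, 2]⟩], 2⟩ : Der)) (lfA (⟨2, 0, 0, [], [⟨0, [], 706, 1, [7, 7, 12, 5, 4, 6, 5, 8, 7]⟩, ⟨0, [119, 124, 123], 371, 0, [3, 2, 5, 8, 12, 2, 3, 4]⟩], 2⟩ : Der))))))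
noncomputable def DT23 : ℕ → Der := (ndA (nat_lit 376) (ndA (nat_lit 372) (ndA (nat_lit 370) (ndA (nat_lit 369) (lfA (⟨2, 0, 0, [], [⟨0, [], 706, 1, [5, 6, 5, 4, 8, 6, 5, 12, 7]⟩, ⟨0, [129, 124, 135], 349, 0, [8, 12, 5, 12, 2, 4, 3]⟩], 2⟩ : Der)) (lfA (⟨2, 0, 0, [], [⟨0, [], 706, 1, [12, 3, 5, 6, 5, 4, 7, 5, 6]⟩, ⟨0, [124, 127, 119], 626, 0, [3, 2, 9, 12, 3, 2, 1, 12]⟩], 2⟩ : Der))) (ndA (nat_lit 371) (lfA (⟨0, 0, 0, [], [], 0⟩ : Der)) (lfA (⟨2, 0, 0, [], [⟨0, [], 741, 0, [1, 6, 5, 12, 4, 6, 5, 12, 6, 5, 12]⟩, ⟨0, [688], 740, 1, []⟩], 0⟩ : Der)))) (ndA (nat_lit 374) (ndA (nat_lit 373) (lfA (⟨2, 0, 0, [], [⟨0, [], 741, 0, [3, 4, 7, 5, 7, 12, 3, 4, 6, 5]⟩, ⟨0, [704], 740, 1, []⟩], 0⟩ : Der)) (lfA (⟨2, 0,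 0, [], [⟨0, [], 741, 0, [5, 4, 6, 5, 7]⟩, ⟨0, [688], 722, 1, [8, 11, 4, 11, 4, 5]⟩], 2⟩ : Der))) (ndA (nat_lit 375) (lfA (⟨2, 0, 0, [], [⟨0, [], 741, 0, [9, 7, 5, 12, 7]⟩, ⟨0, [688], 718, 1, [4, 5, 9, 11, 4, 11]⟩], 2⟩ : Der)) (lfA (⟨2, 0, 0, [], [⟨0, [], 741, 0, [12, 6, 5, 9, 6]⟩, ⟨0, [688], 694, 1, [11, 4, 11]⟩], 2⟩ : Der))))) (ndA (nat_lit 380) (ndA (nat_lit 378) (ndA (nat_lit 377) (lfA (⟨2, 0, 0, [5, 4, 6, 5, 7], [⟨0, [], 746, 0, [1, 2, 4, 12, 4, 12, 2]⟩, ⟨0, [354, 353], 747, 2, []⟩], 0⟩ : Der)) (lfA (⟨2, 0, 0, [], [⟨0, [], 748, 0, [1, 12, 2]⟩, ⟨0, [293, 304, 289, 293], 727, 2, [11, 12, 4, 12, 11]⟩], 1⟩ : Der))) (ndA (nat_lit 379) (lfA (⟨2, 0, 0, [], [⟨0, [], 748, 0, [12, 3, 2]⟩, ⟨0, [289, 293, 304],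 721, 2, [12, 4, 10, 4, 11]⟩], 1⟩ : Der)) (lfA (⟨2, 0, 0, [], [⟨0, [], 748, 0, [4, 12, 2]⟩, ⟨0, [304, 291, 305, 293], 296, 2, [1, 4, 5, 8, 10, 4]⟩], 1⟩ : Der)))) (ndA (nat_lit 382) (ndA (nat_lit 381) (lfA (⟨2, 0, 0, [6, 6, 5, 12, 1, 2, 7, 7, 5, 6, 12, 4, 12, 6, 8, 6], [⟨0, [], 748, 0, [1, 4, 12, 2]⟩, ⟨0, [289, 293, 305, 289], 296, 2, [11, 12, 4]⟩, ⟨0, [157], 759, 1, [4, 7, 7, 5, 6, 12, 4, 12, 7, 9]⟩], 0⟩ : Der)) (lfA (⟨2, 0, 0, [], [⟨0, [], 748, 0, [2, 3, 4, 3, 2]⟩, ⟨0, [305, 293, 304, 293], 623, 2, [9, 11, 4, 5, 11, 4]⟩], 1⟩ : Der))) (ndA (nat_lit 383) (lfA (⟨2, 0, 0, [], [⟨0, [], 750, 0, [12, 2]⟩, ⟨0, [103, 97], 439, 2, [1, 11, 12, 4, 10]⟩], 1⟩ : Der)) (lfA (⟨2, 0, 0, [], [⟨0, [], 750, 0, [1, 12, 2]⟩,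 ⟨0, [105, 99, 97], 219, 2, [11, 12, 5, 4, 10]⟩], 1⟩ : Der))))))
noncomputable def DT24 : ℕ → Der := (ndA (nat_lit 392) (ndA (nat_lit 388) (ndA (nat_lit 386) (ndA (nat_lit 385) (lfA (⟨2, 0, 0, [], [⟨0, [], 751, 2, [1, 4, 12, 2]⟩, ⟨0, [761, 745], 762, 0, [8, 12, 5, 6, 12, 7, 7, 12]⟩], 1⟩ : Der)) (lfA (⟨2, 0, 0, [], [⟨0, [], 750, 0, [3, 2, 1, 12, 2]⟩, ⟨0, [107, 103, 97], 768, 2, [5, 11, 4, 5, 12, 10]⟩], 1⟩ : Der))) (ndA (nat_lit 387) (lfA (⟨2, 0, 0, [], [⟨0, [], 750, 0, [3, 5, 4, 3, 2]⟩, ⟨0, [103, 97, 107, 103], 625, 2, [1, 4, 12, 11]⟩], 1⟩ : Der)) (lfA (⟨2, 0, 0, [], [⟨0, [], 754, 0, [6]⟩, ⟨0, [688], 708, 1, [4, 5, 12, 4, 10]⟩], 2⟩ : Der)))) (ndA (nat_lit 390) (ndA (nat_lit 389) (lfA (⟨2, 0, 0, [], [⟨0,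 [], 754, 0, [9, 7, 5, 7]⟩, ⟨0, [705], 714, 1, [5, 11, 4, 10]⟩], 2⟩ : Der)) (lfA (⟨2, 0, 0, [], [⟨0, [], 754, 0, [5, 7, 12, 6]⟩, ⟨0, [], 728, 1, [5, 9, 10, 4, 5, 10, 12]⟩], 2⟩ : Der))) (ndA (nat_lit 391) (lfA (⟨2, 0, 0, [], [⟨0, [], 754, 0, [8, 7, 5, 12, 7]⟩, ⟨0, [705, 688], 692, 1, [4, 9, 11, 4, 5, 10, 12]⟩], 2⟩ : Der)) (lfA (⟨2, 0, 0, [], [⟨0, [], 754, 0, [3, 4, 9, 7, 5, 7]⟩, ⟨0, [705], 734, 1, [4, 5, 8, 10, 4, 5, 10]⟩], 2⟩ : Der))))) (ndA (nat_lit 396) (ndA (nat_lit 394) (ndA (nat_lit 393) (lfA (⟨2, 0, 0, [], [⟨0, [], 754, 0, [4, 9, 12, 7, 5, 7]⟩, ⟨0, [705], 736, 1, [3, 4, 5, 8, 10, 4, 5, 10]⟩], 2⟩ : Der)) (lfA (⟨2, 0, 0, [], [⟨0, [], 754, 0, [3, 4, 9, 12, 7, 5, 7]⟩, ⟨0, [705], 738, 1, [1, 4, 9, 10,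 4, 10, 4]⟩], 2⟩ : Der))) (ndA (nat_lit 395) (lfA (⟨2, 0, 0, [], [⟨0, [], 755, 1, [9, 12, 5, 12, 6, 5, 7]⟩, ⟨0, [761, 753], 786, 0, [3, 4, 3, 2, 1, 4, 5, 8, 12]⟩], 2⟩ : Der)) (lfA (⟨2, 0, 0, [], [⟨0, [], 754, 0, [12, 6, 12, 6, 5, 9, 7]⟩, ⟨0, [705, 689], 788, 1, [4, 9, 11, 4, 5, 12, 4]⟩], 2⟩ : Der)))) (ndA (nat_lit 398) (ndA (nat_lit 397) (lfA (⟨2, 0, 0, [], [⟨0, [], 754, 0, [4, 7, 5, 6, 8, 12, 7]⟩, ⟨0, [705], 730, 1, [1, 4, 8, 10, 4, 10, 4, 5]⟩], 2⟩ : Der)) (lfA (⟨2, 0, 0, [], [⟨0, [], 757, 1, [12, 7, 5, 6]⟩, ⟨0, [], 778, 0, [1, 12, 2, 1, 3, 2, 5, 12, 5]⟩], 2⟩ : Der))) (ndA (nat_lit 399) (lfA (⟨2, 0, 0, [], [⟨0, [], 757, 1, [4, 12, 6, 12, 6]⟩, ⟨0, [760, 743], 784, 0, [1, 2, 3, 5, 12, 2, 1]⟩], 2⟩ : Der))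 (lfA (⟨2, 0, 0, [], [⟨0, [], 757, 1, [5, 6, 12, 4, 12, 7]⟩, ⟨0, [753, 761, 745, 743], 780, 0, [1, 3, 4, 12, 2, 5, 12]⟩], 2⟩ : Der))))))
noncomputable def DT25 : ℕ → Der := (ndA (nat_lit 408) (ndA (nat_lit 404) (ndA (nat_lit 402) (ndA (nat_lit 401) (lfA (⟨2, 0, 0, [], [⟨0, [], 756, 0, [8, 7, 12, 5, 12, 7]⟩, ⟨0, [705, 688], 702, 1, [8, 10, 4, 5, 10, 4, 5]⟩], 2⟩ : Der)) (lfA (⟨2, 0, 0, [], [⟨0, [], 756, 0, [6, 5, 4, 6, 6, 5, 7]⟩, ⟨0, [705, 689], 712, 1, [1, 4, 11, 4, 11]⟩], 2⟩ : Der))) (ndA (nat_lit 403) (lfA (⟨2, 0, 0, [], [⟨0, [], 756, 0, [7, 7, 5, 7, 12, 4, 5, 7]⟩, ⟨0, [688], 724, 1, [4, 9, 11, 4, 3, 12, 5]⟩], 2⟩ : Der)) (lfA (⟨2, 0, 0, [], [⟨0, [], 756, 0, [4, 6, 5, 12, 4, 6, 5, 6]⟩, ⟨0, [705, 689], 716,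 1, [5, 11, 12, 4, 5, 11]⟩], 2⟩ : Der)))) (ndA (nat_lit 406) (ndA (nat_lit 405) (lfA (⟨2, 0, 0, [], [⟨0, [], 757, 1, [4, 12, 7, 5, 4, 7, 5, 6]⟩, ⟨0, [760], 802, 0, [1, 2, 1, 4, 3, 2, 9, 12, 2, 5]⟩], 2⟩ : Der)) (lfA (⟨2, 0, 0, [], [⟨0, [], 759, 1, [7, 5, 6, 6, 12, 7]⟩, ⟨0, [745, 761, 743], 792, 0, [1, 12, 2, 5, 12, 2, 4, 12]⟩], 2⟩ : Der))) (ndA (nat_lit 407) (lfA (⟨2, 0, 0, [], [⟨0, [], 763, 1, [5, 6, 6, 8, 12, 4, 5, 6]⟩, ⟨0, [752], 778, 0, [8, 12, 2, 1, 5, 12, 4, 5]⟩], 2⟩ : Der)) (lfA (⟨2, 0, 0, [], [⟨0, [], 807, 2, [1, 4, 5, 12, 2]⟩, ⟨0, [745, 761, 742], 756, 0, [5, 8, 12, 4, 6, 5, 6, 12, 4, 3, 7, 5]⟩], 1⟩ : Der))))) (ndA (nat_lit 412) (ndA (nat_lit 410) (ndA (nat_lit 409) (lfA (⟨0, 0, 0, [], [], 2⟩ :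 Der)) (lfA (⟨2, 0, 0, [], [⟨0, [], 817, 2, [1, 2, 3, 2]⟩, ⟨0, [228, 236, 229, 227], 816, 0, []⟩], 2⟩ : Der))) (ndA (nat_lit 411) (lfA (⟨2, 0, 0, [], [⟨0, [], 817, 2, []⟩, ⟨0, [], 223, 0, [7]⟩], 1⟩ : Der)) (lfA (⟨2, 0, 0, [], [⟨0, [], 817, 2, [2]⟩, ⟨0, [], 238, 0, [7]⟩], 1⟩ : Der)))) (ndA (nat_lit 414) (ndA (nat_lit 413) (lfA (⟨2, 0, 0, [], [⟨0, [], 817, 2, [4, 3, 2]⟩, ⟨0, [231, 227], 238, 0, [4, 5, 6]⟩], 1⟩ : Der)) (lfA (⟨2, 0, 0, [], [⟨0, [], 817, 2, [2, 1, 12, 2]⟩, ⟨0, [235, 231, 224], 686, 0, [1, 4, 7, 5, 4, 9, 7, 12, 7]⟩], 1⟩ : Der))) (ndA (nat_lit 415) (lfA (⟨2, 0, 0, [], [⟨0, [], 820, 2, [11]⟩, ⟨0, [212], 767, 1, [4, 12, 5, 12, 7, 8, 12, 5]⟩], 0⟩ : Der)) (lfA (⟨2, 0, 0, [], [⟨0, [], 820, 2, [5, 4,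 11]⟩, ⟨0, [211, 215, 211], 767, 1, [12, 4, 3, 6, 9, 12, 7, 12, 5]⟩], 0⟩ : Der))))))
noncomputable def DT26 : ℕ → Der := (ndA (nat_lit 424) (ndA (nat_lit 420) (ndA (nat_lit 418) (ndA (nat_lit 417) (lfA (⟨2, 0, 0, [], [⟨0, [], 822, 2, [4, 11]⟩, ⟨0, [157, 151], 402, 1, [1, 4, 5, 12, 7, 7, 12, 7, 5, 12]⟩], 0⟩ : Der)) (lfA (⟨2, 0, 0, [], [⟨0, [], 824, 2, [4, 11]⟩, ⟨0, [156], 759, 1, [4, 8, 7, 12, 5, 6, 5, 6]⟩], 0⟩ : Der))) (ndA (nat_lit 419) (lfA (⟨2, 0, 0, [], [⟨0, [], 826, 2, [11]⟩, ⟨0, [705, 688], 706, 1, [1, 8, 12, 4, 6, 8, 12, 5, 4, 7, 5]⟩], 0⟩ : Der)) (lfA (⟨2, 0, 0, [], [⟨0, [], 828, 2, [2, 12, 2]⟩, ⟨0, [761, 742], 758, 0, [5, 4, 6, 12, 5, 12, 6, 5, 9, 7]⟩], 1⟩ : Der)))) (ndA (nat_lit 422) (ndA (nat_lit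 421) (lfA (⟨2, 0, 0, [], [⟨0, [], 828, 2, [3, 2, 12, 2]⟩, ⟨0, [745, 743], 770, 0, [1, 4, 12, 4, 5, 6, 8, 12, 5]⟩], 1⟩ : Der)) (lfA (⟨2, 0, 0, [], [⟨0, [], 828, 2, [4, 3, 2, 1, 12, 2]⟩, ⟨0, [753], 758, 0, [3, 7, 8, 12, 5, 7, 12, 4, 12, 5, 6, 5]⟩], 1⟩ : Der))) (ndA (nat_lit 423) (lfA (⟨2, 0, 0, [], [⟨0, [], 828, 2, [1, 12, 2, 1, 5, 12, 2]⟩, ⟨0, [760, 743], 766, 0, [7, 7, 5, 4, 12, 7, 7, 5, 4, 7]⟩], 1⟩ : Der)) (lfA (⟨2, 0, 0, [], [⟨0, [], 830, 2, [12, 4, 3, 2]⟩, ⟨0, [753, 760, 743], 764, 0, [5, 6, 6, 5, 8, 12, 3, 7, 12]⟩], 1⟩ : Der))))) (ndA (nat_lit 428) (ndA (nat_lit 426) (ndA (nat_lit 425) (lfA (⟨2, 0, 0, [], [⟨0, [], 830, 2, [2, 12, 2, 1, 3, 2]⟩, ⟨0, [752, 761, 743], 754, 0, [4, 3, 6, 5, 7, 7, 12, 6,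 5, 6]⟩], 1⟩ : Der)) (lfA (⟨2, 0, 0, [1, 9, 12, 4, 5, 4, 10, 2, 4, 11], [⟨0, [], 832, 2, [2, 1, 5, 12, 2]⟩, ⟨0, [417, 418], 447, 0, [3, 4, 5, 6, 9, 12, 7, 5, 4, 7]⟩, ⟨0, [445, 433], 847, 1, [4, 5, 4, 8, 11]⟩], 2⟩ : Der))) (ndA (nat_lit 427) (lfA (⟨2, 0, 0, [], [⟨0, [], 834, 2, [12, 2, 1, 4, 12, 2]⟩, ⟨0, [752, 761], 770, 0, [4, 7, 5, 6, 6, 12, 4, 5, 6, 9, 12]⟩], 1⟩ : Der)) (lfA (⟨2, 0, 0, [], [⟨0, [], 836, 2, [3, 2, 1, 4, 3, 2]⟩, ⟨0, [129, 134, 125], 707, 0, [12, 5, 4, 6, 12, 6, 5, 7, 12, 7]⟩], 1⟩ : Der)))) (ndA (nat_lit 430) (ndA (nat_lit 429) (lfA (⟨2, 0, 0, [], [⟨0, [], 836, 2, [2, 1, 3, 2, 1, 12, 2]⟩, ⟨0, [134, 121], 594, 0, [7, 9, 7, 12, 4, 12, 3, 7, 5, 6]⟩], 1⟩ : Der)) (lfA (⟨2, 0, 0, [], [⟨0, [],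 838, 2, [5, 4, 11]⟩, ⟨0, [156, 151], 239, 1, [1, 4, 6, 5, 6, 6, 12, 4, 7, 7, 5]⟩], 0⟩ : Der))) (ndA (nat_lit 431) (lfA (⟨2, 0, 0, [], [⟨0, [], 840, 2, [5, 4, 11]⟩, ⟨0, [611, 597], 763, 1, [5, 7, 5, 4, 6, 9, 12, 6, 5, 6, 8]⟩], 0⟩ : Der)) (lfA (⟨2, 0, 0, [], [⟨0, [], 860, 2, [3, 2, 1, 12, 2]⟩, ⟨0, [761, 745], 754, 0, [8, 7, 12, 5, 6, 12, 6, 12, 4, 5]⟩], 1⟩ : Der))))))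
noncomputable def DT27 : ℕ → Der := (ndA (nat_lit 440) (ndA (nat_lit 436) (ndA (nat_lit 434) (ndA (nat_lit 433) (lfA (⟨0, 0, 0, [], [], 2⟩ : Der)) (lfA (⟨2, 0, 0, [], [⟨0, [], 865, 2, [1, 3, 2, 4, 3, 2, 4, 3]⟩, ⟨0, [236, 227], 864, 0, []⟩], 2⟩ : Der))) (ndA (nat_lit 435) (lfA (⟨2, 0, 0, [], [⟨0, [], 865, 2, []⟩, ⟨0, [], 223, 0, [4, 12, 7]⟩], 1⟩ : Der)) (lfA (⟨2, 0, 0, [], [⟨0, [], 865, 2, [2, 1, 3, 2]⟩, ⟨0, [237, 235, 226], 238, 0, [4, 12, 4, 7]⟩], 1⟩ : Der)))) (ndA (nat_lit 438) (ndA (nat_lit 437) (lfA (⟨2, 0, 0, [], [⟨0, [], 865, 2, [2, 12, 3, 2]⟩, ⟨0, [231, 229, 226], 238, 0, [6, 5, 6, 6, 12, 3, 4]⟩], 1⟩ : Der)) (lfA (⟨2, 0, 0, [], [⟨0, [], 865, 2, [2, 1, 4, 3, 2]⟩, ⟨0, [237, 235], 238, 0, [12, 5, 12,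 5, 6]⟩], 1⟩ : Der))) (ndA (nat_lit 439) (lfA (⟨2, 0, 0, [], [⟨0, [], 868, 2, [11]⟩, ⟨0, [], 767, 1, [4, 8, 7, 5, 6, 12, 7, 7]⟩], 0⟩ : Der)) (lfA (⟨2, 0, 0, [], [⟨0, [], 868, 2, [5, 4, 11]⟩, ⟨0, [214, 210], 767, 1, [1, 7, 9, 12, 4, 12, 5, 7, 5]⟩], 0⟩ : Der))))) (ndA (nat_lit 444) (ndA (nat_lit 442) (ndA (nat_lit 441) (lfA (⟨2, 0, 0, [], [⟨0, [], 870, 2, [4, 11]⟩, ⟨0, [157, 151], 402, 1, [3, 4, 12, 7, 12, 5, 7, 7, 12]⟩], 0⟩ : Der)) (lfA (⟨2, 0, 0, [], [⟨0, [], 872, 2, [11, 4, 11]⟩, ⟨0, [], 166, 1, [12, 4, 6, 12, 6, 5, 6]⟩], 0⟩ : Der))) (ndA (nat_lit 443) (lfA (⟨2, 0, 0, [], [⟨0, [], 872, 2, [5, 11, 4, 11]⟩, ⟨0, [153, 157], 239, 1, [4, 6, 5, 4, 8, 12, 3, 7, 12, 5, 7]⟩], 0⟩ : Der)) (lfA (⟨2, 0, 0, [2, 1, 4,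 3, 2], [⟨0, [], 874, 2, [4, 5, 8, 12, 10, 12, 4]⟩, ⟨0, [152, 156, 152, 151], 875, 1, []⟩], 2⟩ : Der)))) (ndA (nat_lit 446) (ndA (nat_lit 445) (lfA (⟨2, 0, 0, [], [⟨0, [], 876, 2, [4, 3, 2]⟩, ⟨0, [761], 772, 0, [3, 5, 7, 5, 4, 6, 5, 6, 9, 12]⟩], 1⟩ : Der)) (lfA (⟨2, 0, 0, [], [⟨0, [], 876, 2, [12, 3, 2]⟩, ⟨0, [752, 761, 743], 764, 0, [3, 4, 5, 7, 12, 3, 6, 9]⟩], 1⟩ : Der))) (ndA (nat_lit 447) (lfA (⟨2, 0, 0, [], [⟨0, [], 876, 2, [12, 5, 12, 2]⟩, ⟨0, [760, 753], 766, 0, [4, 5, 4, 8, 12, 7, 5, 4, 3, 9]⟩], 1⟩ : Der)) (lfA (⟨2, 0, 0, [], [⟨0, [], 876, 2, [12, 3, 4, 12, 2]⟩, ⟨0, [743], 758, 0, [4, 6, 6, 6, 12, 6, 5, 4, 7, 8]⟩], 1⟩ : Der))))))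
noncomputable def DT28 : ℕ → Der := (ndA (nat_lit 456) (ndA (nat_lit 452) (ndA (nat_lit 450) (ndA (nat_lit 449) (lfA (⟨2, 0, 0, [], [⟨0, [], 876, 2, [2, 12, 3, 4, 12, 2]⟩, ⟨0, [761, 745], 758, 0, [5, 7, 8, 12, 4, 12, 7, 5, 7, 8]⟩], 1⟩ : Der)) (lfA (⟨2, 0, 0, [], [⟨0, [], 878, 2, [1, 5, 4, 3, 2]⟩, ⟨0, [], 741, 0, [1, 4, 6, 12, 5, 12, 6, 5, 6, 8]⟩], 1⟩ : Der))) (ndA (nat_lit 451) (lfA (⟨2, 0, 0, [], [⟨0, [], 880, 2, [1, 3, 4, 3, 2]⟩, ⟨0, [417, 419, 417], 621, 0, [1, 6, 5, 4, 12, 6, 5, 6, 9, 12, 4]⟩], 1⟩ : Der)) (lfA (⟨2, 0, 0, [], [⟨0, [], 882, 2, [1, 4, 3, 2]⟩, ⟨0, [129, 134, 125, 123], 707, 0, [1, 4, 12, 7, 7, 5, 12, 4, 6, 5, 6, 9]⟩], 1⟩ : Der)))) (ndA (nat_lit 454) (ndA (nat_lit 453) (lfA (⟨2, 0, 0, [],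 [⟨0, [], 882, 2, [5, 4, 3, 2]⟩, ⟨0, [134], 171, 0, [1, 3, 4, 7, 5, 7, 5, 8]⟩], 1⟩ : Der)) (lfA (⟨2, 0, 0, [], [⟨0, [], 884, 2, [1, 4, 3, 2]⟩, ⟨0, [236, 229], 238, 0, [1, 4, 5, 4, 8, 12, 6, 5, 6, 12, 4]⟩], 1⟩ : Der))) (ndA (nat_lit 455) (lfA (⟨2, 0, 0, [], [⟨0, [], 884, 2, [1, 4, 12, 2]⟩, ⟨0, [237, 235, 228], 238, 0, [1, 7, 5, 4, 6, 5, 12, 7, 5, 8, 6]⟩], 1⟩ : Der)) (lfA (⟨2, 0, 0, [], [⟨0, [], 884, 2, [12, 2, 1, 4, 12, 2]⟩, ⟨0, [229, 236], 238, 0, [5, 4, 3, 8, 6, 5, 4, 7, 5]⟩], 1⟩ : Der))))) (ndA (nat_lit 460) (ndA (nat_lit 458) (ndA (nat_lit 457) (lfA (⟨2, 0, 0, [], [⟨0, [], 888, 2, [11, 4, 11]⟩, ⟨0, [611, 596], 618, 1, [5, 6, 12, 5, 4, 3, 7, 5, 4, 3, 7]⟩], 0⟩ : Der)) (lfA (⟨2, 0, 0, [], [⟨0, [], 890,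 2, [5, 11, 4, 11]⟩, ⟨0, [435], 765, 1, [4, 7, 12, 3, 6, 5, 4, 9]⟩], 0⟩ : Der))) (ndA (nat_lit 459) (lfA (⟨2, 0, 0, [], [⟨0, [], 892, 2, [5, 11, 4, 11]⟩, ⟨0, [215, 212], 767, 1, [6, 8, 12, 5, 4, 6, 5, 7, 12, 5]⟩], 0⟩ : Der)) (lfA (⟨2, 0, 0, [], [⟨0, [], 896, 2, [11, 4, 11]⟩, ⟨0, [157, 151], 239, 1, [4, 5, 7, 5, 8, 12, 4, 12, 7, 5]⟩], 0⟩ : Der)))) (ndA (nat_lit 462) (ndA (nat_lit 461) (lfA (⟨2, 0, 0, [], [⟨0, [], 898, 2, [11, 4, 11]⟩, ⟨0, [688], 706, 1, [5, 4, 7, 7, 7, 12, 7]⟩], 0⟩ : Der)) (lfA (⟨2, 0, 0, [], [⟨0, [], 902, 2, [5, 11, 4, 11]⟩, ⟨0, [], 755, 1, [8, 7, 5, 12, 7, 8, 12, 4, 5, 7]⟩], 0⟩ : Der))) (ndA (nat_lit 463) (lfA (⟨2, 0, 0, [], [⟨0, [], 912, 2, [4, 3, 2]⟩, ⟨0, [275], 541, 0, [5, 6, 6, 5,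 4, 12, 7, 5, 6, 12]⟩], 1⟩ : Der)) (lfA (⟨2, 0, 0, [], [⟨0, [], 912, 2, [12, 4, 3, 2]⟩, ⟨0, [284, 275], 519, 0, [12, 4, 7, 5, 4, 3, 8, 7, 5, 6]⟩], 1⟩ : Der))))))
noncomputable def DT29 : ℕ → Der := (ndA (nat_lit 472) (ndA (nat_lit 468) (ndA (nat_lit 466) (ndA (nat_lit 465) (lfA (⟨2, 0, 0, [], [⟨0, [], 914, 2, [2, 1, 3, 2]⟩, ⟨0, [761, 745], 762, 0, [1, 6, 12, 6, 5, 4, 6, 5, 7, 7]⟩], 1⟩ : Der)) (lfA (⟨2, 0, 0, [], [⟨0, [], 914, 2, [1, 2, 1, 3, 4, 3, 2]⟩, ⟨0, [752, 760], 758, 0, [3, 7, 7, 5, 12, 4, 6, 5, 4, 3, 8, 6]⟩], 1⟩ : Der))) (ndA (nat_lit 467) (lfA (⟨2, 0, 0, [], [⟨0, [], 916, 2, [2, 1, 12, 2]⟩, ⟨0, [760, 742], 764, 0, [4, 9, 7, 5, 12, 4, 7, 5, 4, 6, 8]⟩], 1⟩ : Der)) (lfA (⟨2, 0, 0, [], [⟨0, [], 918,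 2, [5, 4, 3, 2]⟩, ⟨0, [231, 236, 227], 430, 0, [5, 12, 3, 4, 12, 7, 5, 8, 6]⟩], 1⟩ : Der)))) (ndA (nat_lit 470) (ndA (nat_lit 469) (lfA (⟨2, 0, 0, [], [⟨0, [], 920, 2, [12, 2]⟩, ⟨0, [135, 129, 123], 543, 0, [4, 7, 12, 5, 4, 7, 5, 4, 6, 12, 4]⟩], 1⟩ : Der)) (lfA (⟨2, 0, 0, [], [⟨0, [], 920, 2, [2, 12, 2]⟩, ⟨0, [129, 119, 124, 123], 707, 0, [12, 4, 7, 7, 12, 3, 6, 5, 9]⟩], 1⟩ : Der))) (ndA (nat_lit 471) (lfA (⟨2, 0, 0, [], [⟨0, [], 920, 2, [2, 1, 4, 12, 2]⟩, ⟨0, [134, 129, 124], 543, 0, [5, 4, 3, 7, 5, 7, 12, 5, 7, 9]⟩], 1⟩ : Der)) (lfA (⟨2, 0, 0, [], [⟨0, [], 922, 2, [2, 1, 4, 12, 2]⟩, ⟨0, [753, 745], 762, 0, [12, 7, 5, 12, 4, 12, 6, 5, 6, 9, 12, 4]⟩], 1⟩ : Der))))) (ndA (nat_lit 476) (ndA (nat_lit 474)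 (ndA (nat_lit 473) (lfA (⟨0, 0, 0, [], [], 2⟩ : Der)) (lfA (⟨2, 0, 0, [], [⟨0, [], 945, 2, [1, 2]⟩, ⟨0, [234, 231], 944, 0, []⟩], 2⟩ : Der))) (ndA (nat_lit 475) (lfA (⟨2, 0, 0, [], [⟨0, [], 945, 2, []⟩, ⟨0, [], 223, 0, [12, 7]⟩], 1⟩ : Der)) (lfA (⟨2, 0, 0, [], [⟨0, [], 945, 2, [12, 2]⟩, ⟨0, [236, 229, 224], 686, 0, [6, 12, 6, 5, 9, 6, 12, 4, 5, 7]⟩], 1⟩ : Der)))) (ndA (nat_lit 478) (ndA (nat_lit 477) (lfA (⟨2, 0, 0, [], [⟨0, [], 945, 2, [12, 2, 1, 3, 2]⟩, ⟨0, [237, 235], 238, 0, [12, 5, 7, 5, 4, 3, 4]⟩], 1⟩ : Der)) (lfA (⟨2, 0, 0, [], [⟨0, [], 945, 2, [3, 2, 1, 4, 3, 2]⟩, ⟨0, [237, 235, 226], 238, 0, [12, 5, 12, 6]⟩], 1⟩ : Der))) (ndA (nat_lit 479) (lfA (⟨2, 0, 0, [], [⟨0, [], 945, 2, [12, 2, 1, 5, 12,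 2]⟩, ⟨0, [229, 237], 238, 0, [6, 12, 6, 5, 4, 12, 7, 12, 5]⟩], 1⟩ : Der)) (lfA (⟨2, 0, 0, [], [⟨0, [], 948, 2, [11]⟩, ⟨0, [212], 767, 1, [3, 4, 5, 7, 5, 9, 6, 12, 7, 9]⟩], 0⟩ : Der))))))
noncomputable def DT30 : ℕ → Der := (ndA (nat_lit 488) (ndA (nat_lit 484) (ndA (nat_lit 482) (ndA (nat_lit 481) (lfA (⟨2, 0, 0, [], [⟨0, [], 948, 2, [5, 4, 11]⟩, ⟨0, [211, 215, 211], 767, 1, [4, 7, 5, 7, 12, 3, 6, 9, 12]⟩], 0⟩ : Der)) (lfA (⟨2, 0, 0, [], [⟨0, [], 952, 2, [4, 11]⟩, ⟨0, [156, 152], 759, 1, [6, 12, 5, 4, 7, 5, 8, 6, 12, 4, 3]⟩], 0⟩ : Der))) (ndA (nat_lit 483) (lfA (⟨2, 0, 0, [], [⟨0, [], 954, 2, [4, 11]⟩, ⟨0, [156], 759, 1, [7, 12, 4, 5, 7, 8, 12, 6]⟩], 0⟩ : Der)) (lfA (⟨2, 0, 0, [], [⟨0, [], 954, 2, [11,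 4, 11]⟩, ⟨0, [156, 152, 151], 759, 1, [6, 5, 12, 4, 12, 7, 12, 7, 5, 6, 8]⟩], 0⟩ : Der)))) (ndA (nat_lit 486) (ndA (nat_lit 485) (lfA (⟨2, 0, 0, [], [⟨0, [], 956, 2, [11]⟩, ⟨0, [153, 157, 153], 759, 1, [12, 7, 12, 5, 4, 7, 5, 6, 9]⟩], 0⟩ : Der)) (lfA (⟨2, 0, 0, [], [⟨0, [], 958, 2, [3, 12, 2]⟩, ⟨0, [760, 752], 758, 0, [7, 5, 4, 3, 7, 5]⟩], 1⟩ : Der))) (ndA (nat_lit 487) (lfA (⟨2, 0, 0, [], [⟨0, [], 958, 2, [12, 4, 3, 2]⟩, ⟨0, [752, 761], 770, 0, [9, 7, 12, 4, 5, 7, 12, 4, 6]⟩], 1⟩ : Der)) (lfA (⟨2, 0, 0, [], [⟨0, [], 958, 2, [3, 2, 12, 2]⟩, ⟨0, [752], 770, 0, [3, 4, 5, 4, 6, 8, 12, 7, 12, 5]⟩], 1⟩ : Der))))) (ndA (nat_lit 492) (ndA (nat_lit 490) (ndA (nat_lit 489) (lfA (⟨2, 0, 0, [], [⟨0, [], 958, 2, [3,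 5, 4, 3, 2]⟩, ⟨0, [760, 743], 762, 0, [4, 5, 7, 12, 5, 12, 6]⟩], 1⟩ : Der)) (lfA (⟨2, 0, 0, [], [⟨0, [], 958, 2, [12, 2, 1, 5, 12, 2]⟩, ⟨0, [745, 761, 743], 762, 0, [6, 9, 6, 5, 12, 5, 6]⟩], 1⟩ : Der))) (ndA (nat_lit 491) (lfA (⟨2, 0, 0, [], [⟨0, [], 958, 2, [2, 3, 2, 1, 4, 3, 2]⟩, ⟨0, [752, 743], 758, 0, [5, 4, 6, 5, 6, 8, 6, 12, 5, 12, 4]⟩], 1⟩ : Der)) (lfA (⟨2, 0, 0, [], [⟨0, [], 960, 2, [12, 2]⟩, ⟨0, [752, 742], 756, 0, [3, 7, 7, 5, 4, 3, 6, 9]⟩], 1⟩ : Der)))) (ndA (nat_lit 494) (ndA (nat_lit 493) (lfA (⟨2, 0, 0, [], [⟨0, [], 960, 2, [2, 12, 2]⟩, ⟨0, [752, 745], 762, 0, [5, 9, 12, 4, 6, 12, 6, 5, 4, 3]⟩], 1⟩ : Der)) (lfA (⟨2, 0, 0, [], [⟨0, [], 960, 2, [2, 12, 3, 2]⟩, ⟨0, [752, 761], 758, 0, [1, 6,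 5, 4, 7, 12, 4, 6]⟩], 1⟩ : Der))) (ndA (nat_lit 495) (lfA (⟨2, 0, 0, [], [⟨0, [], 960, 2, [4, 12, 3, 2]⟩, ⟨0, [753, 745, 743], 762, 0, [4, 9, 12, 6, 5, 7, 7, 12]⟩], 1⟩ : Der)) (lfA (⟨2, 0, 0, [], [⟨0, [], 960, 2, [2, 3, 12, 2]⟩, ⟨0, [752, 760], 764, 0, [3, 5, 4, 8, 12, 7, 5, 12, 6, 12]⟩], 1⟩ : Der))))))
noncomputable def DT31 : ℕ → Der := (ndA (nat_lit 504) (ndA (nat_lit 500) (ndA (nat_lit 498) (ndA (nat_lit 497) (lfA (⟨2, 0, 0, [], [⟨0, [], 962, 2, [2, 1, 12, 2]⟩, ⟨0, [761, 753], 772, 0, [6, 5, 4, 7, 8, 12, 5, 6, 8, 12, 7]⟩], 1⟩ : Der)) (lfA (⟨2, 0, 0, [], [⟨0, [], 962, 2, [5, 4, 3, 2]⟩, ⟨0, [752], 772, 0, [8, 6, 12, 5, 4, 7, 5, 4, 3, 7, 5]⟩], 1⟩ : Der))) (ndA (nat_lit 499) (lfA (⟨2, 0, 0, [], [⟨0, [],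 962, 2, [12, 4, 3, 2]⟩, ⟨0, [752, 745], 756, 0, [1, 6, 9, 6, 5, 4, 6, 5, 12, 6, 9, 12]⟩], 1⟩ : Der)) (lfA (⟨2, 0, 0, [], [⟨0, [], 962, 2, [3, 2, 12, 2]⟩, ⟨0, [760, 753], 762, 0, [1, 5, 4, 12, 5, 6, 5, 4, 6, 5, 6]⟩], 1⟩ : Der)))) (ndA (nat_lit 502) (ndA (nat_lit 501) (lfA (⟨2, 0, 0, [], [⟨0, [], 962, 2, [12, 3, 4, 12, 2]⟩, ⟨0, [761, 753, 745], 762, 0, [4, 3, 5, 7, 5, 6, 9, 12, 7, 12, 4]⟩], 1⟩ : Der)) (lfA (⟨2, 0, 0, [], [⟨0, [], 964, 2, [2, 3, 4, 12, 2]⟩, ⟨0, [760, 753], 741, 0, [3, 9, 6, 5, 7, 12, 4, 3, 12, 6, 5]⟩], 1⟩ : Der))) (ndA (nat_lit 503) (lfA (⟨2, 0, 0, [], [⟨0, [], 966, 2, [1, 12, 2]⟩, ⟨0, [760, 753], 762, 0, [1, 12, 5, 7, 12, 5, 4, 7, 7, 5, 6]⟩], 1⟩ : Der)) (lfA (⟨2, 0, 0, [], [⟨0, [], 966,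 2, [12, 5, 12, 2]⟩, ⟨0, [752, 742], 758, 0, [4, 5, 6, 8, 12, 4, 12, 6, 5, 12]⟩], 1⟩ : Der))))) (ndA (nat_lit 508) (ndA (nat_lit 506) (ndA (nat_lit 505) (lfA (⟨2, 0, 0, [], [⟨0, [], 966, 2, [2, 3, 4, 3, 2]⟩, ⟨0, [761], 772, 0, [4, 7, 5, 7, 12, 4, 6, 9, 12, 6, 5]⟩], 1⟩ : Der)) (lfA (⟨2, 0, 0, [], [⟨0, [], 966, 2, [12, 3, 4, 12, 2]⟩, ⟨0, [753], 758, 0, [5, 8, 12, 4, 5, 7, 12, 4]⟩], 1⟩ : Der))) (ndA (nat_lit 507) (lfA (⟨2, 0, 0, [], [⟨0, [], 968, 2, [1, 3, 2, 1, 12, 2]⟩, ⟨0, [760, 743], 762, 0, [3, 5, 4, 8, 6, 12, 3, 7]⟩], 1⟩ : Der)) (lfA (⟨2, 0, 0, [], [⟨0, [], 968, 2, [3, 2, 1, 5, 12, 2]⟩, ⟨0, [761, 752], 762, 0, [4, 5, 6, 5, 12, 4, 5, 7, 5, 6]⟩], 1⟩ : Der)))) (ndA (nat_lit 510) (ndA (nat_lit 509) (lfA (⟨2,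 0, 0, [], [⟨0, [], 970, 2, [5, 11, 4, 11]⟩, ⟨0, [157, 151], 759, 1, [4, 6, 5, 12, 7, 5, 7]⟩], 0⟩ : Der)) (lfA (⟨2, 0, 0, [], [⟨0, [], 972, 2, [4, 11]⟩, ⟨0, [], 616, 1, [4, 7, 12, 5, 7, 9, 12, 7]⟩], 0⟩ : Der))) (ndA (nat_lit 511) (lfA (⟨2, 0, 0, [], [⟨0, [], 974, 2, [5, 11, 4, 11]⟩, ⟨0, [611, 596], 612, 1, [1, 5, 4, 12, 6, 12, 6, 5, 4]⟩], 0⟩ : Der)) (lfA (⟨2, 0, 0, [], [⟨0, [], 976, 2, [11, 4, 11]⟩, ⟨0, [611], 616, 1, [4, 6, 5, 8, 7, 5, 4, 12, 5]⟩], 0⟩ : Der))))))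
noncomputable def DT32 : ℕ → Der := (ndA (nat_lit 520) (ndA (nat_lit 516) (ndA (nat_lit 514) (ndA (nat_lit 513) (lfA (⟨2, 0, 0, [], [⟨0, [], 978, 2, [5, 4, 11]⟩, ⟨0, [], 614, 1, [5, 7, 5, 7, 8, 12, 4, 12, 5, 6]⟩], 0⟩ : Der)) (lfA (⟨2, 0, 0, [], [⟨0, [], 980, 2, [5, 11, 4, 11]⟩, ⟨0, [153, 157, 151], 239, 1, [9, 12, 7, 5, 7, 12, 7, 5, 8]⟩], 0⟩ : Der))) (ndA (nat_lit 515) (lfA (⟨2, 0, 0, [], [⟨0, [], 982, 2, [11, 4, 11]⟩, ⟨0, [705, 688], 757, 1, [1, 7, 5, 4, 7, 5, 6, 8, 12, 4, 5]⟩], 0⟩ : Der)) (lfA (⟨2, 0, 0, [], [⟨0, [], 984, 2, [5, 11, 4, 11]⟩, ⟨0, [597], 763, 1, [8, 12, 7, 5, 6, 6, 12, 7]⟩], 0⟩ : Der)))) (ndA (nat_lit 518) (ndA (nat_lit 517) (lfA (⟨2, 0, 0, [], [⟨0, [], 988, 2, [5, 11, 4, 11]⟩, ⟨0, [611,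 596], 763, 1, [3, 6, 5, 8, 6, 12, 4, 5, 6, 5]⟩], 0⟩ : Der)) (lfA (⟨2, 0, 0, [], [⟨0, [], 990, 2, [4, 11]⟩, ⟨0, [435, 432], 581, 1, [1, 5, 4, 7, 12, 4, 5, 6]⟩], 0⟩ : Der))) (ndA (nat_lit 519) (lfA (⟨2, 0, 0, [], [⟨0, [], 992, 2, [5, 11, 4, 11]⟩, ⟨0, [596], 618, 1, [3, 4, 3, 7, 5, 9, 6, 12, 5, 4]⟩], 0⟩ : Der)) (lfA (⟨2, 0, 0, [], [⟨0, [], 994, 2, [5, 11, 4, 11]⟩, ⟨0, [611, 597], 612, 1, [1, 7, 5, 4, 12, 7, 5, 12, 6, 12]⟩], 0⟩ : Der))))) (ndA (nat_lit 524) (ndA (nat_lit 522) (ndA (nat_lit 521) (lfA (⟨2, 0, 0, [], [⟨0, [], 996, 2, [5, 11, 4, 11]⟩, ⟨0, [689], 755, 1, [7, 5, 12, 4, 7, 5, 4, 8, 6, 5]⟩], 0⟩ : Der)) (lfA (⟨2, 0, 0, [], [⟨0, [], 998, 2, [11]⟩, ⟨0, [597], 620, 1, [1, 4, 8, 12, 7, 8, 12, 5, 7, 9]⟩],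 0⟩ : Der))) (ndA (nat_lit 523) (lfA (⟨2, 0, 0, [], [⟨0, [], 1000, 2, [11, 4, 11]⟩, ⟨0, [], 773, 1, [3, 4, 6, 5, 4, 7, 7, 12, 5, 7, 5]⟩], 0⟩ : Der)) (lfA (⟨2, 0, 0, [], [⟨0, [], 1004, 2, [11]⟩, ⟨0, [611, 596], 620, 1, [5, 12, 6, 12, 4, 7, 12, 5, 6, 5]⟩], 0⟩ : Der)))) (ndA (nat_lit 526) (ndA (nat_lit 525) (lfA (⟨2, 0, 0, [], [⟨0, [], 1006, 2, [4, 11]⟩, ⟨0, [156, 152], 759, 1, [5, 7, 12, 7, 5, 7, 12, 5, 6]⟩], 0⟩ : Der)) (lfA (⟨2, 0, 0, [], [⟨0, [], 1008, 2, [5, 11, 4, 11]⟩, ⟨0, [611, 597], 612, 1, [3, 4, 5, 4, 7, 9, 12, 6, 12, 5]⟩], 0⟩ : Der))) (ndA (nat_lit 527) (lfA (⟨2, 0, 0, [], [⟨0, [], 1010, 2, [5, 4, 11]⟩, ⟨0, [156, 152], 759, 1, [3, 6, 6, 6, 5, 12, 6, 6, 5]⟩], 0⟩ : Der)) (lfA (⟨2, 0, 0, [], [⟨0, [],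 1012, 2, [11, 4, 11]⟩, ⟨0, [], 612, 1, [4, 3, 7, 7, 5, 6, 12, 4, 12, 7]⟩], 0⟩ : Der))))))
noncomputable def DT33 : ℕ → Der := (ndA (nat_lit 536) (ndA (nat_lit 532) (ndA (nat_lit 530) (ndA (nat_lit 529) (lfA (⟨2, 0, 0, [], [⟨0, [], 1016, 2, [2, 1, 4, 12, 2]⟩, ⟨0, [752, 760], 766, 0, [4, 9, 6, 12, 6, 5, 12, 4, 6, 12]⟩], 1⟩ : Der)) (lfA (⟨2, 0, 0, [], [⟨0, [], 1016, 2, [2, 12, 2, 1, 3, 2]⟩, ⟨0, [761, 743], 772, 0, [12, 6, 12, 5, 4, 7, 5, 7, 8, 12]⟩], 1⟩ : Der))) (ndA (nat_lit 531) (lfA (⟨2, 0, 0, [], [⟨0, [], 1018, 2, [3, 2, 12, 2]⟩, ⟨0, [279], 615, 0, [4, 5, 4, 3, 6, 12, 7, 7, 5, 6]⟩], 1⟩ : Der)) (lfA (⟨2, 0, 0, [], [⟨0, [], 1020, 2, [2, 1, 3, 4, 3, 2]⟩, ⟨0, [284, 275], 547, 0, [1, 8, 7, 5, 12, 5, 7, 5,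 4]⟩], 1⟩ : Der)))) (ndA (nat_lit 534) (ndA (nat_lit 533) (lfA (⟨2, 0, 0, [], [⟨0, [], 1022, 2, [4, 3, 2, 1, 12, 2]⟩, ⟨0, [275, 285], 615, 0, [5, 4, 7, 5, 9, 6, 12, 4, 6, 6]⟩], 1⟩ : Der)) (lfA (⟨2, 0, 0, [], [⟨0, [], 1024, 2, [1, 3, 2]⟩, ⟨0, [284, 279, 274], 547, 0, [4, 5, 6, 9, 6, 12, 6]⟩], 1⟩ : Der))) (ndA (nat_lit 535) (lfA (⟨2, 0, 0, [], [⟨0, [], 1026, 2, [12, 2, 1, 4, 12, 2]⟩, ⟨0, [231, 228], 238, 0, [3, 7, 12, 5, 6, 6, 12, 4, 3]⟩], 1⟩ : Der)) (lfA (⟨2, 0, 0, [], [⟨0, [], 1030, 2, [4, 12, 2]⟩, ⟨0, [752, 760], 766, 0, [3, 7, 12, 5, 7, 7, 12, 5]⟩], 1⟩ : Der))))) (ndA (nat_lit 540) (ndA (nat_lit 538) (ndA (nat_lit 537) (lfA (⟨2, 0, 0, [], [⟨0, [], 1032, 2, [3, 12, 2]⟩, ⟨0, [753, 743], 766, 0, [1, 7, 8,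 12, 5, 4, 6, 12, 5, 4, 7]⟩], 1⟩ : Der)) (lfA (⟨2, 0, 0, [], [⟨0, [], 1038, 2, [1, 4, 12, 2]⟩, ⟨0, [284, 277], 545, 0, [4, 6, 5, 9, 12, 6, 5, 4, 12, 5]⟩], 1⟩ : Der))) (ndA (nat_lit 539) (lfA (⟨2, 0, 0, [], [⟨0, [], 1040, 2, [3, 2, 1, 4, 3, 2]⟩, ⟨0, [753, 742], 766, 0, [1, 3, 4, 5, 4, 6, 5, 4, 8, 12, 6, 5]⟩], 1⟩ : Der)) (lfA (⟨2, 0, 0, [], [⟨0, [], 1042, 2, [1, 4, 3, 2]⟩, ⟨0, [419, 405], 621, 0, [3, 4, 5, 9, 6, 5, 4, 6, 5, 12, 7, 9]⟩], 1⟩ : Der)))) (ndA (nat_lit 542) (ndA (nat_lit 541) (lfA (⟨2, 0, 0, [], [⟨0, [], 1044, 2, [2, 12, 3, 4, 12, 2]⟩, ⟨0, [760, 752, 743], 762, 0, [4, 3, 4, 5, 9, 6, 12, 5, 6]⟩], 1⟩ : Der)) (lfA (⟨2, 0, 0, [], [⟨0, [], 1046, 2, [3, 12, 2]⟩, ⟨0, [419], 403, 0, [5, 7, 5, 6, 6, 12,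 3, 4, 7, 5]⟩], 1⟩ : Der))) (ndA (nat_lit 543) (lfA (⟨2, 0, 0, [], [⟨0, [], 1048, 2, [3, 2, 12, 3, 2]⟩, ⟨0, [761, 752], 758, 0, [3, 7, 8, 12, 5, 6, 12, 4, 7, 7, 5, 7]⟩], 1⟩ : Der)) (lfA (⟨2, 0, 0, [], [⟨0, [], 1050, 2, [12, 2, 1, 3, 2]⟩, ⟨0, [275, 278], 547, 0, [4, 5, 12, 3, 4, 6, 9, 12]⟩], 1⟩ : Der))))))
noncomputable def DT34 : ℕ → Der := (ndA (nat_lit 552) (ndA (nat_lit 548) (ndA (nat_lit 546) (ndA (nat_lit 545) (lfA (⟨2, 0, 0, [], [⟨0, [], 1054, 2, [1, 2]⟩, ⟨0, [277], 545, 0, [1, 8, 7, 12, 5, 6, 5, 4, 12, 7, 5, 6]⟩], 1⟩ : Der)) (lfA (⟨2, 0, 0, [], [⟨0, [], 1058, 2, [11]⟩, ⟨0, [597], 620, 1, [1, 4, 7, 5, 4, 3, 7, 5, 4, 6, 5]⟩], 0⟩ : Der))) (ndA (nat_lit 547) (lfA (⟨2, 0, 0, [], [⟨0, [], 1060, 2, [5,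 4, 11]⟩, ⟨0, [596], 771, 1, [1, 9, 12, 5, 12, 6, 5, 9]⟩], 0⟩ : Der)) (lfA (⟨2, 0, 0, [], [⟨0, [], 1062, 2, [5, 11, 4, 11]⟩, ⟨0, [533], 546, 1, [4, 7, 5, 7, 8, 12, 5, 7]⟩], 0⟩ : Der)))) (ndA (nat_lit 550) (ndA (nat_lit 549) (lfA (⟨2, 0, 0, [], [⟨0, [], 1092, 2, [1, 2, 1, 3, 4, 3, 2]⟩, ⟨0, [760, 743], 762, 0, [3, 9, 7, 5, 4, 3, 6, 12, 5, 7, 8]⟩], 1⟩ : Der)) (lfA (⟨0, 0, 0, [], [], 1⟩ : Der))) (ndA (nat_lit 551) (lfA (⟨2, 0, 0, [], [⟨0, [], 1099, 1, [5, 4, 7, 5, 4, 6, 5, 8]⟩, ⟨0, [274, 276, 279], 1098, 0, []⟩], 1⟩ : Der)) (lfA (⟨2, 0, 0, [], [⟨0, [], 1099, 1, [6, 6]⟩, ⟨0, [275, 278, 274], 501, 0, [1, 4, 5, 4, 3, 2]⟩], 2⟩ : Der))))) (ndA (nat_lit 556) (ndA (nat_lit 554) (ndA (nat_lit 553) (lfA (⟨2, 0, 0, [],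 [⟨0, [], 1099, 1, [8, 6]⟩, ⟨0, [284, 278], 637, 0, [8, 12, 2, 4, 3, 12, 5]⟩], 2⟩ : Der)) (lfA (⟨2, 0, 0, [], [⟨0, [], 1099, 1, [12, 6]⟩, ⟨0, [279, 285, 275], 573, 0, [1, 4, 3, 2, 9, 12, 2, 12, 3]⟩], 2⟩ : Der))) (ndA (nat_lit 555) (lfA (⟨2, 0, 0, [], [⟨0, [], 1099, 1, [6, 5, 7]⟩, ⟨0, [277, 275], 649, 0, [2, 4, 5, 4, 8]⟩], 2⟩ : Der)) (lfA (⟨2, 0, 0, [], [⟨0, [], 1099, 1, [12, 7, 7]⟩, ⟨0, [277, 274], 1095, 0, [8, 12, 3, 2, 12, 2, 1, 3]⟩], 2⟩ : Der)))) (ndA (nat_lit 558) (ndA (nat_lit 557) (lfA (⟨2, 0, 0, [], [⟨0, [], 1099, 1, [6, 12, 7]⟩, ⟨0, [278], 564, 0, [1, 4, 12, 2, 4, 3, 12, 5]⟩], 2⟩ : Der)) (lfA (⟨2, 0, 0, [], [⟨0, [], 1099, 1, [5, 8, 6]⟩, ⟨0, [275, 285], 467, 0, [2, 1, 4, 3, 2, 1, 4, 3, 2]⟩], 2⟩ :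 Der))) (ndA (nat_lit 559) (lfA (⟨2, 0, 0, [3, 5, 4, 6, 9, 6, 12, 5, 10, 4], [⟨0, [], 1099, 1, [5, 7, 7, 12, 7]⟩, ⟨0, [278, 285, 274], 501, 0, [1, 2, 4, 3, 8, 12, 2, 12, 2, 12, 5]⟩, ⟨0, [], 1115, 2, [3, 4, 8, 12, 5, 10, 4]⟩], 1⟩ : Der)) (lfA (⟨2, 0, 0, [], [⟨0, [], 1102, 1, [5, 4, 11]⟩, ⟨0, [450], 466, 2, [3, 2, 4, 3, 2, 1, 5, 8]⟩], 0⟩ : Der))))))
noncomputable def DT35 : ℕ → Der := (ndA (nat_lit 568) (ndA (nat_lit 564) (ndA (nat_lit 562) (ndA (nat_lit 561) (lfA (⟨2, 0, 0, [], [⟨0, [], 1104, 1, [5, 11, 4, 11]⟩, ⟨0, [629], 791, 2, [4, 9, 12, 2, 4, 12, 3]⟩], 0⟩ : Der)) (lfA (⟨2, 0, 0, [], [⟨0, [], 1106, 1, [5, 4, 11]⟩, ⟨0, [325, 325], 328, 2, [4, 8, 12, 3, 2, 1]⟩], 0⟩ : Der))) (ndA (nat_lit 563) (lfA (⟨2,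 0, 0, [], [⟨0, [], 1108, 1, [11, 4, 11]⟩, ⟨0, [], 652, 2, [2, 1, 4, 8, 12]⟩], 0⟩ : Der)) (lfA (⟨2, 0, 0, [], [⟨0, [], 1110, 1, [4, 11]⟩, ⟨0, [947], 1090, 2, [1, 9, 12, 2, 12, 2, 5]⟩], 0⟩ : Der)))) (ndA (nat_lit 566) (ndA (nat_lit 565) (lfA (⟨2, 0, 0, [], [⟨0, [], 1112, 1, [5, 11, 4, 11]⟩, ⟨0, [335], 775, 2, [3, 8, 12, 2, 12, 4, 3, 12]⟩], 0⟩ : Der)) (lfA (⟨2, 0, 0, [], [⟨0, [], 1120, 1, [5, 9, 6]⟩, ⟨0, [745, 760, 742], 1029, 0, [1, 3, 2, 5, 4, 8, 12, 4]⟩], 2⟩ : Der))) (ndA (nat_lit 567) (lfA (⟨2, 0, 0, [], [⟨0, [], 1120, 1, [4, 5, 8, 6]⟩, ⟨0, [753, 761, 745, 743], 778, 0, [5, 12, 2, 1, 5, 12, 2, 1]⟩], 2⟩ : Der)) (lfA (⟨2, 0, 0, [], [⟨0, [], 1120, 1, [4, 5, 12, 7, 5, 7]⟩, ⟨0, [752, 745, 743], 776, 0, [3,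 9, 12, 2, 1, 5, 4, 3]⟩], 2⟩ : Der))))) (ndA (nat_lit 572) (ndA (nat_lit 570) (ndA (nat_lit 569) (lfA (⟨2, 0, 0, [], [⟨0, [], 1120, 1, [12, 6, 12, 4, 12, 7]⟩, ⟨0, [752, 743], 800, 0, [3, 2, 5, 12, 2, 3, 2, 4]⟩], 2⟩ : Der)) (lfA (⟨2, 0, 0, [], [⟨0, [], 1120, 1, [12, 6, 6, 5, 12, 7]⟩, ⟨0, [752, 760, 745, 743], 1053, 0, [4, 12, 3, 2, 5, 12]⟩], 2⟩ : Der))) (ndA (nat_lit 571) (lfA (⟨2, 0, 0, [], [⟨0, [], 1122, 1, [5, 4, 6, 6, 5, 7]⟩, ⟨0, [229, 237, 229, 224], 1027, 0, [2, 1, 5, 12, 2, 12, 5, 12]⟩], 2⟩ : Der)) (lfA (⟨2, 0, 0, [], [⟨0, [], 1122, 1, [6, 9, 12, 4, 5, 7]⟩, ⟨0, [228, 224], 1027, 0, [1, 2, 4, 5, 9, 12, 2, 3, 12, 2, 5]⟩], 2⟩ : Der)))) (ndA (nat_lit 574) (ndA (nat_lit 573) (lfA (⟨2, 0, 0, [], [⟨0, [],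 1124, 1, [7, 12, 4, 12, 6]⟩, ⟨0, [285, 278, 274], 566, 0, [1, 8, 12, 2, 4]⟩], 2⟩ : Der)) (lfA (⟨2, 0, 0, [], [⟨0, [], 1128, 1, [3, 4, 5, 9, 6]⟩, ⟨0, [752, 760], 923, 0, [3, 2, 5, 12, 2, 4, 3, 2, 1]⟩], 2⟩ : Der))) (ndA (nat_lit 575) (lfA (⟨2, 0, 0, [], [⟨0, [], 1128, 1, [7, 12, 7, 5, 6]⟩, ⟨0, [745, 742], 782, 0, [2, 1, 3, 5, 4, 3, 2, 9, 12]⟩], 2⟩ : Der)) (lfA (⟨0, 0, 0, [], [], 2⟩ : Der))))))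
noncomputable def DT36 : ℕ → Der := (ndA (nat_lit 584) (ndA (nat_lit 580) (ndA (nat_lit 578) (ndA (nat_lit 577) (lfA (⟨2, 0, 0, [], [⟨0, [], 1151, 2, [2, 1, 3, 2, 4, 3, 2, 1, 4]⟩, ⟨0, [418, 418, 416, 405], 1150, 0, []⟩], 2⟩ : Der)) (lfA (⟨2, 0, 0, [], [⟨0, [], 1151, 2, []⟩, ⟨0, [], 403, 0, [5, 7]⟩], 1⟩ : Der))) (ndA (nat_lit 579) (lfA (⟨2, 0, 0, [], [⟨0, [], 1151, 2, [1, 2]⟩, ⟨0, [], 428, 0, [5, 7]⟩], 1⟩ : Der)) (lfA (⟨2, 0, 0, [], [⟨0, [], 1151, 2, [3, 2]⟩, ⟨0, [419, 407], 428, 0, [1, 5, 4, 8, 12, 4, 7]⟩], 1⟩ : Der)))) (ndA (nat_lit 582) (ndA (nat_lit 581) (lfA (⟨2, 0, 0, [], [⟨0, [], 1151, 2, [4, 3, 2]⟩, ⟨0, [416, 418], 403, 0, [1, 4, 5, 9, 12, 4, 6]⟩], 1⟩ : Der)) (lfA (⟨2, 0, 0, [], [⟨0, [], 1154, 2,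 [4, 11]⟩, ⟨0, [152, 151], 759, 1, [7, 8, 12, 6, 5, 6, 8, 12, 4, 5, 6]⟩], 0⟩ : Der))) (ndA (nat_lit 583) (lfA (⟨2, 0, 0, [], [⟨0, [], 1156, 2, [4, 11]⟩, ⟨0, [213], 767, 1, [1, 4, 7, 5, 7, 5, 8, 12, 6]⟩], 0⟩ : Der)) (lfA (⟨2, 0, 0, [4, 11, 5, 4, 12, 4, 2, 12, 8, 5, 2, 1], [⟨0, [], 1156, 2, [5, 4, 11]⟩, ⟨0, [214], 767, 1, [7, 12, 6, 5, 9, 12, 6, 12, 6]⟩, ⟨0, [761, 752], 1163, 0, [3, 8, 12, 5, 12, 2, 1, 12, 5, 4]⟩], 2⟩ : Der))))) (ndA (nat_lit 588) (ndA (nat_lit 586) (ndA (nat_lit 585) (lfA (⟨2, 0, 0, [], [⟨0, [], 1158, 2, [5, 4, 11]⟩, ⟨0, [211, 214], 767, 1, [6, 5, 6, 5, 9, 12, 6, 5, 12]⟩], 0⟩ : Der)) (lfA (⟨2, 0, 0, [4, 3, 2], [⟨0, [], 1160, 2, [1, 3, 4, 5, 8, 10, 12, 4]⟩, ⟨0, [150, 152, 157], 1161, 1, []⟩],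 2⟩ : Der))) (ndA (nat_lit 587) (lfA (⟨2, 0, 0, [], [⟨0, [], 1162, 2, [12, 2, 1, 5, 12, 2]⟩, ⟨0, [753, 743], 772, 0, [3, 12, 6, 5, 4, 3, 9, 6, 12, 5, 6]⟩], 1⟩ : Der)) (lfA (⟨2, 0, 0, [], [⟨0, [], 1164, 2, [12, 2]⟩, ⟨0, [753, 761], 766, 0, [4, 5, 9, 6, 5, 12, 7, 7, 12]⟩], 1⟩ : Der)))) (ndA (nat_lit 590) (ndA (nat_lit 589) (lfA (⟨2, 0, 0, [], [⟨0, [], 1164, 2, [4, 3, 2, 1, 12, 2]⟩, ⟨0, [753], 758, 0, [7, 12, 5, 12, 4, 6, 8, 12, 5, 7, 5]⟩], 1⟩ : Der)) (lfA (⟨0, 0, 0, [], [], 2⟩ : Der))) (ndA (nat_lit 591) (lfA (⟨2, 0, 0, [], [⟨0, [], 1179, 2, [1, 2, 1, 4, 3, 2, 1, 4]⟩, ⟨0, [48, 46, 52, 48, 53, 48, 53, 45], 1178, 0, []⟩], 2⟩ : Der)) (lfA (⟨2, 0, 0, [], [⟨0, [], 1179, 2, []⟩, ⟨0, [], 208, 0, [12, 7]⟩], 1⟩ :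 Der))))))
noncomputable def DT37 : ℕ → Der := (ndA (nat_lit 600) (ndA (nat_lit 596) (ndA (nat_lit 594) (ndA (nat_lit 593) (lfA (⟨2, 0, 0, [], [⟨0, [], 1179, 2, [2]⟩, ⟨0, [53, 49, 53, 49, 53], 208, 0, [1, 3, 4, 12, 7]⟩], 1⟩ : Der)) (lfA (⟨2, 0, 0, [], [⟨0, [], 1179, 2, [1, 2]⟩, ⟨0, [], 148, 0, [7]⟩], 1⟩ : Der))) (ndA (nat_lit 595) (lfA (⟨2, 0, 0, [], [⟨0, [], 1179, 2, [3, 2]⟩, ⟨0, [47, 55, 47, 48, 47, 48], 208, 0, [3, 12, 7, 5, 4, 6, 5, 6, 9]⟩], 1⟩ : Der)) (lfA (⟨2, 0, 0, [], [⟨0, [], 1179, 2, [12, 2]⟩, ⟨0, [50, 54, 53, 55], 148, 0, [1, 6, 12, 6, 5, 4, 12, 5, 6, 9]⟩], 1⟩ : Der)))) (ndA (nat_lit 598) (ndA (nat_lit 597) (lfA (⟨2, 0, 0, [], [⟨0, [], 1179, 2, [1, 3, 2]⟩, ⟨0, [49, 47, 49], 208, 0, [1, 4, 12,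 5, 12, 7]⟩], 1⟩ : Der)) (lfA (⟨2, 0, 0, [], [⟨0, [], 1179, 2, [1, 12, 2]⟩, ⟨0, [53, 49, 53, 55, 47, 49], 208, 0, [4, 5, 7, 5, 8, 6, 12, 6, 8]⟩], 1⟩ : Der))) (ndA (nat_lit 599) (lfA (⟨2, 0, 0, [], [⟨0, [], 1179, 2, [4, 3, 2]⟩, ⟨0, [45], 148, 0, [3, 4, 5, 12, 6]⟩], 1⟩ : Der)) (lfA (⟨2, 0, 0, [], [⟨0, [], 1179, 2, [12, 3, 2]⟩, ⟨0, [47, 53, 55, 48], 148, 0, [6, 6, 5, 6, 12, 4, 7, 5, 9]⟩], 1⟩ : Der))))) (ndA (nat_lit 604) (ndA (nat_lit 602) (ndA (nat_lit 601) (lfA (⟨2, 0, 0, [], [⟨0, [], 1179, 2, [3, 12, 2]⟩, ⟨0, [53, 51, 53, 55, 53], 208, 0, [5, 6, 5, 12, 7, 7, 12, 4, 12, 5]⟩], 1⟩ : Der)) (lfA (⟨2, 0, 0, [], [⟨0, [], 1179, 2, [5, 12, 2]⟩, ⟨0, [47, 54, 53, 45], 148, 0, [6, 8, 12, 3, 7, 5, 4, 6, 5, 4]⟩], 1⟩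 : Der))) (ndA (nat_lit 603) (lfA (⟨2, 0, 0, [], [⟨0, [], 1179, 2, [2, 1, 3, 2]⟩, ⟨0, [47, 48, 47, 48], 148, 0, [1, 12, 5, 7]⟩], 1⟩ : Der)) (lfA (⟨2, 0, 0, [], [⟨0, [], 1179, 2, [2, 1, 12, 2]⟩, ⟨0, [55, 53, 47, 55, 47, 49], 208, 0, [1, 6, 5, 8, 7, 12, 7, 12]⟩], 1⟩ : Der)))) (ndA (nat_lit 606) (ndA (nat_lit 605) (lfA (⟨2, 0, 0, [], [⟨0, [], 1179, 2, [1, 4, 12, 2]⟩, ⟨0, [53, 55, 49, 53, 47, 49], 208, 0, [9, 6, 12, 6, 5, 4, 6, 5, 7, 12]⟩], 1⟩ : Der)) (lfA (⟨2, 0, 0, [], [⟨0, [], 1179, 2, [3, 4, 3, 2]⟩, ⟨0, [55, 47, 48, 47, 48], 208, 0, [1, 4, 6, 5, 7, 12, 4, 6, 9, 12, 5, 4]⟩], 1⟩ : Der))) (ndA (nat_lit 607) (lfA (⟨2, 0, 0, [], [⟨0, [], 1179, 2, [5, 4, 3, 2]⟩, ⟨0, [54, 47, 48, 53], 208, 0, [1, 6, 5, 9, 6, 12,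 4, 6, 9, 12]⟩], 1⟩ : Der)) (lfA (⟨2, 0, 0, [], [⟨0, [], 1179, 2, [2, 12, 3, 2]⟩, ⟨0, [53, 55, 53, 49, 47, 49], 208, 0, [3, 6, 12, 4, 7, 5, 4, 6, 5, 9]⟩], 1⟩ : Der))))))
noncomputable def DT38 : ℕ → Der := (ndA (nat_lit 616) (ndA (nat_lit 612) (ndA (nat_lit 610) (ndA (nat_lit 609) (lfA (⟨2, 0, 0, [], [⟨0, [], 1179, 2, [3, 2, 12, 2]⟩, ⟨0, [50, 53, 47, 55, 53, 49], 208, 0, [3, 4, 8, 12, 7, 5, 6, 6, 12, 4, 6, 5]⟩], 1⟩ : Der)) (lfA (⟨2, 0, 0, [], [⟨0, [], 1179, 2, [2, 4, 12, 2]⟩, ⟨0, [53, 47, 49, 53, 49], 208, 0, [6, 5, 4, 7, 7, 12, 5, 12, 7, 7, 5]⟩], 1⟩ : Der))) (ndA (nat_lit 611) (lfA (⟨2, 0, 0, [], [⟨0, [], 1179, 2, [2, 3, 12, 2]⟩, ⟨0, [51, 53, 47, 48], 208, 0, [7, 7, 12, 3, 5, 6, 8]⟩], 1⟩ : Der)) (lfA (⟨2,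 0, 0, [], [⟨0, [], 1179, 2, [12, 2, 1, 3, 2]⟩, ⟨0, [53, 54, 47, 48, 45], 208, 0, [4, 8, 12, 7, 5, 8, 12, 4, 6, 5, 9, 7]⟩], 1⟩ : Der)))) (ndA (nat_lit 614) (ndA (nat_lit 613) (lfA (⟨2, 0, 0, [], [⟨0, [], 1179, 2, [1, 3, 4, 3, 2]⟩, ⟨0, [47, 48, 45], 148, 0, [5, 12, 4, 12, 6]⟩], 1⟩ : Der)) (lfA (⟨2, 0, 0, [], [⟨0, [], 1179, 2, [1, 5, 4, 3, 2]⟩, ⟨0, [55, 51, 53, 45], 148, 0, [3, 5, 4, 7, 12, 3, 7, 12, 5, 7, 7]⟩], 1⟩ : Der))) (ndA (nat_lit 615) (lfA (⟨2, 0, 0, [], [⟨0, [], 1179, 2, [3, 2, 1, 12, 2]⟩, ⟨0, [54, 48, 53, 45], 148, 0, [3, 5, 4, 7, 5, 12, 7, 5, 12, 6, 8]⟩], 1⟩ : Der)) (lfA (⟨2, 0, 0, [], [⟨0, [], 1179, 2, [3, 2, 12, 3, 2]⟩, ⟨0, [47, 55, 53, 49, 53, 49], 208, 0, [1, 12, 5, 6, 9, 12, 7, 5, 12, 4]⟩],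 1⟩ : Der))))) (ndA (nat_lit 620) (ndA (nat_lit 618) (ndA (nat_lit 617) (lfA (⟨2, 0, 0, [], [⟨0, [], 1179, 2, [3, 2, 1, 4, 3, 2]⟩, ⟨0, [49, 47, 48], 148, 0, [1, 12, 4, 5, 4, 6]⟩], 1⟩ : Der)) (lfA (⟨2, 0, 0, [], [⟨0, [], 1179, 2, [2, 3, 2, 1, 4, 3, 2]⟩, ⟨0, [49, 47, 48, 45], 148, 0, [1, 6]⟩], 1⟩ : Der))) (ndA (nat_lit 619) (lfA (⟨2, 0, 0, [], [⟨0, [], 1179, 2, [5, 12, 2, 1, 5, 12, 2]⟩, ⟨0, [48], 76, 0, [3, 4, 5, 6, 5, 4, 12, 5, 12]⟩], 1⟩ : Der)) (lfA (⟨2, 0, 0, [], [⟨0, [], 1182, 2, [5, 11, 4, 11]⟩, ⟨0, [214, 210], 767, 1, [8, 7, 12, 5, 4, 6, 8, 12, 5, 7]⟩], 0⟩ : Der)))) (ndA (nat_lit 622) (ndA (nat_lit 621) (lfA (⟨2, 0, 0, [], [⟨0, [], 1184, 2, [11, 4, 11]⟩, ⟨0, [215, 213, 211], 767, 1, [6, 5, 4, 9, 12,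 3, 6, 5, 6, 9, 12]⟩], 0⟩ : Der)) (lfA (⟨2, 0, 0, [], [⟨0, [], 1188, 2, [5, 11, 4, 11]⟩, ⟨0, [215, 210], 767, 1, [1, 5, 6, 5, 4, 9, 12, 6, 5, 12, 4, 7]⟩], 0⟩ : Der))) (ndA (nat_lit 623) (lfA (⟨2, 0, 0, [], [⟨0, [], 1190, 2, [4, 11]⟩, ⟨0, [152], 170, 1, [1, 7, 5, 7, 5, 12, 6, 9, 12]⟩], 0⟩ : Der)) (lfA (⟨2, 0, 0, [], [⟨0, [], 1192, 2, [5, 11, 4, 11]⟩, ⟨0, [210, 214], 767, 1, [1, 6, 9, 6, 5, 7, 12, 4, 6, 5, 7, 12]⟩], 0⟩ : Der))))))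
noncomputable def DT39 : ℕ → Der := (ndA (nat_lit 632) (ndA (nat_lit 628) (ndA (nat_lit 626) (ndA (nat_lit 625) (lfA (⟨2, 0, 0, [], [⟨0, [], 1194, 2, [11]⟩, ⟨0, [], 429, 1, [3, 4, 8, 6, 12, 3, 6, 5, 7, 7]⟩], 0⟩ : Der)) (lfA (⟨2, 0, 0, [], [⟨0, [], 1194, 2, [11, 4, 11]⟩, ⟨0, [212, 210], 767, 1, [8, 7, 5, 12, 5, 6, 12]⟩], 0⟩ : Der))) (ndA (nat_lit 627) (lfA (⟨2, 0, 0, [], [⟨0, [], 1198, 2, [11, 4, 11]⟩, ⟨0, [157, 153, 157], 759, 1, [12, 7, 5, 4, 6, 5, 6, 8]⟩], 0⟩ : Der)) (lfA (⟨2, 0, 0, [], [⟨0, [], 1198, 2, [5, 11, 4, 11]⟩, ⟨0, [156, 153, 151], 759, 1, [6, 6, 12, 5, 12, 5]⟩], 0⟩ : Der)))) (ndA (nat_lit 630) (ndA (nat_lit 629) (lfA (⟨2, 0, 0, [], [⟨0, [], 1200, 2, [11, 4, 11]⟩, ⟨0, [213, 211], 767, 1, [3,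 6, 5, 9, 12, 4, 6, 5, 12, 6, 12]⟩], 0⟩ : Der)) (lfA (⟨2, 0, 0, [], [⟨0, [], 1202, 2, [11, 4, 11]⟩, ⟨0, [153], 759, 1, [6, 8, 12, 7, 5, 12, 4, 3, 6, 5, 6]⟩], 0⟩ : Der))) (ndA (nat_lit 631) (lfA (⟨2, 0, 0, [], [⟨0, [], 1206, 2, [5, 11, 4, 11]⟩, ⟨0, [], 767, 1, [3, 5, 7, 12, 6, 8, 12, 5]⟩], 0⟩ : Der)) (lfA (⟨2, 0, 0, [], [⟨0, [], 1208, 2, [11, 4, 11]⟩, ⟨0, [215], 767, 1, [1, 4, 6, 5, 4, 12, 7, 7, 5, 7, 12]⟩], 0⟩ : Der))))) (ndA (nat_lit 636) (ndA (nat_lit 634) (ndA (nat_lit 633) (lfA (⟨2, 0, 0, [], [⟨0, [], 1210, 2, [5, 11, 4, 11]⟩, ⟨0, [211], 767, 1, [5, 7, 5, 4, 8, 7, 12, 3, 5, 6, 6]⟩], 0⟩ : Der)) (lfA (⟨2, 0, 0, [], [⟨0, [], 1212, 2, [5, 11, 4, 11]⟩, ⟨0, [215, 213, 211], 767, 1, [4, 7, 12, 7, 5, 4, 7,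 5, 9, 6]⟩], 0⟩ : Der))) (ndA (nat_lit 635) (lfA (⟨2, 0, 0, [], [⟨0, [], 1214, 2, [5, 11, 4, 11]⟩, ⟨0, [211, 215], 767, 1, [4, 9, 12, 3, 6, 12, 4, 12, 6]⟩], 0⟩ : Der)) (lfA (⟨2, 0, 0, [], [⟨0, [], 1216, 2, [5, 11, 4, 11]⟩, ⟨0, [212, 211], 767, 1, [3, 8, 6, 12, 4, 12, 3, 6, 5, 8]⟩], 0⟩ : Der)))) (ndA (nat_lit 638) (ndA (nat_lit 637) (lfA (⟨2, 0, 0, [], [⟨0, [], 1218, 2, [5, 11, 4, 11]⟩, ⟨0, [210, 214], 767, 1, [6, 5, 9, 7, 12, 4, 12, 5, 6, 9, 12]⟩], 0⟩ : Der)) (lfA (⟨2, 0, 0, [], [⟨0, [], 1220, 2, [11, 4, 11]⟩, ⟨0, [213, 211], 767, 1, [1, 6, 6, 12, 4, 5, 6, 12, 4, 5, 6, 6]⟩], 0⟩ : Der))) (ndA (nat_lit 639) (lfA (⟨2, 0, 0, [], [⟨0, [], 1222, 2, [5, 11, 4, 11]⟩, ⟨0, [211, 214], 767, 1, [3, 6, 5, 9, 7, 12,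 4, 12, 5, 6, 9, 12]⟩], 0⟩ : Der)) (lfA (⟨2, 0, 0, [], [⟨0, [], 1226, 2, [11, 4, 11]⟩, ⟨0, [153, 157], 239, 1, [5, 7, 12, 5, 4, 3, 6, 5, 8, 7]⟩], 0⟩ : Der))))))
noncomputable def DT40 : ℕ → Der := (ndA (nat_lit 648) (ndA (nat_lit 644) (ndA (nat_lit 642) (ndA (nat_lit 641) (lfA (⟨2, 0, 0, [], [⟨0, [], 1226, 2, [5, 11, 4, 11]⟩, ⟨0, [153, 157, 151], 239, 1, [1, 5, 6, 5, 4, 7, 7, 12, 5, 7, 12, 5]⟩], 0⟩ : Der)) (lfA (⟨2, 0, 0, [], [⟨0, [], 1228, 2, [11, 4, 11]⟩, ⟨0, [156], 239, 1, [12, 3, 6, 5, 6, 6, 12, 4, 5, 7, 9]⟩], 0⟩ : Der))) (ndA (nat_lit 643) (lfA (⟨2, 0, 0, [], [⟨0, [], 1228, 2, [5, 11, 4, 11]⟩, ⟨0, [156, 151], 239, 1, [1, 8, 7, 12, 5, 4, 6, 12, 6, 6, 5, 6]⟩], 0⟩ : Der)) (lfA (⟨2, 0, 0, [], [⟨0, [],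 1230, 2, [11, 4, 11]⟩, ⟨0, [211, 215], 767, 1, [5, 4, 3, 7, 7, 12, 7, 5, 4, 6, 5, 6]⟩], 0⟩ : Der)))) (ndA (nat_lit 646) (ndA (nat_lit 645) (lfA (⟨2, 0, 0, [], [⟨0, [], 1232, 2, [4, 11]⟩, ⟨0, [], 166, 1, [1, 8, 6, 12, 5, 12, 7, 9]⟩], 0⟩ : Der)) (lfA (⟨2, 0, 0, [], [⟨0, [], 1236, 2, [11, 4, 11]⟩, ⟨0, [87, 85, 91, 87, 81], 116, 1, [12, 4, 7, 5, 4, 9, 12, 7, 5, 6]⟩], 0⟩ : Der))) (ndA (nat_lit 647) (lfA (⟨2, 0, 0, [], [⟨0, [], 1236, 2, [5, 11, 4, 11]⟩, ⟨0, [91, 80, 83, 80], 116, 1, [12, 7, 5, 4, 12, 6, 6, 5, 7, 9, 12]⟩], 0⟩ : Der)) (lfA (⟨2, 0, 0, [], [⟨0, [], 1238, 2, [1, 2]⟩, ⟨0, [760, 752, 743], 764, 0, [5, 6, 8, 12, 4, 6, 5, 12]⟩], 1⟩ : Der))))) (ndA (nat_lit 652) (ndA (nat_lit 650) (ndA (nat_lit 649) (lfA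 (⟨2, 0, 0, [], [⟨0, [], 1238, 2, [3, 2]⟩, ⟨0, [761, 743], 756, 0, [5, 4, 6, 5, 12, 4, 7, 5, 7, 12, 6]⟩], 1⟩ : Der)) (lfA (⟨2, 0, 0, [], [⟨0, [], 1238, 2, [12, 3, 2]⟩, ⟨0, [761, 752], 758, 0, [6, 5, 6, 5, 12, 4, 3]⟩], 1⟩ : Der))) (ndA (nat_lit 651) (lfA (⟨2, 0, 0, [], [⟨0, [], 1238, 2, [1, 5, 4, 3, 2]⟩, ⟨0, [760], 766, 0, [1, 5, 4, 6, 8, 12, 5, 12, 6, 5, 6]⟩], 1⟩ : Der)) (lfA (⟨2, 0, 0, [], [⟨0, [], 1238, 2, [4, 3, 2, 1, 12, 2]⟩, ⟨0, [], 1129, 0, [3, 5, 7, 8, 12, 5, 4, 7, 5]⟩], 1⟩ : Der)))) (ndA (nat_lit 654) (ndA (nat_lit 653) (lfA (⟨2, 0, 0, [], [⟨0, [], 1238, 2, [1, 2, 12, 2, 1, 3, 2]⟩, ⟨0, [752, 745, 743], 762, 0, [4, 9, 7, 5, 7, 12, 4, 12, 3, 6]⟩], 1⟩ : Der)) (lfA (⟨2, 0, 0, [], [⟨0, [], 1238, 2, [12,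 2, 12, 2, 1, 3, 2]⟩, ⟨0, [760, 753], 764, 0, [1, 4, 6, 12, 6, 5, 4, 8, 6, 12]⟩], 1⟩ : Der))) (ndA (nat_lit 655) (lfA (⟨2, 0, 0, [], [⟨0, [], 1238, 2, [1, 2, 1, 3, 4, 3, 2]⟩, ⟨0, [745, 743], 1129, 0, [4, 6, 6, 5, 8, 12, 4, 7, 5, 4, 12]⟩], 1⟩ : Der)) (lfA (⟨2, 0, 0, [], [⟨0, [], 1238, 2, [1, 12, 2, 1, 5, 12, 2]⟩, ⟨0, [761, 745, 742], 756, 0, [1, 7, 12, 7, 5, 4, 6, 6, 12, 5, 7]⟩], 1⟩ : Der))))))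
noncomputable def DT41 : ℕ → Der := (ndA (nat_lit 664) (ndA (nat_lit 660) (ndA (nat_lit 658) (ndA (nat_lit 657) (lfA (⟨2, 0, 0, [], [⟨0, [], 1238, 2, [3, 12, 2, 1, 5, 12, 2]⟩, ⟨0, [760, 742], 764, 0, [6, 8, 12, 3, 7, 5, 4, 7, 7, 5, 7]⟩], 1⟩ : Der)) (lfA (⟨2, 0, 0, [], [⟨0, [], 1240, 2, [4, 3, 2]⟩, ⟨0, [], 1121, 0, [3, 4, 5, 6, 12, 6, 5, 7, 12, 5, 4]⟩], 1⟩ : Der))) (ndA (nat_lit 659) (lfA (⟨2, 0, 0, [], [⟨0, [], 1240, 2, [1, 2, 12, 2, 1, 3, 2]⟩, ⟨0, [753, 745], 762, 0, [3, 4, 12, 6, 5, 7, 7, 12, 7, 8]⟩], 1⟩ : Der)) (lfA (⟨2, 0, 0, [], [⟨0, [], 1242, 2, [2, 1, 3, 2]⟩, ⟨0, [753, 745, 742], 1121, 0, [3, 5, 4, 3, 7, 5, 8, 6, 12, 4, 5]⟩], 1⟩ : Der)))) (ndA (nat_lit 662) (ndA (nat_lit 661) (lfA (⟨2, 0, 0, [],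 [⟨0, [], 1242, 2, [3, 4, 12, 2]⟩, ⟨0, [753, 742], 772, 0, [8, 12, 6, 5, 4, 7, 7, 5, 12, 7, 8]⟩], 1⟩ : Der)) (lfA (⟨2, 0, 0, [], [⟨0, [], 1242, 2, [12, 2, 1, 3, 2]⟩, ⟨0, [752, 743], 754, 0, [8, 7, 5, 12, 4, 6, 6, 5, 12, 7, 8]⟩], 1⟩ : Der))) (ndA (nat_lit 663) (lfA (⟨2, 0, 0, [], [⟨0, [], 1242, 2, [2, 1, 4, 12, 2]⟩, ⟨0, [753, 761], 772, 0, [1, 12, 5, 4, 6, 8, 12, 5, 4, 6, 9]⟩], 1⟩ : Der)) (lfA (⟨2, 0, 0, [], [⟨0, [], 1242, 2, [12, 2, 12, 2, 1, 3, 2]⟩, ⟨0, [745, 760, 743], 772, 0, [3, 6, 5, 8, 7, 5, 12, 6]⟩], 1⟩ : Der))))) (ndA (nat_lit 668) (ndA (nat_lit 666) (ndA (nat_lit 665) (lfA (⟨2, 0, 0, [], [⟨0, [], 1244, 2, [4, 12, 2]⟩, ⟨0, [135, 127, 119], 707, 0, [5, 7, 12, 4, 5, 4, 6, 5, 9, 7]⟩], 1⟩ : Der)) (lfA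 (⟨2, 0, 0, [], [⟨0, [], 1244, 2, [5, 4, 3, 2]⟩, ⟨0, [127, 135, 135], 707, 0, [5, 12, 3, 6, 12, 5, 4, 7, 5, 7, 9]⟩], 1⟩ : Der))) (ndA (nat_lit 667) (lfA (⟨2, 0, 0, [], [⟨0, [], 1244, 2, [12, 4, 3, 2]⟩, ⟨0, [129, 135, 121], 594, 0, [4, 7, 5, 4, 9, 6, 12, 6, 12]⟩], 1⟩ : Der)) (lfA (⟨2, 0, 0, [], [⟨0, [], 1244, 2, [2, 12, 3, 2]⟩, ⟨0, [129, 135, 119], 594, 0, [4, 7, 9, 7, 5, 4, 12, 3, 6, 5]⟩], 1⟩ : Der)))) (ndA (nat_lit 670) (ndA (nat_lit 669) (lfA (⟨2, 0, 0, [], [⟨0, [], 1244, 2, [2, 3, 4, 12, 2]⟩, ⟨0, [127], 187, 0, [9, 7, 12, 7, 7, 5, 4, 7, 12]⟩], 1⟩ : Der)) (lfA (⟨2, 0, 0, [], [⟨0, [], 1246, 2, [3, 5, 4, 3, 2]⟩, ⟨0, [], 764, 0, [1, 7, 5, 4, 6, 5, 6, 9, 6]⟩], 1⟩ : Der))) (ndA (nat_lit 671) (lfA (⟨2, 0, 0,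 [], [⟨0, [], 1246, 2, [12, 2, 12, 2, 1, 3, 2]⟩, ⟨0, [752, 760, 745, 743], 1121, 0, [12, 5, 12, 7, 5, 7, 5, 4, 12, 5]⟩], 1⟩ : Der)) (lfA (⟨2, 0, 0, [], [⟨0, [], 1248, 2, [3, 2, 1, 4, 3, 2]⟩, ⟨0, [419, 416, 407, 405], 621, 0, [4, 7, 5, 4, 6, 5, 9, 7, 12, 3]⟩], 1⟩ : Der))))))
noncomputable def DT42 : ℕ → Der := (ndA (nat_lit 680) (ndA (nat_lit 676) (ndA (nat_lit 674) (ndA (nat_lit 673) (lfA (⟨2, 0, 0, [], [⟨0, [], 1248, 2, [12, 2, 1, 5, 12, 2]⟩, ⟨0, [407, 418, 418], 621, 0, [5, 4, 7, 5, 4, 8, 7, 12, 7, 9]⟩], 1⟩ : Der)) (lfA (⟨2, 0, 0, [], [⟨0, [], 1250, 2, [3, 4, 3, 2]⟩, ⟨0, [753, 761], 1129, 0, [1, 5, 6, 8, 12, 4, 12, 5, 7, 5]⟩], 1⟩ : Der))) (ndA (nat_lit 675) (lfA (⟨2, 0, 0, [], [⟨0, [], 1250, 2, [3, 2,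 1, 4, 3, 2]⟩, ⟨0, [752, 761, 743], 758, 0, [8, 7, 12, 5, 12, 4, 6, 5, 8, 12]⟩], 1⟩ : Der)) (lfA (⟨2, 0, 0, [], [⟨0, [], 1252, 2, [2, 1, 5, 4, 3, 2]⟩, ⟨0, [761, 742], 770, 0, [1, 4, 6, 9, 12, 5, 4, 6, 5, 12, 4, 7]⟩], 1⟩ : Der)))) (ndA (nat_lit 678) (ndA (nat_lit 677) (lfA (⟨2, 0, 0, [], [⟨0, [], 1252, 2, [3, 2, 1, 5, 4, 3, 2]⟩, ⟨0, [760], 741, 0, [7, 7, 7, 12, 5, 4, 6, 5, 7, 9]⟩], 1⟩ : Der)) (lfA (⟨2, 0, 0, [], [⟨0, [], 1252, 2, [5, 12, 2, 1, 5, 12, 2]⟩, ⟨0, [760, 752, 743], 756, 0, [3, 5, 12, 5, 6, 12, 7, 12]⟩], 1⟩ : Der))) (ndA (nat_lit 679) (lfA (⟨2, 0, 0, [], [⟨0, [], 1254, 2, [1, 3, 2, 1, 12, 2]⟩, ⟨0, [761, 743], 772, 0, [5, 4, 7, 9, 12, 6, 5, 4, 3, 9, 6]⟩], 1⟩ : Der)) (lfA (⟨2, 0, 0, [], [⟨0, [],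 1256, 2, [4, 12, 3, 2]⟩, ⟨0, [753, 760, 743], 758, 0, [1, 7, 5, 7, 8, 12, 5, 7, 12]⟩], 1⟩ : Der))))) (ndA (nat_lit 684) (ndA (nat_lit 682) (ndA (nat_lit 681) (lfA (⟨2, 0, 0, [], [⟨0, [], 1256, 2, [1, 4, 5, 12, 2]⟩, ⟨0, [753, 760], 762, 0, [4, 12, 5, 7, 5, 4, 12, 5, 7, 5, 8]⟩], 1⟩ : Der)) (lfA (⟨2, 0, 0, [], [⟨0, [], 1256, 2, [5, 12, 2, 1, 5, 12, 2]⟩, ⟨0, [753, 760, 743], 766, 0, [7, 7, 5, 4, 6, 5, 12, 7, 5, 8]⟩], 1⟩ : Der))) (ndA (nat_lit 683) (lfA (⟨2, 0, 0, [], [⟨0, [], 1258, 2, [2, 1, 4, 12, 2]⟩, ⟨0, [753, 742], 770, 0, [1, 5, 7, 5, 8, 12, 4, 6, 5, 4, 6]⟩], 1⟩ : Der)) (lfA (⟨2, 0, 0, [], [⟨0, [], 1258, 2, [1, 3, 2, 1, 12, 2]⟩, ⟨0, [753, 760], 1121, 0, [1, 12, 7, 5, 6, 9, 12, 4, 5, 4]⟩], 1⟩ : Der))))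 (ndA (nat_lit 686) (ndA (nat_lit 685) (lfA (⟨2, 0, 0, [], [⟨0, [], 1260, 2, [2, 1, 12, 2]⟩, ⟨0, [760], 758, 0, [1, 5, 6, 5, 4, 12, 4]⟩], 1⟩ : Der)) (lfA (⟨2, 0, 0, [], [⟨0, [], 1260, 2, [1, 2, 1, 12, 2]⟩, ⟨0, [753], 758, 0, [4, 5, 8, 12, 7, 12, 5, 12, 7]⟩], 1⟩ : Der))) (ndA (nat_lit 687) (lfA (⟨2, 0, 0, [], [⟨0, [], 1262, 2, [3, 2, 1, 4, 3, 2]⟩, ⟨0, [753, 745, 742], 1121, 0, [3, 9, 7, 5, 4, 6, 12, 3, 5, 7]⟩], 1⟩ : Der)) (lfA (⟨2, 0, 0, [], [⟨0, [], 1264, 2, [2, 3, 4, 3, 2]⟩, ⟨0, [761, 753], 1121, 0, [4, 8, 6, 12, 6, 6, 5, 4, 12, 6, 12]⟩], 1⟩ : Der))))))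
noncomputable def DT43 : ℕ → Der := (ndA (nat_lit 696) (ndA (nat_lit 692) (ndA (nat_lit 690) (ndA (nat_lit 689) (lfA (⟨2, 0, 0, [], [⟨0, [], 1266, 2, [2, 1, 4, 3, 2]⟩, ⟨0, [743], 1121, 0, [1, 9, 12, 7, 12, 5, 12, 4, 6, 9]⟩], 1⟩ : Der)) (lfA (⟨2, 0, 0, [], [⟨0, [], 1266, 2, [2, 1, 3, 4, 3, 2]⟩, ⟨0, [761, 743], 1121, 0, [3, 6, 9, 12, 4, 6, 12, 3, 6]⟩], 1⟩ : Der))) (ndA (nat_lit 691) (lfA (⟨2, 0, 0, [], [⟨0, [], 1266, 2, [1, 2, 1, 3, 4, 3, 2]⟩, ⟨0, [760, 743], 1121, 0, [1, 5, 6, 5, 12, 4, 12]⟩], 1⟩ : Der)) (lfA (⟨2, 0, 0, [], [⟨0, [], 1268, 2, [1, 5, 4, 3, 2]⟩, ⟨0, [760, 752], 758, 0, [7, 5, 4, 3, 4, 7, 5, 8]⟩], 1⟩ : Der)))) (ndA (nat_lit 694) (ndA (nat_lit 693) (lfA (⟨2, 0, 0, [], [⟨0, [], 1268, 2, [2, 1,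 5, 12, 2]⟩, ⟨0, [745], 764, 0, [4, 9, 12, 4, 6, 12, 6, 5, 4, 7, 5]⟩], 1⟩ : Der)) (lfA (⟨2, 0, 0, [], [⟨0, [], 1268, 2, [3, 2, 1, 5, 4, 3, 2]⟩, ⟨0, [760, 745, 742], 756, 0, [3, 8, 12, 7, 5, 4, 12, 6, 5, 6, 6]⟩], 1⟩ : Der))) (ndA (nat_lit 695) (lfA (⟨2, 0, 0, [], [⟨0, [], 1270, 2, [1, 4, 12, 2]⟩, ⟨0, [760, 745], 766, 0, [5, 7, 8, 12, 5, 4, 7, 12, 5, 6]⟩], 1⟩ : Der)) (lfA (⟨2, 0, 0, [], [⟨0, [], 1270, 2, [2, 12, 2, 1, 3, 2]⟩, ⟨0, [752, 760, 745, 743], 756, 0, [1, 4, 8, 7, 5, 12, 4, 6, 12, 6]⟩], 1⟩ : Der))))) (ndA (nat_lit 700) (ndA (nat_lit 698) (ndA (nat_lit 697) (lfA (⟨2, 0, 0, [], [⟨0, [], 1270, 2, [5, 12, 2, 1, 5, 12, 2]⟩, ⟨0, [752, 761], 756, 0, [1, 5, 12, 7, 12, 4, 12, 6, 5, 12]⟩], 1⟩ : Der)) (lfA (⟨2,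 0, 0, [], [⟨0, [], 1272, 2, [5, 12, 2, 1, 5, 12, 2]⟩, ⟨0, [753, 761], 762, 0, [1, 4, 9, 7, 5, 12, 7, 7, 12, 4]⟩], 1⟩ : Der))) (ndA (nat_lit 699) (lfA (⟨2, 0, 0, [], [⟨0, [], 1274, 2, [5, 4, 3, 2]⟩, ⟨0, [752, 761], 758, 0, [1, 5, 6, 8, 6, 12, 6, 5, 7]⟩], 1⟩ : Der)) (lfA (⟨2, 0, 0, [], [⟨0, [], 1274, 2, [4, 3, 2, 1, 12, 2]⟩, ⟨0, [745, 742], 764, 0, [4, 5, 6, 5, 12, 3, 6, 12]⟩], 1⟩ : Der)))) (ndA (nat_lit 702) (ndA (nat_lit 701) (lfA (⟨2, 0, 0, [], [⟨0, [], 1276, 2, [2, 1, 3, 2]⟩, ⟨0, [753, 742], 756, 0, [4, 5, 12, 7, 7, 5, 7, 12, 6, 8]⟩], 1⟩ : Der)) (lfA (⟨2, 0, 0, [], [⟨0, [], 1276, 2, [3, 2, 1, 4, 3, 2]⟩, ⟨0, [760, 752, 743], 756, 0, [3, 4, 5, 4, 6, 12, 5, 6, 12, 4, 12]⟩], 1⟩ : Der))) (ndA (nat_lit 703)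 (lfA (⟨2, 0, 0, [], [⟨0, [], 1276, 2, [2, 1, 3, 2, 1, 12, 2]⟩, ⟨0, [742], 758, 0, [3, 4, 5, 8, 7, 12, 4, 3, 6, 5]⟩], 1⟩ : Der)) (lfA (⟨2, 0, 0, [], [⟨0, [], 1278, 2, [1, 2, 1, 3, 4, 3, 2]⟩, ⟨0, [228, 237, 228, 225], 686, 0, [3, 6, 9, 12, 6, 5, 4, 6, 5, 6]⟩], 1⟩ : Der))))))
noncomputable def DT44 : ℕ → Der := (ndA (nat_lit 712) (ndA (nat_lit 708) (ndA (nat_lit 706) (ndA (nat_lit 705) (lfA (⟨2, 0, 0, [], [⟨0, [], 1280, 2, [1, 2, 1, 12, 2]⟩, ⟨0, [231, 226], 1123, 0, [7, 7, 5, 4, 12, 5, 7, 5, 9]⟩], 1⟩ : Der)) (lfA (⟨2, 0, 0, [], [⟨0, [], 1282, 2, [2, 3, 2, 1, 4, 3, 2]⟩, ⟨0, [229, 226], 1123, 0, [8, 6, 12, 4, 7, 12, 6, 5, 7]⟩], 1⟩ : Der))) (ndA (nat_lit 707) (lfA (⟨2, 0, 0, [], [⟨0, [], 1284, 2, [5, 12, 2,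 1, 5, 12, 2]⟩, ⟨0, [231, 237, 229, 225], 1123, 0, [5, 4, 7, 7, 5, 12, 7, 5, 4, 8, 6]⟩], 1⟩ : Der)) (lfA (⟨2, 0, 0, [], [⟨0, [], 1286, 2, [2, 1, 4, 12, 2]⟩, ⟨0, [752, 760, 745], 762, 0, [4, 3, 6, 12, 7, 5, 6, 9]⟩], 1⟩ : Der)))) (ndA (nat_lit 710) (ndA (nat_lit 709) (lfA (⟨2, 0, 0, [], [⟨0, [], 1286, 2, [2, 3, 4, 12, 2]⟩, ⟨0, [760, 752, 743], 754, 0, [3, 6, 5, 7, 12, 4, 12, 6, 9]⟩], 1⟩ : Der)) (lfA (⟨2, 0, 0, [], [⟨0, [], 1286, 2, [2, 3, 2, 1, 4, 3, 2]⟩, ⟨0, [752], 762, 0, [1, 4, 3, 5, 4, 7, 5, 7, 12, 4, 3]⟩], 1⟩ : Der))) (ndA (nat_lit 711) (lfA (⟨2, 0, 0, [], [⟨0, [], 1286, 2, [5, 12, 2, 1, 5, 12, 2]⟩, ⟨0, [752, 745, 742], 756, 0, [1, 5, 7, 7, 7, 12, 4, 7]⟩], 1⟩ : Der)) (lfA (⟨2, 0, 0, [], [⟨0, [], 1288,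 2, [2, 12, 2, 1, 3, 2]⟩, ⟨0, [125, 135], 171, 0, [1, 12, 5, 12, 4, 7, 5, 4, 9, 12]⟩], 1⟩ : Der))))) (ndA (nat_lit 716) (ndA (nat_lit 714) (ndA (nat_lit 713) (lfA (⟨2, 0, 0, [], [⟨0, [], 1288, 2, [1, 2, 12, 2, 1, 3, 2]⟩, ⟨0, [135, 125], 171, 0, [7, 5, 6, 12, 6, 9, 12, 4, 5, 4]⟩], 1⟩ : Der)) (lfA (⟨2, 0, 0, [], [⟨0, [], 1290, 2, [3, 2, 1, 5, 12, 2]⟩, ⟨0, [135], 707, 0, [3, 9, 6, 5, 4, 3, 6, 5, 6, 6, 12]⟩], 1⟩ : Der))) (ndA (nat_lit 715) (lfA (⟨2, 0, 0, [], [⟨0, [], 1292, 2, [2, 1, 4, 12, 2]⟩, ⟨0, [134, 127, 134], 594, 0, [4, 3, 12, 6, 5, 12, 4, 6, 9]⟩], 1⟩ : Der)) (lfA (⟨2, 0, 0, [], [⟨0, [], 1292, 2, [3, 5, 4, 3, 2]⟩, ⟨0, [134, 127, 121], 543, 0, [1, 3, 4, 5, 9, 7, 5, 12, 4, 3]⟩], 1⟩ : Der)))) (ndA (nat_lit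 718) (ndA (nat_lit 717) (lfA (⟨2, 0, 0, [], [⟨0, [], 1292, 2, [12, 2, 1, 5, 12, 2]⟩, ⟨0, [127, 135, 123], 707, 0, [3, 9, 6, 12, 5, 6, 12, 4, 6, 6, 5]⟩], 1⟩ : Der)) (lfA (⟨2, 0, 0, [], [⟨0, [], 1294, 2, [5, 4, 11]⟩, ⟨0, [432], 581, 1, [1, 8, 7, 5, 4, 12, 6, 5, 4, 7, 12, 7]⟩], 0⟩ : Der))) (ndA (nat_lit 719) (lfA (⟨2, 0, 0, [], [⟨0, [], 1296, 2, [11, 4, 11]⟩, ⟨0, [705, 689], 706, 1, [5, 4, 8, 6, 12, 5, 12, 4, 7, 5]⟩], 0⟩ : Der)) (lfA (⟨2, 0, 0, [], [⟨0, [], 1298, 2, [4, 11]⟩, ⟨0, [157, 151], 402, 1, [3, 5, 12, 4, 6, 5, 4, 7]⟩], 0⟩ : Der))))))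
noncomputable def DT45 : ℕ → Der := (ndA (nat_lit 728) (ndA (nat_lit 724) (ndA (nat_lit 722) (ndA (nat_lit 721) (lfA (⟨2, 0, 0, [], [⟨0, [], 1300, 2, [4, 11]⟩, ⟨0, [210], 767, 1, [8, 12, 4, 5, 7, 9, 12, 5]⟩], 0⟩ : Der)) (lfA (⟨2, 0, 0, [], [⟨0, [], 1302, 2, [11, 4, 11]⟩, ⟨0, [1117], 1118, 1, [4, 12, 7, 5, 8, 6, 12, 4, 5, 7]⟩], 0⟩ : Der))) (ndA (nat_lit 723) (lfA (⟨2, 0, 0, [], [⟨0, [], 1306, 2, [5, 11, 4, 11]⟩, ⟨0, [435, 433], 581, 1, [4, 7, 12, 4, 6, 5, 4, 8]⟩], 0⟩ : Der)) (lfA (⟨2, 0, 0, [], [⟨0, [], 1308, 2, [5, 4, 11]⟩, ⟨0, [], 1124, 1, [4, 5, 7, 7, 5, 12, 6, 5]⟩], 0⟩ : Der)))) (ndA (nat_lit 726) (ndA (nat_lit 725) (lfA (⟨2, 0, 0, [], [⟨0, [], 1310, 2, [11, 4, 11]⟩, ⟨0, [], 706, 1, [3, 12, 4, 5, 7,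 7, 12, 5]⟩], 0⟩ : Der)) (lfA (⟨2, 0, 0, [], [⟨0, [], 1312, 2, [5, 11, 4, 11]⟩, ⟨0, [], 431, 1, [1, 4, 6, 5, 6, 12, 4, 12, 7, 12]⟩], 0⟩ : Der))) (ndA (nat_lit 727) (lfA (⟨2, 0, 0, [], [⟨0, [], 1314, 2, [4, 11]⟩, ⟨0, [1117], 1099, 1, [6, 5, 4, 7, 5, 6, 9, 12, 3, 4]⟩], 0⟩ : Der)) (lfA (⟨2, 0, 0, [], [⟨0, [], 1314, 2, [5, 11, 4, 11]⟩, ⟨0, [], 1122, 1, [1, 6, 8, 12, 5]⟩], 0⟩ : Der))))) (ndA (nat_lit 732) (ndA (nat_lit 730) (ndA (nat_lit 729) (lfA (⟨2, 0, 0, [], [⟨0, [], 1320, 2, [5, 11, 4, 11]⟩, ⟨0, [611, 596], 763, 1, [1, 8, 7, 12, 4, 12, 5, 6, 6, 5]⟩], 0⟩ : Der)) (lfA (⟨2, 0, 0, [], [⟨0, [], 1324, 2, [5, 4, 11]⟩, ⟨0, [597], 612, 1, [6, 8, 12, 5, 7, 12, 4, 12, 6, 5]⟩], 0⟩ : Der))) (ndA (nat_lit 731) (lfA (⟨2,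 0, 0, [], [⟨0, [], 1326, 2, [5, 11, 4, 11]⟩, ⟨0, [], 614, 1, [3, 7, 12, 4, 6, 12, 3, 6]⟩], 0⟩ : Der)) (lfA (⟨2, 0, 0, [], [⟨0, [], 1328, 2, [5, 11, 4, 11]⟩, ⟨0, [705, 689], 757, 1, [6, 6, 6]⟩], 0⟩ : Der)))) (ndA (nat_lit 734) (ndA (nat_lit 733) (lfA (⟨2, 0, 0, [], [⟨0, [], 1332, 2, [11]⟩, ⟨0, [611], 620, 1, [1, 5, 4, 7, 5, 6, 12, 4, 12, 7, 8]⟩], 0⟩ : Der)) (lfA (⟨2, 0, 0, [], [⟨0, [], 1334, 2, [11, 4, 11]⟩, ⟨0, [611, 597], 763, 1, [3, 5, 7, 12, 4, 12, 7, 7, 5, 12]⟩], 0⟩ : Der))) (ndA (nat_lit 735) (lfA (⟨2, 0, 0, [], [⟨0, [], 1338, 2, [11, 4, 11]⟩, ⟨0, [], 431, 1, [1, 5, 4, 6, 12, 5, 6, 6, 12]⟩], 0⟩ : Der)) (lfA (⟨2, 0, 0, [], [⟨0, [], 1344, 2, [5, 11, 4, 11]⟩, ⟨0, [], 616, 1, [3, 5, 7, 12, 4, 6, 8, 12,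 7, 5]⟩], 0⟩ : Der))))))
noncomputable def DT46 : ℕ → Der := (ndA (nat_lit 744) (ndA (nat_lit 740) (ndA (nat_lit 738) (ndA (nat_lit 737) (lfA (⟨2, 0, 0, [], [⟨0, [], 1346, 2, [11]⟩, ⟨0, [1100], 1126, 1, [8, 12, 5, 12, 4, 6, 5, 4]⟩], 0⟩ : Der)) (lfA (⟨2, 0, 0, [], [⟨0, [], 1354, 2, [11, 4, 11]⟩, ⟨0, [], 706, 1, [5, 12, 7, 5, 4, 3, 9, 7, 12]⟩], 0⟩ : Der))) (ndA (nat_lit 739) (lfA (⟨2, 0, 0, [], [⟨0, [], 1356, 2, [5, 4, 11]⟩, ⟨0, [597], 612, 1, [1, 3, 6, 5, 4, 7, 12, 6, 6, 5]⟩], 0⟩ : Der)) (lfA (⟨2, 0, 0, [], [⟨0, [], 1434, 2, [3, 2, 12, 2]⟩, ⟨0, [], 545, 0, [5, 12, 7, 8, 12, 5, 12, 6, 5, 4]⟩], 1⟩ : Der)))) (ndA (nat_lit 742) (ndA (nat_lit 741) (lfA (⟨2, 0, 0, [], [⟨0, [], 1434, 2, [2, 1, 4, 3, 2]⟩, ⟨0, [284,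 275], 1098, 0, [7, 7, 12, 3, 5, 7, 12, 4, 5, 6, 8]⟩], 1⟩ : Der)) (lfA (⟨2, 0, 0, [], [⟨0, [], 1434, 2, [2, 3, 4, 3, 2]⟩, ⟨0, [284, 275], 547, 0, [1, 8, 6, 5, 12, 4, 12, 7, 12, 5, 6]⟩], 1⟩ : Der))) (ndA (nat_lit 743) (lfA (⟨2, 0, 0, [], [⟨0, [], 1434, 2, [2, 12, 3, 4, 12, 2]⟩, ⟨0, [284], 580, 0, [4, 3, 9, 7, 5, 7, 12, 4, 5, 7]⟩], 1⟩ : Der)) (lfA (⟨2, 0, 0, [], [⟨0, [], 1434, 2, [1, 2, 1, 3, 4, 3, 2]⟩, ⟨0, [279, 284, 279], 521, 0, [8, 6, 5, 7, 12, 4, 7]⟩], 1⟩ : Der))))) (ndA (nat_lit 748) (ndA (nat_lit 746) (ndA (nat_lit 745) (lfA (⟨2, 0, 0, [], [⟨0, [], 1434, 2, [5, 12, 2, 1, 5, 12, 2]⟩, ⟨0, [278, 275], 613, 0, [4, 3, 12, 7, 5, 7, 12, 4, 5, 6, 8]⟩], 1⟩ : Der)) (lfA (⟨2, 0, 0, [], [⟨0, [], 1436, 2, [1, 5,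 4, 3, 2]⟩, ⟨0, [134, 129, 119], 543, 0, [4, 8, 12, 5, 12, 7, 12, 5, 7]⟩], 1⟩ : Der))) (ndA (nat_lit 747) (lfA (⟨2, 0, 0, [], [⟨0, [], 1438, 2, [2, 12, 2, 1, 3, 2]⟩, ⟨0, [407, 418, 418], 621, 0, [7, 12, 6, 6, 5, 12, 4, 6, 9]⟩], 1⟩ : Der)) (lfA (⟨2, 0, 0, [], [⟨0, [], 1440, 2, [12, 2, 1, 4, 12, 2]⟩, ⟨0, [761, 753], 758, 0, [1, 6, 8, 12, 4, 5, 7, 12, 4]⟩], 1⟩ : Der)))) (ndA (nat_lit 750) (ndA (nat_lit 749) (lfA (⟨2, 0, 0, [], [⟨0, [], 1442, 2, [3, 4, 3, 2]⟩, ⟨0, [278], 617, 0, [1, 6, 5, 4, 7, 7, 5, 7, 9, 12, 6, 9]⟩], 1⟩ : Der)) (lfA (⟨2, 0, 0, [], [⟨0, [], 1444, 2, [3, 2, 12, 2]⟩, ⟨0, [285, 277], 545, 0, [5, 12, 3, 4, 6, 5, 7, 7, 5]⟩], 1⟩ : Der))) (ndA (nat_lit 751) (lfA (⟨2, 0, 0, [], [⟨0, [], 1446, 2, [1,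 4, 12, 2]⟩, ⟨0, [279, 284, 279, 275], 547, 0, [4, 5, 4, 6, 9, 12, 6, 12, 5, 6]⟩], 1⟩ : Der)) (lfA (⟨2, 0, 0, [], [⟨0, [], 1446, 2, [12, 2, 1, 5, 12, 2]⟩, ⟨0, [275, 285], 613, 0, [4, 3, 12, 6, 5, 7, 12, 7, 8, 12]⟩], 1⟩ : Der))))))
noncomputable def DT47 : ℕ → Der := (ndA (nat_lit 760) (ndA (nat_lit 756) (ndA (nat_lit 754) (ndA (nat_lit 753) (lfA (⟨2, 0, 0, [], [⟨0, [], 1448, 2, [3, 2]⟩, ⟨0, [129, 127, 121, 119], 594, 0, [3, 9, 7, 5, 12, 4, 6, 5, 7, 8, 12]⟩], 1⟩ : Der)) (lfA (⟨2, 0, 0, [], [⟨0, [], 1448, 2, [2, 1, 12, 2]⟩, ⟨0, [129, 121, 125], 707, 0, [1, 6, 5, 4, 6, 8, 6, 12, 4]⟩], 1⟩ : Der))) (ndA (nat_lit 755) (lfA (⟨2, 0, 0, [], [⟨0, [], 1448, 2, [2, 12, 3, 4, 12, 2]⟩, ⟨0, [135, 127, 119], 707, 0, [4,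 3, 5, 7, 12, 7, 5, 4, 6, 5]⟩], 1⟩ : Der)) (lfA (⟨2, 0, 0, [], [⟨0, [], 1452, 2, [2, 1, 12, 2]⟩, ⟨0, [275, 285, 275], 613, 0, [6, 6, 12, 6, 5, 4, 6, 6, 8, 12, 5]⟩], 1⟩ : Der)))) (ndA (nat_lit 758) (ndA (nat_lit 757) (lfA (⟨2, 0, 0, [], [⟨0, [], 1452, 2, [1, 2, 1, 12, 2]⟩, ⟨0, [285, 279], 545, 0, [5, 4, 7, 5, 4, 12, 5, 7, 7, 5]⟩], 1⟩ : Der)) (lfA (⟨2, 0, 0, [], [⟨0, [], 1452, 2, [1, 3, 2, 1, 12, 2]⟩, ⟨0, [275], 519, 0, [1, 7, 5, 7, 5, 12, 4, 12, 7, 5]⟩], 1⟩ : Der))) (ndA (nat_lit 759) (lfA (⟨2, 0, 0, [], [⟨0, [], 1454, 2, [3, 12, 2]⟩, ⟨0, [237, 227], 238, 0, [4, 5, 4, 6, 5, 9, 7, 12, 3, 4, 12, 6]⟩], 1⟩ : Der)) (lfA (⟨2, 0, 0, [], [⟨0, [], 1456, 2, [2, 3, 12, 2]⟩, ⟨0, [760, 745], 754, 0, [4, 12, 5, 6, 5,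 4, 7, 12, 6]⟩], 1⟩ : Der))))) (ndA (nat_lit 764) (ndA (nat_lit 762) (ndA (nat_lit 761) (lfA (⟨2, 0, 0, [], [⟨0, [], 1458, 2, [1, 3, 2]⟩, ⟨0, [285, 277, 275], 547, 0, [1, 7, 7, 12, 6, 5, 12, 4, 7, 5, 7]⟩], 1⟩ : Der)) (lfA (⟨2, 0, 0, [], [⟨0, [], 1458, 2, [1, 12, 2]⟩, ⟨0, [285], 1098, 0, [4, 9, 7, 5, 6, 12, 4, 12, 6, 6]⟩], 1⟩ : Der))) (ndA (nat_lit 763) (lfA (⟨2, 0, 0, [], [⟨0, [], 1458, 2, [2, 3, 12, 2]⟩, ⟨0, [279, 285, 275], 1098, 0, [7, 5, 7, 12, 4, 6, 12, 5, 7, 7]⟩], 1⟩ : Der)) (lfA (⟨2, 0, 0, [], [⟨0, [], 1460, 2, [1, 12, 2, 1, 5, 12, 2]⟩, ⟨0, [274, 285], 1125, 0, [4, 12, 4, 7, 5, 9, 12, 4, 6, 5, 7]⟩], 1⟩ : Der)))) (ndA (nat_lit 766) (ndA (nat_lit 765) (lfA (⟨2, 0, 0, [], [⟨0, [], 1462, 2, [1, 4, 12,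 2]⟩, ⟨0, [745, 761], 770, 0, [4, 5, 7, 5, 8, 12, 4, 12, 6]⟩], 1⟩ : Der)) (lfA (⟨2, 0, 0, [], [⟨0, [], 1464, 2, [1, 3, 4, 3, 2]⟩, ⟨0, [407], 428, 0, [1, 7, 12, 4, 12, 6, 5, 12, 6, 6]⟩], 1⟩ : Der))) (ndA (nat_lit 767) (lfA (⟨2, 0, 0, [], [⟨0, [], 1464, 2, [1, 5, 4, 3, 2]⟩, ⟨0, [], 1127, 0, [1, 5, 7, 12, 7, 7, 12, 5, 7, 9]⟩], 1⟩ : Der)) (lfA (⟨2, 0, 0, [], [⟨0, [], 1470, 2, [3, 4, 12, 2]⟩, ⟨0, [284, 279], 617, 0, [4, 9, 12, 6, 5, 4, 6, 5, 12, 6, 6]⟩], 1⟩ : Der))))))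
noncomputable def DT48 : ℕ → Der := (ndA (nat_lit 776) (ndA (nat_lit 772) (ndA (nat_lit 770) (ndA (nat_lit 769) (lfA (⟨2, 0, 0, [], [⟨0, [], 1474, 2, [1, 5, 4, 3, 2]⟩, ⟨0, [135, 123], 594, 0, [4, 3, 5, 9, 6, 5, 12, 4, 7, 5]⟩], 1⟩ : Der)) (lfA (⟨2, 0, 0, [], [⟨0, [], 1476, 2, [1, 2, 1, 3, 4, 3, 2]⟩, ⟨0, [278, 274], 547, 0, [4, 6, 6, 12, 5, 7, 8, 12, 4, 7, 5]⟩], 1⟩ : Der))) (ndA (nat_lit 771) (lfA (⟨0, 0, 0, [], [], 0⟩ : Der)) (lfA (⟨2, 0, 0, [], [⟨0, [], 1541, 0, [12]⟩, ⟨0, [154], 1540, 1, []⟩], 0⟩ : Der)))) (ndA (nat_lit 774) (ndA (nat_lit 773) (lfA (⟨2, 0, 0, [], [⟨0, [], 1541, 0, []⟩, ⟨0, [], 1187, 1, [11]⟩], 2⟩ : Der)) (lfA (⟨2, 0, 0, [], [⟨0, [], 1541, 0, [5, 7]⟩, ⟨0, [155, 153], 422, 1, [5, 10]⟩],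 2⟩ : Der))) (ndA (nat_lit 775) (lfA (⟨2, 0, 0, [], [⟨0, [], 1541, 0, [6, 5, 7]⟩, ⟨0, [156, 155, 153], 1199, 1, [4, 8, 12, 10]⟩], 2⟩ : Der)) (lfA (⟨2, 0, 0, [], [⟨0, [], 1541, 0, [5, 8, 7]⟩, ⟨0, [157, 155, 152], 909, 1, [4, 8, 11, 4, 3, 12]⟩], 2⟩ : Der))))) (ndA (nat_lit 780) (ndA (nat_lit 778) (ndA (nat_lit 777) (lfA (⟨2, 0, 0, [], [⟨0, [], 1541, 0, [6, 12, 7]⟩, ⟨0, [153, 157, 153], 1187, 1, [1, 4, 5, 4, 11]⟩], 2⟩ : Der)) (lfA (⟨2, 0, 0, [], [⟨0, [], 1541, 0, [7, 5, 6]⟩, ⟨0, [155], 1225, 1, [1, 4, 5, 11]⟩], 2⟩ : Der))) (ndA (nat_lit 779) (lfA (⟨2, 0, 0, [], [⟨0, [], 1541, 0, [6, 5, 6]⟩, ⟨0, [157, 151], 341, 1, [1, 5, 8, 10, 12, 4]⟩], 2⟩ : Der)) (lfA (⟨2, 0, 0, [], [⟨0, [], 1541, 0, [5, 12, 6]⟩, ⟨0, [156,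 153], 1405, 1, [8, 10, 12, 4, 10, 4, 5]⟩], 2⟩ : Der)))) (ndA (nat_lit 782) (ndA (nat_lit 781) (lfA (⟨2, 0, 0, [], [⟨0, [], 1541, 0, [7, 12, 6]⟩, ⟨0, [151], 1197, 1, [3, 4, 11]⟩], 2⟩ : Der)) (lfA (⟨2, 0, 0, [], [⟨0, [], 1541, 0, [6, 12, 6]⟩, ⟨0, [155, 153], 1349, 1, [3, 9, 12, 4, 10, 4, 10]⟩], 2⟩ : Der))) (ndA (nat_lit 783) (lfA (⟨2, 0, 0, [], [⟨0, [], 1541, 0, [4, 6, 5, 7]⟩, ⟨0, [153, 157], 1423, 1, [1, 9, 10, 12, 4, 5, 4]⟩], 2⟩ : Der)) (lfA (⟨2, 0, 0, [], [⟨0, [], 1541, 0, [4, 7, 5, 7]⟩, ⟨0, [151], 895, 1, [3, 4, 5, 11, 12, 4]⟩], 2⟩ : Der))))))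
noncomputable def DT49 : ℕ → Der := (ndA (nat_lit 792) (ndA (nat_lit 788) (ndA (nat_lit 786) (ndA (nat_lit 785) (lfA (⟨2, 0, 0, [], [⟨0, [], 1541, 0, [5, 7, 5, 7]⟩, ⟨0, [153, 157, 153, 151], 987, 1, [1, 4, 5, 8, 11, 4, 3]⟩], 2⟩ : Der)) (lfA (⟨2, 0, 0, [], [⟨0, [], 1541, 0, [7, 7, 5, 7]⟩, ⟨0, [153, 157], 589, 1, [3, 4, 8, 10, 4, 5]⟩], 2⟩ : Der))) (ndA (nat_lit 787) (lfA (⟨2, 0, 0, [], [⟨0, [], 1541, 0, [8, 7, 5, 7]⟩, ⟨0, [155, 153], 1083, 1, [8, 12, 5, 12, 4, 10]⟩], 2⟩ : Der)) (lfA (⟨2, 0, 0, [], [⟨0, [], 1541, 0, [9, 6, 5, 7]⟩, ⟨0, [157, 155, 153], 1229, 1, [3, 4, 9, 10]⟩], 2⟩ : Der)))) (ndA (nat_lit 790) (ndA (nat_lit 789) (lfA (⟨2, 0, 0, [], [⟨0, [], 1541, 0, [4, 6, 12, 7]⟩, ⟨0, [151], 203, 1, [11, 12,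 4, 3]⟩], 2⟩ : Der)) (lfA (⟨2, 0, 0, [], [⟨0, [], 1541, 0, [4, 7, 12, 7]⟩, ⟨0, [156, 156, 152], 895, 1, [4, 5, 8, 10, 12, 4, 11]⟩], 2⟩ : Der))) (ndA (nat_lit 791) (lfA (⟨2, 0, 0, [], [⟨0, [], 1541, 0, [8, 6, 5, 6]⟩, ⟨0, [156, 152, 151], 987, 1, [4, 5, 11, 4, 10]⟩], 2⟩ : Der)) (lfA (⟨2, 0, 0, [], [⟨0, [], 1541, 0, [7, 12, 5, 6]⟩, ⟨0, [], 1205, 1, [1, 5, 11]⟩], 2⟩ : Der))))) (ndA (nat_lit 796) (ndA (nat_lit 794) (ndA (nat_lit 793) (lfA (⟨2, 0, 0, [], [⟨0, [], 1541, 0, [4, 7, 12, 6]⟩, ⟨0, [], 393, 1, [1, 9, 10, 4, 12]⟩], 2⟩ : Der)) (lfA (⟨2, 0, 0, [3, 6, 5, 7, 12, 4, 5, 2, 1, 3, 2, 4], [⟨0, [], 1541, 0, [3, 4, 7, 5, 7]⟩, ⟨0, [157, 155], 1349, 1, [4, 8, 11, 4, 11, 4, 11]⟩, ⟨0, [], 1549, 2, [1, 3, 2, 12, 2,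 12, 2, 1]⟩], 0⟩ : Der))) (ndA (nat_lit 795) (lfA (⟨2, 0, 0, [], [⟨0, [], 1541, 0, [5, 4, 7, 5, 7]⟩, ⟨0, [157, 152], 987, 1, [5, 4, 9, 11, 4, 12]⟩], 2⟩ : Der)) (lfA (⟨2, 0, 0, [], [⟨0, [], 1541, 0, [9, 6, 12, 5, 7]⟩, ⟨0, [153, 151], 319, 1, [3, 4, 8, 12, 11]⟩], 2⟩ : Der)))) (ndA (nat_lit 798) (ndA (nat_lit 797) (lfA (⟨2, 0, 0, [], [⟨0, [], 1541, 0, [4, 9, 6, 12, 7]⟩, ⟨0, [157], 1191, 1, [4, 12, 5, 4, 10, 4]⟩], 2⟩ : Der)) (lfA (⟨2, 0, 0, [], [⟨0, [], 1541, 0, [5, 6, 12, 6, 6]⟩, ⟨0, [157, 155], 1517, 1, [5, 4, 9, 11, 12, 4]⟩], 2⟩ : Der))) (ndA (nat_lit 799) (lfA (⟨2, 0, 0, [], [⟨0, [], 1541, 0, [6, 6, 5, 12, 6]⟩, ⟨0, [157, 155, 152], 911, 1, [9, 11, 12, 4, 5]⟩], 2⟩ : Der)) (lfA (⟨2, 0, 0, [], [⟨0, [], 1541,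 0, [6, 12, 5, 12, 6]⟩, ⟨0, [155, 153, 151], 359, 1, [8, 12, 5, 4, 11, 4]⟩], 2⟩ : Der))))))
noncomputable def DT50 : ℕ → Der := (ndA (nat_lit 808) (ndA (nat_lit 804) (ndA (nat_lit 802) (ndA (nat_lit 801) (lfA (⟨2, 0, 0, [], [⟨0, [], 1541, 0, [5, 4, 8, 7, 5, 7]⟩, ⟨0, [155, 153, 151], 1495, 1, [1, 4, 9, 10, 4, 11, 4, 11]⟩], 2⟩ : Der)) (lfA (⟨2, 0, 0, [], [⟨0, [], 1541, 0, [6, 8, 12, 5, 12, 7]⟩, ⟨0, [157, 152, 156], 1069, 1, [5, 4, 9, 11, 12, 4, 11, 4]⟩], 2⟩ : Der))) (ndA (nat_lit 803) (lfA (⟨2, 0, 0, [], [⟨0, [], 1541, 0, [4, 5, 6, 8, 12, 7]⟩, ⟨0, [155], 843, 1, [8, 10, 4, 5, 11, 12]⟩], 2⟩ : Der)) (lfA (⟨2, 0, 0, [], [⟨0, [], 1541, 0, [7, 8, 12, 6, 5, 6]⟩, ⟨0, [155, 153, 151], 1227, 1, [1, 12, 10, 12]⟩],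 2⟩ : Der)))) (ndA (nat_lit 806) (ndA (nat_lit 805) (lfA (⟨2, 0, 0, [], [⟨0, [], 1541, 0, [4, 6, 5, 8, 12, 6]⟩, ⟨0, [156, 153, 151], 1177, 1, [8, 11, 4, 12, 5, 12]⟩], 2⟩ : Der)) (lfA (⟨2, 0, 0, [], [⟨0, [], 1541, 0, [8, 6, 5, 4, 6, 5, 7]⟩, ⟨0, [157, 157], 1397, 1, [4, 9, 12, 5, 10, 4, 11]⟩], 2⟩ : Der))) (ndA (nat_lit 807) (lfA (⟨2, 0, 0, [], [⟨0, [], 1541, 0, [5, 4, 9, 7, 5, 12, 7]⟩, ⟨0, [156, 151], 907, 1, [8, 12, 5, 4, 10, 4, 12]⟩], 2⟩ : Der)) (lfA (⟨2, 0, 0, [], [⟨0, [], 1541, 0, [7, 5, 12, 4, 6, 5, 6]⟩, ⟨0, [157, 152, 151], 810, 1, [1, 4, 5, 10, 4, 5, 10]⟩], 2⟩ : Der))))) (ndA (nat_lit 812) (ndA (nat_lit 810) (ndA (nat_lit 809) (lfA (⟨2, 0, 0, [], [⟨0, [], 1541, 0, [8, 6, 5, 7, 12, 4, 5, 7]⟩, ⟨0, [156,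 151], 1383, 1, [3, 4, 5, 9, 11, 4, 11]⟩], 2⟩ : Der)) (lfA (⟨2, 0, 0, [], [⟨0, [], 1541, 0, [8, 7, 5, 4, 12, 7, 5, 7]⟩, ⟨0, [156, 153, 157], 1359, 1, [5, 8, 11, 4, 5, 11, 12, 4]⟩], 2⟩ : Der))) (ndA (nat_lit 811) (lfA (⟨2, 0, 0, [], [⟨0, [], 1541, 0, [8, 6, 5, 4, 6, 5, 12, 7]⟩, ⟨0, [152, 156], 1007, 1, [12, 5, 11, 4]⟩], 2⟩ : Der)) (lfA (⟨2, 0, 0, [], [⟨0, [], 1544, 0, [4, 12, 2]⟩, ⟨0, [1181], 1508, 2, [4, 5, 12, 4, 11]⟩], 1⟩ : Der)))) (ndA (nat_lit 814) (ndA (nat_lit 813) (lfA (⟨2, 0, 0, [], [⟨0, [], 1544, 0, [2, 1, 3, 2]⟩, ⟨0, [], 1188, 2, [5, 11]⟩], 1⟩ : Der)) (lfA (⟨2, 0, 0, [], [⟨0, [], 1544, 0, [1, 4, 12, 2]⟩, ⟨0, [1181], 1528, 2, [1, 4, 5, 10, 4, 5, 10]⟩], 1⟩ : Der))) (ndA (nat_lit 815) (lfA (⟨2, 0,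 0, [], [⟨0, [], 1544, 0, [2, 3, 12, 2]⟩, ⟨0, [1181], 1504, 2, [1, 10, 4, 11, 4, 11]⟩], 1⟩ : Der)) (lfA (⟨2, 0, 0, [], [⟨0, [], 1544, 0, [2, 1, 4, 3, 2]⟩, ⟨0, [], 1424, 2, [1, 5, 10, 4, 11]⟩], 1⟩ : Der))))))
noncomputable def DT51 : ℕ → Der := (ndA (nat_lit 824) (ndA (nat_lit 820) (ndA (nat_lit 818) (ndA (nat_lit 817) (lfA (⟨2, 0, 0, [], [⟨0, [], 1544, 0, [3, 2, 1, 12, 2]⟩, ⟨0, [], 1426, 2, [12, 4, 5, 11, 4]⟩], 1⟩ : Der)) (lfA (⟨2, 0, 0, [], [⟨0, [], 1544, 0, [2, 1, 4, 12, 2]⟩, ⟨0, [1181], 1322, 2, [10, 4, 3]⟩], 1⟩ : Der))) (ndA (nat_lit 819) (lfA (⟨2, 0, 0, [], [⟨0, [], 1544, 0, [2, 1, 5, 12, 2]⟩, ⟨0, [], 1380, 2, [4, 10, 4, 3, 12]⟩], 1⟩ : Der)) (lfA (⟨2, 0, 0, [], [⟨0, [], 1544, 0, [2, 3, 4, 3, 2]⟩, ⟨0,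 [], 1318, 2, [5, 10]⟩], 1⟩ : Der)))) (ndA (nat_lit 822) (ndA (nat_lit 821) (lfA (⟨2, 0, 0, [], [⟨0, [], 1544, 0, [3, 2, 1, 4, 3, 2]⟩, ⟨0, [], 1336, 2, [3, 4, 10, 4, 11, 4, 3]⟩], 1⟩ : Der)) (lfA (⟨2, 0, 0, [], [⟨0, [], 1544, 0, [1, 2, 1, 5, 12, 2]⟩, ⟨0, [], 1378, 2, [1, 4, 5, 10, 12, 4]⟩], 1⟩ : Der))) (ndA (nat_lit 823) (lfA (⟨2, 0, 0, [], [⟨0, [], 1544, 0, [4, 3, 2, 1, 12, 2]⟩, ⟨0, [1181], 1400, 2, [1, 4, 5, 11, 4, 3, 5]⟩], 1⟩ : Der)) (lfA (⟨2, 0, 0, [], [⟨0, [], 1544, 0, [2, 3, 2, 1, 4, 3, 2]⟩, ⟨0, [1181], 1428, 2, [4, 5, 10, 12, 4]⟩], 1⟩ : Der))))) (ndA (nat_lit 828) (ndA (nat_lit 826) (ndA (nat_lit 825) (lfA (⟨2, 0, 0, [], [⟨0, [], 1544, 0, [3, 2, 1, 5, 4, 3, 2]⟩, ⟨0, [], 1376, 2, [4, 12, 10, 4, 5]⟩],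 1⟩ : Der)) (lfA (⟨2, 0, 0, [], [⟨0, [], 1546, 0, [2, 12, 2]⟩, ⟨0, [353, 355], 711, 2, [3, 9, 12, 4, 10, 4, 11, 4]⟩], 1⟩ : Der))) (ndA (nat_lit 827) (lfA (⟨2, 0, 0, [], [⟨0, [], 1546, 0, [1, 4, 12, 2]⟩, ⟨0, [], 814, 2, [1, 3, 4, 5, 9, 10, 4, 5]⟩], 1⟩ : Der)) (lfA (⟨2, 0, 0, [], [⟨0, [], 1546, 0, [1, 5, 12, 2]⟩, ⟨0, [353, 355, 353], 592, 2, [11, 12, 5, 4, 11]⟩], 1⟩ : Der)))) (ndA (nat_lit 830) (ndA (nat_lit 829) (lfA (⟨2, 0, 0, [], [⟨0, [], 1546, 0, [3, 4, 3, 2]⟩, ⟨0, [353, 355], 733, 2, [5, 8, 10, 12, 4, 11]⟩], 1⟩ : Der)) (lfA (⟨2, 0, 0, [], [⟨0, [], 1546, 0, [3, 2, 1, 12, 2]⟩, ⟨0, [353, 355, 353], 1149, 2, [1, 4, 3, 5, 4, 10]⟩], 1⟩ : Der))) (ndA (nat_lit 831) (lfA (⟨2, 0, 0, [], [⟨0, [], 1546, 0, [2, 1,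 5, 12, 2]⟩, ⟨0, [353, 355, 353], 1135, 2, [4, 5, 8, 11, 4, 5, 12]⟩], 1⟩ : Der)) (lfA (⟨2, 0, 0, [], [⟨0, [], 1546, 0, [2, 3, 4, 12, 2]⟩, ⟨0, [353, 355, 353], 799, 2, [12, 4, 5, 4, 10, 4]⟩], 1⟩ : Der))))))
noncomputable def DT52 : ℕ → Der := (ndA (nat_lit 840) (ndA (nat_lit 836) (ndA (nat_lit 834) (ndA (nat_lit 833) (lfA (⟨2, 0, 0, [], [⟨0, [], 1546, 0, [12, 3, 4, 12, 2]⟩, ⟨0, [355], 813, 2, [4, 9, 10, 4, 12, 5, 12, 4]⟩], 1⟩ : Der)) (lfA (⟨2, 0, 0, [], [⟨0, [], 1546, 0, [2, 12, 3, 4, 12, 2]⟩, ⟨0, [355], 1133, 2, [5, 11, 4, 3, 5]⟩], 1⟩ : Der))) (ndA (nat_lit 835) (lfA (⟨2, 0, 0, [], [⟨0, [], 1548, 0, [1, 5, 12, 2]⟩, ⟨0, [1181], 1492, 2, [9, 11, 4, 5, 10, 12, 4]⟩], 1⟩ : Der)) (lfA (⟨2, 0, 0, [], [⟨0, [],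 1548, 0, [3, 5, 4, 3, 2]⟩, ⟨0, [1181], 1532, 2, [3, 4, 8, 10, 4, 12, 5]⟩], 1⟩ : Der)))) (ndA (nat_lit 838) (ndA (nat_lit 837) (lfA (⟨2, 0, 0, [], [⟨0, [], 1548, 0, [3, 2, 12, 3, 2]⟩, ⟨0, [], 1534, 2, [4, 5, 9, 11, 4, 5, 10]⟩], 1⟩ : Der)) (lfA (⟨2, 0, 0, [], [⟨0, [], 1548, 0, [12, 4, 12, 3, 2]⟩, ⟨0, [1181], 1482, 2, [9, 11, 4, 5, 10, 12, 4]⟩], 1⟩ : Der))) (ndA (nat_lit 839) (lfA (⟨2, 0, 0, [], [⟨0, [], 1548, 0, [2, 1, 5, 4, 3, 2]⟩, ⟨0, [], 1352, 2, [8, 12, 11, 12]⟩], 1⟩ : Der)) (lfA (⟨2, 0, 0, [], [⟨0, [], 1548, 0, [2, 1, 3, 4, 3, 2]⟩, ⟨0, [1181], 1390, 2, [5, 4, 8, 11, 12, 4]⟩], 1⟩ : Der))))) (ndA (nat_lit 844) (ndA (nat_lit 842) (ndA (nat_lit 841) (lfA (⟨2, 0, 0, [], [⟨0, [], 1548, 0, [1, 3, 2, 1, 12,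 2]⟩, ⟨0, [1181], 1536, 2, [5, 8, 10, 4, 12, 5, 12]⟩], 1⟩ : Der)) (lfA (⟨2, 0, 0, [], [⟨0, [], 1548, 0, [12, 2, 1, 4, 12, 2]⟩, ⟨0, [1181], 1402, 2, [8, 10, 12, 4]⟩], 1⟩ : Der))) (ndA (nat_lit 843) (lfA (⟨2, 0, 0, [], [⟨0, [], 1548, 0, [2, 12, 3, 4, 12, 2]⟩, ⟨0, [1181], 1524, 2, [9, 11, 4, 11, 4, 3, 12]⟩], 1⟩ : Der)) (lfA (⟨2, 0, 0, [], [⟨0, [], 1548, 0, [3, 2, 1, 5, 4, 3, 2]⟩, ⟨0, [], 1350, 2, [1, 8, 12, 5, 11, 12]⟩], 1⟩ : Der)))) (ndA (nat_lit 846) (ndA (nat_lit 845) (lfA (⟨2, 0, 0, [], [⟨0, [], 1550, 0, [2, 12, 2]⟩, ⟨0, [866], 926, 2, [9, 11, 4, 12, 10]⟩], 1⟩ : Der)) (lfA (⟨2, 0, 0, [], [⟨0, [], 1550, 0, [4, 12, 2]⟩, ⟨0, [866], 1147, 2, [4, 5, 8, 10]⟩], 1⟩ : Der))) (ndA (nat_lit 847) (lfA (⟨2, 0, 0, [],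 [⟨0, [], 1550, 0, [12, 4, 3, 2]⟩, ⟨0, [887, 866], 938, 2, [5, 12, 4, 11, 4]⟩], 1⟩ : Der)) (lfA (⟨2, 0, 0, [], [⟨0, [], 1550, 0, [3, 2, 12, 2]⟩, ⟨0, [887, 866], 940, 2, [4, 10, 4, 11, 4, 11]⟩], 1⟩ : Der))))))
noncomputable def DT53 : ℕ → Der := (ndA (nat_lit 856) (ndA (nat_lit 852) (ndA (nat_lit 850) (ndA (nat_lit 849) (lfA (⟨2, 0, 0, [], [⟨0, [], 1550, 0, [3, 4, 12, 2]⟩, ⟨0, [887], 932, 2, [11, 4, 5, 12, 4]⟩], 1⟩ : Der)) (lfA (⟨2, 0, 0, [], [⟨0, [], 1550, 0, [3, 2, 1, 12, 2]⟩, ⟨0, [866], 936, 2, [4, 5, 9, 10, 12, 4, 5, 10]⟩], 1⟩ : Der))) (ndA (nat_lit 851) (lfA (⟨2, 0, 0, [], [⟨0, [], 1550, 0, [2, 1, 4, 12, 2]⟩, ⟨0, [887], 942, 2, [11, 4, 11, 4, 12, 3]⟩], 1⟩ : Der)) (lfA (⟨2, 0, 0, [], [⟨0, [], 1550, 0,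 [3, 5, 4, 3, 2]⟩, ⟨0, [], 900, 2, [1, 4, 5, 9, 11, 4, 5, 10]⟩], 1⟩ : Der)))) (ndA (nat_lit 854) (ndA (nat_lit 853) (lfA (⟨2, 0, 0, [], [⟨0, [], 1550, 0, [12, 3, 4, 12, 2]⟩, ⟨0, [], 934, 2, [3, 4, 9, 10, 4, 12, 10]⟩], 1⟩ : Der)) (lfA (⟨2, 0, 0, [], [⟨0, [], 1552, 0, [1, 3, 2]⟩, ⟨0, [1181], 1412, 2, [12, 3, 4, 12, 10]⟩], 1⟩ : Der))) (ndA (nat_lit 855) (lfA (⟨2, 0, 0, [], [⟨0, [], 1552, 0, [1, 4, 12, 2]⟩, ⟨0, [1181], 1420, 2, [3, 4, 11, 4, 3, 12]⟩], 1⟩ : Der)) (lfA (⟨2, 0, 0, [], [⟨0, [], 1552, 0, [4, 12, 3, 2]⟩, ⟨0, [1181], 1364, 2, [3, 4, 12, 10, 4]⟩], 1⟩ : Der))))) (ndA (nat_lit 860) (ndA (nat_lit 858) (ndA (nat_lit 857) (lfA (⟨2, 0, 0, [], [⟨0, [], 1552, 0, [2, 4, 12, 2]⟩, ⟨0, [1181], 1410, 2, [4, 5,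 11, 4, 3]⟩], 1⟩ : Der)) (lfA (⟨2, 0, 0, [], [⟨0, [], 1552, 0, [2, 3, 12, 2]⟩, ⟨0, [1181], 1392, 2, [4, 5, 10, 4]⟩], 1⟩ : Der))) (ndA (nat_lit 859) (lfA (⟨2, 0, 0, [], [⟨0, [], 1552, 0, [3, 4, 12, 2]⟩, ⟨0, [1181], 1418, 2, [4, 11, 12, 4]⟩], 1⟩ : Der)) (lfA (⟨2, 0, 0, [], [⟨0, [], 1554, 0, [2, 1, 12, 2]⟩, ⟨0, [], 1384, 2, [4, 11, 4, 12]⟩], 1⟩ : Der)))) (ndA (nat_lit 862) (ndA (nat_lit 861) (lfA (⟨2, 0, 0, [], [⟨0, [], 1554, 0, [1, 5, 12, 2]⟩, ⟨0, [], 1316, 2, [4, 12, 5, 4, 11]⟩], 1⟩ : Der)) (lfA (⟨2, 0, 0, [], [⟨0, [], 1554, 0, [2, 12, 3, 2]⟩, ⟨0, [], 1366, 2, [4, 5, 10, 12, 4, 5]⟩], 1⟩ : Der))) (ndA (nat_lit 863) (lfA (⟨2, 0, 0, [], [⟨0, [], 1554, 0, [3, 2, 12, 3, 2]⟩, ⟨0, [], 1398, 2, [3, 4, 10, 4, 12,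 5]⟩], 1⟩ : Der)) (lfA (⟨2, 0, 0, [], [⟨0, [], 1554, 0, [3, 2, 1, 4, 3, 2]⟩, ⟨0, [], 1386, 2, [1, 11, 4, 11, 4, 11]⟩], 1⟩ : Der))))))
noncomputable def DT54 : ℕ → Der := (ndA (nat_lit 872) (ndA (nat_lit 868) (ndA (nat_lit 866) (ndA (nat_lit 865) (lfA (⟨2, 0, 0, [], [⟨0, [], 1554, 0, [2, 1, 3, 4, 3, 2]⟩, ⟨0, [], 1538, 2, [5, 4, 11, 4, 10]⟩], 1⟩ : Der)) (lfA (⟨2, 0, 0, [], [⟨0, [], 1556, 0, [1, 5, 4, 3, 2]⟩, ⟨0, [333], 1145, 2, [4, 5, 10, 12, 4, 10]⟩], 1⟩ : Der))) (ndA (nat_lit 867) (lfA (⟨2, 0, 0, [], [⟨0, [], 1556, 0, [2, 1, 5, 12, 2]⟩, ⟨0, [333, 335], 797, 2, [4, 9, 11, 4, 11, 4, 11]⟩], 1⟩ : Der)) (lfA (⟨2, 0, 0, [], [⟨0, [], 1558, 0, [3, 2]⟩, ⟨0, [], 1384, 2, [4, 8, 10, 4, 11, 4, 12, 5]⟩], 1⟩ : Der))))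 (ndA (nat_lit 870) (ndA (nat_lit 869) (lfA (⟨2, 0, 0, [], [⟨0, [], 1558, 0, [4, 3, 2]⟩, ⟨0, [1181], 1478, 2, [4, 5, 9, 11, 4, 12, 5, 12]⟩], 1⟩ : Der)) (lfA (⟨2, 0, 0, [], [⟨0, [], 1558, 0, [2, 1, 12, 2]⟩, ⟨0, [1181], 1526, 2, [8, 10, 4, 10, 4]⟩], 1⟩ : Der))) (ndA (nat_lit 871) (lfA (⟨2, 0, 0, [], [⟨0, [], 1558, 0, [1, 2, 1, 12, 2]⟩, ⟨0, [1181], 1340, 2, [4, 8, 11, 12, 5, 4, 11]⟩], 1⟩ : Der)) (lfA (⟨2, 0, 0, [], [⟨0, [], 1558, 0, [1, 4, 5, 12, 2]⟩, ⟨0, [], 1506, 2, [8, 10, 4, 5, 10]⟩], 1⟩ : Der))))) (ndA (nat_lit 876) (ndA (nat_lit 874) (ndA (nat_lit 873) (lfA (⟨2, 0, 0, [], [⟨0, [], 1558, 0, [3, 2, 12, 3, 2]⟩, ⟨0, [], 1510, 2, [4, 5, 9, 12, 10, 12, 4]⟩], 1⟩ : Der)) (lfA (⟨2, 0, 0, [], [⟨0, [], 1558, 0,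 [3, 2, 1, 5, 12, 2]⟩, ⟨0, [1181], 1486, 2, [9, 12, 5, 12, 4, 10]⟩], 1⟩ : Der))) (ndA (nat_lit 875) (lfA (⟨2, 0, 0, [], [⟨0, [], 1558, 0, [2, 1, 3, 2, 1, 12, 2]⟩, ⟨0, [], 1512, 2, [3, 4, 5, 9, 10, 12, 4]⟩], 1⟩ : Der)) (lfA (⟨2, 0, 0, [], [⟨0, [], 1560, 0, [1, 3, 2]⟩, ⟨0, [1181], 1498, 2, [1, 4, 11, 4, 3, 5, 4]⟩], 1⟩ : Der)))) (ndA (nat_lit 878) (ndA (nat_lit 877) (lfA (⟨2, 0, 0, [], [⟨0, [], 1560, 0, [4, 12, 2]⟩, ⟨0, [1181], 1520, 2, [1, 11, 4, 12, 11]⟩], 1⟩ : Der)) (lfA (⟨2, 0, 0, [], [⟨0, [], 1562, 0, [1, 2]⟩, ⟨0, [], 1430, 2, [1, 4, 9, 10, 4, 10]⟩], 1⟩ : Der))) (ndA (nat_lit 879) (lfA (⟨2, 0, 0, [], [⟨0, [], 1562, 0, [3, 12, 2]⟩, ⟨0, [], 1490, 2, [9, 11, 4, 12, 11]⟩], 1⟩ : Der)) (lfA (⟨2, 0, 0, [], [⟨0,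 [], 1562, 0, [5, 4, 3, 2]⟩, ⟨0, [1181], 1500, 2, [5, 8, 12, 4, 10, 4, 5]⟩], 1⟩ : Der))))))
noncomputable def DT55 : ℕ → Der := (ndA (nat_lit 888) (ndA (nat_lit 884) (ndA (nat_lit 882) (ndA (nat_lit 881) (lfA (⟨2, 0, 0, [], [⟨0, [], 1566, 0, [4, 3, 2, 1, 12, 2]⟩, ⟨0, [887, 867], 928, 2, [9, 10, 4, 12, 5, 10, 4]⟩], 1⟩ : Der)) (lfA (⟨2, 0, 0, [], [⟨0, [], 1568, 0, [2, 12, 3, 2]⟩, ⟨0, [946], 1086, 2, [1, 9, 11, 12, 4, 10]⟩], 1⟩ : Der))) (ndA (nat_lit 883) (lfA (⟨2, 0, 0, [], [⟨0, [], 1568, 0, [3, 4, 12, 2]⟩, ⟨0, [947], 1074, 2, [1, 4, 5, 8, 11, 12, 4]⟩], 1⟩ : Der)) (lfA (⟨2, 0, 0, [], [⟨0, [], 1569, 2, [2, 3, 4, 3, 2]⟩, ⟨0, [1543], 1662, 0, [1, 3, 4, 12, 7, 5, 6, 12, 5, 6]⟩], 1⟩ : Der)))) (ndA (nat_lit 886)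 (ndA (nat_lit 885) (lfA (⟨2, 0, 0, [], [⟨0, [], 1568, 0, [1, 2, 1, 5, 12, 2]⟩, ⟨0, [946], 1066, 2, [1, 4, 9, 10, 4, 5, 11]⟩], 1⟩ : Der)) (lfA (⟨2, 0, 0, [], [⟨0, [], 1570, 0, [1, 3, 4, 3, 2]⟩, ⟨0, [335, 333], 590, 2, [9, 11, 12, 4, 11, 4, 5]⟩], 1⟩ : Der))) (ndA (nat_lit 887) (lfA (⟨2, 0, 0, [], [⟨0, [], 1572, 0, [4, 3, 2]⟩, ⟨0, [], 1088, 2, [5, 8, 12, 4, 10, 4]⟩], 1⟩ : Der)) (lfA (⟨2, 0, 0, [], [⟨0, [], 1574, 0, [12, 3, 2]⟩, ⟨0, [1181], 1514, 2, [4, 8, 11, 12, 4, 11, 4]⟩], 1⟩ : Der))))) (ndA (nat_lit 892) (ndA (nat_lit 890) (ndA (nat_lit 889) (lfA (⟨2, 0, 0, [], [⟨0, [], 1574, 0, [2, 1, 5, 4, 3, 2]⟩, ⟨0, [], 1372, 2, [3, 4, 9, 11, 4, 3, 12]⟩], 1⟩ : Der)) (lfA (⟨2, 0, 0, [], [⟨0, [], 1576, 0, [4, 3, 2,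 1, 12, 2]⟩, ⟨0, [205, 196, 195], 551, 2, [1, 9, 12, 5, 11, 4]⟩], 1⟩ : Der))) (ndA (nat_lit 891) (lfA (⟨2, 0, 0, [], [⟨0, [], 1578, 0, [4, 12, 3, 2]⟩, ⟨0, [867], 924, 2, [1, 4, 5, 8, 10, 4, 10]⟩], 1⟩ : Der)) (lfA (⟨2, 0, 0, [], [⟨0, [], 1581, 2, [1, 2, 12, 2, 1, 3, 2]⟩, ⟨0, [1543], 1644, 0, [3, 5, 6, 6, 12, 4, 5, 7, 8, 12, 6]⟩], 1⟩ : Der)))) (ndA (nat_lit 894) (ndA (nat_lit 893) (lfA (⟨2, 0, 0, [], [⟨0, [], 1597, 2, [12, 2, 1, 3, 2]⟩, ⟨0, [], 1624, 0, [5, 12, 7, 7, 5, 12, 7, 5, 7]⟩], 1⟩ : Der)) (lfA (⟨2, 0, 0, [], [⟨0, [], 1603, 2, [2, 3, 4, 12, 2]⟩, ⟨0, [], 1700, 0, [7, 8, 12, 5, 12, 5, 7, 9]⟩], 1⟩ : Der))) (ndA (nat_lit 895) (lfA (⟨2, 0, 0, [], [⟨0, [], 1603, 2, [12, 2, 1, 4, 12, 2]⟩, ⟨0, [], 1638, 0,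 [8, 7, 5, 4, 3, 6, 12, 7]⟩], 1⟩ : Der)) (lfA (⟨2, 0, 0, [], [⟨0, [], 1611, 2, [4, 12, 3, 2]⟩, ⟨0, [1543], 1652, 0, [4, 5, 4, 7, 5, 4, 8, 6]⟩], 1⟩ : Der))))))
noncomputable def DT56 : ℕ → Der := (ndA (nat_lit 904) (ndA (nat_lit 900) (ndA (nat_lit 898) (ndA (nat_lit 897) (lfA (⟨2, 0, 0, [], [⟨0, [], 1615, 2, [3, 2]⟩, ⟨0, [1587], 1628, 0, [3, 8, 7, 12, 5, 4, 6, 12, 5, 7, 9]⟩], 1⟩ : Der)) (lfA (⟨2, 0, 0, [], [⟨0, [], 1619, 2, [1, 12, 2, 1, 5, 12, 2]⟩, ⟨0, [1543], 1732, 0, [1, 4, 6, 5, 7, 8, 12, 6, 12, 4]⟩], 1⟩ : Der))) (ndA (nat_lit 899) (lfA (⟨2, 0, 0, [], [⟨0, [], 1622, 0, [8, 12, 7]⟩, ⟨0, [705, 689], 1331, 1, [4, 8, 11, 4]⟩], 2⟩ : Der)) (lfA (⟨2, 0, 0, [], [⟨0, [], 1622, 0, [4, 5, 12, 7]⟩, ⟨0, [688], 700,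 1, [5, 9, 11, 12, 4, 3]⟩], 2⟩ : Der)))) (ndA (nat_lit 902) (ndA (nat_lit 901) (lfA (⟨2, 0, 0, [], [⟨0, [], 1622, 0, [7, 7, 12, 7]⟩, ⟨0, [], 863, 1, [8, 10, 4, 12, 10]⟩], 2⟩ : Der)) (lfA (⟨2, 0, 0, [], [⟨0, [], 1622, 0, [4, 12, 6, 5, 7]⟩, ⟨0, [705, 688], 1519, 1, [5, 8, 10, 4, 12, 5, 11]⟩], 2⟩ : Der))) (ndA (nat_lit 903) (lfA (⟨2, 0, 0, [], [⟨0, [], 1622, 0, [6, 8, 12, 5, 6]⟩, ⟨0, [705, 689], 1791, 1, [1, 9, 10, 4]⟩], 2⟩ : Der)) (lfA (⟨2, 0, 0, [], [⟨0, [], 1622, 0, [8, 6, 12, 5, 6]⟩, ⟨0, [705, 689], 698, 1, [8, 10, 12, 4, 5]⟩], 2⟩ : Der))))) (ndA (nat_lit 908) (ndA (nat_lit 906) (ndA (nat_lit 905) (lfA (⟨2, 0, 0, [], [⟨0, [], 1622, 0, [4, 5, 6, 12, 6]⟩, ⟨0, [705], 855, 1, [9, 12, 10]⟩], 2⟩ : Der)) (lfA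 (⟨2, 0, 0, [], [⟨0, [], 1622, 0, [6, 6, 6, 12, 5, 7]⟩, ⟨0, [688], 794, 1, [5, 9, 12, 11]⟩], 2⟩ : Der))) (ndA (nat_lit 907) (lfA (⟨2, 0, 0, [], [⟨0, [], 1622, 0, [4, 12, 6, 12, 5, 7]⟩, ⟨0, [705, 688], 1003, 1, [4, 5, 12, 4, 11, 4]⟩], 2⟩ : Der)) (lfA (⟨2, 0, 0, [], [⟨0, [], 1622, 0, [7, 8, 12, 4, 5, 6]⟩, ⟨0, [705], 1795, 1, [8, 11, 4, 11, 4, 12, 11]⟩], 2⟩ : Der)))) (ndA (nat_lit 910) (ndA (nat_lit 909) (lfA (⟨2, 0, 0, [], [⟨0, [], 1622, 0, [3, 4, 12, 5, 7, 5, 7]⟩, ⟨0, [688], 1767, 1, [3, 12, 4, 10, 4]⟩], 2⟩ : Der)) (lfA (⟨2, 0, 0, [], [⟨0, [], 1622, 0, [3, 4, 6, 12, 7, 5, 7]⟩, ⟨0, [689], 951, 1, [1, 5, 4, 12, 5, 10, 4]⟩], 2⟩ : Der))) (ndA (nat_lit 911) (lfA (⟨2, 0, 0, [], [⟨0, [], 1622, 0, [7, 7, 12, 4,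 12, 7, 5, 7]⟩, ⟨0, [705, 688], 849, 1, [4, 5, 8, 10, 4, 5, 11, 12]⟩], 2⟩ : Der)) (lfA (⟨2, 0, 0, [], [⟨0, [], 1624, 0, [5, 4, 6, 5, 6]⟩, ⟨0, [213, 211], 1077, 1, [8, 12, 3, 4, 11]⟩], 2⟩ : Der))))))
noncomputable def DT57 : ℕ → Der := (ndA (nat_lit 920) (ndA (nat_lit 916) (ndA (nat_lit 914) (ndA (nat_lit 913) (lfA (⟨2, 0, 0, [], [⟨0, [], 1624, 0, [5, 4, 8, 6, 5, 6]⟩, ⟨0, [221, 214, 212], 1363, 1, [1, 12, 5, 4, 11]⟩], 2⟩ : Der)) (lfA (⟨2, 0, 0, [], [⟨0, [], 1624, 0, [4, 8, 7, 5, 7, 12, 7]⟩, ⟨0, [221, 211, 215, 211], 845, 1, [1, 8, 10, 12, 4, 12]⟩], 2⟩ : Der))) (ndA (nat_lit 915) (lfA (⟨2, 0, 0, [], [⟨0, [], 1624, 0, [4, 3, 5, 4, 6, 5, 6]⟩, ⟨0, [213, 211], 1175, 1, [5, 12, 4, 11]⟩], 2⟩ : Der)) (lfA (⟨2, 0,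 0, [], [⟨0, [], 1624, 0, [6, 5, 4, 12, 6, 5, 6]⟩, ⟨0, [213], 1073, 1, [11, 4, 5, 11]⟩], 2⟩ : Der)))) (ndA (nat_lit 918) (ndA (nat_lit 917) (lfA (⟨2, 0, 0, [], [⟨0, [], 1624, 0, [9, 12, 5, 12, 4, 7, 5, 7]⟩, ⟨0, [211, 215], 1785, 1, [5, 8, 10, 12, 4, 10]⟩], 2⟩ : Der)) (lfA (⟨2, 0, 0, [], [⟨0, [], 1624, 0, [6, 5, 4, 12, 5, 7, 5, 7]⟩, ⟨0, [221, 213], 1389, 1, [1, 8, 10, 12, 4]⟩], 2⟩ : Der))) (ndA (nat_lit 919) (lfA (⟨2, 0, 0, [], [⟨0, [], 1624, 0, [5, 6, 5, 4, 12, 7, 5, 7]⟩, ⟨0, [215, 210], 1057, 1, [10, 12, 4, 12, 5]⟩], 2⟩ : Der)) (lfA (⟨2, 0, 0, [], [⟨0, [], 1624, 0, [7, 12, 4, 12, 6, 5, 9, 7]⟩, ⟨0, [221, 210, 215], 1071, 1, [4, 5, 4, 8, 10, 4, 12]⟩], 2⟩ : Der))))) (ndA (nat_lit 924) (ndA (nat_lit 922) (ndA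 (nat_lit 921) (lfA (⟨2, 0, 0, [], [⟨0, [], 1624, 0, [6, 12, 7, 5, 4, 7, 5, 6]⟩, ⟨0, [221, 214, 212, 211], 1531, 1, [8, 11, 4, 10]⟩], 2⟩ : Der)) (lfA (⟨2, 0, 0, [], [⟨0, [], 1624, 0, [5, 12, 5, 7, 5, 4, 6, 5, 7]⟩, ⟨0, [221, 211, 215], 395, 1, [1, 5, 9, 10, 4, 10]⟩], 2⟩ : Der))) (ndA (nat_lit 923) (lfA (⟨2, 0, 0, [], [⟨0, [], 1624, 0, [7, 12, 5, 12, 7, 12, 4, 5, 6]⟩, ⟨0, [221], 949, 1, [4, 5, 11, 12, 4, 11]⟩], 2⟩ : Der)) (lfA (⟨2, 0, 0, [], [⟨0, [], 1626, 0, [3, 4, 5, 7]⟩, ⟨0, [], 1173, 1, [4, 5, 4, 9, 11, 4]⟩], 2⟩ : Der)))) (ndA (nat_lit 926) (ndA (nat_lit 925) (lfA (⟨2, 0, 0, [], [⟨0, [], 1626, 0, [5, 12, 6, 12, 6]⟩, ⟨0, [596], 1361, 1, [4, 11]⟩], 2⟩ : Der)) (lfA (⟨2, 0, 0, [], [⟨0, [], 1626, 0, [12, 7,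 8, 12, 5, 7]⟩, ⟨0, [611, 597], 1097, 1, [4, 9, 11, 4, 5, 11, 12]⟩], 2⟩ : Der))) (ndA (nat_lit 927) (lfA (⟨2, 0, 0, [], [⟨0, [], 1626, 0, [4, 5, 9, 7, 12, 7]⟩, ⟨0, [611, 597], 1395, 1, [1, 4, 9, 10, 4, 10]⟩], 2⟩ : Der)) (lfA (⟨2, 0, 0, [], [⟨0, [], 1626, 0, [12, 4, 6, 5, 12, 6]⟩, ⟨0, [611, 596], 857, 1, [1, 9, 11, 12, 5, 4]⟩], 2⟩ : Der))))))
noncomputable def DT58 : ℕ → Der := (ndA (nat_lit 936) (ndA (nat_lit 932) (ndA (nat_lit 930) (ndA (nat_lit 929) (lfA (⟨2, 0, 0, [], [⟨0, [], 1626, 0, [4, 7, 5, 6, 8, 12, 7]⟩, ⟨0, [596], 1497, 1, [5, 9, 10, 12, 4, 10]⟩], 2⟩ : Der)) (lfA (⟨2, 0, 0, [], [⟨0, [], 1626, 0, [3, 7, 5, 4, 6, 5, 6]⟩, ⟨0, [597], 659, 1, [1, 5, 9, 10, 4, 5, 11]⟩], 2⟩ : Der))) (ndA (nat_lit 931)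 (lfA (⟨2, 0, 0, [], [⟨0, [], 1626, 0, [5, 8, 6, 12, 4, 5, 6]⟩, ⟨0, [596], 1787, 1, [5, 9, 10, 12]⟩], 2⟩ : Der)) (lfA (⟨2, 0, 0, [], [⟨0, [], 1626, 0, [5, 7, 12, 5, 4, 6, 5, 7]⟩, ⟨0, [611, 597], 1081, 1, [8, 10, 12, 4, 10, 4]⟩], 2⟩ : Der)))) (ndA (nat_lit 934) (ndA (nat_lit 933) (lfA (⟨2, 0, 0, [], [⟨0, [], 1626, 0, [12, 6, 5, 4, 6, 6, 5, 7]⟩, ⟨0, [611, 597], 853, 1, [1, 11, 4, 5, 10]⟩], 2⟩ : Der)) (lfA (⟨2, 0, 0, [], [⟨0, [], 1626, 0, [3, 4, 12, 6, 12, 6, 5, 6]⟩, ⟨0, [611, 597], 1305, 1, [12, 4, 11, 4, 5, 10]⟩], 2⟩ : Der))) (ndA (nat_lit 935) (lfA (⟨2, 0, 0, [], [⟨0, [], 1626, 0, [7, 12, 7, 5, 4, 7, 5, 6]⟩, ⟨0, [597], 1015, 1, [5, 11, 4, 5, 11, 12, 4]⟩], 2⟩ : Der)) (lfA (⟨2, 0, 0, [], [⟨0, [], 1626, 0,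 [12, 3, 5, 7, 5, 4, 6, 5, 7]⟩, ⟨0, [], 1079, 1, [5, 4, 8, 11, 12, 4]⟩], 2⟩ : Der))))) (ndA (nat_lit 940) (ndA (nat_lit 938) (ndA (nat_lit 937) (lfA (⟨2, 0, 0, [], [⟨0, [], 1626, 0, [6, 6, 12, 5, 4, 6, 5, 9, 6]⟩, ⟨0, [611, 597], 1793, 1, [1, 4, 5, 9, 12, 4, 11]⟩], 2⟩ : Der)) (lfA (⟨2, 0, 0, [], [⟨0, [], 1628, 0, [7, 5, 7]⟩, ⟨0, [611, 597], 683, 1, [1, 4, 5, 9, 10, 12, 4]⟩], 2⟩ : Der))) (ndA (nat_lit 939) (lfA (⟨2, 0, 0, [], [⟨0, [], 1628, 0, [6, 5, 6]⟩, ⟨0, [611], 1065, 1, [4, 5, 4, 12, 10]⟩], 2⟩ : Der)) (lfA (⟨2, 0, 0, [], [⟨0, [], 1628, 0, [6, 5, 6, 12, 6]⟩, ⟨0, [611, 596], 1489, 1, [9, 10, 12, 4, 5, 10]⟩], 2⟩ : Der)))) (ndA (nat_lit 942) (ndA (nat_lit 941) (lfA (⟨2, 0, 0, [], [⟨0, [], 1628, 0, [5, 8,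 7, 12, 5, 7]⟩, ⟨0, [611], 1503, 1, [4, 9, 11, 12, 4, 5, 11]⟩], 2⟩ : Der)) (lfA (⟨2, 0, 0, [], [⟨0, [], 1628, 0, [12, 7, 5, 8, 12, 6]⟩, ⟨0, [611, 597], 608, 1, [4, 11, 4, 5, 12, 4]⟩], 2⟩ : Der))) (ndA (nat_lit 943) (lfA (⟨2, 0, 0, [], [⟨0, [], 1628, 0, [4, 8, 7, 12, 6, 6, 5, 7]⟩, ⟨0, [], 685, 1, [4, 11, 4, 5, 10]⟩], 2⟩ : Der)) (lfA (⟨2, 0, 0, [], [⟨0, [], 1628, 0, [7, 5, 12, 4, 12, 6, 5, 6]⟩, ⟨0, [611], 1005, 1, [9, 11, 4, 11, 4, 10, 4]⟩], 2⟩ : Der))))))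
noncomputable def DT59 : ℕ → Der := (ndA (nat_lit 952) (ndA (nat_lit 948) (ndA (nat_lit 946) (ndA (nat_lit 945) (lfA (⟨2, 0, 0, [], [⟨0, [], 1630, 0, [6, 5, 4, 6, 5, 6]⟩, ⟨0, [157], 1397, 1, [1, 3, 5, 4, 10, 4]⟩], 2⟩ : Der)) (lfA (⟨2, 0, 0, [], [⟨0, [], 1630, 0, [12, 6, 5, 4, 7, 5, 6]⟩, ⟨0, [157, 152, 156], 1085, 1, [10, 12, 4, 12, 3]⟩], 2⟩ : Der))) (ndA (nat_lit 947) (lfA (⟨2, 0, 0, [], [⟨0, [], 1634, 0, [7, 9, 12, 5, 7]⟩, ⟨0, [689], 1783, 1, [5, 10, 4, 5, 10, 4]⟩], 2⟩ : Der)) (lfA (⟨2, 0, 0, [], [⟨0, [], 1636, 0, [5, 6, 5, 6]⟩, ⟨0, [1100], 1789, 1, [8, 12, 10, 4]⟩], 2⟩ : Der)))) (ndA (nat_lit 950) (ndA (nat_lit 949) (lfA (⟨2, 0, 0, [], [⟨0, [], 1636, 0, [6, 9, 12, 4, 5, 6]⟩, ⟨0, [1100], 1138, 1, [3,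 4, 9, 11, 4, 11]⟩], 2⟩ : Der)) (lfA (⟨2, 0, 0, [], [⟨0, [], 1636, 0, [6, 12, 6, 5, 4, 6, 5, 7]⟩, ⟨0, [1117, 1100], 1130, 1, [1, 5, 8, 10, 4, 5, 10]⟩], 2⟩ : Der))) (ndA (nat_lit 951) (lfA (⟨2, 0, 0, [], [⟨0, [], 1636, 0, [4, 12, 3, 6, 5, 4, 6, 5, 7]⟩, ⟨0, [1117, 1101], 1140, 1, [9, 11, 4, 12, 5]⟩], 2⟩ : Der)) (lfA (⟨2, 0, 0, [], [⟨0, [], 1638, 0, [9, 12, 4, 5, 7]⟩, ⟨0, [], 1142, 1, [3, 4, 5, 9, 11, 4]⟩], 2⟩ : Der))))) (ndA (nat_lit 956) (ndA (nat_lit 954) (ndA (nat_lit 953) (lfA (⟨2, 0, 0, [], [⟨0, [], 1638, 0, [6, 12, 4, 6, 5, 6]⟩, ⟨0, [1101], 1375, 1, [3, 5, 12, 4, 11, 4, 10]⟩], 2⟩ : Der)) (lfA (⟨2, 0, 0, [], [⟨0, [], 1638, 0, [12, 5, 4, 6, 5, 9, 7]⟩, ⟨0, [1117, 1100], 1481, 1, [8, 10]⟩], 2⟩ : Der)))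 (ndA (nat_lit 955) (lfA (⟨2, 0, 0, [], [⟨0, [], 1638, 0, [4, 12, 5, 6, 12, 5, 6]⟩, ⟨0, [1117, 1100], 1136, 1, [5, 4, 10, 4, 10]⟩], 2⟩ : Der)) (lfA (⟨2, 0, 0, [], [⟨0, [], 1641, 1, [3, 4, 5, 7]⟩, ⟨0, [1587, 1543], 1836, 0, [1, 2, 12, 5, 12, 2, 3, 4]⟩], 2⟩ : Der)))) (ndA (nat_lit 958) (ndA (nat_lit 957) (lfA (⟨2, 0, 0, [], [⟨0, [], 1640, 0, [7, 12, 3, 4, 12, 7, 5, 7]⟩, ⟨0, [183, 191], 1910, 1, [1, 3, 4, 8, 10, 4]⟩], 2⟩ : Der)) (lfA (⟨2, 0, 0, [], [⟨0, [], 1644, 0, [8, 7, 12, 4, 5, 4, 7, 5, 7]⟩, ⟨0, [], 808, 1, [1, 4, 10, 4, 10, 4, 11]⟩], 2⟩ : Der))) (ndA (nat_lit 959) (lfA (⟨0, 0, 0, [], [], 0⟩ : Der)) (lfA (⟨2, 0, 0, [], [⟨0, [], 1917, 0, [12]⟩, ⟨0, [154], 1916, 1, []⟩], 0⟩ : Der))))))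
noncomputable def DT60 : ℕ → Der := (ndA (nat_lit 968) (ndA (nat_lit 964) (ndA (nat_lit 962) (ndA (nat_lit 961) (lfA (⟨2, 0, 0, [], [⟨0, [], 1917, 0, []⟩, ⟨0, [], 1235, 1, [1, 11]⟩], 2⟩ : Der)) (lfA (⟨2, 0, 0, [], [⟨0, [], 1917, 0, [5, 8, 6]⟩, ⟨0, [157, 155, 152], 909, 1, [4, 8, 11, 4, 12, 5, 10]⟩], 2⟩ : Der))) (ndA (nat_lit 963) (lfA (⟨2, 0, 0, [7, 5, 4, 3, 1, 2, 6, 6, 3, 4, 12, 3], [⟨0, [], 1917, 0, [7, 7, 5, 7]⟩, ⟨0, [155, 153], 905, 1, [4, 5, 8, 12, 4, 11, 4, 5]⟩, ⟨0, [887], 1923, 2, [4, 5, 9, 12, 2, 12, 2, 1, 3]⟩], 0⟩ : Der)) (lfA (⟨2, 0, 0, [], [⟨0, [], 1917, 0, [9, 6, 5, 7]⟩, ⟨0, [157], 391, 1, [1, 4, 9, 12, 5, 10]⟩], 2⟩ : Der)))) (ndA (nat_lit 966) (ndA (nat_lit 965) (lfA (⟨2, 0, 0, [], [⟨0, [],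 1917, 0, [4, 12, 7, 7]⟩, ⟨0, [157, 153, 151], 931, 1, [8, 11, 12, 4, 5, 10]⟩], 2⟩ : Der)) (lfA (⟨2, 0, 0, [], [⟨0, [], 1917, 0, [3, 4, 5, 6]⟩, ⟨0, [157, 153, 157], 1369, 1, [1, 4, 8, 12, 11]⟩], 2⟩ : Der))) (ndA (nat_lit 967) (lfA (⟨2, 0, 0, [4, 2, 3, 1, 2, 12, 6, 12, 8, 5], [⟨0, [], 1917, 0, [4, 6, 12, 6]⟩, ⟨0, [157, 152], 1371, 1, [3, 4, 5, 11, 12]⟩, ⟨0, [], 1931, 2, [4, 8, 12, 4, 12, 2, 1, 3, 2]⟩], 0⟩ : Der)) (lfA (⟨2, 0, 0, [], [⟨0, [], 1917, 0, [7, 5, 12, 6]⟩, ⟨0, [153, 157, 153], 397, 1, [1, 4, 5, 12, 11]⟩], 2⟩ : Der))))) (ndA (nat_lit 972) (ndA (nat_lit 970) (ndA (nat_lit 969) (lfA (⟨2, 0, 0, [], [⟨0, [], 1917, 0, [4, 7, 12, 6, 5, 7]⟩, ⟨0, [156, 153, 151], 875, 1, [8, 11, 4, 12, 5, 12]⟩], 2⟩ : Der))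 (lfA (⟨2, 0, 0, [], [⟨0, [], 1917, 0, [7, 5, 6, 12, 4, 7, 5, 7]⟩, ⟨0, [157, 155, 153], 1155, 1, [12, 5, 11, 4, 11]⟩], 2⟩ : Der))) (ndA (nat_lit 971) (lfA (⟨2, 0, 0, [], [⟨0, [], 1920, 0, [2]⟩, ⟨0, [1181], 1522, 2, [1, 10, 4, 10, 4, 5]⟩], 1⟩ : Der)) (lfA (⟨2, 0, 0, [], [⟨0, [], 1920, 0, [1, 3, 2]⟩, ⟨0, [1181], 1484, 2, [10, 12, 4, 5, 11]⟩], 1⟩ : Der)))) (ndA (nat_lit 974) (ndA (nat_lit 973) (lfA (⟨2, 0, 0, [], [⟨0, [], 1920, 0, [4, 3, 2]⟩, ⟨0, [], 1406, 2, [1, 3, 4, 5, 10, 4]⟩], 1⟩ : Der)) (lfA (⟨2, 0, 0, [], [⟨0, [], 1920, 0, [2, 12, 2]⟩, ⟨0, [], 1414, 2, [3, 4, 10, 4, 12, 5]⟩], 1⟩ : Der))) (ndA (nat_lit 975) (lfA (⟨2, 0, 0, [], [⟨0, [], 1920, 0, [5, 12, 2]⟩, ⟨0, [], 1408, 2, [1, 3, 4, 5, 10, 12]⟩], 1⟩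 : Der)) (lfA (⟨2, 0, 0, [], [⟨0, [], 1920, 0, [2, 1, 3, 2]⟩, ⟨0, [], 1184, 2, [1, 3, 4, 5, 10]⟩], 1⟩ : Der))))))
noncomputable def DT61 : ℕ → Der := (ndA (nat_lit 984) (ndA (nat_lit 980) (ndA (nat_lit 978) (ndA (nat_lit 977) (lfA (⟨2, 0, 0, [], [⟨0, [], 1920, 0, [1, 3, 4, 3, 2]⟩, ⟨0, [1181], 1416, 2, [4, 11, 12, 5, 12, 4]⟩], 1⟩ : Der)) (lfA (⟨2, 0, 0, [], [⟨0, [], 1920, 0, [3, 2, 1, 12, 2]⟩, ⟨0, [], 1432, 2, [4, 10, 4, 12]⟩], 1⟩ : Der))) (ndA (nat_lit 979) (lfA (⟨2, 0, 0, [], [⟨0, [], 1920, 0, [3, 2, 1, 5, 4, 3, 2]⟩, ⟨0, [], 1342, 2, [3, 4, 11, 4, 12, 11]⟩], 1⟩ : Der)) (lfA (⟨0, 0, 0, [], [], 1⟩ : Der)))) (ndA (nat_lit 982) (ndA (nat_lit 981) (lfA (⟨2, 0, 0, [], [⟨0, [], 1959, 1, [4, 6, 5, 4, 7, 12, 6,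 6]⟩, ⟨0, [234, 227], 1958, 0, []⟩], 1⟩ : Der)) (lfA (⟨2, 0, 0, [], [⟨0, [], 1959, 1, []⟩, ⟨0, [], 816, 0, [12, 2]⟩], 2⟩ : Der))) (ndA (nat_lit 983) (lfA (⟨2, 0, 0, [], [⟨0, [], 1959, 1, [6]⟩, ⟨0, [237, 235, 226, 225], 381, 0, [1, 2, 3, 5, 4, 3, 2, 4, 3, 9]⟩], 2⟩ : Der)) (lfA (⟨2, 0, 0, [], [⟨0, [], 1959, 1, [7, 7]⟩, ⟨0, [231, 226, 224], 944, 0, [1, 3, 4, 9, 12, 2]⟩], 2⟩ : Der))))) (ndA (nat_lit 988) (ndA (nat_lit 986) (ndA (nat_lit 985) (lfA (⟨2, 0, 0, [], [⟨0, [], 1959, 1, [12, 7]⟩, ⟨0, [229, 236, 225], 1285, 0, [2, 3, 4, 3, 2, 12, 3, 5, 12]⟩], 2⟩ : Der)) (lfA (⟨2, 0, 0, [], [⟨0, [], 1959, 1, [5, 6]⟩, ⟨0, [228, 237, 235, 225], 1027, 0, [2, 8, 12, 2, 4, 3, 12]⟩], 2⟩ : Der))) (ndA (nat_lit 987) (lfA (⟨2,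 0, 0, [], [⟨0, [], 1959, 1, [6, 6]⟩, ⟨0, [231, 227, 225], 1455, 0, [2, 3, 2, 9, 12, 2, 4, 3, 2]⟩], 2⟩ : Der)) (lfA (⟨2, 0, 0, [], [⟨0, [], 1959, 1, [4, 5, 7]⟩, ⟨0, [237, 235, 226, 225], 377, 0, [1, 2, 3, 4, 8, 12, 2, 3, 4, 12]⟩], 2⟩ : Der)))) (ndA (nat_lit 990) (ndA (nat_lit 989) (lfA (⟨2, 0, 0, [], [⟨0, [], 1959, 1, [7, 5, 7]⟩, ⟨0, [237, 235, 224], 1027, 0, [2, 1, 3, 2, 5, 4, 3, 2, 4, 9]⟩], 2⟩ : Der)) (lfA (⟨2, 0, 0, [], [⟨0, [], 1959, 1, [5, 9, 7]⟩, ⟨0, [231, 228, 236, 229], 1451, 0, [1, 3, 2, 9, 12, 4, 3, 2, 1, 12, 2]⟩], 2⟩ : Der))) (ndA (nat_lit 991) (lfA (⟨2, 0, 0, [], [⟨0, [], 1959, 1, [12, 5, 7]⟩, ⟨0, [235, 231, 236], 373, 0, [12, 2, 1, 3, 2, 4, 12, 3, 2]⟩], 2⟩ : Der)) (lfA (⟨2, 0, 0, [], [⟨0, [],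 1959, 1, [8, 12, 7]⟩, ⟨0, [236, 235, 228, 225], 885, 0, [3, 5, 8, 12, 2, 12, 4, 3, 2, 12]⟩], 2⟩ : Der))))))
noncomputable def DT62 : ℕ → Der := (ndA (nat_lit 1000) (ndA (nat_lit 996) (ndA (nat_lit 994) (ndA (nat_lit 993) (lfA (⟨2, 0, 0, [], [⟨0, [], 1959, 1, [4, 5, 6]⟩, ⟨0, [228, 237, 229, 225], 1027, 0, [2, 1, 3, 2, 5, 8, 12, 2, 5]⟩], 2⟩ : Der)) (lfA (⟨2, 0, 0, [], [⟨0, [], 1959, 1, [6, 5, 6]⟩, ⟨0, [227, 225], 1455, 0, [2, 1, 4, 5, 9, 12, 2, 1]⟩], 2⟩ : Der))) (ndA (nat_lit 995) (lfA (⟨2, 0, 0, [], [⟨0, [], 1959, 1, [5, 9, 6]⟩, ⟨0, [229, 237, 235], 1027, 0, [2, 9, 12, 2, 1, 5, 12, 2, 3]⟩], 2⟩ : Der)) (lfA (⟨2, 0, 0, [], [⟨0, [], 1959, 1, [8, 12, 6]⟩, ⟨0, [228, 225], 1281, 0, [2, 4, 9, 12, 3, 2, 12, 2,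 1, 4]⟩], 2⟩ : Der)))) (ndA (nat_lit 998) (ndA (nat_lit 997) (lfA (⟨2, 0, 0, [], [⟨0, [], 1959, 1, [4, 5, 8, 7]⟩, ⟨0, [237, 235, 226, 224], 1027, 0, [1, 2, 1, 3, 2, 4, 3, 2, 4, 5]⟩], 2⟩ : Der)) (lfA (⟨2, 0, 0, [], [⟨0, [], 1959, 1, [8, 7, 5, 7]⟩, ⟨0, [224, 228], 816, 0, [12, 5, 4, 3, 2]⟩], 2⟩ : Der))) (ndA (nat_lit 999) (lfA (⟨2, 0, 0, [], [⟨0, [], 1959, 1, [9, 6, 5, 7]⟩, ⟨0, [231, 236, 224, 229], 1451, 0, [1, 8, 12, 2, 1, 12, 2, 12, 5, 12]⟩], 2⟩ : Der)) (lfA (⟨2, 0, 0, [], [⟨0, [], 1959, 1, [12, 6, 5, 7]⟩, ⟨0, [235, 231, 225, 228], 661, 0, [2, 8, 12, 2, 12, 5, 4, 3]⟩], 2⟩ : Der))))) (ndA (nat_lit 1004) (ndA (nat_lit 1002) (ndA (nat_lit 1001) (lfA (⟨2, 0, 0, [], [⟨0, [], 1959, 1, [6, 5, 9, 7]⟩, ⟨0, [224,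 228, 237, 231], 859, 0, [1, 2, 5, 4, 3, 2, 8, 12, 4, 3]⟩], 2⟩ : Der)) (lfA (⟨2, 0, 0, [], [⟨0, [], 1959, 1, [4, 5, 9, 6]⟩, ⟨0, [231, 228, 226], 944, 0, [5, 9, 12, 2, 4, 5]⟩], 2⟩ : Der))) (ndA (nat_lit 1003) (lfA (⟨2, 0, 0, [], [⟨0, [], 1959, 1, [6, 5, 9, 6]⟩, ⟨0, [229, 236, 235, 225], 1469, 0, [1, 12, 2, 3, 12, 4, 12, 2, 3, 4]⟩], 2⟩ : Der)) (lfA (⟨2, 0, 0, [], [⟨0, [], 1959, 1, [8, 12, 5, 6]⟩, ⟨0, [231, 228, 225], 885, 0, [3, 4, 3, 2, 4, 3, 5, 4, 8]⟩], 2⟩ : Der)))) (ndA (nat_lit 1006) (ndA (nat_lit 1005) (lfA (⟨2, 0, 0, [], [⟨0, [], 1962, 1, [11]⟩, ⟨0, [819], 1821, 2, [1, 2, 9, 12, 2, 1, 3, 2, 1, 5, 4]⟩], 0⟩ : Der)) (lfA (⟨2, 0, 0, [], [⟨0, [], 1962, 1, [4, 11]⟩, ⟨0, [819], 1605, 2, [5, 9, 12, 4, 3, 2,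 12, 4, 3, 2]⟩], 0⟩ : Der))) (ndA (nat_lit 1007) (lfA (⟨2, 0, 0, [], [⟨0, [], 1962, 1, [5, 4, 11]⟩, ⟨0, [818], 1865, 2, [4, 12, 2, 12, 4, 3, 2]⟩], 0⟩ : Der)) (lfA (⟨2, 0, 0, [], [⟨0, [], 1962, 1, [11, 4, 11]⟩, ⟨0, [819], 1801, 2, [9, 12, 2, 4, 12, 2, 5, 12]⟩], 0⟩ : Der))))))
noncomputable def DT63 : ℕ → Der := (ndA (nat_lit 1016) (ndA (nat_lit 1012) (ndA (nat_lit 1010) (ndA (nat_lit 1009) (lfA (⟨2, 0, 0, [], [⟨0, [], 1962, 1, [5, 11, 4, 11]⟩, ⟨0, [819], 1855, 2, [2, 3, 9, 12, 4, 12, 2, 1, 12, 2]⟩], 0⟩ : Der)) (lfA (⟨2, 0, 0, [], [⟨0, [], 1964, 1, [11]⟩, ⟨0, [353, 355], 1811, 2, [2, 8, 12, 2, 1, 3, 2, 4, 3, 2]⟩], 0⟩ : Der))) (ndA (nat_lit 1011) (lfA (⟨2, 0, 0, [], [⟨0, [], 1964, 1, [4, 11]⟩, ⟨0, [353, 355,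 353], 1927, 2, [5, 4, 3, 4, 3, 2, 1]⟩], 0⟩ : Der)) (lfA (⟨2, 0, 0, [], [⟨0, [], 1964, 1, [5, 4, 11]⟩, ⟨0, [355], 427, 2, [2, 8, 12, 2, 12, 2, 1, 5, 12]⟩], 0⟩ : Der)))) (ndA (nat_lit 1014) (ndA (nat_lit 1013) (lfA (⟨2, 0, 0, [], [⟨0, [], 1964, 1, [11, 4, 11]⟩, ⟨0, [353, 355, 353], 779, 2, [1, 2, 4, 3, 5, 4, 3, 2, 1, 8]⟩], 0⟩ : Der)) (lfA (⟨2, 0, 0, [], [⟨0, [], 1964, 1, [5, 11, 4, 11]⟩, ⟨0, [], 1599, 2, [3, 12, 2, 1, 12, 2, 12, 5]⟩], 0⟩ : Der))) (ndA (nat_lit 1015) (lfA (⟨2, 0, 0, [], [⟨0, [], 1966, 1, [11]⟩, ⟨0, [947], 1819, 2, [3, 2, 1, 4, 3, 2, 1, 5, 8, 12]⟩], 0⟩ : Der)) (lfA (⟨2, 0, 0, [], [⟨0, [], 1966, 1, [4, 11]⟩, ⟨0, [946], 962, 2, [1, 2, 1, 3, 2, 5, 4, 3, 4, 8]⟩], 0⟩ : Der))))) (ndA (nat_lit 1020)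 (ndA (nat_lit 1018) (ndA (nat_lit 1017) (lfA (⟨2, 0, 0, [], [⟨0, [], 1966, 1, [5, 4, 11]⟩, ⟨0, [947], 1851, 2, [3, 5, 9, 12, 2, 5, 12, 2, 1]⟩], 0⟩ : Der)) (lfA (⟨2, 0, 0, [], [⟨0, [], 1966, 1, [11, 4, 11]⟩, ⟨0, [946], 1018, 2, [2, 9, 12, 2, 3, 5, 4, 3, 2]⟩], 0⟩ : Der))) (ndA (nat_lit 1019) (lfA (⟨2, 0, 0, [], [⟨0, [], 1966, 1, [5, 11, 4, 11]⟩, ⟨0, [], 1895, 2, [2, 3, 2, 4, 9, 12, 2, 12, 3]⟩], 0⟩ : Der)) (lfA (⟨2, 0, 0, [], [⟨0, [], 1968, 1, [11]⟩, ⟨0, [], 1593, 2, [2, 5, 12, 2, 3, 12, 5]⟩], 0⟩ : Der)))) (ndA (nat_lit 1022) (ndA (nat_lit 1021) (lfA (⟨2, 0, 0, [], [⟨0, [], 1968, 1, [4, 11]⟩, ⟨0, [], 1472, 2, [1, 2, 1, 5, 12, 2, 4, 12, 2, 12]⟩], 0⟩ : Der)) (lfA (⟨2, 0, 0, [], [⟨0, [], 1968, 1, [11, 4, 11]⟩,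 ⟨0, [1181], 1617, 2, [2, 1, 3, 2, 8, 12, 2, 1, 3, 5]⟩], 0⟩ : Der))) (ndA (nat_lit 1023) (lfA (⟨2, 0, 0, [], [⟨0, [], 1970, 1, [4, 11]⟩, ⟨0, [947], 1891, 2, [2, 1, 4, 9, 12, 2, 4, 12, 5, 12]⟩], 0⟩ : Der)) (lfA (⟨2, 0, 0, [], [⟨0, [], 1970, 1, [5, 4, 11]⟩, ⟨0, [], 1813, 2, [2, 9, 12, 2, 5, 4, 12, 4]⟩], 0⟩ : Der))))))
noncomputable def DT64 : ℕ → Der := (ndA (nat_lit 1032) (ndA (nat_lit 1028) (ndA (nat_lit 1026) (ndA (nat_lit 1025) (lfA (⟨2, 0, 0, [], [⟨0, [], 1970, 1, [11, 4, 11]⟩, ⟨0, [946], 1897, 2, [4, 3, 2, 1, 9, 12, 2]⟩], 0⟩ : Der)) (lfA (⟨2, 0, 0, [], [⟨0, [], 1970, 1, [5, 11, 4, 11]⟩, ⟨0, [], 1092, 2, [1, 2, 1, 4, 8, 12, 2, 3, 4]⟩], 0⟩ : Der))) (ndA (nat_lit 1027) (lfA (⟨2, 0, 0, [], [⟨0, [], 1972,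 1, [11]⟩, ⟨0, [1181], 1879, 2, [1, 2, 3, 9, 12, 4, 12, 2, 3, 12]⟩], 0⟩ : Der)) (lfA (⟨2, 0, 0, [], [⟨0, [], 1972, 1, [4, 11]⟩, ⟨0, [], 1595, 2, [12, 2, 1, 4, 3, 2, 1, 12]⟩], 0⟩ : Der)))) (ndA (nat_lit 1030) (ndA (nat_lit 1029) (lfA (⟨2, 0, 0, [], [⟨0, [], 1972, 1, [5, 4, 11]⟩, ⟨0, [1181], 1815, 2, [3, 4, 3, 12, 2, 3, 4]⟩], 0⟩ : Der)) (lfA (⟨2, 0, 0, [], [⟨0, [], 1972, 1, [11, 4, 11]⟩, ⟨0, [], 1857, 2, [2, 3, 2, 4, 5]⟩], 0⟩ : Der))) (ndA (nat_lit 1031) (lfA (⟨2, 0, 0, [], [⟨0, [], 1972, 1, [5, 11, 4, 11]⟩, ⟨0, [1181], 1907, 2, [2, 4, 12, 2, 12, 4, 5]⟩], 0⟩ : Der)) (lfA (⟨2, 0, 0, [], [⟨0, [], 1974, 1, [4, 11]⟩, ⟨0, [355], 1935, 2, [2, 3, 5, 9, 12, 2, 1, 3]⟩], 0⟩ : Der))))) (ndA (nat_lit 1036) (ndA (nat_lit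 1034) (ndA (nat_lit 1033) (lfA (⟨2, 0, 0, [], [⟨0, [], 1974, 1, [5, 4, 11]⟩, ⟨0, [353], 1585, 2, [1, 2, 1, 4, 8, 12, 2, 4, 12, 4]⟩], 0⟩ : Der)) (lfA (⟨2, 0, 0, [], [⟨0, [], 1974, 1, [11, 4, 11]⟩, ⟨0, [353], 378, 2, [1, 2, 3, 4, 3, 2, 4, 3, 8]⟩], 0⟩ : Der))) (ndA (nat_lit 1035) (lfA (⟨2, 0, 0, [], [⟨0, [], 1974, 1, [5, 11, 4, 11]⟩, ⟨0, [355, 353], 779, 2, [3, 2, 1, 4, 3, 4]⟩], 0⟩ : Der)) (lfA (⟨2, 0, 0, [], [⟨0, [], 1976, 1, [11, 4, 11]⟩, ⟨0, [946], 1869, 2, [9, 12, 2, 12, 5, 12, 2, 12, 2, 4]⟩], 0⟩ : Der)))) (ndA (nat_lit 1038) (ndA (nat_lit 1037) (lfA (⟨2, 0, 0, [], [⟨0, [], 1976, 1, [5, 11, 4, 11]⟩, ⟨0, [947], 1863, 2, [1, 2, 8, 12, 3, 5, 12]⟩], 0⟩ : Der)) (lfA (⟨2, 0, 0, [], [⟨0, [], 1978, 1, [5, 4,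 11]⟩, ⟨0, [1181], 1849, 2, [3, 8, 12, 2, 3, 12, 2, 12]⟩], 0⟩ : Der))) (ndA (nat_lit 1039) (lfA (⟨2, 0, 0, [], [⟨0, [], 1978, 1, [11, 4, 11]⟩, ⟨0, [], 1841, 2, [1, 2, 8, 12, 2, 1, 5, 12, 2, 3, 12]⟩], 0⟩ : Der)) (lfA (⟨2, 0, 0, [], [⟨0, [], 1980, 1, [5, 4, 11]⟩, ⟨0, [355], 569, 2, [2, 5, 4, 8, 12, 2, 1, 5]⟩], 0⟩ : Der))))))
noncomputable def DT65 : ℕ → Der := (ndA (nat_lit 1048) (ndA (nat_lit 1044) (ndA (nat_lit 1042) (ndA (nat_lit 1041) (lfA (⟨2, 0, 0, [], [⟨0, [], 1980, 1, [11, 4, 11]⟩, ⟨0, [355], 807, 2, [3, 2, 1, 5, 4, 3, 2, 1, 8, 12]⟩], 0⟩ : Der)) (lfA (⟨2, 0, 0, [], [⟨0, [], 1980, 1, [5, 11, 4, 11]⟩, ⟨0, [353, 355, 353], 1909, 2, [3, 2, 9, 12, 4, 12, 2, 3, 12]⟩], 0⟩ : Der))) (ndA (nat_lit 1043) (lfA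 (⟨2, 0, 0, [], [⟨0, [], 1982, 1, [11]⟩, ⟨0, [866], 1937, 2, [5, 12, 2, 12, 4, 12, 2]⟩], 0⟩ : Der)) (lfA (⟨2, 0, 0, [], [⟨0, [], 1982, 1, [4, 11]⟩, ⟨0, [], 1613, 2, [1, 4, 12, 2, 1, 3, 2, 12]⟩], 0⟩ : Der)))) (ndA (nat_lit 1046) (ndA (nat_lit 1045) (lfA (⟨2, 0, 0, [], [⟨0, [], 1982, 1, [5, 4, 11]⟩, ⟨0, [866], 1929, 2, [3, 8, 12, 2, 4, 3, 2, 12, 5]⟩], 0⟩ : Der)) (lfA (⟨2, 0, 0, [], [⟨0, [], 1984, 1, [11, 4, 11]⟩, ⟨0, [], 1887, 2, [2, 1, 3, 2, 12, 3, 2, 4, 12]⟩], 0⟩ : Der))) (ndA (nat_lit 1047) (lfA (⟨2, 0, 0, [], [⟨0, [], 1986, 1, [4, 11]⟩, ⟨0, [1181], 1607, 2, [1, 2, 3, 8, 12, 2, 12, 3]⟩], 0⟩ : Der)) (lfA (⟨2, 0, 0, [], [⟨0, [], 1986, 1, [11, 4, 11]⟩, ⟨0, [], 1853, 2, [1, 12, 2, 1, 3, 2, 4, 5, 4, 3]⟩], 0⟩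 : Der))))) (ndA (nat_lit 1052) (ndA (nat_lit 1050) (ndA (nat_lit 1049) (lfA (⟨2, 0, 0, [], [⟨0, [], 1986, 1, [5, 11, 4, 11]⟩, ⟨0, [1181], 1246, 2, [2, 1, 9, 12, 2]⟩], 0⟩ : Der)) (lfA (⟨2, 0, 0, [], [⟨0, [], 1988, 1, [4, 11]⟩, ⟨0, [], 1845, 2, [2, 8, 12, 4, 12, 2, 1, 12, 5]⟩], 0⟩ : Der))) (ndA (nat_lit 1051) (lfA (⟨2, 0, 0, [], [⟨0, [], 1988, 1, [5, 4, 11]⟩, ⟨0, [946], 1903, 2, [3, 5, 9, 12, 2, 1, 5, 12, 4]⟩], 0⟩ : Der)) (lfA (⟨2, 0, 0, [], [⟨0, [], 1988, 1, [11, 4, 11]⟩, ⟨0, [946], 1871, 2, [3, 2, 12, 3, 4, 12, 2, 12, 5]⟩], 0⟩ : Der)))) (ndA (nat_lit 1054) (ndA (nat_lit 1053) (lfA (⟨2, 0, 0, [], [⟨0, [], 1990, 1, [11]⟩, ⟨0, [1181], 1555, 2, [8, 12, 4, 12, 2, 1, 3, 4, 3]⟩], 0⟩ : Der)) (lfA (⟨2, 0, 0, [],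 [⟨0, [], 1990, 1, [4, 11]⟩, ⟨0, [1181], 1889, 2, [5, 4, 8, 12, 2, 1, 3, 2, 12]⟩], 0⟩ : Der))) (ndA (nat_lit 1055) (lfA (⟨2, 0, 0, [], [⟨0, [], 1990, 1, [11, 4, 11]⟩, ⟨0, [1181], 1905, 2, [3, 2, 1, 5, 9, 12, 2]⟩], 0⟩ : Der)) (lfA (⟨2, 0, 0, [], [⟨0, [], 1990, 1, [5, 11, 4, 11]⟩, ⟨0, [], 1464, 2, [2, 1, 9, 12, 2, 3, 12, 2]⟩], 0⟩ : Der))))))
noncomputable def DT66 : ℕ → Der := (ndA (nat_lit 1064) (ndA (nat_lit 1060) (ndA (nat_lit 1058) (ndA (nat_lit 1057) (lfA (⟨2, 0, 0, [], [⟨0, [], 1992, 1, [4, 11]⟩, ⟨0, [946], 1839, 2, [3, 2, 8, 12, 2, 12, 2, 4, 12, 4]⟩], 0⟩ : Der)) (lfA (⟨2, 0, 0, [], [⟨0, [], 1994, 1, [4, 11]⟩, ⟨0, [850, 819], 1827, 2, [12, 2, 12, 3, 5, 12, 2, 12, 2]⟩], 0⟩ : Der))) (ndA (nat_lit 1059)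 (lfA (⟨2, 0, 0, [], [⟨0, [], 1996, 1, [5, 4, 11]⟩, ⟨0, [1181], 1835, 2, [4, 12, 2, 4, 12, 2, 12, 3]⟩], 0⟩ : Der)) (lfA (⟨2, 0, 0, [], [⟨0, [], 1998, 1, [5, 4, 11]⟩, ⟨0, [641], 1859, 2, [4, 3, 4, 8, 12, 2, 1, 3]⟩], 0⟩ : Der)))) (ndA (nat_lit 1062) (ndA (nat_lit 1061) (lfA (⟨2, 0, 0, [], [⟨0, [], 2000, 1, [11, 4, 11]⟩, ⟨0, [818], 1855, 2, [2, 3, 12, 2, 12, 2, 12, 5]⟩], 0⟩ : Der)) (lfA (⟨2, 0, 0, [], [⟨0, [], 2000, 1, [5, 11, 4, 11]⟩, ⟨0, [818], 1809, 2, [12, 2, 3, 5, 4, 3, 2, 4, 3]⟩], 0⟩ : Der))) (ndA (nat_lit 1063) (lfA (⟨2, 0, 0, [], [⟨0, [], 2002, 1, [5, 4, 11]⟩, ⟨0, [947], 1831, 2, [5, 8, 12, 4, 12, 2, 1, 12, 2]⟩], 0⟩ : Der)) (lfA (⟨2, 0, 0, [], [⟨0, [], 2002, 1, [11, 4, 11]⟩, ⟨0, [946], 1589, 2, [3,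 8, 12, 2, 1, 12, 2, 1, 3]⟩], 0⟩ : Der))))) (ndA (nat_lit 1068) (ndA (nat_lit 1066) (ndA (nat_lit 1065) (lfA (⟨2, 0, 0, [], [⟨0, [], 2002, 1, [5, 11, 4, 11]⟩, ⟨0, [], 1903, 2, [2, 3, 4, 12, 5, 12, 2, 12, 2]⟩], 0⟩ : Der)) (lfA (⟨2, 0, 0, [], [⟨0, [], 2004, 1, [4, 11]⟩, ⟨0, [1181], 1881, 2, [2, 8, 12, 4, 3, 12, 2, 1, 12, 2]⟩], 0⟩ : Der))) (ndA (nat_lit 1067) (lfA (⟨2, 0, 0, [], [⟨0, [], 2006, 1, [4, 11]⟩, ⟨0, [], 1833, 2, [2, 1, 5, 4, 3, 2, 1, 12, 2]⟩], 0⟩ : Der)) (lfA (⟨0, 0, 0, [], [], 1⟩ : Der)))) (ndA (nat_lit 1070) (ndA (nat_lit 1069) (lfA (⟨2, 0, 0, [], [⟨0, [], 2135, 1, [4, 3, 5, 4]⟩, ⟨0, [1542], 2134, 0, []⟩], 1⟩ : Der)) (lfA (⟨2, 0, 0, [], [⟨0, [], 2135, 1, []⟩, ⟨0, [], 1544, 0, [2, 1, 12, 2]⟩],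 2⟩ : Der))) (ndA (nat_lit 1071) (lfA (⟨2, 0, 0, [], [⟨0, [], 2135, 1, [7]⟩, ⟨0, [1587, 1543], 1836, 0, [4, 12, 2, 4, 3, 12]⟩], 2⟩ : Der)) (lfA (⟨2, 0, 0, [], [⟨0, [], 2135, 1, [6]⟩, ⟨0, [], 1846, 0, [2, 3, 2, 4, 3]⟩], 2⟩ : Der))))))
noncomputable def DT67 : ℕ → Der := (ndA (nat_lit 1080) (ndA (nat_lit 1076) (ndA (nat_lit 1074) (ndA (nat_lit 1073) (lfA (⟨2, 0, 0, [], [⟨0, [], 2135, 1, [7, 5, 7]⟩, ⟨0, [], 1874, 0, [2, 3, 2]⟩], 2⟩ : Der)) (lfA (⟨2, 0, 0, [], [⟨0, [], 2135, 1, [6, 5, 7]⟩, ⟨0, [1543], 1802, 0, [2, 1, 5, 4, 12, 2, 4, 3]⟩], 2⟩ : Der))) (ndA (nat_lit 1075) (lfA (⟨2, 0, 0, [], [⟨0, [], 2135, 1, [5, 12, 7]⟩, ⟨0, [], 1798, 0, [1, 3, 2, 4, 3, 2, 1, 4, 3, 2]⟩], 2⟩ : Der)) (lfA (⟨2, 0, 0, [], [⟨0, [],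 2135, 1, [7, 12, 7]⟩, ⟨0, [1587, 1543], 1822, 0, [4, 5, 4, 12, 2, 3, 2]⟩], 2⟩ : Der)))) (ndA (nat_lit 1078) (ndA (nat_lit 1077) (lfA (⟨2, 0, 0, [], [⟨0, [], 2135, 1, [6, 5, 6]⟩, ⟨0, [], 1876, 0, [2, 3, 2]⟩], 2⟩ : Der)) (lfA (⟨2, 0, 0, [], [⟨0, [], 2135, 1, [5, 8, 6]⟩, ⟨0, [], 1796, 0, [1, 2, 4, 3, 2, 4, 3, 2, 4]⟩], 2⟩ : Der))) (ndA (nat_lit 1079) (lfA (⟨2, 0, 0, [], [⟨0, [], 2135, 1, [5, 7, 5, 7]⟩, ⟨0, [1543, 1587], 1590, 0, [1, 2, 3, 5, 8, 12, 5]⟩], 2⟩ : Der)) (lfA (⟨2, 0, 0, [], [⟨0, [], 2135, 1, [8, 6, 5, 6]⟩, ⟨0, [1543, 1587], 1842, 0, [2, 5, 8, 12, 2, 3, 12, 2]⟩], 2⟩ : Der))))) (ndA (nat_lit 1084) (ndA (nat_lit 1082) (ndA (nat_lit 1081) (lfA (⟨2, 0, 0, [7, 8, 12, 4, 3, 5, 10], [⟨0, [], 2135, 1, [7,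 7, 12, 4, 5, 7]⟩, ⟨0, [], 1912, 0, [1, 2, 12, 2, 12, 2, 4, 12, 5]⟩, ⟨0, [], 2141, 2, [1, 8, 12, 4, 5, 11]⟩], 1⟩ : Der)) (lfA (⟨2, 0, 0, [], [⟨0, [], 2138, 1, [11]⟩, ⟨0, [1181], 1867, 2, [1, 2, 12, 2, 5, 12]⟩], 0⟩ : Der))) (ndA (nat_lit 1083) (lfA (⟨2, 0, 0, [], [⟨0, [], 2138, 1, [4, 11]⟩, ⟨0, [], 1565, 2, [1, 2, 3, 4, 9, 12, 2, 4, 3]⟩], 0⟩ : Der)) (lfA (⟨2, 0, 0, [], [⟨0, [], 2138, 1, [11, 4, 11]⟩, ⟨0, [], 1466, 2, [2, 1, 4, 5, 4, 3, 2, 12]⟩], 0⟩ : Der)))) (ndA (nat_lit 1086) (ndA (nat_lit 1085) (lfA (⟨2, 0, 0, [], [⟨0, [], 2140, 1, [11]⟩, ⟨0, [946], 1893, 2, [1, 3, 2, 12, 2, 3, 2, 1]⟩], 0⟩ : Der)) (lfA (⟨2, 0, 0, [], [⟨0, [], 2140, 1, [5, 4, 11]⟩, ⟨0, [], 1817, 2, [2, 4, 3, 4, 3, 2, 1, 9, 12]⟩], 0⟩ :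 Der))) (ndA (nat_lit 1087) (lfA (⟨2, 0, 0, [], [⟨0, [], 2140, 1, [11, 4, 11]⟩, ⟨0, [], 1901, 2, [1, 2, 9, 12, 3, 2, 12, 2, 12]⟩], 0⟩ : Der)) (lfA (⟨2, 0, 0, [], [⟨0, [], 2140, 1, [5, 11, 4, 11]⟩, ⟨0, [946], 1034, 2, [3, 2, 5, 4, 12, 2, 3, 12]⟩], 0⟩ : Der))))))
noncomputable def DT68 : ℕ → Der := (ndA (nat_lit 1096) (ndA (nat_lit 1092) (ndA (nat_lit 1090) (ndA (nat_lit 1089) (lfA (⟨2, 0, 0, [], [⟨0, [], 2142, 1, [11]⟩, ⟨0, [1171, 1167], 1939, 2, [1, 8, 12, 2, 3, 4, 12, 2]⟩], 0⟩ : Der)) (lfA (⟨2, 0, 0, [], [⟨0, [], 2142, 1, [4, 11]⟩, ⟨0, [1171, 1153], 1829, 2, [1, 2, 4, 12, 3, 2, 12, 2, 1]⟩], 0⟩ : Der))) (ndA (nat_lit 1091) (lfA (⟨2, 0, 0, [], [⟨0, [], 2142, 1, [5, 4, 11]⟩, ⟨0, [1166, 1152], 1168, 2, [1,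 3, 2, 4, 3, 4, 12, 5]⟩], 0⟩ : Der)) (lfA (⟨2, 0, 0, [], [⟨0, [], 2142, 1, [11, 4, 11]⟩, ⟨0, [1167, 1153], 1847, 2, [8, 12, 2, 3, 4, 3, 2, 4, 12]⟩], 0⟩ : Der)))) (ndA (nat_lit 1094) (ndA (nat_lit 1093) (lfA (⟨2, 0, 0, [], [⟨0, [], 2142, 1, [5, 11, 4, 11]⟩, ⟨0, [1152], 1609, 2, [5, 4, 9, 12, 2, 1, 5, 12, 2, 1]⟩], 0⟩ : Der)) (lfA (⟨2, 0, 0, [], [⟨0, [], 2144, 1, [11]⟩, ⟨0, [664], 805, 2, [2, 1, 4, 3, 2, 1, 4, 3, 8]⟩], 0⟩ : Der))) (ndA (nat_lit 1095) (lfA (⟨2, 0, 0, [], [⟨0, [], 2144, 1, [11, 4, 11]⟩, ⟨0, [673, 680, 665], 1885, 2, [5, 4, 9, 12, 2, 12, 3, 2]⟩], 0⟩ : Der)) (lfA (⟨2, 0, 0, [], [⟨0, [], 2144, 1, [5, 11, 4, 11]⟩, ⟨0, [681], 1915, 2, [9, 12, 2, 3, 4, 12, 2, 3, 2, 5]⟩], 0⟩ : Der))))) (ndA (nat_lit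 1100) (ndA (nat_lit 1098) (ndA (nat_lit 1097) (lfA (⟨2, 0, 0, [], [⟨0, [], 2146, 1, [4, 11]⟩, ⟨0, [], 1583, 2, [1, 2, 9, 12, 3, 2, 1, 12, 2, 4]⟩], 0⟩ : Der)) (lfA (⟨2, 0, 0, [], [⟨0, [], 2146, 1, [5, 4, 11]⟩, ⟨0, [1181], 1805, 2, [1, 3, 2, 4, 3]⟩], 0⟩ : Der))) (ndA (nat_lit 1099) (lfA (⟨2, 0, 0, [], [⟨0, [], 2146, 1, [5, 11, 4, 11]⟩, ⟨0, [], 1611, 2, [2, 1, 3, 2, 4, 5, 9, 12, 2, 4]⟩], 0⟩ : Der)) (lfA (⟨2, 0, 0, [], [⟨0, [], 2148, 1, [5, 4, 11]⟩, ⟨0, [450], 1883, 2, [12, 2, 1, 3, 2, 4, 5, 4]⟩], 0⟩ : Der)))) (ndA (nat_lit 1102) (ndA (nat_lit 1101) (lfA (⟨2, 0, 0, [], [⟨0, [], 2148, 1, [11, 4, 11]⟩, ⟨0, [453, 451], 1807, 2, [8, 12, 3, 2, 1, 5, 12]⟩], 0⟩ : Der)) (lfA (⟨2, 0, 0, [], [⟨0, [], 2148, 1, [5, 11,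 4, 11]⟩, ⟨0, [451], 1873, 2, [4, 3, 8, 12, 2, 1, 5]⟩], 0⟩ : Der))) (ndA (nat_lit 1103) (lfA (⟨2, 0, 0, [], [⟨0, [], 2150, 1, [4, 11]⟩, ⟨0, [946], 1899, 2, [2, 3, 4, 3, 2, 4, 3, 5, 9]⟩], 0⟩ : Der)) (lfA (⟨2, 0, 0, [], [⟨0, [], 2150, 1, [11, 4, 11]⟩, ⟨0, [946], 1573, 2, [12, 3, 5, 12, 2, 12, 2, 12]⟩], 0⟩ : Der))))))
noncomputable def DT69 : ℕ → Der := (ndA (nat_lit 1108) (ndA (nat_lit 1106) (ndA (nat_lit 1105) (lfA (⟨2, 0, 0, [], [⟨0, [], 2152, 1, [11]⟩, ⟨0, [946], 1621, 2, [3, 12, 2, 1, 5, 12, 2, 4]⟩], 0⟩ : Der)) (lfA (⟨2, 0, 0, [], [⟨0, [], 2152, 1, [4, 11]⟩, ⟨0, [], 1094, 2, [1, 2, 3, 12, 2, 12, 4, 12, 2]⟩], 0⟩ : Der))) (ndA (nat_lit 1107) (lfA (⟨2, 0, 0, [], [⟨0, [], 2152, 1, [5, 4, 11]⟩, ⟨0, [], 1036,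 2, [2, 3, 2, 1, 4, 3]⟩], 0⟩ : Der)) (lfA (⟨2, 0, 0, [], [⟨0, [], 2152, 1, [5, 11, 4, 11]⟩, ⟨0, [946], 1861, 2, [8, 12, 2, 1, 5, 12, 4, 12]⟩], 0⟩ : Der)))) (ndA (nat_lit 1110) (ndA (nat_lit 1109) (lfA (⟨2, 0, 0, [], [⟨0, [], 2154, 1, [11]⟩, ⟨0, [1181], 1825, 2, [4, 3, 2, 1, 5, 8, 12, 2, 12]⟩], 0⟩ : Der)) (lfA (⟨2, 0, 0, [], [⟨0, [], 2154, 1, [11, 4, 11]⟩, ⟨0, [1181], 1601, 2, [1, 2, 1, 5, 8, 12, 2, 1, 5]⟩], 0⟩ : Der))) (ndA (nat_lit 1111) (lfA (⟨2, 0, 0, [], [⟨0, [], 2156, 1, [11, 4, 11]⟩, ⟨0, [324, 312, 311], 415, 2, [3, 2, 5, 4, 3, 4, 8, 12, 2]⟩], 0⟩ : Der)) (lfA (⟨2, 0, 0, [], [⟨0, [], 2158, 1, [5, 4, 11]⟩, ⟨0, [], 425, 2, [4, 9, 12, 2, 1, 4, 12, 2, 5]⟩], 0⟩ : Der)))))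
noncomputable def DT : ℕ → Der := (ndA (nat_lit 560) (ndA (nat_lit 272) (ndA (nat_lit 128) (ndA (nat_lit 64) (ndA (nat_lit 32) (ndA (nat_lit 16) DT0 DT1) (ndA (nat_lit 48) DT2 DT3)) (ndA (nat_lit 96) (ndA (nat_lit 80) DT4 DT5) (ndA (nat_lit 112) DT6 DT7))) (ndA (nat_lit 192) (ndA (nat_lit 160) (ndA (nat_lit 144) DT8 DT9) (ndA (nat_lit 176) DT10 DT11)) (ndA (nat_lit 224) (ndA (nat_lit 208) DT12 DT13) (ndA (nat_lit 240) DT14 (ndA (nat_lit 256) DT15 DT16))))) (ndA (nat_lit 416) (ndA (nat_lit 336) (ndA (nat_lit 304) (ndA (nat_lit 288) DT17 DT18) (ndA (nat_lit 320) DT19 DT20)) (ndA (nat_lit 368) (ndA (nat_lit 352) DT21 DT22) (ndA (nat_lit 384) DT23 (ndA (nat_lit 400) DT24 DT25)))) (ndA (nat_lit 480) (ndA (nat_lit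 448) (ndA (nat_lit 432) DT26 DT27) (ndA (nat_lit 464) DT28 DT29)) (ndA (nat_lit 512) (ndA (nat_lit 496) DT30 DT31) (ndA (nat_lit 528) DT32 (ndA (nat_lit 544) DT33 DT34)))))) (ndA (nat_lit 832) (ndA (nat_lit 688) (ndA (nat_lit 624) (ndA (nat_lit 592) (ndA (nat_lit 576) DT35 DT36) (ndA (nat_lit 608) DT37 DT38)) (ndA (nat_lit 656) (ndA (nat_lit 640) DT39 DT40) (ndA (nat_lit 672) DT41 DT42))) (ndA (nat_lit 752) (ndA (nat_lit 720) (ndA (nat_lit 704) DT43 DT44) (ndA (nat_lit 736) DT45 DT46)) (ndA (nat_lit 784) (ndA (nat_lit 768) DT47 DT48) (ndA (nat_lit 800) DT49 (ndA (nat_lit 816) DT50 DT51))))) (ndA (nat_lit 976) (ndA (nat_lit 896) (ndA (nat_lit 864) (ndA (nat_lit 848) DT52 DT53) (ndA (nat_lit 880) DT54 DT55))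 (ndA (nat_lit 928) (ndA (nat_lit 912) DT56 DT57) (ndA (nat_lit 944) DT58 (ndA (nat_lit 960) DT59 DT60)))) (ndA (nat_lit 1040) (ndA (nat_lit 1008) (ndA (nat_lit 992) DT61 DT62) (ndA (nat_lit 1024) DT63 DT64)) (ndA (nat_lit 1072) (ndA (nat_lit 1056) DT65 DT66) (ndA (nat_lit 1088) DT67 (ndA (nat_lit 1104) DT68 DT69)))))))

def g0 : List ℕ := [1, 2, 3, 4, 5, 6, 7, 8, 9, 12]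
def g1 : List ℕ := [1, 3, 4, 5, 6, 7, 8, 9, 10, 11, 12]
def g2 : List ℕ := [1, 2, 3, 4, 5, 8, 9, 10, 11, 12]
def S0 : ℕ := nat_lit 0x4000000000000000000000000000000000000000000000000000000000000000000000000000000000000000000000000000000000000000000000000000000000000000000000000000000000000000000000000000000000000000000000000000000000000000000000000000000000000000000000000000000000400000000000000000000000000000000000000000000000000000000000000000000000000000000000000000000000000000000000000000000000000000000000000000000000000000000000000000000000000000000000000000000000000000000000000000000000000000000000000000000000000000000000000000000000000020000000000000000000000000000000000000000000000000000000000000000000000000000000000000000000000000000000000000000000000000000000000000000000000000000000000000000000000000000000000000000000000000000000000000000000000000000000000000000000000000000000000000001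
def bl0 : List (ℕ × ℕ) := [(3098, Nat.shiftLeft (Nat.pred (Nat.pow 2 819)) 3072), (2098, Nat.shiftLeft (Nat.pred (Nat.pow 2 819)) 2048), (1025, Nat.shiftLeft (Nat.pred (Nat.pow 2 819)) 1024), (0, Nat.shiftLeft (Nat.pred (Nat.pow 2 819)) 0)]
theorem blk0 : blkOK ThM0.nets (g0.map fun x => [x]) S0 bl0 = true := by decide +kernel
def S2 : ℕ := nat_lit 0x100000000000000000000000000000000000000000000000000000000000000000000000000000000000000000000000000000000000000000000000000000000000000000000000000000000000000000000000000000000000000000000000000000000000000000000000000000000000000000000000000000000000000400000000000000000000000000000000000000000000000000000000000000000000000000000000000000000000000000000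0000000000000000000000000000000000000000000000000000000000000000000000000000000000000000000000000000000000000000000000000000000000000000000000000004000000000000000000000000000000000000000000000000000000000000000000000000000000000000000000000000000000000000000000000000000000000000000000000000000000000000000000000000000000000000000000000000000000000000000000000000000000000000000000000000000000000000000000000001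
def bl2 : List (ℕ × ℕ) := [(3072, Nat.shiftLeft (Nat.pred (Nat.pow 2 3)) 3072), (2054, Nat.shiftLeft (Nat.pred (Nat.pow 2 702)) 2048), (1058, Nat.shiftLeft (Nat.pred (Nat.pow 2 702)) 1024), (0, Nat.shiftLeft (Nat.pred (Nat.pow 2 702)) 0)]
theorem blk2 : blkOK ThM2.nets (g2.map fun x => [x]) S2 bl2 = true := by decide +kernel
theorem ty0 : typeOK ThM0.nets g0 ThM0.rels ThP.iv = true := by decide +kernel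
theorem ty1 : typeOK ThM1.nets g1 ThM1.rels ThP.iv = true := by decide +kernel
theorem ty2 : typeOK ThM2.nets g2 ThM2.rels ThP.iv = true := by decide +kernel

noncomputable def eqv : ℕ → List ℕ → List ℕ → Bool :=
  selE [eqvN ThM0.nets (mskL g0) S0, eqvM ThC.E ThC.mats (mskL g1), eqvN ThM2.nets (mskL g2) S2]

noncomputable def chk : ℕ → Bool := chkF FT DT LW [] ThP.iv g0 eqv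

def s0_0 : Sid := ⟨0, [0, 1, 2, 3, 4, 5, 6, 7, 8, 9, 10, 11, 12, 13], [(14, 0)], [2, 0, 4, 6, 2, 4, 8, 2, 10, 6, 8, 12, 0, 4, 6, 2, 10, 12, 8, 0, 10, 6]⟩
def s0_1 : Sid := ⟨3, [44, 45, 46, 47, 48, 49, 50, 51, 52, 53, 54, 55], [(43, 0), (208, 1), (76, 6), (148, 80)], [2, 4, 10, 8, 4, 2, 10, 8, 4, 10, 2, 8, 10, 0]⟩
def s0_2 : Sid := ⟨4, [60, 61, 62, 63, 64, 65, 66, 67, 68, 69, 70, 71, 74, 75], [(59, 0), (165, 37), (93, 10)], [12, 4, 10, 8, 2, 0, 6, 10, 12, 4, 6, 8, 10, 6]⟩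
def s0_3 : Sid := ⟨7, [118, 119, 120, 121, 122, 123, 124, 125, 126, 127, 128, 129, 134, 135], [(117, 0), (594, 1), (707, 75), (171, 6), (543, 195), (2067, 563), (172, 47), (187, 60), (167, 201)], [12, 6, 10, 12, 0, 8, 2, 4, 6]⟩
def s0_4 : Sid := ⟨13, [224, 225, 226, 227, 228, 229, 230, 231, 234, 235, 236, 237], [(223, 0), (238, 1), (430, 87), (686, 336), (1958, 335), (1123, 182)], [8, 10, 4, 2, 6, 10, 0, 8, 0, 4, 0]⟩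
def s0_5 : Sid := ⟨15, [262, 263, 264, 265, 270, 271, 478, 479], [(261, 0), (530, 1), (502, 4)], [4, 6, 2, 4, 6, 2, 0, 6, 4, 6, 2, 4, 0]⟩
def s0_6 : Sid := ⟨16, [274, 275, 276, 277, 278, 279, 284, 285], [(273, 0), (619, 166), (613, 678), (547, 459), (2079, 580), (519, 62), (2035, 116), (2213, 704), (2211, 663), (615, 222), (545, 662), (617, 610), (1098, 87), (1119, 542), (580, 308), (2175, 385), (541, 100), (1125, 534), (517, 578), (521, 112)], [6, 4, 2, 6, 0, 4, 0, 0]⟩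
def s0_7 : Sid := ⟨21, [404, 405, 406, 407, 416, 417, 418, 419], [(403, 0), (447, 207), (428, 2), (621, 812), (2221, 420), (2223, 105), (1127, 735), (2023, 62), (2111, 565), (2041, 89)], [4, 6, 2, 0, 4, 6, 4, 6, 2, 0]⟩
def s0_8 : Sid := ⟨31, [742, 743, 744, 745, 752, 753, 760, 761], [(741, 0), (754, 801), (756, 785), (758, 437), (1121, 357), (2051, 41), (2181, 209), (772, 310), (2031, 703), (2187, 574), (1129, 770), (2167, 494), (2025, 362), (766, 115), (764, 88), (762, 346), (2081, 698), (770, 550), (2069, 492), (2097, 519)], [4, 6, 0, 2, 6, 4, 0]⟩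
def s0_9 : Sid := ⟨38, [1542, 1543, 1586, 1587], [(1541, 0), (2059, 753), (2029, 130), (2209, 286), (2043, 555), (2073, 356), (1624, 6), (2129, 330), (2071, 143), (1622, 334), (1630, 10), (1736, 264), (1626, 207), (1638, 13), (1656, 14), (2013, 767), (2193, 267), (1640, 17), (2055, 18), (2095, 315), (1730, 21), (1762, 394), (1634, 131), (1644, 24), (1628, 179), (2093, 246), (2105, 28), (1732, 446), (1772, 30), (2113, 84), (1646, 32), (1648, 34), (1680, 328), (1668, 632), (2053, 38), (1734, 114), (1698, 222), (2121, 768), (2075, 553), (1728, 68), (2099, 675), (2049, 721), (1632, 47), (1708, 654), (2133, 376), (2101, 482), (2131, 583), (1670, 54), (2201, 754), (1702, 56), (1642, 163), (1726, 60), (2027,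 515), (1676, 63), (1776, 64), (1678, 69), (2199, 66), (1662, 210), (2197, 565), (1664, 73), (1770, 74), (2189, 719), (1704, 76), (2083, 667), (1682, 79), (2134, 80), (1692, 673), (1722, 240), (1690, 702), (2015, 556), (2033, 270), (2047, 634), (2019, 201), (1636, 107), (2185, 98), (1686, 101), (2087, 102), (1674, 190), (1714, 397), (1666, 110), (1684, 111), (1696, 533), (2037, 115), (2017, 261), (1654, 433), (2205, 132), (2165, 123), (2107, 125), (2119, 595), (1652, 486), (1700, 495), (1658, 134), (2065, 202), (1760, 139), (1720, 636), (1746, 554), (2179, 471), (1672, 151), (1774, 570), (2217, 389), (1724, 154), (2173, 268), (1764, 666), (2115, 291), (2203, 437), (2127, 362), (1712, 391), (1752, 387),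 (2183, 730), (2125, 572), (1744, 766), (2077, 705), (2123, 537), (1718, 354), (1754, 209), (2171, 663), (2011, 204), (1742, 383), (1710, 411), (1758, 396), (1740, 215), (1778, 216), (1650, 660), (1706, 227), (1750, 226), (2215, 235), (2163, 745), (2057, 421), (1780, 298), (2195, 698), (2109, 701), (1738, 323), (2169, 311), (2207, 338), (2191, 364), (2045, 477), (1660, 276), (1748, 687), (2219, 278), (2103, 519), (1694, 798), (2061, 312), (2009, 513), (1768, 613), (1688, 733), (2091, 594), (2039, 460), (1756, 602), (1716, 470), (2117, 671)], [2, 0, 2]⟩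
def s0_10 : Sid := ⟨39, [1918, 1919, 1924, 1925, 1932, 1933], [(1917, 0), (1940, 1), (2177, 506), (2085, 16), (1942, 4), (1944, 5), (1950, 6), (1946, 314), (2063, 782), (1952, 11), (1948, 273), (2089, 180), (1956, 34), (1954, 47), (2021, 75)], [2, 4, 0, 2, 4, 2, 0, 4, 2]⟩
def SS0 : List Sid := [s0_0, s0_1, s0_2, s0_3, s0_4, s0_5, s0_6, s0_7, s0_8, s0_9, s0_10]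
def full0 : ℕ := Nat.pred (Nat.pow 2 819)

def s1_0 : Sid := ⟨1, [16, 17, 18, 19, 20, 21, 22, 23, 24, 25, 26, 27], [(15, 0), (58, 1), (42, 8)], [4, 8, 4, 10, 6, 8, 4, 10, 10, 8, 4]⟩
def s1_1 : Sid := ⟨5, [78, 79, 80, 81, 82, 83, 84, 85, 86, 87, 90, 91], [(77, 0), (92, 1), (116, 6)], [10, 4, 6, 8, 2, 10, 2, 6]⟩
def s1_2 : Sid := ⟨9, [150, 151, 152, 153, 154, 155, 156, 157], [(149, 0), (402, 1), (164, 2), (1540, 3), (1916, 4), (170, 6), (166, 7), (239, 8), (1631, 98), (759, 96)], [6, 0, 2, 6, 2, 2]⟩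
def s1_3 : Sid := ⟨10, [174, 175, 176, 177, 178, 179, 180, 181, 182, 183, 190, 191], [(173, 0), (186, 17), (1641, 3), (260, 9), (272, 29)], [10, 4, 2, 0, 6, 4, 10, 4]⟩
def s1_4 : Sid := ⟨12, [210, 211, 212, 213, 214, 215, 220, 221], [(209, 0), (429, 2), (1625, 69), (1951, 4), (222, 8), (767, 97)], [6, 4, 0, 2, 6, 0, 2]⟩
def s1_5 : Sid := ⟨22, [432, 433, 434, 435, 444, 445], [(431, 0), (446, 1), (765, 97), (1943, 37), (1735, 108), (1705, 119), (1719, 26), (1697, 45), (1725, 85), (581, 116)], [0, 2, 4, 0, 2]⟩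
def s1_6 : Sid := ⟨24, [504, 505, 506, 507, 508, 509], [(503, 0), (1689, 39), (516, 2), (1775, 16), (1747, 63), (518, 36), (520, 57)], [2, 4, 0, 2, 0, 2, 0]⟩
def s1_7 : Sid := ⟨25, [532, 533, 534, 535], [(531, 0), (1759, 9), (1757, 27), (1751, 10), (1729, 5), (546, 109), (1675, 38), (1737, 94), (540, 11), (1779, 85), (1771, 46), (1763, 82), (1765, 18), (1773, 91), (1781, 31), (1695, 51), (542, 23), (1749, 42), (1699, 97), (1655, 74), (1755, 43), (1769, 76), (1753, 55), (544, 63)], [2, 0, 0]⟩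
def s1_8 : Sid := ⟨26, [596, 597, 610, 611], [(595, 0), (763, 1), (1647, 2), (1681, 78), (1947, 4), (1629, 26), (1627, 71), (1673, 43), (1721, 9), (1717, 10), (1745, 12), (612, 13), (1703, 14), (773, 99), (618, 29), (1665, 48), (614, 21), (771, 27), (1701, 37), (1687, 97), (616, 38), (1711, 64), (620, 113), (1957, 88), (1669, 83), (1761, 63)], [0, 2, 0]⟩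
def s1_9 : Sid := ⟨30, [688, 689, 704, 705], [(687, 0), (1663, 29), (757, 27), (1743, 3), (1635, 86), (1623, 104), (1955, 106), (706, 15), (1727, 92), (1657, 89), (1953, 20), (1733, 107), (1693, 49), (1633, 51), (1679, 30), (1945, 70), (755, 74), (1715, 99), (1653, 97), (1683, 98), (1709, 112), (1651, 76), (740, 44), (1645, 101), (1677, 114)], [0, 2, 0]⟩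
def s1_10 : Sid := ⟨35, [1100, 1101, 1116, 1117], [(1099, 0), (1723, 60), (1667, 51), (1949, 94), (1639, 95), (1643, 20), (1731, 68), (1120, 77), (1685, 82), (1739, 96), (1122, 14), (1661, 103), (1741, 100), (1128, 15), (1126, 17), (1713, 91), (1637, 59), (1777, 105), (1941, 40), (1659, 67), (1649, 29), (1118, 31), (1707, 35), (1124, 43), (1691, 111), (1671, 118)], [0, 2, 0]⟩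
def s1_11 : Sid := ⟨40, [1960, 1961], [(1959, 0), (2008, 1), (2010, 2), (2038, 3), (2018, 4), (2012, 5), (2040, 6), (2020, 7), (2014, 8), (2028, 9), (2084, 10), (2052, 11), (2104, 12), (2022, 14), (2016, 15), (2062, 16), (2030, 17), (2086, 18), (2044, 20), (2054, 21), (2106, 22), (2092, 23), (2042, 24), (2024, 25), (2078, 26), (2032, 27), (2088, 28), (2036, 73), (2046, 30), (2056, 31), (2100, 33), (2026, 35), (2112, 39), (2096, 64), (2120, 111), (2122, 42), (2110, 77), (2102, 44), (2066, 45), (2098, 47), (2132, 48), (2114, 81), (2080, 53), (2034, 54), (2050, 75), (2048, 56), (2058, 57), (2108, 58), (2064, 59), (2118, 60), (2074, 61), (2076, 62), (2094, 63), (2090, 65), (2124, 70), (2082, 72), (2060, 76),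 (2130, 106), (2070, 86), (2126, 98), (2068, 114), (2128, 99), (2072, 101), (2116, 104)], [0]⟩
def s1_12 : Sid := ⟨41, [2136, 2137, 2160, 2161], [(2135, 0), (2162, 1), (2164, 2), (2168, 3), (2176, 4), (2178, 7), (2166, 8), (2186, 9), (2202, 72), (2208, 11), (2216, 12), (2170, 13), (2180, 14), (2204, 17), (2210, 23), (2172, 24), (2182, 25), (2198, 26), (2200, 53), (2218, 100), (2192, 37), (2174, 34), (2184, 35), (2196, 97), (2220, 41), (2190, 101), (2222, 117), (2206, 54), (2194, 60), (2214, 64), (2188, 86), (2212, 68)], [2, 0]⟩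
def SS1 : List Sid := [s1_0, s1_1, s1_2, s1_3, s1_4, s1_5, s1_6, s1_7, s1_8, s1_9, s1_10, s1_11, s1_12]
def full1 : ℕ := Nat.pred (Nat.pow 2 120)


end Cfsg.Agent.H17.ThF
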