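import Cfsg.Agent.H17.Cert.ThF0
import Cfsg.Agent.H17.Cert.ThF1
import Cfsg.Agent.H17.Cert.ThF2

set_option autoImplicit false
set_option Elab.async false
set_option maxRecDepth 100000
set_option exponentiation.threshold 400000

namespace Cfsg.Agent.H17.ThF

open Cfsg Cfsg.Agent.H58 Cfsg.Agent.H17

theorem chk_all : ∀ i < 1112, chk i = true :=
  (range_cons 1112 (range_cons 1088 (range_cons 1057 (range_cons 1030 (range_cons 1001 (range_cons 969 (range_cons 943 (range_cons 920 (range_cons 896 (range_cons 870 (range_cons 843 (range_cons 815 (range_cons 784 (range_cons 756 (range_cons 736 (range_cons 712 (range_cons 692 (range_cons 672 (range_cons 650 (range_cons 623 (range_cons 588 (range_cons 562 (range_cons 538 (range_cons 517 (range_cons 495 (range_cons 468 (range_cons 445 (range_cons 418 (range_cons 392 (range_cons 367 (range_cons 342 (range_cons 311 (range_cons 285 (range_cons 261 (range_cons 236 (range_cons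 200 (range_cons 163 (range_cons 126 (range_cons 76 (range_nil _) c0) c1) c2) c3) c4) c5) c6) c7) c8) c9) c10) c11) c12) c13) c14) c15) c16) c17) c18) c19) c20) c21) c22) c23) c24) c25) c26) c27) c28) c29) c30) c31) c32) c33) c34) c35) c36) c37) c38)

theorem sd0_0 : sideOK FT ThP.iv 1112 ThM0.nets (mskL g0) (mskL g1) (SS1.map Sid.j) 0 full0 s0_0 = true := by decide +kernel
theorem sd0_1 : sideOK FT ThP.iv 1112 ThM0.nets (mskL g0) (mskL g1) (SS1.map Sid.j) 0 full0 s0_1 = true := by decide +kernel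
theorem sd0_2 : sideOK FT ThP.iv 1112 ThM0.nets (mskL g0) (mskL g1) (SS1.map Sid.j) 0 full0 s0_2 = true := by decide +kernel
theorem sd0_3 : sideOK FT ThP.iv 1112 ThM0.nets (mskL g0) (mskL g1) (SS1.map Sid.j) 0 full0 s0_3 = true := by decide +kernel
theorem sd0_4 : sideOK FT ThP.iv 1112 ThM0.nets (mskL g0) (mskL g1) (SS1.map Sid.j) 0 full0 s0_4 = true := by decide +kernel
theorem sd0_5 : sideOK FT ThP.iv 1112 ThM0.nets (mskL g0) (mskL g1) (SS1.map Sid.j) 0 full0 s0_5 = true := by decide +kernel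
theorem sd0_6 : sideOK FT ThP.iv 1112 ThM0.nets (mskL g0) (mskL g1) (SS1.map Sid.j) 0 full0 s0_6 = true := by decide +kernel
theorem sd0_7 : sideOK FT ThP.iv 1112 ThM0.nets (mskL g0) (mskL g1) (SS1.map Sid.j) 0 full0 s0_7 = true := by decide +kernel
theorem sd0_8 : sideOK FT ThP.iv 1112 ThM0.nets (mskL g0) (mskL g1) (SS1.map Sid.j) 0 full0 s0_8 = true := by decide +kernel
theorem sd0_9 : sideOK FT ThP.iv 1112 ThM0.nets (mskL g0) (mskL g1) (SS1.map Sid.j) 0 full0 s0_9 = true := by decide +kernel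
theorem sd0_10 : sideOK FT ThP.iv 1112 ThM0.nets (mskL g0) (mskL g1) (SS1.map Sid.j) 0 full0 s0_10 = true := by decide +kernel
theorem sd0 : ∀ s ∈ SS0, sideOK FT ThP.iv 1112 ThM0.nets (mskL g0) (mskL g1) (SS1.map Sid.j) 0 full0 s = true :=
  (forall_cons sd0_0 (forall_cons sd0_1 (forall_cons sd0_2 (forall_cons sd0_3 (forall_cons sd0_4 (forall_cons sd0_5 (forall_cons sd0_6 (forall_cons sd0_7 (forall_cons sd0_8 (forall_cons sd0_9 (forall_cons sd0_10 (forall_nil' _))))))))))))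
theorem kp0 : keepErr ThM0.nets (g0.map fun x => [x]) full0 = 0 := by decide +kernel
theorem po0 : orbErr ThM0.nets (g0.map fun x => [x]) [1, 0, 2, 9, 3, 1, 5, 9, 5, 3, 4, 9, 1, 2, 5, 7] 0 12 819 = 0 := by decide +kernel
theorem fx0 : fixErr ThM0.nets ([1, 3, 4, 5, 6, 7, 8, 9].map fun x => [x]) [0] = 0 := by decide +kernel

theorem sd1_0 : sideOK FT ThP.iv 1112 ThM1.nets (mskL g1) (mskL g0) (SS0.map Sid.j) 0 full1 s1_0 = true := by decide +kernel
theorem sd1_1 : sideOK FT ThP.iv 1112 ThM1.nets (mskL g1) (mskL g0) (SS0.map Sid.j) 0 full1 s1_1 = true := by decide +kernel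
theorem sd1_2 : sideOK FT ThP.iv 1112 ThM1.nets (mskL g1) (mskL g0) (SS0.map Sid.j) 0 full1 s1_2 = true := by decide +kernel
theorem sd1_3 : sideOK FT ThP.iv 1112 ThM1.nets (mskL g1) (mskL g0) (SS0.map Sid.j) 0 full1 s1_3 = true := by decide +kernel
theorem sd1_4 : sideOK FT ThP.iv 1112 ThM1.nets (mskL g1) (mskL g0) (SS0.map Sid.j) 0 full1 s1_4 = true := by decide +kernel
theorem sd1_5 : sideOK FT ThP.iv 1112 ThM1.nets (mskL g1) (mskL g0) (SS0.map Sid.j) 0 full1 s1_5 = true := by decide +kernel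
theorem sd1_6 : sideOK FT ThP.iv 1112 ThM1.nets (mskL g1) (mskL g0) (SS0.map Sid.j) 0 full1 s1_6 = true := by decide +kernel
theorem sd1_7 : sideOK FT ThP.iv 1112 ThM1.nets (mskL g1) (mskL g0) (SS0.map Sid.j) 0 full1 s1_7 = true := by decide +kernel
theorem sd1_8 : sideOK FT ThP.iv 1112 ThM1.nets (mskL g1) (mskL g0) (SS0.map Sid.j) 0 full1 s1_8 = true := by decide +kernel
theorem sd1_9 : sideOK FT ThP.iv 1112 ThM1.nets (mskL g1) (mskL g0) (SS0.map Sid.j) 0 full1 s1_9 = true := by decide +kernel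
theorem sd1_10 : sideOK FT ThP.iv 1112 ThM1.nets (mskL g1) (mskL g0) (SS0.map Sid.j) 0 full1 s1_10 = true := by decide +kernel
theorem sd1_11 : sideOK FT ThP.iv 1112 ThM1.nets (mskL g1) (mskL g0) (SS0.map Sid.j) 0 full1 s1_11 = true := by decide +kernel
theorem sd1_12 : sideOK FT ThP.iv 1112 ThM1.nets (mskL g1) (mskL g0) (SS0.map Sid.j) 0 full1 s1_12 = true := by decide +kernel
theorem sd1 : ∀ s ∈ SS1, sideOK FT ThP.iv 1112 ThM1.nets (mskL g1) (mskL g0) (SS0.map Sid.j) 0 full1 s = true :=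
  (forall_cons sd1_0 (forall_cons sd1_1 (forall_cons sd1_2 (forall_cons sd1_3 (forall_cons sd1_4 (forall_cons sd1_5 (forall_cons sd1_6 (forall_cons sd1_7 (forall_cons sd1_8 (forall_cons sd1_9 (forall_cons sd1_10 (forall_cons sd1_11 (forall_cons sd1_12 (forall_nil' _))))))))))))))
theorem kp1 : keepErr ThM1.nets (g1.map fun x => [x]) full1 = 0 := by decide +kernel
theorem po1 : orbErr ThM1.nets (g1.map fun x => [x]) [8, 2, 4, 8, 3, 4, 6, 2, 3, 4, 2, 3] 0 7 120 = 0 := by decide +kernel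
theorem fx1 : fixErr ThM1.nets ([1, 3, 4, 5, 6, 7, 8, 9].map fun x => [x]) [0] = 0 := by decide +kernel

theorem t0f0 : fixErr ThM0.nets [[2], [1], [3], [12], [4], [6], [5], [8]] [] = 0 := by decide +kernel
theorem t0o0 : orbErr ThM0.nets [[2], [1], [3], [12], [4], [6], [5], [8]] [0, 1, 2, 3, 4, 0, 5, 3, 5, 4, 6, 3, 0, 2, 5, 7] 0 12 819 = 0 := by decide +kernel
theorem t0f1 : fixErr ThM0.nets [[1], [3], [4], [5], [6], [8]] [0] = 0 := by decide +kernel
theorem t0o1 : orbErr ThM0.nets [[1], [3], [4], [5], [6], [8]] [0, 1, 2, 1, 3, 4, 2, 3, 5, 1, 2, 4, 3, 4, 1, 2, 3, 5, 4, 2, 1, 2, 1] 1025 12 512 = 0 := by decide +kernel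
theorem t0f2 : fixErr ThM0.nets [[4], [6], [5], [8]] [1025, 0] = 0 := by decide +kernel
theorem t0o2 : orbErr ThM0.nets [[4], [6], [5], [8]] [0, 1, 0, 2, 3, 1, 0, 1, 2, 1, 0, 1, 0] 2098 12 168 = 0 := by decide +kernel
theorem t0f3 : fixErr ThM0.nets [[8], [5, 4]] [2098, 1025, 0] = 0 := by decide +kernel
theorem t0o3 : orbErr ThM0.nets [[8], [5, 4]] [0, 1, 0, 1] 3098 12 9 = 0 := by decide +kernel
theorem t2f0 : fixErr ThM2.nets [[10], [2], [4], [1], [5], [12], [3]] [] = 0 := by decide +kernel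
theorem t2o0 : orbErr ThM2.nets [[10], [2], [4], [1], [5], [12], [3]] [0, 1, 2, 0, 3, 4, 5, 1, 6, 2, 0, 1, 4, 6, 5, 2, 3] 0 12 702 = 0 := by decide +kernel
theorem t2f1 : fixErr ThM2.nets [[1], [2], [3], [4], [5]] [0] = 0 := by decide +kernel
theorem t2o1 : orbErr ThM2.nets [[1], [2], [3], [4], [5]] [0, 1, 2, 3, 4, 2, 1, 0, 3, 2, 1, 3, 2, 3, 4] 1058 12 288 = 0 := by decide +kernel
theorem t2f2 : fixErr ThM2.nets [[12, 1], [2, 5, 3, 2], [1, 4, 12, 2, 11, 12, 11]] [1058, 0] = 0 := by decide +kernel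
theorem t2o2 : orbErr ThM2.nets [[12, 1], [2, 5, 3, 2], [1, 4, 12, 2, 11, 12, 11]] [0, 1, 2, 1, 2, 0, 1, 2] 2054 12 42 = 0 := by decide +kernel
theorem t2f3 : fixErr ThM2.nets [[8]] [2054, 1058, 0] = 0 := by decide +kernel
theorem t2o3 : orbErr ThM2.nets [[8]] [0, 0] 3072 12 3 = 0 := by decide +kernel
theorem u1f0 : fixErr ThM0.nets (subW (stabWs FT ThP.iv s0_1) [[0], [2], [8], [4], [10], [6]]) [] = 0 := by decide +kernel
theorem u1o0 : orbErr ThM0.nets (subW (stabWs FT ThP.iv s0_1) [[0], [2], [8], [4], [10], [6]]) [0, 1, 2, 3, 4, 1, 2, 3, 4, 2, 1, 5, 3] 1 12 512 = 0 := by decide +kernel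
theorem u1f1 : fixErr ThM0.nets (subW (stabWs FT ThP.iv s0_1) [[6], [2, 4, 3], [2, 10, 3]]) [1] = 0 := by decide +kernel
theorem u1o1 : orbErr ThM0.nets (subW (stabWs FT ThP.iv s0_1) [[6], [2, 4, 3], [2, 10, 3]]) [0, 1, 2, 0, 2, 1] 26 12 27 = 0 := by decide +kernel
theorem u2f0 : fixErr ThM0.nets (subW (stabWs FT ThP.iv s0_2) [[0], [2], [8], [4], [10], [12], [6]]) [] = 0 := by decide +kernel
theorem u2o0 : orbErr ThM0.nets (subW (stabWs FT ThP.iv s0_2) [[0], [2], [8], [4], [10], [12], [6]]) [0, 1, 2, 3, 4, 5, 2, 6, 4, 5, 3, 6, 2, 4, 6] 1 12 768 = 0 := by decide +kernel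
theorem u2f1 : fixErr ThM0.nets (subW (stabWs FT ThP.iv s0_2) [[4], [6], [10], [12]]) [1] = 0 := by decide +kernel
theorem u2o1 : orbErr ThM0.nets (subW (stabWs FT ThP.iv s0_2) [[4], [6], [10], [12]]) [0, 1, 2, 3, 1, 2, 1] 51 12 48 = 0 := by decide +kernel
theorem u3f0 : fixErr ThM0.nets (subW (stabWs FT ThP.iv s0_3) [[0], [2], [4], [6], [8], [10], [12]]) [] = 0 := by decide +kernel
theorem u3o0 : orbErr ThM0.nets (subW (stabWs FT ThP.iv s0_3) [[0], [2], [4], [6], [8], [10], [12]]) [0, 1, 2, 3, 4, 5, 6, 3, 6] 3 12 288 = 0 := by decide +kernel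
theorem u4f0 : fixErr ThM0.nets (subW (stabWs FT ThP.iv s0_4) [[0], [2], [4], [6], [10], [8]]) [] = 0 := by decide +kernel
theorem u4o0 : orbErr ThM0.nets (subW (stabWs FT ThP.iv s0_4) [[0], [2], [4], [6], [10], [8]]) [0, 1, 2, 3, 4, 5, 0, 4, 3, 1] 16 12 243 = 0 := by decide +kernel
theorem u4f1 : fixErr ThM0.nets (subW (stabWs FT ThP.iv s0_4) [[8, 3]]) [16] = 0 := by decide +kernel
theorem u4o1 : orbErr ThM0.nets (subW (stabWs FT ThP.iv s0_4) [[8, 3]]) [0] 0 12 2 = 0 := by decide +kernel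
theorem u5f0 : fixErr ThM0.nets (subW (stabWs FT ThP.iv s0_5) [[0], [2], [4], [6]]) [] = 0 := by decide +kernel
theorem u5o0 : orbErr ThM0.nets (subW (stabWs FT ThP.iv s0_5) [[0], [2], [4], [6]]) [0, 1, 2, 3, 0, 1, 2, 3, 1, 2, 3, 0, 3] 1 12 588 = 0 := by decide +kernel
theorem u5f1 : fixErr ThM0.nets (subW (stabWs FT ThP.iv s0_5) [[5, 7, 3, 3], [0, 7, 0, 3, 6]]) [1] = 0 := by decide +kernel
theorem u5o1 : orbErr ThM0.nets (subW (stabWs FT ThP.iv s0_5) [[5, 7, 3, 3], [0, 7, 0, 3, 6]]) [0, 1, 0] 0 12 6 = 0 := by decide +kernel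
theorem u6f0 : fixErr ThM0.nets (subW (stabWs FT ThP.iv s0_6) [[0], [2], [4], [6]]) [] = 0 := by decide +kernel
theorem u6o0 : orbErr ThM0.nets (subW (stabWs FT ThP.iv s0_6) [[0], [2], [4], [6]]) [0, 1, 2, 3, 0, 3, 0, 2] 1 12 72 = 0 := by decide +kernel
theorem u7f0 : fixErr ThM0.nets (subW (stabWs FT ThP.iv s0_7) [[0], [2], [4], [6]]) [] = 0 := by decide +kernel
theorem u7o0 : orbErr ThM0.nets (subW (stabWs FT ThP.iv s0_7) [[0], [2], [4], [6]]) [0, 1, 2, 3, 2, 3, 1, 0, 2] 15 12 126 = 0 := by decide +kernel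
theorem u8f0 : fixErr ThM0.nets (subW (stabWs FT ThP.iv s0_8) [[0], [2], [4], [6]]) [] = 0 := by decide +kernel
theorem u8o0 : orbErr ThM0.nets (subW (stabWs FT ThP.iv s0_8) [[0], [2], [4], [6]]) [0, 1, 2, 3, 1, 3, 0] 1 12 54 = 0 := by decide +kernel
theorem u9f0 : fixErr ThM0.nets (subW (stabWs FT ThP.iv s0_9) [[0], [2]]) [] = 0 := by decide +kernel
theorem u9o0 : orbErr ThM0.nets (subW (stabWs FT ThP.iv s0_9) [[0], [2]]) [0, 1, 0] 1 12 6 = 0 := by decide +kernel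
theorem u10f0 : fixErr ThM0.nets (subW (stabWs FT ThP.iv s0_10) [[0], [2], [4]]) [] = 0 := by decide +kernel
theorem u10o0 : orbErr ThM0.nets (subW (stabWs FT ThP.iv s0_10) [[0], [2], [4]]) [0, 1, 2, 1, 0, 2, 1, 0, 2] 2 12 78 = 0 := by decide +kernel
theorem ev : eqvN ThM2.nets (mskL g2) S2 [12] [2, 1, 3, 2, 4, 3, 4, 5, 4, 3, 2, 1, 4, 3, 2, 4, 3, 4] = true := by decide +kernel
theorem eb : eqvN ThM0.nets (mskL g0) S0 [3, 4, 5, 6, 3, 4, 5, 6, 3, 4, 5, 6, 3, 4, 5, 6, 3, 4] [7, 5, 4, 3, 7, 5, 4, 3, 7, 5, 4, 3, 7, 5, 4, 3, 7, 5] = true := by decide +kernel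

end Cfsg.Agent.H17.ThF
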