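import Cfsg.Agent.H17.DCE2
import Cfsg.Prelude.Def_Spor_Th

set_option autoImplicit false
set_option Elab.async false
set_option maxRecDepth 100000
set_option exponentiation.threshold 400000

namespace Cfsg.Agent.H17.ThP

open Cfsg Cfsg.Agent.H58 Cfsg.Agent.H17

def code : Spor.Th.Gen → ℕ
  | .a => 1
  | .b => 2
  | .c => 3
  | .d => 4
  | .e => 5
  | .s => 6
  | .t => 8
  | .u => 10

def allG : List Spor.Th.Gen := [.a, .b, .c, .d, .e, .s, .t, .u]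

theorem hall : ∀ g, g ∈ allG := by intro g; cases g <;> decide

def L0 : List (FreeGroup Spor.Th.Gen) := [1, Spor.Th.a, Spor.Th.b, Spor.Th.c, Spor.Th.d, Spor.Th.e, Spor.Th.s, Spor.Th.s⁻¹, Spor.Th.t, Spor.Th.t⁻¹, Spor.Th.u, Spor.Th.u⁻¹]

def vw : FreeGroup Spor.Th.Gen := Spor.Th.u⁻¹ * Spor.Th.d * Spor.Th.c * Spor.Th.d * Spor.Th.u

def L : List (FreeGroup Spor.Th.Gen) := L0 ++ [vw]

def iv0 : ℕ := 750698574836675649600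

def iv : ℕ := 57419096369272418213952

def rels0 : List (List ℕ) := [[1, 2, 1, 2, 1, 2],
  [1, 5, 1, 5],
  [2, 3, 2, 3, 2, 3],
  [2, 4, 2, 4],
  [2, 5, 2, 5],
  [1, 4, 3, 4, 3, 4, 3, 4, 3],
  [3, 5, 3, 5],
  [4, 5, 4, 5, 4, 5],
  [2, 3, 4, 5, 2, 3, 4, 5, 2, 3, 4, 5, 2, 3, 4, 5, 2, 3, 4, 5, 2, 3, 4, 5, 2, 3, 4, 5, 2, 3, 4, 5],
  [6, 6, 6, 6, 6, 6, 6],
  [7, 1, 6, 1],
  [7, 2, 6, 2],
  [7, 3, 6, 3],
  [6, 4, 6, 4],
  [5, 7, 5, 7, 7, 5, 6, 6, 6],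
  [8, 8, 8],
  [9, 1, 8, 1],
  [9, 2, 8, 2],
  [9, 3, 8, 3],
  [9, 4, 8, 4],
  [9, 5, 8, 5],
  [9, 6, 8, 7, 7],
  [10, 10, 3, 1],
  [11, 1, 10, 1],
  [11, 3, 10, 3],
  [11, 5, 10, 5],
  [4, 5, 11, 4, 10, 4, 5, 11, 4, 10],
  [11, 2, 3, 1, 2, 10, 2, 1, 3, 2, 5],
  [4, 11, 4, 2, 3, 1, 2, 4, 10, 4, 2, 1, 3, 2, 3, 5, 4, 11, 4, 2, 3, 1, 2, 5, 11],
  [11, 8, 10, 8],
  [5, 7, 7, 11, 6, 6, 5, 7, 7, 10, 6, 6],
  [1, 3, 7, 11, 7, 11, 7, 11],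
  [1, 3, 7, 11, 6, 10, 7, 11, 6, 10, 7, 11, 6, 10, 7, 11, 6, 10],
  [4, 7, 7, 10, 6, 6, 4, 7, 7, 10, 6, 6, 4, 7, 7, 10, 6, 6, 4, 7, 7, 10, 5, 4, 3, 4, 5, 6, 6, 6, 5, 4, 3, 4, 5, 7, 4, 3, 4, 3, 1]]

def rels1 : List (List ℕ) := rels0 ++ [[12, 11, 4, 3, 4, 10]]

theorem pres0 : presOK L0 (coxAll Spor.Th.edges ++ Spor.Th.extra) code iv0 allG rels0 = true := by
  decide +kernel

theorem pres : presOK L (coxAll Spor.Th.edges ++ Spor.Th.extra ++ [vw * vw]) code iv allG rels1 = true := by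
  decide +kernel

/-- the projection from the free group -/
abbrev π : FreeGroup Spor.Th.Gen →* Spor.Th :=
  PresentedGroup.mk (Spor.coxRelators Spor.Th.edges ∪ {r | r ∈ Spor.Th.extra})

/-- the letters a = 1, b = 2, c = 3, d = 4, e = 5, s = 6, s⁻¹ = 7, t = 8, t⁻¹ = 9, u = 10, u⁻¹ = 11 -/
def el0 : ℕ → Spor.Th := elOf π L0

/-- the same letters and v = u⁻¹ d c d u = 12 -/
def el : ℕ → Spor.Th := elOf π L

theorem R0 : RuleOK el0 rels0 iv0 := ruleOK_of_presOK π hall (mk_allRels _ _) pres0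

theorem R1 : RuleOK el rels1 iv :=
  ruleOK_of_presOK π hall (List.forall_mem_append.2 ⟨mk_allRels _ _,
    map_eq_one_of_cancel π (code_of_presOK π hall pres0) R0.hinv (by decide +kernel)⟩) pres

theorem hc : ∀ g, el (code g) = π (FreeGroup.of g) ∧ code g < 64 := code_of_presOK π hall pres

theorem eq_top (K : Subgroup Spor.Th) (h : ∀ x ∈ ([1, 2, 3, 4, 5, 6, 8, 10] : List ℕ), el x ∈ K) :
    K = ⊤ :=
  closure_letters_eq_top hc K (by intro g; cases g <;> exact h _ (by decide))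

end Cfsg.Agent.H17.ThP
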