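import Cfsg.Agent.H17.ThF
import Cfsg.Agent.H17.Rep.ThCS
import Cfsg.Agent.H17.Cert.ThT1
import Cfsg.Agent.H17.Cert.ThT2
import Cfsg.Agent.H17.Cert.ThT3
import Cfsg.Agent.H17.Cert.ThT4
import Cfsg.Agent.H17.Cert.ThT5
import Cfsg.Agent.H17.Cert.ThT6
import Cfsg.Agent.H17.Cert.ThT7
import Cfsg.Agent.H17.Cert.ThT8
import Cfsg.Agent.H17.Cert.ThT9
import Cfsg.Agent.H17.Cert.ThT10

set_option autoImplicit false
set_option Elab.async false
set_option maxRecDepth 100000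
set_option exponentiation.threshold 400000

namespace Cfsg.Agent.H17.ThU

open Cfsg Cfsg.Agent.H58 Cfsg.Agent.H17

open ThP ThF

section
variable {G : Type*} [Group G] {e : ℕ → G}

theorem card_cd (Q : RuleOK e ThT1.rels iv) : Finite (clL e [3, 4]) ∧ Nat.card (clL e [3, 4]) ≤ 16 :=
  card_step card_le_bot (ThT1.relIndex_le Q ⊥ (forall_nil _))

theorem card_U (Q : RuleOK e ThT2.rels iv) : Finite (clL e [1, 2, 3, 4, 5]) ∧ Nat.card (clL e [1, 2, 3, 4, 5]) ≤ 12096 :=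
  card_step (card_cd (RuleOK_sub Q (by decide +kernel))) (ThT2.relIndex_le Q _ (mem_clL e _ _ (by decide)))

theorem card_Ut (Q : RuleOK e ThT3.rels iv) : Finite (clL e [1, 2, 3, 4, 5, 8, 9]) ∧ Nat.card (clL e [1, 2, 3, 4, 5, 8, 9]) ≤ 36288 :=
  card_congr (clL_eq_of_genOK Q [(0, 9)] _ _ (by decide +kernel))
    (card_step (card_U (RuleOK_sub Q (by decide +kernel))) (ThT3.relIndex_le Q _ (mem_clL e _ _ (by decide))))

theorem card_K (Q : RuleOK e ThT4.rels iv) : Finite (clL e [1, 2, 3, 4, 5, 6, 7]) ∧ Nat.card (clL e [1, 2, 3, 4, 5, 6, 7]) ≤ 211341312 :=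
  card_congr (clL_eq_of_genOK Q [(0, 7)] _ _ (by decide +kernel))
    (card_step (card_U (RuleOK_sub Q (by decide +kernel))) (ThT4.relIndex_le Q _ (mem_clL e _ _ (by decide))))

theorem card_A (Q : RuleOK e ThT8.rels iv) : Finite (clL e [4, 5, 6, 7, 8, 9]) ∧ Nat.card (clL e [4, 5, 6, 7, 8, 9]) ≤ 1512 :=
  card_congr (clL_eq_of_genOK Q [(0, 7), (0, 9)] _ _ (by decide +kernel))
    (card_step card_le_bot (ThT8.relIndex_le Q _ (forall_nil _)))

theorem card_B (Q : RuleOK e ThT9.rels iv) : Finite (clL e [1, 3, 4, 5, 6, 7, 8, 9]) ∧ Nat.card (clL e [1, 3, 4, 5, 6, 7, 8, 9]) ≤ 774144 :=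
  card_congr (clL_eq_of_genOK Q [(0, 7), (0, 9)] _ _ (by decide +kernel))
    (card_step (card_A (RuleOK_sub Q (by decide +kernel))) (ThT9.relIndex_le Q _ (mem_clL e _ _ (by decide))))

theorem gen0 (Q : RuleOK e ThM0.rels iv) : clL e [1, 2, 3, 4, 5, 6, 8] = clL e g0 :=
  clL_eq_of_genOK Q [(0, 7), (0, 9), (45, 0)] _ _ (by decide +kernel)

theorem gen1 (Q : RuleOK e ThM1.rels iv) : clL e [1, 3, 4, 5, 6, 8, 10] = clL e g1 :=
  clL_eq_of_genOK Q [(0, 7), (0, 9), (0, 11), (51, 0)] _ _ (by decide +kernel)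

theorem gen2 (Q : RuleOK e ThM2.rels iv) : clL e [1, 2, 3, 4, 5, 8, 10] = clL e g2 :=
  clL_eq_of_genOK Q [(0, 9), (0, 11), (47, 0)] _ _ (by decide +kernel)

theorem ind0 (Q : RuleOK e ThM0.rels iv) : (clL e [1, 3, 4, 5, 6, 7, 8, 9]).relIndex (clL e g0) ≠ 0 ∧
    (clL e [1, 3, 4, 5, 6, 7, 8, 9]).relIndex (clL e g0) ≤ 819 :=
  relIndex_congr (gen0 Q) (ThT6.relIndex_le (RuleOK_sub Q (by decide +kernel)) _ (mem_clL e _ _ (by decide)))

theorem ind1 (Q : RuleOK e ThM1.rels iv) : (clL e [1, 3, 4, 5, 6, 7, 8, 9]).relIndex (clL e g1) ≠ 0 ∧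
    (clL e [1, 3, 4, 5, 6, 7, 8, 9]).relIndex (clL e g1) ≤ 120 :=
  relIndex_congr (gen1 Q) (ThT10.relIndex_le (RuleOK_sub Q (by decide +kernel)) _ (mem_clL e _ _ (by decide)))

theorem indK (Q : RuleOK e ThM0.rels iv) : (clL e [1, 2, 3, 4, 5, 6, 7]).relIndex (clL e g0) ≠ 0 ∧
    (clL e [1, 2, 3, 4, 5, 6, 7]).relIndex (clL e g0) ≤ 3 :=
  relIndex_congr (gen0 Q) (ThT5.relIndex_le (RuleOK_sub Q (by decide +kernel)) _ (mem_clL e _ _ (by decide)))

theorem card0 (Q : RuleOK e ThM0.rels iv) : Finite (clL e g0) ∧ Nat.card (clL e g0) ≤ 634023936 :=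
  card_step (card_K (RuleOK_sub Q (by decide +kernel))) (indK Q)

theorem card1 (Q : RuleOK e ThM1.rels iv) : Finite (clL e g1) ∧ Nat.card (clL e g1) ≤ 92897280 :=
  card_step (card_B (RuleOK_sub Q (by decide +kernel))) (ind1 Q)

theorem card2 (Q : RuleOK e ThM2.rels iv) : Finite (clL e g2) ∧ Nat.card (clL e g2) ≤ 25474176 :=
  card_congr (gen2 Q) (card_step (card_Ut (RuleOK_sub Q (by decide +kernel))) (ThT7.relIndex_le (RuleOK_sub Q (by decide +kernel)) _ (mem_clL e _ _ (by decide))))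

end

abbrev D2 : Type := PD el ThM2.nets g2
noncomputable def M2 : Model D2 := pairModel el ty2 ThM2.netsOK
noncomputable def ψ2 : D2 →* Spor.Th := pairFst el ThM2.nets g2
theorem L2 : Loc el g2 M2 ψ2 := pairLoc el ty2 ThM2.netsOK
theorem Q2 : RuleOK M2.el ThM2.rels iv :=
  ruleOK_model (RuleOK_sub R1 (by decide +kernel)) ThM2.ruleN ty2 ThM2.netsOK
theorem cle2 : Finite D2 ∧ Nat.card D2 ≤ 25474176 := card_top_le L2.hgen (card2 Q2)
instance fin2 : Finite D2 := cle2.1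
theorem base2 : M2.fixK ⊤ (bl2.map Prod.fst) = ⊥ ∧ Nat.card D2 = 25474176 ∧ Function.Injective M2.φ :=
  fix_bot cle2.2 fun m hm => le_trans (by omega) (show 702 * (288 * (42 * (3 * (m)))) ≤ _ from
    (M2.lev_step (fun _ _ => trivial) t2f0 t2o0
    (M2.lev_step (fun _ _ => trivial) t2f1 t2o1
    (M2.lev_step (fun _ _ => trivial) t2f2 t2o2
    (M2.lev_step (fun _ _ => trivial) t2f3 t2o3
    hm)))))

theorem R2 : RuleOK el (rels1 ++ [[12, 4, 3, 4, 2, 3, 4, 1, 2, 3, 4, 5, 4, 3, 4, 2, 3, 1, 2]]) iv :=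
  R1.snoc _ (wv_append_eq_one R1 (eqvN_sound L2 blk2 base2.1 _ _ ev) (by decide +kernel)) (by decide)

abbrev D0 : Type := PD el ThM0.nets g0
noncomputable def M0 : Model D0 := pairModel el ty0 ThM0.netsOK
noncomputable def ψ0 : D0 →* Spor.Th := pairFst el ThM0.nets g0
theorem Lc0 : Loc el g0 M0 ψ0 := pairLoc el ty0 ThM0.netsOK
theorem Q0 : RuleOK M0.el ThM0.rels iv :=
  ruleOK_model (RuleOK_sub R2 (by decide +kernel)) ThM0.ruleN ty0 ThM0.netsOK
theorem cle0 : Finite D0 ∧ Nat.card D0 ≤ 634023936 := card_top_le Lc0.hgen (card0 Q0)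
instance fin0 : Finite D0 := cle0.1
theorem base0 : M0.fixK ⊤ (bl0.map Prod.fst) = ⊥ ∧ Nat.card D0 = 634023936 ∧ Function.Injective M0.φ :=
  fix_bot cle0.2 fun m hm => le_trans (by omega) (show 819 * (512 * (168 * (9 * (m)))) ≤ _ from
    (M0.lev_step (fun _ _ => trivial) t0f0 t0o0
    (M0.lev_step (fun _ _ => trivial) t0f1 t0o1
    (M0.lev_step (fun _ _ => trivial) t0f2 t0o2
    (M0.lev_step (fun _ _ => trivial) t0f3 t0o3
    hm)))))

def rels : List (List ℕ) := rels1 ++ [[12, 4, 3, 4, 2, 3, 4, 1, 2, 3, 4, 5, 4, 3, 4, 2, 3, 1, 2]] ++ [[3, 4, 5, 6, 3, 4, 5, 6, 3, 4, 5, 6, 3, 4, 5, 6, 3, 4, 5, 6, 3, 4, 5, 6, 3, 4, 5, 6, 3, 4, 5, 6, 3, 4, 5, 6]]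

theorem R : RuleOK el rels iv :=
  R2.snoc _ (wv_append_eq_one R2 (eqvN_sound Lc0 blk0 base0.1 _ _ eb) (by decide +kernel)) (by decide)

theorem st0 : ∀ d ∈ M0.St 0, ψ0 d ∈ clL el g1 := St_le Lc0 (by decide) fx0 (ind0 Q0) po0

/-- the letters paired with matrices of degree 24 -/
noncomputable def em (x : ℕ) : Spor.Th × GL (Fin 24) (ZMod 2) := (el x, elM ThC.E ThC.mats x)
theorem Rm : RuleOK em ThM1.rels iv := ruleOK_prod (RuleOK_sub R (by decide +kernel)) ThC.rule.2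
abbrev D1 : Type := PD em ThM1.nets g1
noncomputable def M1 : Model D1 := pairModel em ty1 ThM1.netsOK
noncomputable def ψ1 : D1 →* Spor.Th := (MonoidHom.fst _ _).comp (pairFst em ThM1.nets g1)
noncomputable def χ1 : D1 →* GL (Fin 24) (ZMod 2) :=
  (MonoidHom.snd _ _).comp (pairFst em ThM1.nets g1)
theorem Lm : Loc em g1 M1 (pairFst em ThM1.nets g1) := pairLoc em ty1 ThM1.netsOK
theorem L1 : Loc el g1 M1 ψ1 := ⟨fun x hx => congrArg Prod.fst (Lm.hψ x hx), Lm.hgen⟩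
theorem Lχ : Loc (elM ThC.E ThC.mats) g1 M1 χ1 :=
  ⟨fun x hx => congrArg Prod.snd (Lm.hψ x hx), Lm.hgen⟩
theorem Q1 : RuleOK M1.el ThM1.rels iv := ruleOK_model Rm ThM1.ruleN ty1 ThM1.netsOK
theorem cle1 : Finite D1 ∧ Nat.card D1 ≤ 92897280 := card_top_le L1.hgen (card1 Q1)
instance fin1 : Finite D1 := cle1.1
theorem st1 : ∀ d ∈ M1.St 0, ψ1 d ∈ clL el g0 := St_le L1 (by decide) fx1 (ind1 Q1) po1
theorem cge1 : 92897280 ≤ Nat.card (clL (elM ThC.E ThC.mats) g1) :=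
  le_card_of_dvd (ThCS.dvd_all _ (elM_mem_clL _ (by decide +kernel)))

/-- the subgroup generated by a, b, c, d, e, s, t -/
abbrev H : Subgroup Spor.Th := clL el g0

theorem facts : ∀ i < 1112, Holds H el (lab el LW) (FT i) :=
  facts_hold (rels := []) (RuleOK_sub R rfl) (el_mem_closure el g0)
    (selE_sound (forall_cons (eqvN_sound Lc0 blk0 base0.1)
    (forall_cons (eqvM_sound ThC.rule.1 ThC.b0 g1 (card1 Rm) cge1)
    (forall_cons (eqvN_sound L2 blk2 base2.1) (forall_nil' _))))) chk_all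

theorem hgen : clL el g0 ⊔ clL el g1 = ⊤ := by
  refine eq_top _ fun x hx => ?_
  rcases (by revert x; decide : x ∈ g0 ∨ x ∈ g1) with h | h
  · exact Subgroup.mem_sup_left (el_mem_closure el _ x h)
  · exact Subgroup.mem_sup_right (el_mem_closure el _ x h)

theorem dcs : DCS H ψ0 (fun i : Fin SS0.length => lab el LW (SS0.get i).j)
    (fun i => clW M0.el (stabWs FT iv (SS0.get i))) :=
  dcs_of Lc0 R.hinv facts sd0 (dce_cover Lc0 L1 R.hinv facts st0 st1 kp0 (by decide +kernel) kp1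
    (by decide +kernel) sd0 sd1 (by decide) rfl hgen)

theorem i0 : (clW M0.el (stabWs FT iv s0_0)).index ≤ 1 :=
  index_top_of ((gen0 Q0).trans Lc0.hgen) (by decide +kernel)
theorem i1 : (clW M0.el (stabWs FT iv s0_1)).index ≤ 45864 :=
  index_le_of_card base0.2.1 (show 512 * (27 * (1)) ≤ _ from
    (M0.lev_step (subW_mem _ _ _) u1f0 u1o0
    (M0.lev_step (subW_mem _ _ _) u1f1 u1o1
    (M0.chain_base _)))) (by norm_num)
theorem i2 : (clW M0.el (stabWs FT iv s0_2)).index ≤ 17199 :=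
  index_le_of_card base0.2.1 (show 768 * (48 * (1)) ≤ _ from
    (M0.lev_step (subW_mem _ _ _) u2f0 u2o0
    (M0.lev_step (subW_mem _ _ _) u2f1 u2o1
    (M0.chain_base _)))) (by norm_num)
theorem i3 : (clW M0.el (stabWs FT iv s0_3)).index ≤ 2201472 :=
  index_le_of_card base0.2.1 (show 288 * (1) ≤ _ from
    (M0.lev_step (subW_mem _ _ _) u3f0 u3o0
    (M0.chain_base _))) (by norm_num)
theorem i4 : (clW M0.el (stabWs FT iv s0_4)).index ≤ 1304576 :=
  index_le_of_card base0.2.1 (show 243 * (2 * (1)) ≤ _ from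
    (M0.lev_step (subW_mem _ _ _) u4f0 u4o0
    (M0.lev_step (subW_mem _ _ _) u4f1 u4o1
    (M0.chain_base _)))) (by norm_num)
theorem i5 : (clW M0.el (stabWs FT iv s0_5)).index ≤ 179712 :=
  index_le_of_card base0.2.1 (show 588 * (6 * (1)) ≤ _ from
    (M0.lev_step (subW_mem _ _ _) u5f0 u5o0
    (M0.lev_step (subW_mem _ _ _) u5f1 u5o1
    (M0.chain_base _)))) (by norm_num)
theorem i6 : (clW M0.el (stabWs FT iv s0_6)).index ≤ 8805888 :=
  index_le_of_card base0.2.1 (show 72 * (1) ≤ _ from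
    (M0.lev_step (subW_mem _ _ _) u6f0 u6o0
    (M0.chain_base _))) (by norm_num)
theorem i7 : (clW M0.el (stabWs FT iv s0_7)).index ≤ 5031936 :=
  index_le_of_card base0.2.1 (show 126 * (1) ≤ _ from
    (M0.lev_step (subW_mem _ _ _) u7f0 u7o0
    (M0.chain_base _))) (by norm_num)
theorem i8 : (clW M0.el (stabWs FT iv s0_8)).index ≤ 11741184 :=
  index_le_of_card base0.2.1 (show 54 * (1) ≤ _ from
    (M0.lev_step (subW_mem _ _ _) u8f0 u8o0
    (M0.chain_base _))) (by norm_num)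
theorem i9 : (clW M0.el (stabWs FT iv s0_9)).index ≤ 105670656 :=
  index_le_of_card base0.2.1 (show 6 * (1) ≤ _ from
    (M0.lev_step (subW_mem _ _ _) u9f0 u9o0
    (M0.chain_base _))) (by norm_num)
theorem i10 : (clW M0.el (stabWs FT iv s0_10)).index ≤ 8128512 :=
  index_le_of_card base0.2.1 (show 78 * (1) ≤ _ from
    (M0.lev_step (subW_mem _ _ _) u10f0 u10o0
    (M0.chain_base _))) (by norm_num)

/-- the lengths of the orbits -/
def n : Fin SS0.length → ℕ := fun i => [1, 45864, 17199, 2201472, 1304576, 179712, 8805888, 5031936, 11741184, 105670656, 8128512].getD i 0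

theorem hn : ∀ i, (clW M0.el (stabWs FT iv (SS0.get i))).index ≤ n i := by
  intro i
  fin_cases i
  exacts [i0, i1, i2, i3, i4, i5, i6, i7, i8, i9, i10]

theorem sum_n : ∑ i, n i = 143127000 := by decide +kernel

theorem index_le : H.index ≠ 0 ∧ H.index ≤ 143127000 := sum_n ▸ dcs.index_le' hn

theorem card_le : Finite Spor.Th ∧ Nat.card Spor.Th ≤ 90745943887872000 :=
  card_top_le rfl (card_step (card0 (RuleOK_sub R (by decide +kernel)))
    (by rw [Subgroup.relIndex_top_right]; exact index_le))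

end Cfsg.Agent.H17.ThU
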